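import Groth.Agent.Lib.Poincare.Regular
import Groth.Agent.Lib.Zeta.Frobenius
import Groth.Agent.Lib.AbTors.Tate
import Groth.Prelude.Def_EndTate
import Mathlib.LinearAlgebra.Semisimple
import Mathlib.FieldTheory.Perfect
import Mathlib.FieldTheory.Minpoly.IsIntegrallyClosed
import Mathlib.RingTheory.Artinian.Ring
import Mathlib.RingTheory.Jacobson.Semiprimary

/-!
# The Frobenius is central, so it generates a semisimple algebra
-/

universe u

open CategoryTheory CategoryTheory.Limits AlgebraicGeometry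
open MonoidalCategory CartesianMonoidalCategory MonObj
open scoped CategoryTheory.Obj TensorProduct

set_option backward.isDefEq.respectTransparency false

noncomputable section

namespace GrothLib.Poincare

variable {k : Type u} [Field k]

/-- The Frobenius commutes with every morphism over the finite base field. -/
theorem comm_frob [Finite k] {A B : Over (Spec (CommRingCat.of k))} [LocallyOfFiniteType A.hom] [IsReduced A.left]
    [IsSeparated B.hom] (πA : A ⟶ A) (πB : B ⟶ B) (hAle : ∀ U : A.left.Opens, U ≤ πA.left ⁻¹ᵁ U)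
    (hAapp : ∀ (U : A.left.Opens) (s : Γ(A.left, U)), (πA.left.appLE U U (hAle U)).hom s = s ^ Nat.card k)
    (hBle : ∀ U : B.left.Opens, U ≤ πB.left ⁻¹ᵁ U)
    (hBapp : ∀ (U : B.left.Opens) (s : Γ(B.left, U)), (πB.left.appLE U U (hBle U)).hom s = s ^ Nat.card k)
    (f : A ⟶ B) : f ≫ πB = πA ≫ f := by
  let Ω := AlgebraicClosure k
  refine AbTors.ext_of_geomPts (Spec.map (CommRingCat.ofHom (algebraMap k Ω))) _ _ fun t => ?_
  ext1
  show t.left ≫ f.left ≫ πB.left = t.left ≫ πA.left ≫ f.left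
  have e1 := Zeta.comp_absFrobenius (k₀ := k) πA.left hAle hAapp (R := Ω) t.left
  have e2 := Zeta.comp_absFrobenius (k₀ := k) πB.left hBle hBapp (R := Ω) (t.left ≫ f.left)
  refine ((Category.assoc _ _ _).symm.trans e2).trans ?_
  refine ((Category.assoc _ _ _).symm.trans ?_).trans (Category.assoc _ _ _)
  exact congrArg (fun g => g ≫ f.left) e1.symm

/-- A central nilpotent element of a semisimple ring is zero. -/
theorem eq_zero_of_isNilpotent_central {R : Type*} [Ring R] [IsSemisimpleRing R] {x : R} (hc : ∀ y, Commute y x)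
    (hx : IsNilpotent x) : x = 0 := by
  have hmem : x ∈ Ideal.jacobson (⊥ : Ideal R) := Ideal.mem_jacobson_iff.2 fun y => by
    obtain ⟨z, hz⟩ := ((hc y).isNilpotent_mul_left hx).isUnit_one_add.exists_left_inv
    refine ⟨z, Ideal.mem_bot.2 ?_⟩
    rw [mul_add, _root_.mul_one, ← _root_.mul_assoc] at hz
    rw [← hz]
    abel
  rw [Ideal.jacobson_bot, IsSemisimpleRing.jacobson_eq_bot] at hmem
  exact hmem

/-- A subalgebra of central elements of a finite dimensional semisimple algebra is semisimple. -/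
theorem isSemisimpleRing_of_le_center {R : Type*} [Ring R] [Algebra ℚ R] [Module.Finite ℚ R] [IsSemisimpleRing R]
    (S : Subalgebra ℚ R) (hS : S ≤ Subalgebra.center ℚ R) : IsSemisimpleRing S := by
  haveI : Module.Finite ℚ S := inferInstanceAs (Module.Finite ℚ S.toSubmodule)
  haveI : IsArtinianRing S := IsArtinianRing.of_finite ℚ S
  rw [IsArtinianRing.isSemisimpleRing_iff_jacobson, ← Ideal.jacobson_bot, eq_bot_iff]
  intro x hx
  obtain ⟨n, hn⟩ := IsArtinianRing.isNilpotent_jacobson_bot (R := S)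
  have hx' : IsNilpotent x := ⟨n, by
    rw [Ideal.jacobson_bot] at hx
    have := Ideal.pow_mem_pow hx n
    rw [Ideal.jacobson_bot] at hn
    rw [hn] at this
    exact this⟩
  exact Subtype.ext (eq_zero_of_isNilpotent_central (Subalgebra.mem_center_iff.1 (hS x.2)) (hx'.map S.val))

/-- The Frobenius is central in `End⁰`. -/
theorem commute_toEnd0_frob [Finite k] (A : Over (Spec (CommRingCat.of k))) [GrpObj A] [IsCommMonObj A]
    [IsProper A.hom] [GeometricallyIntegral A.hom] (πA : A ⟶ A) [IsMonHom πA]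
    (hle : ∀ U : A.left.Opens, U ≤ πA.left ⁻¹ᵁ U)
    (happ : ∀ (U : A.left.Opens) (s : Γ(A.left, U)), (πA.left.appLE U U (hle U)).hom s = s ^ Nat.card k)
    (x : EndAV.End0 A) : Commute x (EndAV.toEnd0 (EndAV.End.of πA)) := by
  haveI : IsIntegral A.left := GeometricallyIntegral.isIntegral_of_subsingleton A.hom
  obtain ⟨q, φ, rfl⟩ := exists_smul_toEnd0 x
  have h : φ * EndAV.End.of πA = EndAV.End.of πA * φ := EndAV.End.ext (by
    rw [EndAV.End.toHom_mul, EndAV.End.toHom_mul, EndAV.End.toHom_of]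
    exact (comm_frob πA πA hle happ hle happ φ.toHom).symm)
  show _ * _ = _ * _
  rw [smul_mul_assoc, mul_smul_comm, ← map_mul, ← map_mul, h]

/-- The algebra generated by the Frobenius is semisimple. -/
theorem isSemisimpleRing_adjoin_frob [Finite k] (A : Over (Spec (CommRingCat.of k))) [GrpObj A] [IsCommMonObj A]
    [IsProper A.hom] [GeometricallyIntegral A.hom] (πA : A ⟶ A) [IsMonHom πA]
    (hle : ∀ U : A.left.Opens, U ≤ πA.left ⁻¹ᵁ U)
    (happ : ∀ (U : A.left.Opens) (s : Γ(A.left, U)), (πA.left.appLE U U (hle U)).hom s = s ^ Nat.card k) :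
    IsSemisimpleRing (EndAV.QAdj (EndAV.End.of πA)) := by
  haveI : Module.Finite ℤ (EndAV.End A) := HomFG.finite_hom (A := A) (B := A)
  haveI := isSemisimpleRing_end0 (A := A)
  refine isSemisimpleRing_of_le_center _ (Algebra.adjoin_le ?_)
  rw [Set.singleton_subset_iff, SetLike.mem_coe, Subalgebra.mem_center_iff]
  exact commute_toEnd0_frob A πA hle happ

open Polynomial in
/-- The Frobenius is killed by a squarefree polynomial with integer coefficients. -/
theorem exists_squarefree_aeval_frob [Finite k] (A : Over (Spec (CommRingCat.of k))) [GrpObj A] [IsCommMonObj A]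
    [IsProper A.hom] [GeometricallyIntegral A.hom] (πA : A ⟶ A) [IsMonHom πA]
    (hle : ∀ U : A.left.Opens, U ≤ πA.left ⁻¹ᵁ U)
    (happ : ∀ (U : A.left.Opens) (s : Γ(A.left, U)), (πA.left.appLE U U (hle U)).hom s = s ^ Nat.card k) :
    ∃ G : ℤ[X], Squarefree (G.map (Int.castRingHom ℚ)) ∧ Polynomial.aeval (EndAV.End.of πA) G = 0 := by
  haveI : Module.Finite ℤ (EndAV.End A) := HomFG.finite_hom (A := A) (B := A)
  haveI := isSemisimpleRing_end0 (A := A)
  have hint : IsIntegral ℤ (EndAV.End.of πA) := Algebra.IsIntegral.isIntegral _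
  set x := EndAV.toEnd0 (EndAV.End.of πA)
  have hμ : (minpoly ℚ x).Monic := minpoly.monic ((hint.map EndAV.toEnd0).tower_top (A := ℚ))
  have hdvd : minpoly ℚ x ∣ (minpoly ℤ (EndAV.End.of πA)).map (algebraMap ℤ ℚ) := minpoly.dvd ℚ x (by
    rw [aeval_map_algebraMap, aeval_algHom_apply, minpoly.aeval, map_zero])
  obtain ⟨G, hG⟩ := IsIntegrallyClosed.eq_map_mul_C_of_dvd ℚ (minpoly.monic hint) hdvd
  rw [hμ.leadingCoeff, C_1, _root_.mul_one] at hG
  refine ⟨G, ?_, HomFG.toEnd0_injective (A := A) (by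
    rw [map_zero, ← aeval_algHom_apply, ← aeval_map_algebraMap ℚ x G, hG, minpoly.aeval])⟩
  rw [← algebraMap_int_eq, hG]
  refine IsRadical.squarefree hμ.ne_zero fun n p hp => ?_
  rw [minpoly.dvd_iff] at hp ⊢
  rw [map_pow] at hp
  refine eq_zero_of_isNilpotent_central (fun y => ?_) ⟨n, hp⟩
  have hxc : x ∈ Subalgebra.center ℚ (EndAV.End0 A) :=
    Subalgebra.mem_center_iff.2 (commute_toEnd0_frob A πA hle happ)
  have hmem : Polynomial.aeval x p ∈ Subalgebra.center ℚ (EndAV.End0 A) :=
    Algebra.adjoin_le (Set.singleton_subset_iff.2 hxc) (aeval_mem_adjoin_singleton ℚ x)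
  exact Subalgebra.mem_center_iff.1 hmem y

/-- The Frobenius acts semisimply on the rational Tate module. -/
theorem isSemisimple_frob_tate [Finite k] {Ω : Type u} [Field Ω] [IsAlgClosed Ω]
    (σ : Spec (CommRingCat.of Ω) ⟶ Spec (CommRingCat.of k)) (l : ℕ) [Fact l.Prime] (hl : (l : k) ≠ 0)
    (A : Over (Spec (CommRingCat.of k))) [GrpObj A] [IsCommMonObj A]
    [IsProper A.hom] [GeometricallyIntegral A.hom] (πA : A ⟶ A) [IsMonHom πA]
    (hle : ∀ U : A.left.Opens, U ≤ πA.left ⁻¹ᵁ U)
    (happ : ∀ (U : A.left.Opens) (s : Γ(A.left, U)), (πA.left.appLE U U (hle U)).hom s = s ^ Nat.card k) :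
    Module.End.IsSemisimple ((AbDual.tateMapₗ (l := l) (T := Over.mk σ) πA).baseChange ℚ_[l]) := by
  obtain ⟨G, hsq, h0⟩ := exists_squarefree_aeval_frob A πA hle happ
  haveI := AbTors.module_finite A σ l hl
  have h1 : Polynomial.aeval (AbDual.tateMapₗ (l := l) (T := Over.mk σ) πA) (G.map (Int.castRingHom ℤ_[l])) = 0 := by
    have := (HomFG.map_aeval (σ := σ) (l := l) G (EndAV.End.of πA)).symm
    rwa [h0, map_zero] at this
  let F : Module.End ℤ_[l] (AbDual.TateMod A l (Over.mk σ)) →ₐ[ℤ_[l]]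
      Module.End ℚ_[l] (ℚ_[l] ⊗[ℤ_[l]] AbDual.TateMod A l (Over.mk σ)) :=
    Module.End.baseChangeHom ℤ_[l] ℚ_[l] _
  refine Module.End.isSemisimple_of_squarefree_aeval_eq_zero
    (p := (G.map (Int.castRingHom ℤ_[l])).map (algebraMap ℤ_[l] ℚ_[l])) ?_ ?_
  · rw [Polynomial.map_map, Subsingleton.elim ((algebraMap ℤ_[l] ℚ_[l]).comp (Int.castRingHom ℤ_[l]))
      ((algebraMap ℚ ℚ_[l]).comp (Int.castRingHom ℚ)), ← Polynomial.map_map]
    exact (PerfectField.separable_iff_squarefree.2 hsq).map.squarefree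
  · rw [Polynomial.aeval_map_algebraMap]
    show Polynomial.aeval (F (AbDual.tateMapₗ (l := l) (T := Over.mk σ) πA)) _ = 0
    rw [Polynomial.aeval_algHom_apply, h1, map_zero]

end GrothLib.Poincare
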