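import Groth.Agent.Lib.Cube.Pic

/-!
# Pullback along a `q`-power endomorphism is the `q`-th power on classes
-/

universe u

open CategoryTheory AlgebraicGeometry
open GrothLib.Ample GrothLib.Cube

set_option backward.isDefEq.respectTransparency false

noncomputable section

namespace GrothLib.Cube

variable {X : Scheme.{u}}

/-- The cocycle with the powers of the transition functions. -/
def powC (c : Cocycle X) (n : ℕ) : Cocycle X where
  ι := c.ι
  D := c.D
  g i k := c.g i k ^ n
  cover := c.cover
  self i W h := by rw [map_pow, c.self i W h, one_pow]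
  change i k l W hi hk hl := by rw [map_pow, map_pow, map_pow, c.change i k l W hi hk hl, mul_pow]

theorem powC_G (c : Cocycle X) (n : ℕ) (i k : c.ι) {W : X.Opens} (hi : W ≤ c.D i) (hk : W ≤ c.D k) :
    (powC c n).G i k hi hk = c.G i k hi hk ^ n :=
  map_pow _ _ _

theorem cls_powC (c : Cocycle X) (n : ℕ) : cls (powC c n) = cls c ^ n := by
  induction n with
  | zero =>
    rw [pow_zero]
    refine Quotient.sound (eqv_of_map (c := powC c 0) (c' := Cocycle.triv X) (fun _ => PUnit.unit) (fun _ => le_top)
      (fun _ => 1) (fun _ => isUnit_one) fun p q O hp hq => ?_)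
    rw [map_one, map_one, one_mul, mul_one, powC_G, pow_zero]
    exact (Cocycle.triv X).G_self _ _ _
  | succ n ih =>
    rw [pow_succ, ← ih, ← cls_prod]
    refine Quotient.sound (eqv_of_map (c := powC c (n + 1)) (c' := (powC c n).prod c) (fun i => (i, i))
      (fun _ => le_inf le_rfl le_rfl) (fun _ => 1) (fun _ => isUnit_one) fun p q O hp hq => ?_)
    rw [map_one, map_one, one_mul, mul_one, Cocycle.prod_G, powC_G, powC_G, pow_succ]

/-- A morphism acting on sections by `s ↦ s ^ n` acts on classes by `x ↦ x ^ n`. -/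
theorem pull_eq_pow_of_appLE (π : X ⟶ X) (n : ℕ) (hle : ∀ U : X.Opens, U ≤ π ⁻¹ᵁ U)
    (happ : ∀ (U : X.Opens) (s : Γ(X, U)), (π.appLE U U (hle U)).hom s = s ^ n) (x : Pic X) :
    pull π x = x ^ n := by
  obtain ⟨c⟩ := x
  show pull π (cls c) = cls c ^ n
  rw [← cls_powC, pull_cls]
  refine (Quotient.sound (eqv_of_map (c := powC c n) (c' := c.comap π) id (fun i => hle (c.D i))
    (fun _ => 1) (fun _ => isUnit_one) fun p q O hp hq => ?_)).symm
  rw [map_one, map_one, one_mul, mul_one, Cocycle.comap_G, powC_G]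
  show (π.appLE (c.D p ⊓ c.D q) O _).hom (c.g p q) = res (le_inf hp hq) (c.g p q) ^ n
  exact ((res_appLE π (le_inf hp hq) (hle (c.D p ⊓ c.D q)) (c.g p q)).symm.trans
    (congrArg (res (le_inf hp hq)) (happ _ (c.g p q)))).trans (map_pow _ _ _)

end GrothLib.Cube
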