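import Groth.Agent.Lib.Poincare.Regular

/-!
# Finite products of abelian varieties and inverses of isogenies onto them
-/

universe u

open CategoryTheory CategoryTheory.Limits Opposite TopologicalSpace AlgebraicGeometry
open MonoidalCategory CartesianMonoidalCategory MonObj
open GrothLib.Cube
open scoped CategoryTheory.Obj

set_option backward.isDefEq.respectTransparency false

noncomputable section

namespace GrothLib.Poincare

variable {K : Type u} [Field K]

theorem geometricallyIntegral_id : GeometricallyIntegral (𝟙 (Spec (CommRingCat.of K))) := by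
  refine ⟨fun L _ y Z fst snd h => ?_⟩
  haveI : IsIso snd := h.isIso_snd_of_isIso
  haveI : IsIntegral (Spec (CommRingCat.of L)) := inferInstance
  haveI : Nonempty Z := ⟨(inv snd) (IsLocalRing.closedPoint L)⟩
  exact isIntegral_of_isOpenImmersion snd

/-- A product of an abelian varieties with projections being homomorphisms. -/
theorem exists_prod_fin : ∀ {m : ℕ} (Y : Fin m → Over (Spec (CommRingCat.of K))) [∀ t, GrpObj (Y t)]
    [∀ t, IsProper (Y t).hom] [∀ t, GeometricallyIntegral (Y t).hom] (d : Fin m → ℕ)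
    (_ : ∀ t, topologicalKrullDim (Y t).left = (d t : WithBot ℕ∞)),
    ∃ (P : Over (Spec (CommRingCat.of K))) (_ : GrpObj P) (pr : ∀ t, P ⟶ Y t),
      IsProper P.hom ∧ GeometricallyIntegral P.hom ∧ (∀ t, IsMonHom (pr t)) ∧
      topologicalKrullDim P.left = ((∑ t, d t : ℕ) : WithBot ℕ∞) ∧
      (∀ (Z : Over (Spec (CommRingCat.of K))) (f : ∀ t, Z ⟶ Y t), ∃ g : Z ⟶ P, ∀ t, g ≫ pr t = f t) ∧
      ∀ (Z : Over (Spec (CommRingCat.of K))) (g g' : Z ⟶ P), (∀ t, g ≫ pr t = g' ≫ pr t) → g = g' := by
  intro m
  induction m with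
  | zero =>
    intro Y _ _ _ d _
    refine ⟨𝟙_ _, inferInstance, fun t => t.elim0, inferInstanceAs (IsProper (𝟙 (Spec (CommRingCat.of K)))),
      geometricallyIntegral_id (K := K), fun t => t.elim0, ?_,
      fun Z _ => ⟨toUnit Z, fun t => t.elim0⟩, fun Z g g' _ => toUnit_unique g g'⟩
    haveI : Subsingleton ↥(Spec (CommRingCat.of K)) := inferInstance
    show topologicalKrullDim ↥(Spec (CommRingCat.of K)) = _
    refine le_antisymm ?_ ?_
    · haveI : DiscreteTopology ↥(Spec (CommRingCat.of K)) := Subsingleton.discreteTopology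
      exact topologicalKrullDim_zero_of_discreteTopology _
    · simp only [Finset.univ_eq_empty, Finset.sum_empty]
      haveI : Nonempty ↥(Spec (CommRingCat.of K)) := ⟨IsLocalRing.closedPoint K⟩
      haveI : Nonempty (IrreducibleCloseds ↥(Spec (CommRingCat.of K))) :=
        ⟨⟨Set.univ, IrreducibleSpace.isIrreducible_univ _, isClosed_univ⟩⟩
      exact Order.krullDim_nonneg
  | succ m ih =>
    intro Y _ _ _ d hd
    obtain ⟨P, _, pr, _, _, hpr, hdim, hex, huniq⟩ :=
      ih (fun t => Y t.succ) (fun t => d t.succ) fun t => hd t.succ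
    haveI : IsProper (Y 0 ⊗ P).hom := inferInstanceAs (IsProper (pullback.fst (Y 0).hom P.hom ≫ (Y 0).hom))
    haveI := geometricallyIntegral_tensor (Y 0) P
    refine ⟨Y 0 ⊗ P, inferInstance, Fin.cases (fst (Y 0) P) (fun t => snd (Y 0) P ≫ pr t),
      inferInstance, inferInstance, ?_, ?_, ?_, ?_⟩
    · refine Fin.cases (by simp only [Fin.cases_zero]; infer_instance) fun t => ?_
      simp only [Fin.cases_succ]
      haveI := hpr t
      infer_instance
    · show topologicalKrullDim ↥(pullback (Y 0).hom P.hom) = _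
      rw [FBase7.topologicalKrullDim_pullback_eq_add, hd 0, hdim, Fin.sum_univ_succ]
      norm_cast
    · intro Z f
      obtain ⟨g, hg⟩ := hex Z fun t => f t.succ
      refine ⟨lift (f 0) g, Fin.cases (by simp only [Fin.cases_zero, lift_fst]) fun t => ?_⟩
      simp only [Fin.cases_succ, lift_snd_assoc, hg t]
    · intro Z g g' h
      refine CartesianMonoidalCategory.hom_ext _ _ ?_ (huniq Z _ _ fun t => ?_)
      · have := h 0
        simpa only [Fin.cases_zero] using this
      · have := h t.succ
        simpa only [Fin.cases_succ, Category.assoc] using this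

variable [IsAlgClosed K]

omit [IsAlgClosed K] in
/-- A proper geometrically integral scheme with finitely many rational points over an algebraically closed field is a point. -/
theorem subsingleton_of_finite_pts [IsAlgClosed K] (W : Over (Spec (CommRingCat.of K))) [IsProper W.hom]
    [GeometricallyIntegral W.hom] [Finite (𝟙_ (Over (Spec (CommRingCat.of K))) ⟶ W)] : Subsingleton W.left := by
  haveI : IsIntegral W.left := GeometricallyIntegral.isIntegral_of_subsingleton W.hom
  have hcl : (closedPoints W.left).Finite := by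
    refine (Set.finite_range (fun z : 𝟙_ (Over (Spec (CommRingCat.of K))) ⟶ W => ptOf z)).subset fun q hq => ?_
    obtain ⟨z, hz, -⟩ := exists_point_factor q hq
    exact ⟨z, hz⟩
  have hT1 : IsClosed (closedPoints W.left) := by
    rw [← Set.biUnion_of_singleton (closedPoints W.left)]
    exact hcl.isClosed_biUnion fun q hq => hq
  have huniv : closedPoints W.left = Set.univ := by
    rw [← hT1.closure_eq]
    exact (dense_closedPoints W).closure_eq
  refine subsingleton_of_forall_eq (genericPoint W.left) fun q => ?_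
  have : genericPoint W.left ∈ closedPoints W.left := huniv.ge trivial
  exact (this.closure_eq ▸ (genericPoint_spec W.left).def.ge (Set.mem_univ q) :)

/-- Homomorphisms with finite common kernel and the right dimension have inverses up to an integer. -/
theorem exists_inverse_family (A : Over (Spec (CommRingCat.of K))) [GrpObj A] [IsProper A.hom]
    [GeometricallyIntegral A.hom] {J : Type} [Fintype J] [DecidableEq J] (Y : J → Over (Spec (CommRingCat.of K)))
    [∀ t, GrpObj (Y t)] [∀ t, IsProper (Y t).hom] [∀ t, GeometricallyIntegral (Y t).hom] (d : J → ℕ)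
    (hd : ∀ t, topologicalKrullDim (Y t).left = (d t : WithBot ℕ∞))
    (hA : topologicalKrullDim A.left = ((∑ t, d t : ℕ) : WithBot ℕ∞))
    (π : ∀ t, A ⟶ Y t) [∀ t, IsMonHom (π t)]
    (hker : Set.Finite {a : (𝟙_ (Over (Spec (CommRingCat.of K))) ⟶ A) | ∀ t, a ≫ π t = 1}) :
    ∃ (n : ℕ) (s : ∀ t, Y t ⟶ A), 0 < n ∧ (∀ t, IsMonHom (s t)) ∧ (∀ t, s t ≫ π t = 𝟙 (Y t) ^ n) ∧
      (∀ t t', t ≠ t' → s t ≫ π t' = 1) ∧
      haveI := isCommMonObj_abVar (A := A); ∏ t, π t ≫ s t = 𝟙 A ^ n := by
  classical
  haveI := isCommMonObj_abVar (A := A)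
  haveI hY := fun t => isCommMonObj_abVar (A := Y t)
  let e := (Fintype.equivFin J).symm
  obtain ⟨P, _, pr, _, _, hpr, hdim, hex, huniq⟩ :=
    exists_prod_fin (fun k => Y (e k)) (fun k => d (e k)) fun k => hd (e k)
  haveI := isCommMonObj_abVar (A := P)
  obtain ⟨Φ, hΦ⟩ := hex A fun k => π (e k)
  haveI : IsMonHom Φ := by
    haveI : ∀ k, IsMonHom (pr k) := hpr
    refine DiagGrp.isMonHom_of_points Φ fun Z a b => huniq Z _ _ fun k => ?_
    rw [Category.assoc, hΦ, MonObj.mul_comp, MonObj.mul_comp, Category.assoc, Category.assoc, hΦ]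
  haveI : IsFinite Φ.left := AbTors.isFinite_of_forall_subgroup Φ fun W _ _ _ w _ _ hw => by
    haveI : Mono w := by
      haveI : Mono ((Over.forget _).map w) := inferInstanceAs (Mono w.left)
      exact (Over.forget _).mono_of_mono_map this
    haveI := hker.to_subtype
    haveI : Finite (𝟙_ (Over (Spec (CommRingCat.of K))) ⟶ W) := by
      refine Finite.of_injective (β := {a : (𝟙_ (Over (Spec (CommRingCat.of K))) ⟶ A) | ∀ t, a ≫ π t = 1})
        (fun z => ⟨z ≫ w, fun t => ?_⟩) fun z z' h => (cancel_mono w).1 (congrArg Subtype.val h)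
      obtain ⟨k, rfl⟩ := e.surjective t
      haveI := hpr k
      rw [← hΦ k, Category.assoc, reassoc_of% hw, MonObj.one_comp, MonObj.comp_one]
    exact subsingleton_of_finite_pts W
  have hdim' : topologicalKrullDim P.left = ((∑ t, d t : ℕ) : WithBot ℕ∞) := by
    rw [hdim, e.sum_comp d]
  haveI := DegPoly.surjective_of_finite hA hdim' Φ
  obtain ⟨n, g, hn, _, hΦg, hgΦ⟩ := GrpDeligne.exists_dual_hom_of_surjective A P Φ
  choose inc hinc using fun k => hex (Y (e k)) fun k' =>
    if h : k = k' then eqToHom (congrArg (fun i => Y (e i)) h) else 1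
  haveI hincm : ∀ k, IsMonHom (inc k) := fun k => by
    haveI : ∀ k, IsMonHom (pr k) := hpr
    refine DiagGrp.isMonHom_of_points _ fun Z a b => huniq Z _ _ fun k' => ?_
    by_cases h : k = k'
    · subst h
      have e1 : inc k ≫ pr k = 𝟙 (Y (e k)) := by rw [hinc, dif_pos rfl, eqToHom_refl]
      simp only [Category.assoc, e1, Category.comp_id, MonObj.mul_comp]
    · have e1 : inc k ≫ pr k' = 1 := by rw [hinc, dif_neg h]
      simp only [Category.assoc, e1, MonObj.comp_one, MonObj.mul_comp, _root_.one_mul]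
  let s' : ∀ k, Y (e k) ⟶ A := fun k => inc k ≫ g
  have hs'π : ∀ k k', s' k ≫ π (e k') = (inc k ≫ pr k') ^ n := fun k k' => by
    haveI := hpr k'
    rw [← hΦ k']
    show (inc k ≫ g) ≫ Φ ≫ pr k' = _
    rw [Category.assoc, reassoc_of% hgΦ, MonObj.pow_comp, Category.id_comp, MonObj.comp_pow]
  let s : ∀ t, Y t ⟶ A := fun t => eqToHom (congrArg Y (e.apply_symm_apply t).symm) ≫ s' (e.symm t)
  have hse : ∀ k, s (e k) = s' k := fun k => by
    show eqToHom _ ≫ s' (e.symm (e k)) = s' k
    have key : ∀ (k' : Fin _) (h : k' = k), eqToHom (congrArg (fun i => Y (e i)) h.symm) ≫ s' k' = s' k := by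
      rintro k' rfl; simp
    exact key _ (e.symm_apply_apply k)
  refine ⟨n, s, hn, fun t => ?_, fun t => ?_, fun t t' htt => ?_, ?_⟩
  · obtain ⟨k, rfl⟩ := e.surjective t
    rw [hse]
    infer_instance
  · obtain ⟨k, rfl⟩ := e.surjective t
    rw [hse, hs'π, hinc, dif_pos rfl, eqToHom_refl]
  · obtain ⟨k, rfl⟩ := e.surjective t
    obtain ⟨k', rfl⟩ := e.surjective t'
    rw [hse, hs'π, hinc, dif_neg (fun h => htt (congrArg e h)), one_pow]
  · have hid : ∏ k, pr k ≫ inc k = 𝟙 P := huniq P _ _ fun k' => by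
      haveI := hpr k'
      let F : (P ⟶ P) →* (P ⟶ Y (e k')) :=
        { toFun := fun f => f ≫ pr k', map_one' := MonObj.one_comp _, map_mul' := fun a b => MonObj.mul_comp a b _ }
      show F (∏ k, pr k ≫ inc k) = _
      rw [map_prod, Finset.prod_eq_single k' (fun k _ hk => ?_) fun h => absurd (Finset.mem_univ k') h]
      · show (pr k' ≫ inc k') ≫ pr k' = _
        rw [Category.assoc, hinc, dif_pos rfl, eqToHom_refl, Category.comp_id, Category.id_comp]
      · show (pr k ≫ inc k) ≫ pr k' = 1
        rw [Category.assoc, hinc, dif_neg hk, MonObj.comp_one]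
    calc ∏ t, π t ≫ s t = ∏ k, π (e k) ≫ s (e k) := (e.prod_comp (fun t => π t ≫ s t)).symm
      _ = ∏ k, Φ ≫ (pr k ≫ inc k) ≫ g := Finset.prod_congr rfl fun k _ => by
        rw [hse, ← hΦ k]; simp only [s', Category.assoc]
      _ = Φ ≫ (∏ k, pr k ≫ inc k) ≫ g := by
        let F : (P ⟶ P) →* (A ⟶ A) :=
          { toFun := fun f => Φ ≫ f ≫ g
            map_one' := by rw [MonObj.one_comp, MonObj.comp_one]
            map_mul' := fun a b => by rw [MonObj.mul_comp, MonObj.comp_mul] }
        exact (map_prod F _ _).symm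
      _ = 𝟙 A ^ n := by rw [hid, Category.id_comp, hΦg]

/-- Homomorphisms between non-isogenous simple abelian varieties are trivial. -/
theorem eq_one_of_simple {B B' : Over (Spec (CommRingCat.of K))} [GrpObj B] [IsProper B.hom]
    [GeometricallyIntegral B.hom] [GrpObj B'] [IsProper B'.hom] [GeometricallyIntegral B'.hom]
    (hB : ∀ (C : Over (Spec (CommRingCat.of K))) [GrpObj C], IsProper C.hom → GeometricallyIntegral C.hom →
      ∀ (j : C ⟶ B) [IsMonHom j], IsClosedImmersion j.left → IsIso j ∨ topologicalKrullDim C.left = 0)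
    (hB' : ∀ (C : Over (Spec (CommRingCat.of K))) [GrpObj C], IsProper C.hom → GeometricallyIntegral C.hom →
      ∀ (j : C ⟶ B') [IsMonHom j], IsClosedImmersion j.left → IsIso j ∨ topologicalKrullDim C.left = 0)
    (f : B ⟶ B') [IsMonHom f] (h : ¬ (IsFinite f.left ∧ Surjective f.left)) : f = 1 := by
  by_cases hfin : IsFinite f.left
  · obtain ⟨M, _, i, _, _, _, _, hr, q, hq⟩ := Rigidity.exists_image f
    rcases hB' M inferInstance inferInstance i inferInstance with hiso | hd
    · haveI : IsIso i.left := inferInstanceAs (IsIso ((Over.forget _).map i))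
      exact absurd ⟨hfin, ⟨Set.range_eq_univ.1 (hr ▸ Set.range_eq_univ.2 i.left.surjective)⟩⟩ h
    · haveI := subsingleton_of_dim_zero hd
      haveI : IsIntegral M.left := GeometricallyIntegral.isIntegral_of_subsingleton M.hom
      haveI : IsIso M.hom := GrpDeligne.isIso_of_subsingleton M.hom η[M].left (Over.w η[M])
      have h1 : q = toUnit B ≫ η[M] := by
        apply Over.OverMorphism.ext
        rw [← cancel_mono M.hom, Over.w, Over.w]
      rw [← hq, h1, Category.assoc, IsMonHom.one_hom, Hom.one_def]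
  · obtain ⟨W, _, j, _, _, _, _, hW, hjf⟩ := exists_subvariety_ker f hfin
    rcases hB W inferInstance inferInstance j inferInstance with hiso | hd
    · rw [← cancel_epi j, hjf, MonObj.comp_one]
    · exact absurd (subsingleton_of_dim_zero hd) hW

end GrothLib.Poincare
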