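import Groth.Agent.Lib.Poincare.FixPts
import Groth.Agent.Lib.Poincare.Products
import Groth.Agent.Lib.Zeta.Points
import Groth.Agent.Lib.Zeta.Series
import Mathlib.LinearAlgebra.Charpoly.BaseChange

/-!
# The number of points of an abelian variety over a finite field
-/

universe u

open CategoryTheory CategoryTheory.Limits MonoidalCategory CartesianMonoidalCategory MonObj GrpObj AlgebraicGeometry
open Polynomial
open scoped CategoryTheory.Obj

set_option backward.isDefEq.respectTransparency false

noncomputable section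

namespace GrothLib.Poincare

theorem prod_roots_map (P F : ℤ[X]) {E : Type*} [Field E] [Algebra ℚ E]
    (hs : ((P.map (Int.castRingHom ℚ)).map (algebraMap ℚ E)).Splits) {M : Type*} [Field M] [CharZero M] (i : E →+* M) :
    ((P.map (Int.castRingHom M)).roots.map fun w => aeval w F).prod =
      i (((P.map (Int.castRingHom ℚ)).map (algebraMap ℚ E)).roots.map fun w => aeval w F).prod := by
  rw [show P.map (Int.castRingHom M) = ((P.map (Int.castRingHom ℚ)).map (algebraMap ℚ E)).map i by
      rw [Polynomial.map_map, Polynomial.map_map]; congr 1; exact Subsingleton.elim _ _, hs.roots_map, map_multiset_prod,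
    Multiset.map_map, Multiset.map_map]
  exact congrArg _ (Multiset.map_congr rfl fun w _ => aeval_algHom_apply i.toIntAlgHom w F)

/-- A product over the roots of a rational polynomial does not depend on the algebraically closed field. -/
theorem prod_roots_transfer (P F : ℤ[X]) (D : ℤ) {L L' : Type*} [Field L] [CharZero L] [IsAlgClosed L]
    [Field L'] [CharZero L'] [IsAlgClosed L']
    (h : ((P.map (Int.castRingHom L)).roots.map fun w => aeval w F).prod = (D : L)) :
    ((P.map (Int.castRingHom L')).roots.map fun w => aeval w F).prod = (D : L') := by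
  let Q := P.map (Int.castRingHom ℚ)
  let E := Q.SplittingField
  have hs : (Q.map (algebraMap ℚ E)).Splits := SplittingField.splits Q
  let i : E →ₐ[ℚ] L := IsAlgClosed.lift
  let j : E →ₐ[ℚ] L' := IsAlgClosed.lift
  rw [prod_roots_map P F hs i.toRingHom, ← map_intCast i.toRingHom] at h
  rw [prod_roots_map P F hs j.toRingHom, i.toRingHom.injective h, map_intCast]

variable {k : Type u} [Field k] [Finite k] {A : Over (Spec (CommRingCat.of k))}
  [GrpObj A] [IsCommMonObj A] [IsProper A.hom] [GeometricallyIntegral A.hom]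

/-- The number of points over the degree `m` extension is the product over the roots. -/
theorem nPts_eq_prod {Ω : Type u} [Field Ω] [IsAlgClosed Ω] [Algebra k Ω] (l : ℕ) [Fact l.Prime] (hl : (l : k) ≠ 0)
    (πA : A ⟶ A) [IsMonHom πA] (hle : ∀ U : A.left.Opens, U ≤ πA.left ⁻¹ᵁ U)
    (happ : ∀ (U : A.left.Opens) (s : Γ(A.left, U)), (πA.left.appLE U U (hle U)).hom s = s ^ Nat.card k)
    [Module.Free ℤ_[l] (AbDual.TateMod A l (Over.mk (Spec.map (CommRingCat.ofHom (algebraMap k Ω)))))]
    [Module.Finite ℤ_[l] (AbDual.TateMod A l (Over.mk (Spec.map (CommRingCat.ofHom (algebraMap k Ω)))))]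
    (P : ℤ[X]) (hP : (AbDual.tateMapₗ (l := l) (T := Over.mk (Spec.map (CommRingCat.ofHom (algebraMap k Ω)))) πA).charpoly =
      P.map (Int.castRingHom ℤ_[l]))
    {m : ℕ} (hm : 1 ≤ m) {C : Type*} [Field C] [CharZero C] [IsAlgClosed C] :
    (_root_.Zeta.nPts A.hom m : C) = ((P.map (Int.castRingHom C)).roots.map fun w => 1 - w ^ m).prod := by
  classical
  set σ := Spec.map (CommRingCat.ofHom (algebraMap k Ω))
  obtain ⟨g, hg⟩ := AbTors.exists_dim A
  set β := EndAV.End.of πA ^ m - 1 with hβ
  -- the fixed points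
  have hiff : ∀ a : Over.mk σ ⟶ A, a ≫ β.toHom = 1 ↔ a.left ≫ Zeta.iterHom πA.left m = a.left := fun a => by
    rw [hβ, EndAV.End.toHom_sub, EndAV.End.toHom_one, GrpObj.comp_div, Category.comp_id, div_eq_one,
      ← show (EndAV.End.of πA ^ m).toHom.left = Zeta.iterHom πA.left m from toHom_pow_left _ m]
    exact ⟨fun h => congrArg Over.Hom.left h, fun h => Over.OverMorphism.ext h⟩
  have hcard : Nat.card {a : Over.mk σ ⟶ A // a ≫ β.toHom = 1} = _root_.Zeta.nPts A.hom m := by
    rw [← Zeta.natCard_fixed_pts πA.left hle happ A.hom Ω m hm]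
    exact Nat.card_congr
      { toFun := fun a => ⟨⟨a.1.left, Over.w a.1⟩, (hiff a.1).1 a.2⟩
        invFun := fun t => ⟨Over.homMk t.1.1 t.1.2, (hiff _).2 t.2⟩
        left_inv := fun a => rfl
        right_inv := fun t => rfl }
  have hne : _root_.Zeta.nPts A.hom m ≠ 0 := by
    obtain ⟨km, _, _, _, hkm⟩ := Zeta.exists_extension k m hm
    haveI := Zeta.finite_pts (f := A.hom) km
    rw [← hkm, ← Zeta.pointCount_eq_nPts]
    haveI : Nonempty (Zeta.Pts A.hom km) :=
      ⟨⟨(1 : Over.mk (Spec.map (CommRingCat.ofHom (algebraMap k km))) ⟶ A).left, Over.w _⟩⟩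
    exact Nat.card_pos.ne'
  haveI hfinSet : Finite {a : Over.mk σ ⟶ A // a ≫ β.toHom = 1} := Nat.finite_of_card_ne_zero (hcard.trans_ne hne)
  haveI : IsFinite β.toHom.left := by
    by_contra hf
    obtain ⟨W, _, j, _, _, _, _, hW, hjf⟩ := exists_subvariety_ker β.toHom hf
    haveI : IsProper (DegPoly.bc σ W).hom := inferInstanceAs (IsProper (pullback.snd W.hom σ))
    haveI : GeometricallyIntegral (DegPoly.bc σ W).hom := inferInstanceAs (GeometricallyIntegral (pullback.snd W.hom σ))
    haveI : Mono j := by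
      haveI : Mono ((Over.forget _).map j) := inferInstanceAs (Mono j.left)
      exact (Over.forget _).mono_of_mono_map this
    haveI : Finite (Over.mk σ ⟶ W) := Finite.of_injective
      (fun z => (⟨z ≫ j, by rw [Category.assoc, hjf, MonObj.comp_one]⟩ : {a : Over.mk σ ⟶ A // a ≫ β.toHom = 1}))
      fun z z' h => (cancel_mono j).1 (congrArg Subtype.val h)
    haveI : Finite (Over.mk (𝟙 (Spec (CommRingCat.of Ω))) ⟶ DegPoly.bc σ W) :=
      Finite.of_equiv _ (DegPoly.ptsEquiv σ (A := W)).toEquiv
    haveI : Finite (𝟙_ (Over (Spec (CommRingCat.of Ω))) ⟶ DegPoly.bc σ W) :=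
      inferInstanceAs (Finite (Over.mk (𝟙 (Spec (CommRingCat.of Ω))) ⟶ DegPoly.bc σ W))
    haveI := subsingleton_of_finite_pts (DegPoly.bc σ W)
    refine hW ⟨fun x y => ?_⟩
    haveI : Surjective σ := AbTors.surjective_of_field (K := k) (Ω := Ω) σ
    obtain ⟨x', rfl⟩ := (pullback.fst W.hom σ).surjective x
    obtain ⟨y', rfl⟩ := (pullback.fst W.hom σ).surjective y
    exact congrArg _ (Subsingleton.elim (α := ↥(DegPoly.bc σ W).left) x' y')
  obtain ⟨x, hx⟩ := card_ker_eq_finrank (Ω := Ω) πA hle happ hm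
  -- the degree is the determinant
  obtain ⟨Q, hQm, hQd, hQv, hQc⟩ := DegPoly.exists_int_charpoly_hom σ hg β.toHom
  have hdeg : (_root_.Zeta.nPts A.hom m : ℤ) = Q.eval 0 := by
    have h := (hQv 0).1
    rw [neg_zero, zpow_zero, _root_.mul_one] at h
    rw [← h inferInstance x, ← hx, hcard]
  let L := AlgebraicClosure ℚ_[l]
  let b := Module.Free.chooseBasis ℤ_[l] (AbDual.TateMod A l (Over.mk σ))
  let ψ : ℤ_[l] →+* L := algebraMap ℤ_[l] L
  set M := LinearMap.toMatrixAlgEquiv b (EndAV.End.tateRep l (Over.mk σ) (EndAV.End.of πA))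
  have hM : M.charpoly = P.map (Int.castRingHom ℤ_[l]) := (LinearMap.charpoly_toMatrix _ b).trans hP
  have hcardJ : Fintype.card (Module.Free.ChooseBasisIndex ℤ_[l] (AbDual.TateMod A l (Over.mk σ))) = 2 * g := by
    rw [← Module.finrank_eq_card_chooseBasisIndex, AbTors.finrank_eq A σ l hl hg]
  have hdet : ψ (LinearMap.det (EndAV.End.tateRep l (Over.mk σ) β)) =
      ((P.map (Int.castRingHom L)).roots.map fun w => (X ^ m - 1 : L[X]).eval w).prod := by
    have h1 : LinearMap.toMatrixAlgEquiv b (EndAV.End.tateRep l (Over.mk σ) β) = M ^ m - 1 := by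
      rw [hβ, map_sub, map_pow, map_one, map_sub, map_pow, map_one]
    rw [← LinearMap.det_toMatrix b,
      show LinearMap.toMatrix b b (EndAV.End.tateRep l (Over.mk σ) β) = M ^ m - 1 from h1, RingHom.map_det]
    have h2 : ψ.mapMatrix (M ^ m - 1) = aeval (ψ.mapMatrix M) (X ^ m - 1 : L[X]) := by
      rw [map_sub, map_pow, map_one, map_sub, map_pow, map_one, aeval_X]
    rw [h2, DegPoly.det_aeval_eq_prod_roots]
    have h3 : (ψ.mapMatrix M).charpoly = P.map (Int.castRingHom L) := by
      rw [RingHom.mapMatrix_apply, Matrix.charpoly_map, hM, Polynomial.map_map,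
        Subsingleton.elim (ψ.comp (Int.castRingHom ℤ_[l])) (Int.castRingHom L)]
    rw [h3]
  have hQdet : ψ (LinearMap.det (EndAV.End.tateRep l (Over.mk σ) β)) = ((Q.eval 0 : ℤ) : L) := by
    rw [show EndAV.End.tateRep l (Over.mk σ) β = AbDual.tateMapₗ (l := l) (T := Over.mk σ) β.toHom from rfl,
      LinearMap.det_eq_sign_charpoly_coeff, hQc l hl, AbTors.finrank_eq A σ l hl hg, Polynomial.coeff_map,
      (even_two_mul g).neg_one_pow, _root_.one_mul, eq_intCast, map_intCast, Polynomial.coeff_zero_eq_eval_zero]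
  have hroots : ∀ {M' : Type _} [Field M'] [CharZero M'] [IsAlgClosed M'],
      (P.map (Int.castRingHom M')).roots.card = 2 * g := by
    intro M' _ _ _
    have hd := LinearMap.charpoly_natDegree (AbDual.tateMapₗ (l := l) (T := Over.mk σ) πA)
    rw [hP, Polynomial.natDegree_map_eq_of_injective (RingHom.injective_int _), AbTors.finrank_eq A σ l hl hg] at hd
    rw [← (IsAlgClosed.splits _).natDegree_eq_card_roots,
      Polynomial.natDegree_map_eq_of_injective (RingHom.injective_int _), hd]
  have hflip : ∀ {M' : Type _} [Field M'] [CharZero M'] [IsAlgClosed M'],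
      ((P.map (Int.castRingHom M')).roots.map fun w => 1 - w ^ m).prod =
        ((P.map (Int.castRingHom M')).roots.map fun w => aeval w (X ^ m - 1 : ℤ[X])).prod := by
    intro M' _ _ _
    rw [show (fun w : M' => 1 - w ^ m) = fun w => (-1) * (aeval w (X ^ m - 1 : ℤ[X])) from funext fun w => by simp,
      Multiset.prod_map_mul, Multiset.map_const', Multiset.prod_replicate, hroots, (even_two_mul g).neg_one_pow,
      _root_.one_mul]
  have hL : ((P.map (Int.castRingHom L)).roots.map fun w => aeval w (X ^ m - 1 : ℤ[X])).prod =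
      ((Q.eval 0 : ℤ) : L) := by
    rw [← hQdet, hdet]
    exact congrArg _ (Multiset.map_congr rfl fun w _ => by simp)
  rw [hflip, prod_roots_transfer P _ _ hL, ← hdeg, Int.cast_natCast]

end GrothLib.Poincare
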