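import Groth.Agent.Lib.Poincare.AutFinite
import Groth.Agent.Lib.Poincare.PointCount
import Groth.Agent.Lib.Poincare.FrobPull
import Groth.Agent.Lib.DegPoly.BaseChange
import Groth.Agent.Lib.Ample.RelAmple
import Groth.Prelude.Def_Frob
import Groth.Agent.S16846

/-!
# The Riemann hypothesis for abelian varieties over finite fields
-/

set_option autoImplicit false
set_option linter.all false
set_option backward.isDefEq.respectTransparency false
set_option maxHeartbeats 4000000

universe u

open CategoryTheory CategoryTheory.Limits AlgebraicGeometry Opposite TopologicalSpace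
open MonoidalCategory CartesianMonoidalCategory
open GrothLib.Ample GrothLib.Cube
open Polynomial
open scoped MonObj CategoryTheory.Obj

noncomputable section

namespace GrothLib.RHyp

/-- Iterates of the absolute Frobenius. -/
def fIter (p : ℕ) [Fact p.Prime] (X : Scheme.{u}) [FrobSch.IsCharP X p] : ℕ → (X ⟶ X)
  | 0 => 𝟙 X
  | e + 1 => fIter p X e ≫ FrobSch.frob X p

section Iter

variable {p : ℕ} [Fact p.Prime] {X Y : Scheme.{u}} [FrobSch.IsCharP X p] [FrobSch.IsCharP Y p]

theorem fIter_base : ∀ e : ℕ, (fIter p X e).base = 𝟙 _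
  | 0 => rfl
  | e + 1 => by rw [fIter, Scheme.Hom.comp_base, fIter_base e, FrobSch.frob_base, Category.id_comp]

theorem fIter_comp (f : X ⟶ Y) : ∀ e : ℕ, fIter p X e ≫ f = f ≫ fIter p Y e
  | 0 => by rw [fIter, fIter, Category.id_comp, Category.comp_id]
  | e + 1 => by rw [fIter, fIter, Category.assoc, FrobSch.frob_comp, ← Category.assoc, fIter_comp f e, Category.assoc]

theorem fIter_le (e : ℕ) (U : X.Opens) : U ≤ fIter p X e ⁻¹ᵁ U := fun x hx => by
  show (fIter p X e).base x ∈ U
  rw [fIter_base]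
  exact hx

theorem fIter_appLE : ∀ (e : ℕ) (U : X.Opens) (s : Γ(X, U)),
    ((fIter p X e).appLE U U (fIter_le e U)).hom s = s ^ p ^ e
  | 0, U, s => by
    rw [pow_zero, pow_one]
    simp [fIter, Scheme.Hom.appLE]
    erw [CategoryTheory.Functor.map_id]
    rfl
  | e + 1, U, s => by
    have hF : U ≤ FrobSch.frob X p ⁻¹ᵁ U := fun x hx => hx
    have h := Scheme.Hom.appLE_comp_appLE (fIter p X e) (FrobSch.frob X p) U U U hF (fIter_le e U)
    have h2 := congrArg (fun g => (ConcreteCategory.hom g) s) h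
    refine h2.symm.trans ?_
    show ((fIter p X e).appLE U U _).hom (((FrobSch.frob X p).appLE U U hF).hom s) = _
    rw [show ((FrobSch.frob X p).appLE U U hF).hom s = s ^ p by
      simp [Scheme.Hom.appLE]
      erw [CategoryTheory.Functor.map_id]
      rfl, map_pow, fIter_appLE e U s, ← pow_mul, ← pow_succ]

end Iter

/-- An abelian variety over a finite field has a Frobenius. -/
theorem exists_frob {K : Type u} [Field K] [Finite K] (A : Over (Spec (CommRingCat.of K))) [GrpObj A]
    [IsProper A.hom] [GeometricallyIntegral A.hom] :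
    ∃ (π : A ⟶ A) (_ : IsMonHom π), π.left.base = 𝟙 _ ∧ ∃ hle : ∀ U : A.left.Opens, U ≤ π.left ⁻¹ᵁ U,
      ∀ (U : A.left.Opens) (s : Γ(A.left, U)), (π.left.appLE U U (hle U)).hom s = s ^ Nat.card K := by
  haveI : Fintype K := Fintype.ofFinite K
  obtain ⟨p, hp⟩ := CharP.exists K
  obtain ⟨e, hpp, hcard⟩ := FiniteField.card K p
  haveI := Fact.mk hpp
  have hq : Nat.card K = p ^ (e : ℕ) := by rw [Nat.card_eq_fintype_card, hcard]
  haveI : FrobSch.IsCharP A.left p := FrobSch.IsCharP.of_hom A.hom p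
  have hK : fIter p (Spec (CommRingCat.of K)) e = 𝟙 _ := by
    refine ext_of_isAffine ?_
    ext s
    have h := fIter_appLE (p := p) (X := Spec (CommRingCat.of K)) e ⊤ s
    rw [Scheme.Hom.appTop, Scheme.Hom.app_eq_appLE]
    refine h.trans ?_
    obtain ⟨a, rfl⟩ : ∃ a, (Scheme.ΓSpecIso (CommRingCat.of K)).inv.hom a = s :=
      ⟨(Scheme.ΓSpecIso (CommRingCat.of K)).hom.hom s, by simp⟩
    rw [← map_pow, ← hq, show a ^ Nat.card K = a by rw [Nat.card_eq_fintype_card]; exact FiniteField.pow_card a]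
    simp
  let π : A ⟶ A := Over.homMk (fIter p A.left e) (by rw [fIter_comp, hK, Category.comp_id])
  have hone : η[A] ≫ π = η[A] := Over.OverMorphism.ext (by
    show η[A].left ≫ fIter p A.left e = η[A].left
    haveI : FrobSch.IsCharP (𝟙_ (Over (Spec (CommRingCat.of K)))).left p :=
      inferInstanceAs (FrobSch.IsCharP (Spec (CommRingCat.of K)) p)
    rw [← fIter_comp]
    exact (congrArg (· ≫ η[A].left) hK).trans (Category.id_comp _))
  haveI : GeometricallyConnected A.hom := Rigidity.geometricallyConnected_of_geometricallyIrreducible A.hom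
  refine ⟨π, Rigidity.isMonHom_of_one_comp' π hone, fIter_base e, fIter_le e, fun U s => ?_⟩
  rw [hq]
  exact fIter_appLE e U s

section Weil

variable {K : Type u} [Field K] [IsAlgClosed K] {A : Over (Spec (CommRingCat.of K))} [GrpObj A] [IsCommMonObj A]
  [IsProper A.hom] [GeometricallyIntegral A.hom]

open TraceForm (tr)
open AutFinite (adjDom dag)

/-- `ρ` is adjoint to `u` for `φ_z`. -/
def Adj (z : Pic A.left) (u ρ : EndAV.End A) : Prop :=
  KL.mc z ρ.toHom = addClass (snd A A) (fst A A ≫ u.toHom) z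

variable {z : Pic A.left}

theorem Adj.add {u v ρ ρ' : EndAV.End A} (h : Adj z u ρ) (h' : Adj z v ρ') : Adj z (u + v) (ρ + ρ') := by
  rw [Adj, EndAV.End.toHom_add, EndAV.End.toHom_add, KL.mc_mul, h, h', MonObj.comp_mul, KL.addClass_mul_right]

theorem Adj.neg {u ρ : EndAV.End A} (h : Adj z u ρ) : Adj z (-u) (-ρ) := by
  rw [Adj, EndAV.End.toHom_neg, EndAV.End.toHom_neg, KL.mc_inv, h, GrpObj.comp_inv, KL.addClass_inv_right]

theorem adj_zero : Adj z (0 : EndAV.End A) 0 := by
  rw [Adj, EndAV.End.toHom_zero, KL.mc_one, MonObj.comp_one, KL.addClass_one_right]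

theorem adj_one : Adj z (1 : EndAV.End A) 1 := by
  rw [Adj, EndAV.End.toHom_one, Category.comp_id, KL.addClass_comm, KL.mc, Category.comp_id]

theorem adj_natCast (n : ℕ) : Adj z (n : EndAV.End A) (n : EndAV.End A) := by
  induction n with
  | zero => rw [Nat.cast_zero]; exact adj_zero
  | succ n ih => rw [Nat.cast_succ]; exact ih.add adj_one

theorem adj_intCast (n : ℤ) : Adj z (n : EndAV.End A) (n : EndAV.End A) := by
  cases n with
  | ofNat n => rw [Int.ofNat_eq_natCast, Int.cast_natCast]; exact adj_natCast n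
  | negSucc n => rw [Int.cast_negSucc]; exact (adj_natCast (n + 1)).neg

theorem Adj.symm {u ρ : EndAV.End A} (h : Adj z u ρ) : Adj z ρ u := by
  have h1 := congrArg (pull (lift (snd A A) (fst A A)).left) h
  rw [TraceForm.swap_mc, pull_addClass, lift_snd, lift_fst_assoc, PosCone.pull_lam] at h1
  exact h1.symm

theorem Adj.mul {u v ρ ρ' : EndAV.End A} (h : Adj z u ρ) (h' : Adj z v ρ') : Adj z (u * v) (ρ' * ρ) := by
  rw [Adj, EndAV.End.toHom_mul, EndAV.End.toHom_mul, ← PosCone.pull_lam]
  exact TraceAdj.adjoint_pair z z _ _ _ _ (h.symm.trans (PosCone.pull_lam z _).symm)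
    (h'.trans (PosCone.pull_lam z _).symm)

variable {N : A.left.Modules} (hN : HasCls N z) (hamp : CohB1.IsAmple N)

include hN hamp in
theorem Adj.tr_nonneg {u ρ : EndAV.End A} (h : Adj z u ρ) : 0 ≤ tr (ρ * u) ∧ (u ≠ 0 → 0 < tr (ρ * u)) := by
  by_cases hu : u = 0
  · exact ⟨by rw [hu, mul_zero, TraceForm.tr_zero], fun h' => absurd hu h'⟩
  have hd : dag (⟨u, ρ, h⟩ : adjDom z) = ρ := AutFinite.dag_unique hN hamp h
  have hp := AutFinite.q_pos hN hamp ⟨u, ρ, h⟩ fun h0 => hu (congrArg Subtype.val h0)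
  rw [hd] at hp
  exact ⟨hp.le, fun _ => hp⟩

variable {π v : EndAV.End A} {q : ℕ}

/-- Polynomial relations pass from `π` to `ω` through `π + q/π`. -/
theorem exists_subst (q : ℚ) (M : ℚ[X]) : ∃ (d : ℕ) (H : ℚ[X]),
    ∀ (R : Type u) [Ring R] [Algebra ℚ R] (x y : R), Commute x y → x * y = algebraMap ℚ R q →
      aeval x H = x ^ d * aeval (x + y) M := by
  induction M using Polynomial.induction_on' with
  | add P Q hP hQ =>
    obtain ⟨d, H, h⟩ := hP
    obtain ⟨d', H', h'⟩ := hQ
    refine ⟨d' + d, X ^ d' * H + X ^ d * H', fun R _ _ x y hc he => ?_⟩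
    rw [map_add, map_mul, map_mul, map_pow, map_pow, aeval_X, h R x y hc he, h' R x y hc he, map_add, mul_add,
      ← mul_assoc, ← mul_assoc, ← pow_add, ← pow_add, add_comm d d']
  | monomial n c =>
    refine ⟨n, C c * (X ^ 2 + C q) ^ n, fun R _ _ x y hc he => ?_⟩
    rw [map_mul, map_pow, map_add, map_pow, aeval_C, aeval_C, aeval_X, aeval_monomial, sq, ← he, ← mul_add,
      ((Commute.refl x).add_right hc).mul_pow, ← mul_assoc, Algebra.commutes c (x ^ n), mul_assoc]

theorem sym_of_adj {u : EndAV.End A} (h : Adj z u u) : PosCone.Sym z u.toHom := h.trans (PosCone.pull_lam z _).symm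

include hN hamp in
/-- The roots of a symmetric endomorphism are real. -/
theorem root_real {s : EndAV.End A} (hs : Adj z s s) {w : ℂ} (hw : aeval w (minpoly ℚ (EndAV.toEnd0 s)) = 0) :
    w.im = 0 ∧ ((∃ y : EndAV.End A, Commute y s ∧ Adj z y (-y) ∧ s = -(y * y)) → 0 ≤ w.re) := by
  haveI : Module.Finite ℤ (EndAV.End A) := HomFG.finite_hom (A := A) (B := A)
  set x := EndAV.toEnd0 s with hx
  have hint : IsIntegral ℚ x := Algebra.IsIntegral.isIntegral x
  let L : ℚ[X] →ₗ[ℚ] ℚ := PosCone.trQ.comp (aeval x).toLinearMap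
  have hker : ∀ P, minpoly ℚ x ∣ P → L P = 0 := fun P h => by
    show PosCone.trQ (aeval x P) = 0
    rw [minpoly.dvd_iff.1 h, map_zero]
  have hden : ∀ P : ℚ[X], ∃ (d : ℕ) (v : EndAV.End A), 0 < d ∧ v ∈ Algebra.adjoin ℤ ({s} : Set (EndAV.End A)) ∧
      (d : ℚ) • aeval x P = EndAV.toEnd0 v := fun P =>
    PosCone.exists_den (show aeval x P ∈ EndAV.QAdj s from
      (Algebra.adjoin_singleton_eq_range_aeval ℚ x).ge ⟨P, rfl⟩)
  have hadj : ∀ v ∈ Algebra.adjoin ℤ ({s} : Set (EndAV.End A)), Adj z v v := fun v hv =>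
    (PosCone.sym_aeval s (sym_of_adj hs) hv).trans (PosCone.pull_lam z _)
  have hpos : ∀ P, ¬ minpoly ℚ x ∣ P → 0 < L (P * P) := fun P hP => by
    obtain ⟨d, v, hd, hv, hdv⟩ := hden P
    have hdq : (d : ℚ) ≠ 0 := Nat.cast_ne_zero.2 hd.ne'
    have hv0 : v ≠ 0 := fun h => hP (minpoly.dvd _ _ (by
      rw [h, map_zero, smul_eq_zero] at hdv; exact hdv.resolve_left hdq))
    have h1 := ((hadj v hv).tr_nonneg hN hamp).2 hv0
    have h2 : ((d : ℚ) * d) * L (P * P) = (tr (v * v) : ℚ) := by
      show _ * PosCone.trQ (aeval x (P * P)) = _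
      rw [← PosCone.trQ_toEnd0, map_mul EndAV.toEnd0, ← hdv, map_mul (aeval x), smul_mul_smul_comm, map_smul,
        smul_eq_mul]
    have h3 : 0 < ((d : ℚ) * d) * L (P * P) := by rw [h2]; exact_mod_cast h1
    exact (pos_iff_pos_of_mul_pos h3).1 (by positivity)
  have him := AbVarAlg.im_eq_zero_of_pos (minpoly.monic hint) hker hpos hw
  refine ⟨him, ?_⟩
  rintro ⟨y, hys, hy, hsy⟩
  refine AbVarAlg.root_nonneg_of_pos (minpoly.monic hint) hker hpos (fun P => ?_) ?_
  · obtain ⟨d, v, hd, hv, hdv⟩ := hden P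
    have hcom : Commute v s := by
      rw [Algebra.adjoin_singleton_eq_range_aeval] at hv
      obtain ⟨Q, rfl⟩ := hv
      simpa using Commute.map (Commute.all Q (X : ℤ[X])) (aeval s)
    have h1 := (((hy.mul (hadj v hv))).tr_nonneg hN hamp).1
    have e : v * -y * (y * v) = v * s * v := by rw [hsy]; noncomm_ring
    rw [e, hcom.eq, mul_assoc] at h1
    have h2 : ((d : ℚ) * d) * L (X * (P * P)) = (tr (s * (v * v)) : ℚ) := by
      show _ * PosCone.trQ (aeval x (X * (P * P))) = _
      rw [← PosCone.trQ_toEnd0, map_mul EndAV.toEnd0, map_mul EndAV.toEnd0, ← hdv, map_mul (aeval x),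
        map_mul (aeval x), aeval_X, ← hx, smul_mul_smul_comm, mul_smul_comm, map_smul, smul_eq_mul]
    have h3 : (0 : ℚ) ≤ ((d : ℚ) * d) * L (X * (P * P)) := by rw [h2]; exact_mod_cast h1
    exact nonneg_of_mul_nonneg_right h3 (by positivity)
  · have hzr : (w.re : ℂ) = w := Complex.ext rfl (by simp [him])
    rw [← hzr] at hw
    rw [IsRoot, eval_map_algebraMap, ← map_eq_zero_iff _ (algebraMap ℝ ℂ).injective, ← aeval_algebraMap_apply]
    exact hw

include hN hamp in
/-- **The roots of `π` have absolute value `√q` when `q/π` is the adjoint of `π`.** -/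
theorem norm_root (hq : q ≠ 0) (h1 : π * v = (q : EndAV.End A)) (h2 : v * π = (q : EndAV.End A))
    (ha : Adj z π v) (hb : Adj z v π) {w : ℂ} (hw : aeval w (minpoly ℚ (EndAV.toEnd0 π)) = 0) :
    ‖w‖ = Real.sqrt q := by
  haveI : Module.Finite ℤ (EndAV.End A) := HomFG.finite_hom (A := A) (B := A)
  set x := EndAV.toEnd0 π with hx
  set y := EndAV.toEnd0 v with hy
  have hxy : x * y = algebraMap ℚ _ (q : ℚ) := by rw [hx, hy, ← map_mul, h1, map_natCast, map_natCast]
  have hcom : Commute x y := by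
    show x * y = y * x
    rw [hx, hy, ← map_mul, ← map_mul, h1, h2]
  have hint : IsIntegral ℚ x := Algebra.IsIntegral.isIntegral x
  have hw0 : w ≠ 0 := by
    rintro rfl
    have h0 : (minpoly ℚ x).coeff 0 = 0 := by simpa [← coeff_zero_eq_aeval_zero'] using hw
    obtain ⟨R, hR⟩ := X_dvd_iff.2 h0
    have hRm : R.Monic := monic_X.of_mul_monic_left (hR ▸ minpoly.monic hint)
    have h3 : aeval x R = 0 := by
      have h4 : x * aeval x R = 0 := by
        have h6 := minpoly.aeval ℚ x
        rw [hR, map_mul, aeval_X] at h6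
        exact h6
      have h5 : algebraMap ℚ (EndAV.End0 A) (q : ℚ) * aeval x R = 0 := by
        rw [← hxy, hcom.eq, mul_assoc, h4, mul_zero]
      exact (((Nat.cast_ne_zero.2 hq : (q : ℚ) ≠ 0).isUnit.map
        (algebraMap ℚ (EndAV.End0 A))).mul_right_eq_zero).1 h5
    have := natDegree_le_of_dvd (minpoly.dvd ℚ x h3) hRm.ne_zero
    have hd : (minpoly ℚ x).natDegree = R.natDegree + 1 := by rw [hR, natDegree_X_mul hRm.ne_zero]
    omega
  let s : ℂ := w + q / w
  have hws : w * ((q : ℂ) / w) = q := by field_simp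
  have hM : ∀ M : ℚ[X], aeval (x + y) M = 0 → aeval s M = 0 := fun M hM => by
    obtain ⟨d, H, hH⟩ := exists_subst (q : ℚ) M
    have hx0 := hH (EndAV.End0 A) x y hcom hxy
    rw [hM, mul_zero] at hx0
    obtain ⟨c, rfl⟩ := minpoly.dvd ℚ x hx0
    obtain ⟨d', H', hH'⟩ := exists_subst.{0} (q : ℚ) M
    -- transfer to the complex numbers
    have hkey : ∀ (H' : ℚ[X]), aeval x H' = 0 → aeval w H' = 0 := fun H' h' => by
      obtain ⟨c', rfl⟩ := minpoly.dvd ℚ x h'
      rw [map_mul, hw, zero_mul]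
    have hU := hH (ULift.{u} ℂ) (ULift.up w) (ULift.up ((q : ℂ) / w)) (Commute.all _ _) (by
      refine ULift.down_injective ?_
      show w * ((q : ℂ) / w) = algebraMap ℚ ℂ (q : ℚ)
      rw [hws, map_natCast])
    have hdown : ∀ (P : ℚ[X]) (a : ULift.{u} ℂ), (aeval a P).down = aeval a.down P := fun P a =>
      (aeval_algHom_apply (ULift.algEquiv (R := ℚ) (A := ℂ)).toAlgHom a P).symm
    have hU' := congrArg ULift.down hU
    rw [hdown] at hU'
    change aeval w _ = w ^ d * (aeval (ULift.up w + ULift.up ((q : ℂ) / w)) M).down at hU'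
    rw [hdown, map_mul, hw, zero_mul] at hU'
    exact (mul_eq_zero.1 hU'.symm).resolve_left (pow_ne_zero _ hw0)
  have hsym : Adj z (π + v) (π + v) := by
    have := ha.add hb
    rwa [add_comm v π] at this
  obtain ⟨hsim, -⟩ := root_real hN hamp hsym (w := s) (hM _ (by
    rw [hx, hy, ← map_add]; exact minpoly.aeval ℚ _))
  have hy' : Adj z (π - v) (-(π - v)) := by
    have := ha.add hb.neg
    rw [sub_eq_add_neg, neg_add, neg_neg, add_comm (-π) v]
    exact this
  have hcom' : Commute π v := h1.trans h2.symm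
  set t := -((π - v) * (π - v)) with ht
  have htsym : Adj z t t := by
    have := (hy'.mul hy').neg
    rwa [neg_mul_neg] at this
  have ht4 : EndAV.toEnd0 t = algebraMap ℚ _ (4 * q : ℚ) - (x + y) * (x + y) := by
    have e1 : t = (4 * q : ℕ) • (1 : EndAV.End A) - (π + v) * (π + v) := by
      rw [ht, mul_nsmul', nsmul_one]
      simp only [sub_mul, mul_sub, add_mul, mul_add, hcom'.eq, h2]
      abel
    rw [e1, map_sub, map_nsmul, map_one, map_mul, map_add, nsmul_one, Nat.cast_mul, map_mul, map_natCast,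
      map_ofNat, Nat.cast_ofNat]
  obtain ⟨-, hre⟩ := root_real hN hamp htsym (w := 4 * (q : ℂ) - s * s) (by
    have h := hM ((minpoly ℚ (EndAV.toEnd0 t)).comp (C (4 * q : ℚ) - X * X)) (by
      rw [aeval_comp, map_sub, aeval_C, map_mul (aeval (x + y)), aeval_X, ← ht4]
      exact minpoly.aeval ℚ _)
    rw [aeval_comp, map_sub, aeval_C, map_mul (aeval s), aeval_X] at h
    simpa using h)
  have hnn := hre ⟨π - v, ((Commute.refl (π - v)).mul_right (Commute.refl (π - v))).neg_right, hy', rfl⟩
  -- elementary algebra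
  have hquad : w * w - s * w + q = 0 := by
    simp only [s]; field_simp; ring
  set a := w.re with hadef
  set b := w.im with hbdef
  have hre' : a * a - b * b - s.re * a + q = 0 := by
    have := congrArg Complex.re hquad
    simpa [Complex.mul_re, hsim] using this
  have him' : 2 * (a * b) - s.re * b = 0 := by
    have := congrArg Complex.im hquad
    simp [Complex.mul_im, hsim] at this
    linarith
  have hnn' : 0 ≤ 4 * (q : ℝ) - s.re * s.re := by
    simpa [Complex.mul_re, hsim] using hnn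
  have hab : a * a + b * b = q := by
    rcases eq_or_ne b 0 with hb0 | hb0
    · rw [hb0] at hre' ⊢
      nlinarith [sq_nonneg (2 * a - s.re)]
    · have : 2 * a - s.re = 0 := (mul_eq_zero.1 (by linarith : (2 * a - s.re) * b = 0)).resolve_right hb0
      have hs2 : s.re = 2 * a := by linarith
      rw [hs2] at hre'
      linarith
  rw [Complex.norm_def, Complex.normSq_apply]
  exact congrArg Real.sqrt hab

end Weil

/-- Roots of the characteristic polynomial kill every annihilating polynomial. -/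
theorem aeval_root_eq_zero {R : Type*} [CommRing R] [IsDomain R] [CharZero R] {V : Type*} [AddCommGroup V] [Module R V]
    [Module.Free R V] [Module.Finite R V] (T : Module.End R V) {P G : ℤ[X]}
    (hP : T.charpoly = P.map (Int.castRingHom R)) (hG : aeval T (G.map (Int.castRingHom R)) = 0)
    {ω : ℂ} (hω : (P.map (Int.castRingHom ℂ)).IsRoot ω) : aeval ω G = 0 := by
  classical
  let L := AlgebraicClosure (FractionRing R)
  let ψ : R →+* L := algebraMap R L
  haveI : CharZero L := charZero_of_injective_algebraMap (R := R) (A := L) (by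
    rw [IsScalarTower.algebraMap_eq R (FractionRing R) L]
    exact (algebraMap (FractionRing R) L).injective.comp (IsFractionRing.injective R (FractionRing R)))
  let b := Module.Free.chooseBasis R V
  let M := ψ.mapMatrix (LinearMap.toMatrixAlgEquiv b T)
  have hcast : ψ.comp (Int.castRingHom R) = Int.castRingHom L := Subsingleton.elim _ _
  have hM : M.charpoly = P.map (Int.castRingHom L) := by
    show ((LinearMap.toMatrixAlgEquiv b T).map ψ).charpoly = _
    rw [Matrix.charpoly_map,
      show (LinearMap.toMatrixAlgEquiv b T).charpoly = T.charpoly from LinearMap.charpoly_toMatrix T b, hP,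
      Polynomial.map_map, hcast]
  have hGM : aeval M (G.map (Int.castRingHom L)) = 0 := by
    have h0 : aeval (LinearMap.toMatrixAlgEquiv b T) (G.map (Int.castRingHom R)) = 0 := by
      refine (aeval_algHom_apply (LinearMap.toMatrixAlgEquiv b).toAlgHom T _).trans ?_
      rw [hG, map_zero]
    have hsq : (algebraMap L (Matrix (Module.Free.ChooseBasisIndex R V) (Module.Free.ChooseBasisIndex R V) L)).comp ψ =
        ψ.mapMatrix.comp (algebraMap R _) := by
      ext r i j
      simp [Matrix.algebraMap_matrix_apply, apply_ite ψ]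
    have := Polynomial.map_aeval_eq_aeval_map hsq (G.map (Int.castRingHom R)) (LinearMap.toMatrixAlgEquiv b T)
    rw [h0, map_zero, Polynomial.map_map, hcast] at this
    exact this.symm
  -- the rational minimal polynomial of `ω`
  have hωint : IsIntegral ℚ ω := ⟨P.map (Int.castRingHom ℚ), by
    refine Polynomial.Monic.map _ (Polynomial.monic_of_injective (RingHom.injective_int (Int.castRingHom R)) ?_)
    rw [← hP]; exact LinearMap.charpoly_monic T, by
    rw [← aeval_def, show Int.castRingHom ℚ = algebraMap ℤ ℚ from rfl, aeval_map_algebraMap, ← eval_map_algebraMap]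
    exact hω⟩
  have hdvd : minpoly ℚ ω ∣ P.map (Int.castRingHom ℚ) := minpoly.dvd _ _ (by
    rw [show Int.castRingHom ℚ = algebraMap ℤ ℚ from rfl, aeval_map_algebraMap, ← eval_map_algebraMap]
    exact hω)
  obtain ⟨w, hw⟩ := IsAlgClosed.exists_aeval_eq_zero L (minpoly ℚ ω) (minpoly.degree_pos hωint).ne'
  have hev2 : ∀ Q : ℤ[X], aeval w (Q.map (Int.castRingHom ℚ)) = (Q.map (Int.castRingHom L)).eval w := fun Q => by
    rw [aeval_def, eval₂_map, Polynomial.eval_map, Subsingleton.elim ((algebraMap ℚ L).comp (Int.castRingHom ℚ)) (Int.castRingHom L)]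
  have hwP : M.charpoly.IsRoot w := by
    obtain ⟨c, hc⟩ := hdvd
    have := congrArg (aeval w) hc
    rw [map_mul, hw, zero_mul, hev2] at this
    rw [hM]
    exact this
  have hwG : (G.map (Int.castRingHom L)).eval w = 0 := by
    have hev : Module.End.HasEigenvalue (Matrix.toLin' M) w := by
      rw [Module.End.hasEigenvalue_iff_isRoot_charpoly, Matrix.charpoly_toLin']
      exact hwP
    obtain ⟨e, he⟩ := hev.exists_hasEigenvector
    have h1 := Module.End.aeval_apply_of_hasEigenvector (p := G.map (Int.castRingHom L)) he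
    have h2 : aeval (Matrix.toLin' M) (G.map (Int.castRingHom L)) = 0 := by
      refine (aeval_algHom_apply (Matrix.toLinAlgEquiv' (R := L)).toAlgHom M _).trans ?_
      rw [hGM, map_zero]
    rw [h2, LinearMap.zero_apply] at h1
    exact (smul_eq_zero.1 h1.symm).resolve_right he.2
  have heq : minpoly ℚ ω = minpoly ℚ w :=
    minpoly.eq_of_irreducible_of_monic (minpoly.irreducible hωint) hw (minpoly.monic hωint)
  have hd2 : minpoly ℚ ω ∣ G.map (Int.castRingHom ℚ) := by
    rw [heq]; exact minpoly.dvd _ _ (by rw [hev2]; exact hwG)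
  obtain ⟨c, hc⟩ := hd2
  have := congrArg (aeval ω) hc
  rwa [map_mul, minpoly.aeval, zero_mul, show Int.castRingHom ℚ = algebraMap ℤ ℚ from rfl, aeval_map_algebraMap] at this

/-- **The Riemann hypothesis for abelian varieties over finite fields.** -/
theorem exists_poly {K : Type u} [Field K] [Finite K] (A : Over (Spec (CommRingCat.of K))) [GrpObj A]
    [IsProper A.hom] [GeometricallyIntegral A.hom] (r : ℕ) (hr : topologicalKrullDim A.left = r) :
    ∃ P : ℚ[X], P.Monic ∧ P.natDegree = 2 * r ∧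
      (∀ ω ∈ (P.map (algebraMap ℚ ℂ)).roots, ‖ω‖ = Real.sqrt (Nat.card K)) ∧
      ∀ m : ℕ, 1 ≤ m → (_root_.Zeta.nPts A.hom m : ℂ) =
        (((P.map (algebraMap ℚ ℂ)).roots.map (fun ω => ω ^ m - 1)).prod) := by
  haveI : IsCommMonObj A := isCommMonObj_abVar
  obtain ⟨π, hπm, hπb, hle, happ⟩ := exists_frob A
  haveI := hπm
  obtain ⟨vK, hvm, hπv, hvπ⟩ := Groth.Agent.S16846.result K A π hπb hle happ
  haveI := hvm
  let Ω := AlgebraicClosure K
  let σ : Spec (CommRingCat.of Ω) ⟶ Spec (CommRingCat.of K) := Spec.map (CommRingCat.ofHom (algebraMap K Ω))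
  let A' := DegPoly.bc σ A
  haveI : IsProper A'.hom := inferInstanceAs (IsProper (pullback.snd A.hom σ))
  haveI : GeometricallyIntegral A'.hom := inferInstanceAs (GeometricallyIntegral (pullback.snd A.hom σ))
  haveI : IsCommMonObj A' := isCommMonObj_abVar
  haveI : IsMonHom (DegPoly.bcMap σ π) := inferInstance
  haveI : IsMonHom (DegPoly.bcMap σ vK) := inferInstance
  set q := Nat.card K with hq
  have hq0 : q ≠ 0 := Nat.card_pos.ne'
  let p' : EndAV.End A' := EndAV.End.of (DegPoly.bcMap σ π)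
  let v' : EndAV.End A' := EndAV.End.of (DegPoly.bcMap σ vK)
  have hpowmap : DegPoly.bcMap σ ((𝟙 A : A ⟶ A) ^ q) = (𝟙 A' : A' ⟶ A') ^ q := by
    refine (map_pow (Functor.homMonoidHom (Over.pullback σ)) (𝟙 A) q).trans ?_
    exact congrArg (fun g => g ^ q) ((Over.pullback σ).map_id A)
  have h1 : p' * v' = (q : EndAV.End A') := EndAV.End.ext (by
    rw [EndAV.End.toHom_mul, EndAV.End.toHom_natCast]
    show DegPoly.bcMap σ vK ≫ DegPoly.bcMap σ π = _
    rw [← Functor.map_comp, hvπ]
    exact hpowmap)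
  have h2 : v' * p' = (q : EndAV.End A') := EndAV.End.ext (by
    rw [EndAV.End.toHom_mul, EndAV.End.toHom_natCast]
    show DegPoly.bcMap σ π ≫ DegPoly.bcMap σ vK = _
    rw [← Functor.map_comp, hπv]
    exact hpowmap)
  obtain ⟨L₀, hL₀⟩ := exists_isAmple A
  have hz₀ := hasCls_clsMod hL₀.1
  haveI : IsAffineHom (pullback.fst A.hom σ) := MorphismProperty.pullback_fst _ _ (inferInstance : IsAffineHom σ)
  have hN := hz₀.pullback (pullback.fst A.hom σ)
  set z : Pic A'.left := pull (pullback.fst A.hom σ) (clsMod hL₀.1) with hz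
  have hamp := isAmple_pullback_of_isAffineHom (pullback.fst A.hom σ) hL₀
  have hpull : pull (DegPoly.bcMap σ π).left z = z ^ q := by
    rw [hz]
    refine (pull_comp _ _ _).trans ((congrArg (fun g => pull g (clsMod hL₀.1)) (DegPoly.bcMap_left_fst σ π)).trans ?_)
    refine (pull_comp _ _ _).symm.trans ?_
    rw [pull_eq_pow_of_appLE π.left q hle happ, map_pow]
    rfl
  -- `v'` is adjoint to `p'`
  have hsurj : ∀ a : 𝟙_ (Over (Spec (CommRingCat.of Ω))) ⟶ A', ∃ b : 𝟙_ _ ⟶ A', b ≫ p'.toHom = a := fun a => by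
    obtain ⟨b, hb⟩ := AutFinite.exists_pow_preimage hq0 a
    refine ⟨b ≫ v'.toHom, ?_⟩
    rw [Category.assoc, ← EndAV.End.toHom_mul, h1, EndAV.End.toHom_natCast, MonObj.comp_pow, Category.comp_id, hb]
  have hpts : ∀ a : 𝟙_ (Over (Spec (CommRingCat.of Ω))) ⟶ A',
      pull (transl (a ≫ v'.toHom)).left z * pull p'.toHom.left z = z * pull p'.toHom.left (pull (transl a).left z) := by
    intro a
    obtain ⟨b, rfl⟩ := hsurj a
    have hc : transl b ≫ p'.toHom = p'.toHom ≫ transl (b ≫ p'.toHom) := by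
      show (𝟙 A' * (toUnit A' ≫ b)) ≫ p'.toHom = p'.toHom ≫ (𝟙 A' * (toUnit A' ≫ b ≫ p'.toHom))
      rw [MonObj.mul_comp, MonObj.comp_mul, Category.id_comp, Category.comp_id, Category.assoc,
        ← Category.assoc p'.toHom (toUnit A'), toUnit_unique (p'.toHom ≫ toUnit A') (toUnit A')]
    rw [Category.assoc, ← EndAV.End.toHom_mul, h2, EndAV.End.toHom_natCast, MonObj.comp_pow, Category.comp_id,
      pull_pull_over, ← hc, ← pull_pull_over, show pull p'.toHom.left z = z ^ q from hpull, map_pow]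
    have h := TraceForm.points_of_mc (1 : Pic A'.left) z (1 : A' ⟶ A') (by
      rw [KL.mc_one, KL.mc, KL.addClass_class_one]) b
    have hlin : KL.mc (z ^ q) (𝟙 A') = KL.mc z ((𝟙 A' : A' ⟶ A') ^ q) := by
      rw [PosCone.mc_pow_class, PosCone.mc_pow]
    have h' := TraceForm.points_of_mc _ _ _ hlin b
    rw [map_pow, MonObj.comp_pow, Category.comp_id] at h'
    rw [mul_comm, ← h', mul_comm]
  have ha : Adj z p' v' := by
    have h := TraceForm.adjoint_of_points z v'.toHom p'.toHom 1 (by simpa only [pow_one] using hpts)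
    rw [pow_one, PosCone.pull_lam] at h
    exact h
  have hb : Adj z v' p' := ha.symm
  -- the characteristic polynomial
  obtain ⟨l, hlp, hlK⟩ := HomFG.exists_prime_ne_zero K
  haveI := Fact.mk hlp
  haveI := AbTors.module_finite A σ l hlK
  haveI : Module.Free ℤ_[l] (AbDual.TateMod A l (Over.mk σ)) := Module.free_of_finite_type_torsion_free'
  haveI : Module.Finite ℤ_[l] (AbDual.TateMod A' l (Over.mk (𝟙 (Spec (CommRingCat.of Ω))))) :=
    Module.Finite.equiv (DegPoly.tateEquiv σ l (A := A))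
  haveI : Module.Free ℤ_[l] (AbDual.TateMod A' l (Over.mk (𝟙 (Spec (CommRingCat.of Ω))))) :=
    Module.Free.of_equiv (DegPoly.tateEquiv σ l (A := A))
  obtain ⟨P, hPm, hPd, -, hPc⟩ := DegPoly.exists_int_charpoly' σ hr (EndAV.End.of π)
  have hP := hPc l hlK
  let T : Module.End ℤ_[l] (AbDual.TateMod A' l (Over.mk (𝟙 (Spec (CommRingCat.of Ω))))) :=
    EndAV.End.tateRep l (Over.mk (𝟙 (Spec (CommRingCat.of Ω)))) p'
  have hT : T.charpoly = P.map (Int.castRingHom ℤ_[l]) := by
    rw [← hP, ← LinearEquiv.charpoly_conj (DegPoly.tateEquiv σ l (A := A))]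
    congr 1
    refine LinearMap.ext fun w => ?_
    rw [LinearEquiv.conj_apply]
    show _ = DegPoly.tateEquiv σ l (AbDual.tateMapₗ (l := l) π ((DegPoly.tateEquiv σ l (A := A)).symm w))
    rw [DegPoly.tateEquiv_tateMap, LinearEquiv.apply_symm_apply]
    rfl
  haveI : Module.Finite ℤ (EndAV.End A') := HomFG.finite_hom (A := A') (B := A')
  let mp := minpoly ℚ (EndAV.toEnd0 p')
  let G := IsLocalization.integerNormalization (nonZeroDivisors ℤ) mp
  obtain ⟨⟨c, hc⟩, hGc⟩ := IsLocalization.integerNormalization_map_to_map (nonZeroDivisors ℤ) mp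
  have hGp : aeval p' G = 0 := HomFG.toEnd0_injective (A := A') (by
    rw [map_zero, ← aeval_algHom_apply, ← aeval_map_algebraMap ℚ, hGc, map_zsmul, minpoly.aeval, smul_zero])
  have hGT : aeval T (G.map (Int.castRingHom ℤ_[l])) = 0 := by
    rw [← HomFG.map_aeval, hGp, map_zero]
  refine ⟨P.map (Int.castRingHom ℚ), hPm.map _, by rw [hPm.natDegree_map, hPd], ?_, fun m hm => ?_⟩
  · intro ω hω
    have hmap : (P.map (Int.castRingHom ℚ)).map (algebraMap ℚ ℂ) = P.map (Int.castRingHom ℂ) := by
      rw [Polynomial.map_map]; congr 1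
    rw [hmap] at hω
    have hG := aeval_root_eq_zero T hT hGT (isRoot_of_mem_roots hω)
    refine norm_root hN hamp hq0 h1 h2 ha hb ?_
    rw [← aeval_map_algebraMap ℚ, hGc, map_zsmul, smul_eq_zero] at hG
    exact hG.resolve_left (nonZeroDivisors.ne_zero hc)
  · have h := Poincare.nPts_eq_prod (Ω := Ω) l hlK π hle happ P hP hm (C := ℂ)
    have hmap : (P.map (Int.castRingHom ℚ)).map (algebraMap ℚ ℂ) = P.map (Int.castRingHom ℂ) := by
      rw [Polynomial.map_map]; congr 1
    rw [h, hmap]
    have hcard : Multiset.card (P.map (Int.castRingHom ℂ)).roots = 2 * r := by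
      rw [← (IsAlgClosed.splits _).natDegree_eq_card_roots, hPm.natDegree_map, hPd]
    have hneg : ((P.map (Int.castRingHom ℂ)).roots.map fun w : ℂ => w ^ m - 1) =
        ((P.map (Int.castRingHom ℂ)).roots.map fun w => 1 - w ^ m).map Neg.neg := by
      rw [Multiset.map_map]; simp [Function.comp_def]
    rw [hneg, Multiset.prod_map_neg, Multiset.card_map, hcard, (even_two_mul r).neg_one_pow, _root_.one_mul]

end GrothLib.RHyp
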