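import Groth.Agent.Lib.Poincare.PicKer
import Groth.Agent.Lib.AbTors.FiniteKer
import Groth.Agent.Lib.AbTors.Dense
import Groth.Agent.Lib.AbTors.Tate
import Groth.Agent.Lib.FBase7.Dim
import Groth.Agent.Lib.HomFG.Finite
import Groth.Agent.Lib.DiagGrp.SubgroupLocus

/-!
# The orthogonal of an abelian subvariety over an algebraically closed field

For `i : B → A` and a class `x` on `A` the points `a` with `i^*(t_a^* x) = i^* x` form a closed subgroup,
which contains an abelian subvariety of dimension at least `dim A - dim B` and meets `B` finitely for `x` ample.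
-/

universe u

open CategoryTheory CategoryTheory.Limits Opposite TopologicalSpace AlgebraicGeometry
open MonoidalCategory CartesianMonoidalCategory MonObj
open GrothLib.Ample GrothLib.Cube
open scoped CategoryTheory.Obj

set_option backward.isDefEq.respectTransparency false

noncomputable section

namespace GrothLib.Poincare

theorem Closeds.mem_finset_sup {X : Type*} [TopologicalSpace X] {S : Finset (Closeds X)} {q : X}
    (hq : q ∈ ((S.sup id : Closeds X) : Set X)) : ∃ V ∈ S, q ∈ (V : Set X) := by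
  classical
  induction S using Finset.induction_on with
  | empty => simp at hq
  | insert V S hV ih =>
    rw [Finset.sup_insert, Closeds.coe_sup] at hq
    rcases hq with h | h
    · exact ⟨V, Finset.mem_insert_self _ _, h⟩
    · obtain ⟨W, hW, hqW⟩ := ih h
      exact ⟨W, Finset.mem_insert_of_mem hW, hqW⟩

variable {K : Type u} [Field K] {A B : Over (Spec (CommRingCat.of K))}
  [GrpObj A] [IsProper A.hom] [GeometricallyIntegral A.hom]

/-- `a ↦ i^*(t_a^* x - x)`. -/
def psi (i : B ⟶ A) (x : Pic A.left) : (𝟙_ (Over (Spec (CommRingCat.of K))) ⟶ A) →* Pic B.left where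
  toFun a := pull (i * (toUnit B ≫ a)).left x * (pull i.left x)⁻¹
  map_one' := by rw [MonObj.comp_one, _root_.mul_one, mul_inv_cancel]
  map_mul' a b := by
    have h : pull (i * (toUnit B ≫ (a * b))).left x =
        pull (i * (toUnit B ≫ a)).left x * pull (i * (toUnit B ≫ b)).left x * (pull i.left x)⁻¹ := by
      rw [← square i a b x, mul_inv_cancel_right]
    rw [h, _root_.mul_mul_mul_comm, _root_.mul_assoc]

theorem psi_eq_one_iff {i : B ⟶ A} {x : Pic A.left} {a : 𝟙_ (Over (Spec (CommRingCat.of K))) ⟶ A} :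
    psi i x a = 1 ↔ pull (i * (toUnit B ≫ a)).left x = pull i.left x := mul_inv_eq_one

theorem comm_aux {G : Type*} [CommGroup G] (a b c d e : G) :
    a * b * c * (d * e)⁻¹ * a⁻¹ = b * d⁻¹ * (c * e⁻¹) := by
  apply Additive.ofMul.injective
  simp only [ofMul_mul, ofMul_inv]
  abel

/-- Pulling back along multiplication by `n` raises the values of `psi` to the `n`-th power. -/
theorem pull_pow_psi [GrpObj B] (i : B ⟶ A) [IsMonHom i] (x : Pic A.left)
    (a : 𝟙_ (Over (Spec (CommRingCat.of K))) ⟶ A) (n : ℕ) :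
    pull ((𝟙 B : B ⟶ B) ^ n).left (psi i x a) = psi i x a ^ n := by
  have e : ∀ m : ℕ, pull ((𝟙 B : B ⟶ B) ^ m).left (psi i x a) =
      pull (i ^ m * (toUnit B ≫ a)).left x * (pull (i ^ m).left x)⁻¹ := fun m => by
    show pull _ (pull (i * (toUnit B ≫ a)).left x * (pull i.left x)⁻¹) = _
    rw [map_mul, map_inv, pull_pull_over, pull_pull_over, MonObj.comp_mul, comp_toUnit_assoc,
      MonObj.pow_comp, Category.id_comp]
  induction n with
  | zero =>
    rw [e, pow_zero, pow_zero, _root_.one_mul, pull_toUnit_comp, pull_one_hom, inv_one, _root_.mul_one]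
  | succ n ih =>
    rw [e, pow_succ (psi i x a), ← ih, e]
    show _ = _ * (pull (i * (toUnit B ≫ a)).left x * (pull i.left x)⁻¹)
    have h := cubeClass_eq_one (i ^ n) i (toUnit B ≫ a) x
    rw [cubeClass, pull_toUnit_comp, mul_inv_eq_one, _root_.mul_one, ← pow_succ] at h
    set P := pull (i ^ (n + 1) * (toUnit B ≫ a)).left x
    have hP : P = pull (i ^ (n + 1)).left x * pull (i ^ n * (toUnit B ≫ a)).left x *
        pull (i * (toUnit B ≫ a)).left x * (pull (i ^ n).left x * pull i.left x)⁻¹ := by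
      rw [← h, _root_.mul_assoc P, mul_inv_cancel_right]
    rw [hP]
    exact comm_aux _ _ _ _ _

/-- The points killed by `psi`. -/
def orth (i : B ⟶ A) (x : Pic A.left) : Subgroup (𝟙_ (Over (Spec (CommRingCat.of K))) ⟶ A) := (psi i x).ker

theorem mem_orth {i : B ⟶ A} {x : Pic A.left} {a : 𝟙_ (Over (Spec (CommRingCat.of K))) ⟶ A} :
    a ∈ orth i x ↔ pull (i * (toUnit B ≫ a)).left x = pull i.left x := psi_eq_one_iff

variable [IsAlgClosed K]

/-- A point in the closure of the orthogonal belongs to it. -/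
theorem mem_orth_of_mem_closure [IsProper B.hom] [GeometricallyIntegral B.hom] (i : B ⟶ A) (x : Pic A.left)
    (a : 𝟙_ (Over (Spec (CommRingCat.of K))) ⟶ A)
    (h : ptOf a ∈ closure (ptOf '' (orth i x : Set (𝟙_ (Over (Spec (CommRingCat.of K))) ⟶ A)))) :
    a ∈ orth i x := by
  set S := ptOf '' (orth i x : Set (𝟙_ (Over (Spec (CommRingCat.of K))) ⟶ A))
  let C : Closeds A.left := ⟨closure S, isClosed_closure⟩
  let I := Scheme.IdealSheafData.vanishingIdeal C
  have hr : Set.range I.subschemeι = closure S := RedSub.range_subschemeι_vanishingIdeal C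
  let T : Over (Spec (CommRingCat.of K)) := Over.mk (I.subschemeι ≫ A.hom)
  let t' : T ⟶ A := Over.homMk I.subschemeι rfl
  haveI : LocallyOfFiniteType T.hom := inferInstanceAs (LocallyOfFiniteType (I.subschemeι ≫ A.hom))
  haveI : IsReduced T.left := RedSub.isReduced_subscheme_vanishingIdeal C
  haveI : IsClosedImmersion t'.left := inferInstanceAs (IsClosedImmersion I.subschemeι)
  have hlift : ∃ t : 𝟙_ (Over (Spec (CommRingCat.of K))) ⟶ T, t ≫ t' = a := by
    haveI : IsReduced (𝟙_ (Over (Spec (CommRingCat.of K)))).left := inferInstanceAs (IsReduced (Spec (CommRingCat.of K)))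
    obtain ⟨g, hg⟩ := RedSub.exists_lift a.left I.subschemeι (by
      rw [hr]
      rintro _ ⟨s, rfl⟩
      rw [Subsingleton.elim (α := ↥(Spec (CommRingCat.of K))) s (IsLocalRing.closedPoint K)]
      exact h)
    exact ⟨Over.homMk g (by show g ≫ I.subschemeι ≫ A.hom = _; rw [reassoc_of% hg, Over.w]), Over.OverMorphism.ext hg⟩
  let y : Pic (B ⊗ T).left := addClass (fst B T ≫ i) (snd B T ≫ t') x
  have hslice : ∀ t : 𝟙_ (Over (Spec (CommRingCat.of K))) ⟶ T,
      pull (lift (𝟙 B) (toUnit B ≫ t)).left y = psi i x (t ≫ t') := fun t => by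
    rw [pull_addClass, lift_fst_assoc, lift_snd_assoc, Category.assoc, Category.id_comp, addClass,
      pull_toUnit_comp, _root_.mul_one]
    rfl
  let D : Set T.left := t'.left ⁻¹' S
  have hDd : Dense D := by
    intro q
    rw [t'.left.isEmbedding.isInducing.closure_eq_preimage_closure_image]
    show t'.left q ∈ closure (t'.left '' (t'.left ⁻¹' S))
    rw [Set.image_preimage_eq_inter_range, show Set.range t'.left = closure S from hr,
      Set.inter_eq_left.2 subset_closure]
    exact hr.le ⟨q, rfl⟩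
  have hDc : D ⊆ closedPoints T.left := fun q hq => by
    obtain ⟨b, -, hb⟩ := hq
    rw [← t'.left.isClosedEmbedding.preimage_closedPoints]
    show t'.left q ∈ closedPoints A.left
    rw [← hb]
    exact ((pointEquivClosedPoint A.hom) ⟨b.left, Over.w b⟩).2
  obtain ⟨t, ht⟩ := hlift
  have := slice_eq_one_of_dense_slices y hDd hDc (fun t ht => by
    rw [hslice]
    obtain ⟨b, hb, hbe⟩ := ht
    have e : t ≫ t' = b := eq_of_ptOf_eq (by rw [← apply_ptOf]; exact hbe.symm)
    rw [e]; exact hb) t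
  rw [hslice, ht] at this
  exact this

variable [GrpObj B] [IsProper B.hom] [GeometricallyIntegral B.hom]

/-- Points of `B` in the orthogonal fix the pulled back class. -/
theorem finite_preimage_orth (i : B ⟶ A) [IsMonHom i] [IsClosedImmersion i.left] {L : A.left.Modules}
    (hL : CohB1.IsAmple L) :
    {b : 𝟙_ (Over (Spec (CommRingCat.of K))) ⟶ B | b ≫ i ∈ orth i (clsMod hL.1)}.Finite := by
  refine (finite_stab (pull i.left (clsMod hL.1)) fun q => ?_).subset fun b hb => ?_
  · obtain ⟨n, U, hq, hU, hs⟩ := exists_hasSec_of_isAmple hL (i.left q)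
    exact ⟨n, i.left ⁻¹ᵁ U, hq, hU.preimage i.left, by rw [← map_pow]; exact hasSec_pull i.left hs⟩
  · show pull (transl b).left (pull i.left (clsMod hL.1)) = pull i.left (clsMod hL.1)
    rw [pull_pull_over, transl, MonObj.mul_comp, Category.id_comp, Category.assoc]
    exact mem_orth.1 hb

/-- An abelian variety in the orthogonal spans with `B` by a finite map. -/
theorem isFinite_prod_orth (i : B ⟶ A) [IsMonHom i] [IsClosedImmersion i.left] {L : A.left.Modules}
    (hL : CohB1.IsAmple L) [IsCommMonObj A] {C : Over (Spec (CommRingCat.of K))} [GrpObj C] [IsProper C.hom]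
    [GeometricallyIntegral C.hom] (j : C ⟶ A) [IsMonHom j] [Mono j]
    (hj : ∀ c : 𝟙_ (Over (Spec (CommRingCat.of K))) ⟶ C, c ≫ j ∈ orth i (clsMod hL.1)) :
    IsFinite ((fst B C ≫ i) * (snd B C ≫ j)).left := by
  haveI : IsProper (B ⊗ C).hom := inferInstanceAs (IsProper (pullback.fst B.hom C.hom ≫ B.hom))
  haveI : IsIntegral B.left := GeometricallyIntegral.isIntegral_of_subsingleton B.hom
  haveI : IsIntegral C.left := GeometricallyIntegral.isIntegral_of_subsingleton C.hom
  haveI : IsReduced (pullback B.hom C.hom) := GrothLib.GrpSchField.isReduced_pullback B.hom C.hom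
  haveI : IrreducibleSpace ↥(pullback B.hom C.hom) := GrothLib.GrpSchField.irreducibleSpace_pullback B.hom C.hom
  haveI : IsIntegral (B ⊗ C).left := isIntegral_of_irreducibleSpace_of_isReduced (pullback B.hom C.hom)
  haveI := geometricallyIntegral_of_isIntegral (B ⊗ C).hom
  haveI : IsMonHom ((fst B C ≫ i) * (snd B C ≫ j)) :=
    DiagGrp.isMonHom_mul_central i j fun X g h => _root_.mul_comm _ _
  refine AbTors.isFinite_of_forall_subgroup _ fun W _ _ _ w _ _ hw => ?_
  haveI : IsIntegral W.left := GeometricallyIntegral.isIntegral_of_subsingleton W.hom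
  haveI : LocallyOfFiniteType W.hom := inferInstance
  have hpt : ∀ z : 𝟙_ (Over (Spec (CommRingCat.of K))) ⟶ W,
      (z ≫ w ≫ fst B C) ≫ i ∈ orth i (clsMod hL.1) ∧ ((z ≫ w ≫ snd B C) ≫ j = ((z ≫ w ≫ fst B C) ≫ i)⁻¹) := by
    intro z
    have h1 := congrArg (z ≫ ·) hw
    simp only [MonObj.comp_mul, MonObj.comp_one] at h1
    have h2 : (z ≫ w ≫ snd B C) ≫ j = ((z ≫ w ≫ fst B C) ≫ i)⁻¹ := by
      simp only [Category.assoc]
      exact eq_inv_of_mul_eq_one_right h1
    refine ⟨?_, h2⟩
    have := (orth i (clsMod hL.1)).inv_mem (hj (z ≫ w ≫ snd B C))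
    rwa [h2, inv_inv] at this
  haveI : Mono w := by
    haveI : Mono ((Over.forget _).map w) := inferInstanceAs (Mono w.left)
    exact (Over.forget _).mono_of_mono_map this
  have hfin : Finite (𝟙_ (Over (Spec (CommRingCat.of K))) ⟶ W) := by
    haveI := (finite_preimage_orth i hL).to_subtype
    refine Finite.of_injective (β := {b : 𝟙_ (Over (Spec (CommRingCat.of K))) ⟶ B | b ≫ i ∈ orth i (clsMod hL.1)})
      (fun z => ⟨z ≫ w ≫ fst B C, (hpt z).1⟩) fun z z' h => ?_
    have h1 : z ≫ w ≫ fst B C = z' ≫ w ≫ fst B C := congrArg Subtype.val h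
    have h2 : z ≫ w ≫ snd B C = z' ≫ w ≫ snd B C := by
      rw [← cancel_mono j, (hpt z).2, (hpt z').2, h1]
    rw [← cancel_mono w]
    refine CartesianMonoidalCategory.hom_ext _ _ ?_ ?_ <;> simpa only [Category.assoc]
  -- an integral scheme with finitely many closed points is a point
  have hcl : (closedPoints W.left).Finite := by
    refine (Set.finite_range (fun z : 𝟙_ (Over (Spec (CommRingCat.of K))) ⟶ W => ptOf z)).subset fun q hq => ?_
    obtain ⟨z, hz, -⟩ := exists_point_factor q hq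
    exact ⟨z, hz⟩
  have hT1 : IsClosed (closedPoints W.left) := by
    rw [← Set.biUnion_of_singleton (closedPoints W.left)]
    exact hcl.isClosed_biUnion fun q hq => hq
  have huniv : closedPoints W.left = Set.univ := by
    rw [← hT1.closure_eq]
    exact (dense_closedPoints W).closure_eq
  refine subsingleton_of_forall_eq (genericPoint W.left) fun q => ?_
  have : genericPoint W.left ∈ closedPoints W.left := huniv.ge trivial
  exact (this.closure_eq ▸ (genericPoint_spec W.left).def.ge (Set.mem_univ q) :)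

/-- The torsion of the orthogonal is large. -/
theorem card_tors_le [IsCommMonObj A] [IsCommMonObj B] (i : B ⟶ A) [IsMonHom i] (x : Pic A.left) {g b : ℕ}
    (hg : topologicalKrullDim A.left = (g : WithBot ℕ∞)) (hb : topologicalKrullDim B.left = (b : WithBot ℕ∞))
    {n : ℕ} (hn : (n : K) ≠ 0) :
    n ^ (2 * g) ≤ {a | a ^ n = 1 ∧ a ∈ orth i x}.ncard * n ^ (2 * b) := by
  let G := AbDual.torsPts A n (𝟙_ (Over (Spec (CommRingCat.of K))))
  have hG : Nat.card G = n ^ (2 * g) := AbTors.card_torsPts A hg hn (𝟙 (Spec (CommRingCat.of K)))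
  obtain ⟨hfin, hle⟩ := finite_ker_pull_pow (B := B) hb hn
  let φ : G →* Pic B.left := (psi i x).comp G.subtype
  have hrange : Nat.card φ.range ≤ n ^ (2 * b) := by
    refine le_trans (Nat.card_le_card_of_injective (fun y : φ.range =>
      (⟨y.1, ?_⟩ : {y : Pic B.left // pull ((𝟙 B : B ⟶ B) ^ n).left y = 1}))
      fun y y' h => Subtype.ext (congrArg (fun z => z.1) h)) hle
    obtain ⟨a, ha⟩ := y.2
    rw [← ha]
    show pull _ (psi i x a.1) = 1
    rw [pull_pow_psi, ← map_pow, (AbDual.mem_torsPts A a.1).1 a.2, map_one]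
  have hker : Nat.card φ.ker = {a | a ^ n = 1 ∧ a ∈ orth i x}.ncard := by
    rw [← Nat.card_coe_set_eq]
    exact Nat.card_congr
      { toFun := fun a => ⟨a.1.1, (AbDual.mem_torsPts A a.1.1).1 a.1.2, a.2⟩
        invFun := fun a => ⟨⟨a.1, (AbDual.mem_torsPts A a.1).2 a.2.1⟩, a.2.2⟩
        left_inv := fun a => rfl
        right_inv := fun a => rfl }
  rw [← hG, ← hker, ← φ.ker.card_mul_index, Subgroup.index_ker]
  exact Nat.mul_le_mul_left _ hrange

omit [GrpObj B] [IsProper B.hom] [GeometricallyIntegral B.hom] in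
/-- An irreducible closed set of points of a subgroup lies in a translate of an abelian subvariety in it. -/
theorem exists_subvariety_component [IsCommMonObj A] (H : Subgroup (𝟙_ (Over (Spec (CommRingCat.of K))) ⟶ A))
    (V : Closeds A.left) (hVirr : IsIrreducible (V : Set A.left)) (hVH : ∀ a, ptOf a ∈ (V : Set A.left) → a ∈ H) :
    ∃ (C : Over (Spec (CommRingCat.of K))) (_ : GrpObj C) (j : C ⟶ A)
      (v : 𝟙_ (Over (Spec (CommRingCat.of K))) ⟶ A) (c : ℕ), IsMonHom j ∧ IsClosedImmersion j.left ∧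
        IsProper C.hom ∧ GeometricallyIntegral C.hom ∧
        topologicalKrullDim C.left = (c : WithBot ℕ∞) ∧ (∀ p, p ≫ j ∈ H) ∧
        ∀ a, ptOf a ∈ (V : Set A.left) → ∃ p, p ≫ j = a * v⁻¹ := by
  haveI : IsIntegral A.left := GeometricallyIntegral.isIntegral_of_subsingleton A.hom
  haveI : IsLocallyNoetherian A.left := LocallyOfFiniteType.isLocallyNoetherian A.hom
  haveI : H.Normal := ⟨fun n hn g => by rwa [mul_comm g n, mul_inv_cancel_right]⟩
  haveI : CompactSpace A.left := QuasiCompact.compactSpace_of_compactSpace A.hom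
  obtain ⟨q, hqV, hqc⟩ := V.isClosed.exists_closed_singleton hVirr.1
  obtain ⟨v, hv, -⟩ := exists_point_factor q hqc
  have hvV : ptOf v ∈ (V : Set A.left) := by rw [show ptOf v = q from hv]; exact hqV
  let τ := (transl v).left
  haveI : IsIso τ := ⟨(transl v⁻¹).left, by
    rw [← Over.comp_left, transl_comp, mul_inv_cancel, transl_one, Over.id_left], by
    rw [← Over.comp_left, transl_comp, inv_mul_cancel, transl_one, Over.id_left]⟩
  have hV'i : IsIrreducible (τ ⁻¹' (V : Set A.left)) := by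
    rw [show τ ⁻¹' (V : Set A.left) = (TopCat.homeoOfIso (Scheme.forgetToTop.mapIso (asIso τ))).symm '' V from
      (congrFun (TopCat.homeoOfIso (Scheme.forgetToTop.mapIso (asIso τ))).image_symm _).symm]
    exact hVirr.image _ (Homeomorph.continuous _).continuousOn
  have hτ : ∀ a, τ (ptOf a) = ptOf (a * v) := fun a => by
    show (transl v).left (ptOf a) = _
    rw [apply_ptOf, comp_transl_point]
  obtain ⟨C, _, j, hj, hjc, hCi, hVC, hker⟩ :=
    Rigidity.exists_subgroup_of_irreducible A (QuotientGroup.mk' H) (τ ⁻¹' (V : Set A.left))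
      (V.isClosed.preimage τ.continuous) hV'i (by
      rintro _ ⟨s, rfl⟩
      rw [Subsingleton.elim (α := ↥(Spec (CommRingCat.of K))) s (IsLocalRing.closedPoint K)]
      show τ (ptOf η[A]) ∈ (V : Set A.left)
      rw [hτ, MonObj.one_eq_one, _root_.one_mul]
      exact hvV)
    (fun a ha => (QuotientGroup.eq_one_iff a).2 (by
      have h1 : τ (ptOf a) ∈ (V : Set A.left) := ha ⟨_, rfl⟩
      rw [hτ] at h1
      exact (H.mul_mem_cancel_right (hVH v hvV)).1 (hVH _ h1)))
  haveI : IsProper C.hom := by rw [← Over.w j]; infer_instance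
  haveI := geometricallyIntegral_of_isAlgClosed C
  haveI := isCommMonObj_abVar (A := C)
  obtain ⟨c, hc⟩ := AbTors.exists_dim C
  refine ⟨C, inferInstance, j, v, c, hj, hjc, inferInstance, inferInstance, hc,
    fun p => (QuotientGroup.eq_one_iff _).1 (hker p), fun a ha => ?_⟩
  have : ptOf (a * v⁻¹) ∈ Set.range j.left := hVC (by
    show τ (ptOf (a * v⁻¹)) ∈ (V : Set A.left)
    rw [hτ, inv_mul_cancel_right]
    exact ha)
  obtain ⟨z, hz⟩ := this
  have hzc : IsClosed ({z} : Set C.left) := by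
    have : z ∈ closedPoints C.left := by
      rw [← j.left.isClosedEmbedding.preimage_closedPoints]
      show j.left z ∈ closedPoints A.left
      rw [hz]
      exact ((pointEquivClosedPoint A.hom) ⟨(a * v⁻¹).left, Over.w _⟩).2
    exact this
  obtain ⟨p, hp, -⟩ := exists_point_factor z hzc
  refine ⟨p, eq_of_ptOf_eq ?_⟩
  rw [← apply_ptOf, show ptOf p = z from hp, hz]

omit [GrpObj B] [IsProper B.hom] [GeometricallyIntegral B.hom] in
/-- A closed group of points contains an abelian subvariety carrying all but boundedly many of its torsion points. -/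
theorem exists_subvariety_of_closed [IsCommMonObj A] (H : Subgroup (𝟙_ (Over (Spec (CommRingCat.of K))) ⟶ A))
    (hclosed : ∀ a, ptOf a ∈ closure (ptOf '' (H : Set (𝟙_ (Over (Spec (CommRingCat.of K))) ⟶ A))) → a ∈ H) :
    ∃ (C : Over (Spec (CommRingCat.of K))) (_ : GrpObj C) (_ : IsProper C.hom) (_ : GeometricallyIntegral C.hom)
      (j : C ⟶ A) (c R : ℕ), IsMonHom j ∧ IsClosedImmersion j.left ∧
        topologicalKrullDim C.left = (c : WithBot ℕ∞) ∧
        (∀ p : 𝟙_ (Over (Spec (CommRingCat.of K))) ⟶ C, p ≫ j ∈ H) ∧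
        ∀ n : ℕ, (n : K) ≠ 0 → {a | a ^ n = 1 ∧ a ∈ H}.ncard ≤ R * n ^ (2 * c) := by
  classical
  haveI : IsIntegral A.left := GeometricallyIntegral.isIntegral_of_subsingleton A.hom
  haveI : IsLocallyNoetherian A.left := LocallyOfFiniteType.isLocallyNoetherian A.hom
  haveI : CompactSpace A.left := QuasiCompact.compactSpace_of_compactSpace A.hom
  haveI : IsNoetherian A.left := {}
  haveI : H.Normal := ⟨fun n hn g => by rwa [mul_comm g n, mul_inv_cancel_right]⟩
  let Z : Closeds A.left := ⟨closure (ptOf '' (H : Set (𝟙_ (Over (Spec (CommRingCat.of K))) ⟶ A))), isClosed_closure⟩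
  have hZ : ∀ a : 𝟙_ (Over (Spec (CommRingCat.of K))) ⟶ A, ptOf a ∈ (Z : Set A.left) ↔ a ∈ H := fun a =>
    ⟨hclosed a, fun h => subset_closure ⟨a, h, rfl⟩⟩
  obtain ⟨S, hSirr, hS⟩ := NoetherianSpace.exists_finset_irreducible Z
  have hmemS : ∀ q ∈ (Z : Set A.left), ∃ V ∈ S, q ∈ (V : Set A.left) := fun q hq => by
    rw [hS] at hq
    exact Closeds.mem_finset_sup hq
  have hVZ : ∀ V ∈ S, (V : Set A.left) ⊆ Z := fun V hV => by
    rw [hS]
    exact Finset.le_sup (f := id) hV
  have data : ∀ V : {V // V ∈ S}, ∃ (C : Over (Spec (CommRingCat.of K))) (_ : GrpObj C) (j : C ⟶ A)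
      (v : 𝟙_ (Over (Spec (CommRingCat.of K))) ⟶ A) (c : ℕ), IsMonHom j ∧ IsClosedImmersion j.left ∧
        IsProper C.hom ∧ GeometricallyIntegral C.hom ∧
        topologicalKrullDim C.left = (c : WithBot ℕ∞) ∧ (∀ p, p ≫ j ∈ H) ∧
        ∀ a, ptOf a ∈ (V.1 : Set A.left) → ∃ p, p ≫ j = a * v⁻¹ := fun V =>
    exists_subvariety_component H V.1 (hSirr V) fun a ha => (hZ a).1 (hVZ V.1 V.2 ha)
  choose C grp j v c hj hjc hCp hCg hc hCH hVC using data
  obtain ⟨V₀, hV₀, -⟩ := hmemS (ptOf 1) ((hZ 1).2 (one_mem H))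
  haveI : Nonempty {V // V ∈ S} := ⟨⟨V₀, hV₀⟩⟩
  obtain ⟨M, hM⟩ := Finite.exists_max c
  have hbound : ∀ n : ℕ, (n : K) ≠ 0 → {a | a ^ n = 1 ∧ a ∈ H}.ncard ≤ S.card * n ^ (2 * c M) := fun n hn => by
    have hn1 : 1 ≤ n := Nat.one_le_iff_ne_zero.2 (by rintro rfl; exact hn (by simp))
    let T : {V // V ∈ S} → Set (𝟙_ (Over (Spec (CommRingCat.of K))) ⟶ A) :=
      fun V => {a | a ^ n = 1 ∧ ptOf a ∈ (V.1 : Set A.left)}
    have hT : ∀ V, (T V).Finite ∧ (T V).ncard ≤ n ^ (2 * c M) := fun V => by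
      rcases (T V).eq_empty_or_nonempty with h0 | ⟨a₀, ha₀, ha₀V⟩
      · simp [h0]
      letI := grp V; haveI := hj V; haveI := hjc V; haveI := hCp V; haveI := hCg V
      haveI : IsMonHom (j V) := hj V
      haveI := isCommMonObj_abVar (A := C V)
      have hmono : Mono (j V) := by
        haveI : Mono ((Over.forget _).map (j V)) := inferInstanceAs (Mono (j V).left)
        exact (Over.forget _).mono_of_mono_map this
      have hcard : Nat.card (AbDual.torsPts (C V) n (𝟙_ (Over (Spec (CommRingCat.of K))))) = n ^ (2 * c V) :=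
        AbTors.card_torsPts (C V) (hc V) hn (𝟙 (Spec (CommRingCat.of K)))
      haveI : Finite (AbDual.torsPts (C V) n (𝟙_ (Over (Spec (CommRingCat.of K))))) :=
        Nat.finite_of_card_ne_zero (by rw [hcard]; exact pow_ne_zero _ (by omega))
      have hlift : ∀ a : T V, ∃ p : AbDual.torsPts (C V) n (𝟙_ (Over (Spec (CommRingCat.of K)))),
          p.1 ≫ j V = a.1 * a₀⁻¹ := by
        rintro ⟨a, han, haV⟩
        obtain ⟨p, hp⟩ := hVC V a haV
        obtain ⟨p₀, hp₀⟩ := hVC V a₀ ha₀V
        have hpe : (p * p₀⁻¹) ≫ j V = a * a₀⁻¹ := by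
          rw [MonObj.mul_comp, GrpObj.inv_comp, hp, hp₀, mul_inv_rev, inv_inv]
          group
        refine ⟨⟨p * p₀⁻¹, (AbDual.mem_torsPts (C V) _).2 ?_⟩, hpe⟩
        rw [← cancel_mono (j V), MonObj.pow_comp, hpe, MonObj.one_comp, mul_pow, inv_pow, han, ha₀,
          inv_one, _root_.mul_one]
      choose F hF using hlift
      have hFi : Function.Injective F := fun a a' h => by
        have := (hF a).symm.trans ((congrArg (fun p => p.1 ≫ j V) h).trans (hF a'))
        exact Subtype.ext (mul_right_cancel this)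
      haveI : Finite (T V) := Finite.of_injective F hFi
      refine ⟨Set.toFinite _, ?_⟩
      rw [← Nat.card_coe_set_eq]
      exact ((Nat.card_le_card_of_injective F hFi).trans hcard.le).trans
        (Nat.pow_le_pow_right hn1 (Nat.mul_le_mul_left 2 (hM V)))
    calc {a | a ^ n = 1 ∧ a ∈ H}.ncard ≤ (⋃ V ∈ (Finset.univ : Finset {V // V ∈ S}), T V).ncard := by
          refine Set.ncard_le_ncard ?_ (Finset.univ.finite_toSet.biUnion fun V _ => (hT V).1)
          rintro a ⟨han, haH⟩
          obtain ⟨V, hV, haV⟩ := hmemS (ptOf a) ((hZ a).2 haH)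
          exact Set.mem_biUnion (Finset.mem_univ ⟨V, hV⟩) ⟨han, haV⟩
      _ ≤ ∑ V : {V // V ∈ S}, (T V).ncard := Finset.set_ncard_biUnion_le _ _
      _ ≤ ∑ _V : {V // V ∈ S}, n ^ (2 * c M) := Finset.sum_le_sum fun V _ => (hT V).2
      _ = _ := by simp
  exact ⟨C M, grp M, hCp M, hCg M, j M, c M, S.card, hj M, hjc M, hc M, hCH M, hbound⟩

omit [GrpObj A] [IsProper A.hom] [GeometricallyIntegral A.hom] [GrpObj B] [IsProper B.hom] [GeometricallyIntegral B.hom] in
/-- Comparing growth of torsion: `N^(2a) ≤ R N^(2c) N^(2b)` for all invertible `N` gives `a ≤ b + c`. -/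
theorem le_add_of_bound {a b c R : ℕ} (h : ∀ n : ℕ, (n : K) ≠ 0 → n ^ (2 * a) ≤ R * n ^ (2 * c) * n ^ (2 * b)) :
    a ≤ b + c := by
  by_contra hlt
  obtain ⟨p, hp, hpK⟩ := HomFG.exists_prime_ne_zero K
  obtain ⟨k, hk⟩ : ∃ k, R < p ^ k := ⟨_, Nat.lt_pow_self hp.one_lt⟩
  have h := h (p ^ k) (by push_cast; exact pow_ne_zero _ hpK)
  set n := p ^ k
  have h2 : n ^ (2 * (b + c)) * n ≤ n ^ (2 * a) := by
    rw [← pow_succ]
    exact Nat.pow_le_pow_right (Nat.pow_pos hp.pos) (by omega)
  have h3 : n ^ (2 * (b + c)) * n ≤ n ^ (2 * (b + c)) * R := by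
    refine h2.trans (h.trans_eq ?_)
    ring
  exact absurd (Nat.le_of_mul_le_mul_left h3 (Nat.pow_pos (Nat.pow_pos hp.pos))) (by omega)

/-- The orthogonal contains an abelian variety of codimension at most `dim B`, all but boundedly
many of whose torsion points it carries. -/
theorem exists_subvariety [IsCommMonObj A] [IsCommMonObj B] (i : B ⟶ A) [IsMonHom i] (x : Pic A.left) {g b : ℕ}
    (hg : topologicalKrullDim A.left = (g : WithBot ℕ∞)) (hb : topologicalKrullDim B.left = (b : WithBot ℕ∞)) :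
    ∃ (C : Over (Spec (CommRingCat.of K))) (_ : GrpObj C) (_ : IsProper C.hom) (_ : GeometricallyIntegral C.hom)
      (j : C ⟶ A) (c R : ℕ), IsMonHom j ∧ IsClosedImmersion j.left ∧
        topologicalKrullDim C.left = (c : WithBot ℕ∞) ∧ g ≤ b + c ∧
        (∀ p : 𝟙_ (Over (Spec (CommRingCat.of K))) ⟶ C, p ≫ j ∈ orth i x) ∧
        ∀ n : ℕ, (n : K) ≠ 0 → {a | a ^ n = 1 ∧ a ∈ orth i x}.ncard ≤ R * n ^ (2 * c) := by
  obtain ⟨C, hC, hp, hi, j, c, R, hj, hjc, hc, hH, hR⟩ :=
    exists_subvariety_of_closed (orth i x) (mem_orth_of_mem_closure i x)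
  exact ⟨C, hC, hp, hi, j, c, R, hj, hjc, hc, le_add_of_bound fun n hn =>
    (card_tors_le i x hg hb hn).trans (Nat.mul_le_mul_right _ (hR n hn)), hH, hR⟩

end GrothLib.Poincare
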