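import Groth.Agent.Lib.AbTors.Descend

/-!
# Geometric points over one point differ by an endomorphism of the field
-/

universe u

open CategoryTheory CategoryTheory.Limits AlgebraicGeometry

noncomputable section

namespace GrothLib.Poincare

/-- A copy of a field, to carry a second algebra structure. -/
def Copy (Ω : Type u) : Type u := Ω

instance (Ω : Type u) [Field Ω] : Field (Copy Ω) := inferInstanceAs (Field Ω)

instance (Ω : Type u) [Field Ω] [IsAlgClosed Ω] : IsAlgClosed (Copy Ω) := ‹IsAlgClosed Ω›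

theorem exists_specMap_eq {X : Scheme.{u}} {Ω : Type u} [Field Ω] (a : Spec (CommRingCat.of Ω) ⟶ X) :
    ∃ (p : X) (φ : X.residueField p ⟶ CommRingCat.of Ω),
      a (IsLocalRing.closedPoint Ω) = p ∧ Spec.map φ ≫ X.fromSpecResidueField p = a := by
  obtain ⟨⟨p, φ⟩, h⟩ := (Scheme.SpecToEquivOfField Ω X).symm.surjective a
  refine ⟨p, φ, ?_, h⟩
  rw [← h]
  show (Spec.map φ ≫ X.fromSpecResidueField p) _ = p
  rw [Scheme.Hom.comp_apply, Scheme.fromSpecResidueField_apply]

/-- Two points with values in an algebraic closure over the same point differ by an endomorphism. -/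
theorem exists_endo_comp_eq {K : Type u} [Field K] {Ω : Type u} [Field Ω] [Algebra K Ω] [IsAlgClosure K Ω]
    {X : Scheme.{u}} (f : X ⟶ Spec (CommRingCat.of K)) (a a' : Spec (CommRingCat.of Ω) ⟶ X)
    (ha : a ≫ f = Spec.map (CommRingCat.ofHom (algebraMap K Ω)))
    (ha' : a' ≫ f = Spec.map (CommRingCat.ofHom (algebraMap K Ω)))
    (h : a (IsLocalRing.closedPoint Ω) = a' (IsLocalRing.closedPoint Ω)) :
    ∃ s : Spec (CommRingCat.of Ω) ⟶ Spec (CommRingCat.of Ω),
      s ≫ Spec.map (CommRingCat.ofHom (algebraMap K Ω)) = Spec.map (CommRingCat.ofHom (algebraMap K Ω)) ∧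
      s ≫ a = a' := by
  obtain ⟨p, φ, hp, hφ⟩ := exists_specMap_eq a
  obtain ⟨p', φ', hp', hφ'⟩ := exists_specMap_eq a'
  obtain rfl : p = p' := hp.symm.trans (h.trans hp')
  let r := Spec.preimage (X.fromSpecResidueField p ≫ f)
  have hr : ∀ (ψ : X.residueField p ⟶ CommRingCat.of Ω) (b : Spec (CommRingCat.of Ω) ⟶ X),
      Spec.map ψ ≫ X.fromSpecResidueField p = b → b ≫ f = Spec.map (CommRingCat.ofHom (algebraMap K Ω)) →
      r ≫ ψ = CommRingCat.ofHom (algebraMap K Ω) := fun ψ b hb hbf => Spec.map_injective (by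
    rw [Spec.map_comp, Spec.map_preimage, ← Category.assoc, hb, hbf])
  have h1 := hr φ a hφ ha
  have h2 := hr φ' a' hφ' ha'
  haveI : IsAlgClosed Ω := IsAlgClosure.isAlgClosed K
  letI : Algebra K (X.residueField p) := r.hom.toAlgebra
  letI alg1 : Algebra (X.residueField p) Ω := φ.hom.toAlgebra
  have halg : Algebra.IsAlgebraic (X.residueField p) Ω := by
    haveI : IsScalarTower K (X.residueField p) Ω :=
      IsScalarTower.of_algebraMap_eq fun k => (DFunLike.congr_fun (congrArg CommRingCat.Hom.hom h1) k).symm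
    haveI : Algebra.IsAlgebraic K Ω := IsAlgClosure.isAlgebraic
    exact Algebra.IsAlgebraic.tower_top (K := K) _
  have hex : ∃ e : Ω →+* Ω, e.comp φ.hom = φ'.hom := by
    letI alg2 : Algebra (X.residueField p) (Copy Ω) := (φ'.hom : X.residueField p →+* Copy Ω).toAlgebra
    haveI := halg
    let e : Ω →ₐ[X.residueField p] Copy Ω := IsAlgClosed.lift
    exact ⟨e.toRingHom, RingHom.ext fun x => e.commutes x⟩
  obtain ⟨e, he⟩ := hex
  refine ⟨Spec.map (CommRingCat.ofHom e), ?_, ?_⟩
  · rw [← Spec.map_comp]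
    congr 1
    ext k
    have e1 := DFunLike.congr_fun (congrArg CommRingCat.Hom.hom h1) k
    have e2 := DFunLike.congr_fun (congrArg CommRingCat.Hom.hom h2) k
    simp only [CommRingCat.comp_apply, CommRingCat.hom_comp, RingHom.comp_apply, CommRingCat.hom_ofHom] at e1 e2 ⊢
    exact (congrArg e e1.symm).trans ((DFunLike.congr_fun he (r.hom k)).trans e2)
  · rw [← hφ, ← Category.assoc, ← Spec.map_comp, ← hφ']
    congr 2
    ext1
    exact he

end GrothLib.Poincare
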