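import Groth.Agent.Lib.Poincare.Closed
import Groth.Agent.Lib.Poincare.GalPts
import Groth.Agent.Lib.DegPoly.BaseChange
import Groth.Agent.Lib.DegPoly.Valuation
import Groth.Agent.Lib.AntiAffine.ClosedSubgrp
import Groth.Agent.Lib.SepPts.Basic
import Groth.Agent.Lib.FBase7.Reduced
import Groth.Agent.Lib.Ample.RelAmple

/-!
# Complementary abelian subvarieties over any field

The orthogonal of `B` over an algebraic closure contains a big abelian subvariety `C₀`. Its `l`-power torsion is
stable under endomorphisms of the algebraic closure, so the closure of the image of that torsion in `A` descends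
`C₀`, and it is geometrically reduced as torsion points are separable.
-/

universe u

open CategoryTheory CategoryTheory.Limits Opposite TopologicalSpace AlgebraicGeometry
open MonoidalCategory CartesianMonoidalCategory MonObj
open GrothLib.Ample GrothLib.Cube
open GrothLib.DegPoly (ptsEquiv sec bcMap bcMap_left_fst isPullback_bcMap isFinite_bcMap_iff)
open scoped CategoryTheory.Obj

set_option backward.isDefEq.respectTransparency false

noncomputable section

namespace GrothLib.Poincare

section Bridge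

variable {K : Type u} [Field K] {Ω : Type u} [Field Ω] (σ : Spec (CommRingCat.of Ω) ⟶ Spec (CommRingCat.of K))
  {A B : Over (Spec (CommRingCat.of K))}

/-- The point of the base change above a geometric point. -/
def pts [GrpObj A] (a : Over.mk σ ⟶ A) : 𝟙_ (Over (Spec (CommRingCat.of Ω))) ⟶ DegPoly.bc σ A := ptsEquiv σ a

theorem pts_mul [GrpObj A] (a a' : Over.mk σ ⟶ A) : pts σ (a * a') = pts σ a * pts σ a' := map_mul (ptsEquiv σ (A := A)) a a'

theorem pts_one [GrpObj A] : pts σ (1 : Over.mk σ ⟶ A) = 1 := map_one (ptsEquiv σ (A := A))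

theorem pts_pow [GrpObj A] (a : Over.mk σ ⟶ A) (n : ℕ) : pts σ (a ^ n) = pts σ a ^ n := map_pow (ptsEquiv σ (A := A)) a n

theorem pts_injective [GrpObj A] : Function.Injective (pts σ : (Over.mk σ ⟶ A) → _) := (ptsEquiv σ (A := A)).injective

theorem pts_surjective [GrpObj A] : Function.Surjective (pts σ : (Over.mk σ ⟶ A) → _) := (ptsEquiv σ (A := A)).surjective

theorem pts_left_fst [GrpObj A] (a : Over.mk σ ⟶ A) : (pts σ a).left ≫ pullback.fst A.hom σ = a.left :=
  congrArg CommaMorphism.left ((ptsEquiv σ (A := A)).symm_apply_apply a)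

theorem apply_ptOf_pts [GrpObj A] (a : Over.mk σ ⟶ A) :
    pullback.fst A.hom σ (ptOf (pts σ a)) = a.left (IsLocalRing.closedPoint Ω) := by
  rw [← pts_left_fst σ a]; rfl

/-- The base change of `B` inside that of `B × Spec Ω`. -/
def diagPt (B : Over (Spec (CommRingCat.of K))) : DegPoly.bc σ B ⟶ DegPoly.bc σ (B ⊗ Over.mk σ) :=
  Over.homMk (pullback.lift (𝟙 (pullback B.hom σ)) (pullback.snd B.hom σ) (by
    show (𝟙 _) ≫ pullback.fst B.hom σ ≫ B.hom = _
    rw [Category.id_comp, pullback.condition])) (pullback.lift_snd _ _ _)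

theorem bcMap_comp {X Y Z : Over (Spec (CommRingCat.of K))} (f : X ⟶ Y) (g : Y ⟶ Z) :
    bcMap σ (f ≫ g) = bcMap σ f ≫ bcMap σ g := (Over.pullback σ).map_comp f g

theorem diagPt_fst : diagPt σ B ≫ bcMap σ (fst B (Over.mk σ)) = 𝟙 _ := by
  refine Over.OverMorphism.ext (pullback.hom_ext ?_ ?_)
  · show ((diagPt σ B).left ≫ (bcMap σ (fst B (Over.mk σ))).left) ≫ pullback.fst B.hom σ = _
    rw [Category.assoc, bcMap_left_fst, ← Category.assoc]
    show (pullback.lift _ _ _ ≫ pullback.fst _ _) ≫ pullback.fst B.hom σ = _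
    rw [pullback.lift_fst]
    rfl
  · exact (Over.w (diagPt σ B ≫ bcMap σ (fst B (Over.mk σ)))).trans (Over.w (𝟙 (DegPoly.bc σ B))).symm

theorem diagPt_snd : diagPt σ B ≫ bcMap σ (snd B (Over.mk σ)) = toUnit (DegPoly.bc σ B) ≫ sec σ := by
  refine Over.OverMorphism.ext (pullback.hom_ext ?_ ?_)
  · show ((diagPt σ B).left ≫ (bcMap σ (snd B (Over.mk σ))).left) ≫ pullback.fst (Over.mk σ).hom σ = _
    rw [Category.assoc, bcMap_left_fst, ← Category.assoc]
    show (pullback.lift _ _ _ ≫ pullback.fst _ _) ≫ pullback.snd B.hom σ =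
      (pullback.snd B.hom σ ≫ pullback.lift _ _ _) ≫ pullback.fst σ σ
    rw [pullback.lift_fst, Category.assoc, pullback.lift_fst]
    exact (Category.id_comp _).trans (Category.comp_id _).symm
  · exact (Over.w (diagPt σ B ≫ bcMap σ (snd B (Over.mk σ)))).trans
      (Over.w (toUnit (DegPoly.bc σ B) ≫ sec σ)).symm

variable [GrpObj A] [IsProper A.hom] [GeometricallyIntegral A.hom] [IsProper (DegPoly.bc σ A).hom]
  [GeometricallyIntegral (DegPoly.bc σ A).hom]

omit [IsProper A.hom] [GeometricallyIntegral A.hom] in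
/-- The orthogonal read off over the base field. -/
theorem mem_orth_bc_iff (i : B ⟶ A) (x : Pic A.left) (a : Over.mk σ ⟶ A) :
    pts σ a ∈ orth (bcMap σ i) (pull (pullback.fst A.hom σ) x) ↔
      pull ((fst B (Over.mk σ) ≫ i) * (snd B (Over.mk σ) ≫ a)).left x = pull (fst B (Over.mk σ) ≫ i).left x := by
  rw [mem_orth]
  have e : bcMap σ i * (toUnit (DegPoly.bc σ B) ≫ pts σ a) =
      diagPt σ B ≫ bcMap σ ((fst B (Over.mk σ) ≫ i) * (snd B (Over.mk σ) ≫ a)) := by
    rw [show bcMap σ ((fst B (Over.mk σ) ≫ i) * (snd B (Over.mk σ) ≫ a)) =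
        bcMap σ (fst B (Over.mk σ) ≫ i) * bcMap σ (snd B (Over.mk σ) ≫ a) from
          map_mul (Functor.homMonoidHom (Over.pullback σ)) _ _,
      MonObj.comp_mul, bcMap_comp, bcMap_comp, reassoc_of% diagPt_fst σ (B := B),
      reassoc_of% diagPt_snd σ (B := B)]
    rfl
  erw [e, pull_comp, pull_comp]
  have e2 : (diagPt σ B ≫ bcMap σ ((fst B (Over.mk σ) ≫ i) * (snd B (Over.mk σ) ≫ a))).left ≫ pullback.fst A.hom σ =
      ((fst B (Over.mk σ) ≫ i) * (snd B (Over.mk σ) ≫ a)).left := by
    rw [Over.comp_left, Category.assoc, bcMap_left_fst, ← Category.assoc]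
    show (pullback.lift _ _ _ ≫ pullback.fst _ _) ≫ _ = _
    rw [pullback.lift_fst]
    exact Category.id_comp _
  rw [e2, bcMap_left_fst]
  rfl

omit [IsProper A.hom] [GeometricallyIntegral A.hom] in
/-- The orthogonal is stable under endomorphisms of the geometric base. -/
theorem mem_orth_bc_of_endo (i : B ⟶ A) (x : Pic A.left) (s : Over.mk σ ⟶ Over.mk σ) (a : Over.mk σ ⟶ A)
    (h : pts σ a ∈ orth (bcMap σ i) (pull (pullback.fst A.hom σ) x)) :
    pts σ (s ≫ a) ∈ orth (bcMap σ i) (pull (pullback.fst A.hom σ) x) := by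
  rw [mem_orth_bc_iff] at h ⊢
  have e1 : (B ◁ s) ≫ ((fst B (Over.mk σ) ≫ i) * (snd B (Over.mk σ) ≫ a)) =
      (fst B (Over.mk σ) ≫ i) * (snd B (Over.mk σ) ≫ s ≫ a) := by
    simp only [MonObj.comp_mul, whiskerLeft_fst_assoc, whiskerLeft_snd_assoc]
  have e2 : (B ◁ s) ≫ fst B (Over.mk σ) ≫ i = fst B (Over.mk σ) ≫ i := whiskerLeft_fst_assoc _ _ _
  rw [← e1, ← pull_pull_over, h, pull_pull_over, e2]

end Bridge

theorem surjective_of_field' {K : Type u} [Field K] {Ω : Type u} [Field Ω]
    (σ : Spec (CommRingCat.of Ω) ⟶ Spec (CommRingCat.of K)) : Surjective σ := AbTors.surjective_of_field σ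

section Group

/-- Elements whose power is trivial lie in a subgroup after raising to a bound for the index. -/
theorem pow_mem_of_index_le {G : Type*} [CommGroup G] {H : Subgroup G} {g : G} {p N m : ℕ} (hp : p.Prime)
    (hg : g ^ (p ^ N) = 1) (h0 : H.index ≠ 0) (hle : H.index < p ^ m) : g ^ (p ^ m) ∈ H := by
  have h1 : g ^ H.index ∈ H := Subgroup.pow_index_mem H g
  have h2 : orderOf (g : G ⧸ H) ∣ Nat.gcd H.index (p ^ N) := by
    refine Nat.dvd_gcd (orderOf_dvd_of_pow_eq_one ?_) (orderOf_dvd_of_pow_eq_one ?_)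
    · rw [← QuotientGroup.mk_pow]; exact (QuotientGroup.eq_one_iff _).2 h1
    · rw [← QuotientGroup.mk_pow, hg]; rfl
  obtain ⟨t, -, ht⟩ := (Nat.dvd_prime_pow hp).1 (Nat.gcd_dvd_right H.index (p ^ N))
  have htm : t ≤ m := by
    have : p ^ t < p ^ m := by
      rw [← ht]
      exact lt_of_le_of_lt (Nat.le_of_dvd (Nat.pos_of_ne_zero h0) (Nat.gcd_dvd_left _ _)) hle
    exact ((Nat.pow_lt_pow_iff_right hp.one_lt).1 this).le
  rw [← QuotientGroup.eq_one_iff, QuotientGroup.mk_pow]
  exact orderOf_dvd_iff_pow_eq_one.1 (h2.trans (ht ▸ pow_dvd_pow p htm))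

end Group

variable {K : Type u} [Field K]

set_option maxHeartbeats 1000000 in
/-- An abelian subvariety over the algebraic closure which carries all but boundedly many torsion points of a group
of points stable under the endomorphisms of the closure is defined over the base field. -/
theorem exists_descend (A : Over (Spec (CommRingCat.of K)))
    [GrpObj A] [IsProper A.hom] [GeometricallyIntegral A.hom] [IsCommMonObj A]
    {Ω : Type u} [Field Ω] [Algebra K Ω] [IsAlgClosure K Ω] [IsAlgClosed Ω]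
    (σ : Spec (CommRingCat.of Ω) ⟶ Spec (CommRingCat.of K)) (hσ : σ = Spec.map (CommRingCat.ofHom (algebraMap K Ω)))
    [IsProper (DegPoly.bc σ A).hom] [GeometricallyIntegral (DegPoly.bc σ A).hom] [IsCommMonObj (DegPoly.bc σ A)]
    (H : Subgroup (𝟙_ (Over (Spec (CommRingCat.of Ω))) ⟶ DegPoly.bc σ A))
    (hH : ∀ (s : Over.mk σ ⟶ Over.mk σ) (a : Over.mk σ ⟶ A), pts σ a ∈ H → pts σ (s ≫ a) ∈ H)
    (C₀ : Over (Spec (CommRingCat.of Ω))) [GrpObj C₀] [IsProper C₀.hom] [GeometricallyIntegral C₀.hom]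
    (j₀ : C₀ ⟶ DegPoly.bc σ A) [IsMonHom j₀] [IsClosedImmersion j₀.left] (c R : ℕ)
    (hc : topologicalKrullDim C₀.left = (c : WithBot ℕ∞))
    (hC₀ : ∀ p : 𝟙_ (Over (Spec (CommRingCat.of Ω))) ⟶ C₀, p ≫ j₀ ∈ H)
    (hR : ∀ n : ℕ, (n : Ω) ≠ 0 → {a | a ^ n = 1 ∧ a ∈ H}.ncard ≤ R * n ^ (2 * c)) :
    ∃ (C : Over (Spec (CommRingCat.of K))) (_ : GrpObj C) (j : C ⟶ A), IsProper C.hom ∧ GeometricallyIntegral C.hom ∧
      IsMonHom j ∧ IsClosedImmersion j.left ∧ Set.range (bcMap σ j).left = Set.range j₀.left ∧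
      ∀ p : 𝟙_ (Over (Spec (CommRingCat.of Ω))) ⟶ DegPoly.bc σ C, p ≫ bcMap σ j ∈ H := by
  classical
  haveI := isCommMonObj_abVar (A := C₀)
  haveI : Mono j₀ := by
    haveI : Mono ((Over.forget _).map j₀) := inferInstanceAs (Mono j₀.left)
    exact (Over.forget _).mono_of_mono_map this
  haveI : IsAlgClosed Ω := inferInstance
  obtain ⟨g, hg⟩ := AbTors.exists_dim (DegPoly.bc σ A)
  let J₀ : (𝟙_ (Over (Spec (CommRingCat.of Ω))) ⟶ C₀) →* (𝟙_ (Over (Spec (CommRingCat.of Ω))) ⟶ DegPoly.bc σ A) :=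
    { toFun := fun p => p ≫ j₀, map_one' := MonObj.one_comp j₀, map_mul' := fun p q => MonObj.mul_comp p q j₀ }
  set P0 := J₀.range
  have hmemP0 : ∀ q, q ∈ P0 ↔ ptOf q ∈ Set.range j₀.left := by
    intro q
    constructor
    · rintro ⟨p, rfl⟩
      exact ⟨ptOf p, apply_ptOf j₀ p⟩
    · rintro ⟨z, hz⟩
      have hzc : IsClosed ({z} : Set C₀.left) := by
        have : z ∈ closedPoints C₀.left := by
          rw [← j₀.left.isClosedEmbedding.preimage_closedPoints]
          show j₀.left z ∈ closedPoints _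
          rw [hz]
          exact ((pointEquivClosedPoint (DegPoly.bc σ A).hom) ⟨q.left, Over.w _⟩).2
        exact this
      obtain ⟨p, hp, -⟩ := exists_point_factor z hzc
      exact ⟨p, eq_of_ptOf_eq (by show ptOf (p ≫ j₀) = ptOf q; rw [← apply_ptOf, show ptOf p = z from hp, hz])⟩
  obtain ⟨l, hl, hlK⟩ := HomFG.exists_prime_ne_zero K
  have hlN : ∀ N : ℕ, ((l ^ N : ℕ) : Ω) ≠ 0 := fun N h => pow_ne_zero N hlK
    ((algebraMap K Ω).injective (by rw [map_zero, ← h]; push_cast; simp))
  obtain ⟨m, hm⟩ : ∃ m, R < l ^ m := ⟨_, Nat.lt_pow_self hl.one_lt⟩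
  -- stability of the torsion of `C₀`
  have hstab : ∀ (s : Over.mk σ ⟶ Over.mk σ) (a : Over.mk σ ⟶ A) (N : ℕ), a ^ (l ^ N) = 1 → pts σ a ∈ P0 →
      pts σ (s ≫ a) ∈ P0 := by
    rintro s a N haN ⟨p, hp⟩
    obtain ⟨p', hp'⟩ := AbTors.exists_pow_eq C₀ (σ := 𝟙 (Spec (CommRingCat.of Ω))) (hlN m) p
    obtain ⟨a', ha'⟩ := pts_surjective σ (J₀ p')
    have ea : a = a' ^ (l ^ m) := pts_injective σ (by rw [pts_pow, ha', ← map_pow]; exact (hp.symm.trans (congrArg J₀ hp'.symm)))
    have hNm : pts σ (s ≫ a') ^ (l ^ (m + N)) = 1 := by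
      rw [← pts_pow, ← MonObj.comp_pow, pow_add, pow_mul, ← ea, haN, MonObj.comp_one, pts_one]
    set n := l ^ (m + N) with hn
    let G : Subgroup (𝟙_ (Over (Spec (CommRingCat.of Ω))) ⟶ DegPoly.bc σ A) :=
      AbDual.torsPts (DegPoly.bc σ A) n (𝟙_ _) ⊓ H
    have hGcard : Nat.card G ≤ R * n ^ (2 * c) := by
      refine le_trans (le_of_eq ?_) (hR n (hlN _))
      rw [← Nat.card_coe_set_eq]
      exact Nat.card_congr
        { toFun := fun q => ⟨q.1, (AbDual.mem_torsPts (DegPoly.bc σ A) q.1).1 q.2.1, q.2.2⟩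
          invFun := fun q => ⟨q.1, (AbDual.mem_torsPts (DegPoly.bc σ A) q.1).2 q.2.1, q.2.2⟩
          left_inv := fun q => rfl
          right_inv := fun q => rfl }
    haveI : Finite G := by
      haveI : Finite (AbDual.torsPts (DegPoly.bc σ A) n (𝟙_ (Over (Spec (CommRingCat.of Ω))))) :=
        Nat.finite_of_card_ne_zero ((AbTors.card_torsPts (DegPoly.bc σ A) hg (hlN _) (𝟙 _)).trans_ne
          (pow_ne_zero _ (pow_ne_zero _ hl.ne_zero)))
      exact Finite.of_injective (fun q : G => (⟨q.1, q.2.1⟩ : AbDual.torsPts (DegPoly.bc σ A) n (𝟙_ _)))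
        fun q q' h => Subtype.ext (congrArg (fun z => z.1) h)
    set Q : Subgroup G := P0.subgroupOf G
    have hQ : n ^ (2 * c) ≤ Nat.card Q := by
      rw [← show Nat.card (AbDual.torsPts C₀ n (𝟙_ (Over (Spec (CommRingCat.of Ω))))) = n ^ (2 * c) from
        AbTors.card_torsPts C₀ hc (hlN _) (𝟙 _)]
      refine Nat.card_le_card_of_injective (fun q => ⟨⟨J₀ q.1, ?_, hC₀ q.1⟩, ⟨q.1, rfl⟩⟩) fun q q' h => ?_
      · refine (AbDual.mem_torsPts (DegPoly.bc σ A) (J₀ q.1)).2 ?_
        rw [← map_pow, (AbDual.mem_torsPts C₀ q.1).1 q.2, map_one]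
      · exact Subtype.ext ((cancel_mono j₀).1 (congrArg (fun z => z.1.1) h))
    have hidx : Q.index ≤ R := by
      have hpos : 0 < n ^ (2 * c) := Nat.pow_pos (Nat.pow_pos hl.pos)
      refine Nat.le_of_mul_le_mul_right (?_ : Q.index * n ^ (2 * c) ≤ R * n ^ (2 * c)) hpos
      calc Q.index * n ^ (2 * c) ≤ Q.index * Nat.card Q := Nat.mul_le_mul_left _ hQ
        _ = Nat.card G := Q.index_mul_card
        _ ≤ _ := hGcard
    have hg' : pts σ (s ≫ a') ∈ G := ⟨(AbDual.mem_torsPts (DegPoly.bc σ A) _).2 hNm, by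
      exact hH s a' (ha' ▸ hC₀ p')⟩
    have := pow_mem_of_index_le (H := Q) (g := ⟨_, hg'⟩) (N := m + N) hl (Subtype.ext (by simpa using hNm))
      Subgroup.index_ne_zero_of_finite (lt_of_le_of_lt hidx hm)
    rw [Subgroup.mem_subgroupOf] at this
    rw [ea, MonObj.comp_pow, pts_pow]
    exact this
  -- the descended subvariety
  let D : Set A.left := (fun a : Over.mk σ ⟶ A => a.left (IsLocalRing.closedPoint Ω)) ''
    {a | (∃ N : ℕ, a ^ (l ^ N) = 1) ∧ pts σ a ∈ P0}
  let π := pullback.fst A.hom σ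
  let I := Scheme.IdealSheafData.vanishingIdeal (⟨closure D, isClosed_closure⟩ : Closeds A.left)
  have hr : Set.range I.subschemeι = closure D := RedSub.range_subschemeι_vanishingIdeal _
  haveI : IsReduced I.subscheme := RedSub.isReduced_subscheme_vanishingIdeal _
  let C : Over (Spec (CommRingCat.of K)) := Over.mk (I.subschemeι ≫ A.hom)
  let j : C ⟶ A := Over.homMk I.subschemeι rfl
  haveI : IsClosedImmersion j.left := inferInstanceAs (IsClosedImmersion I.subschemeι)
  haveI : IsProper C.hom := inferInstanceAs (IsProper (I.subschemeι ≫ A.hom))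
  haveI : IsReduced C.left := ‹IsReduced I.subscheme›
  haveI : Mono j := by
    haveI : Mono ((Over.forget _).map j) := inferInstanceAs (Mono j.left)
    exact (Over.forget _).mono_of_mono_map this
  haveI : UniversallyOpen σ := inferInstance
  have hpre : π ⁻¹' closure D = Set.range j₀.left := by
    refine Set.Subset.antisymm ?_ ?_
    · refine Set.Subset.trans (IsOpenMap.preimage_closure_subset_closure_preimage π.isOpenMap)
        (closure_minimal ?_ j₀.left.isClosedEmbedding.isClosed_range)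
      rintro y ⟨a, ⟨⟨N, haN⟩, haP⟩, hay⟩
      have hy : IsClosed ({y} : Set (DegPoly.bc σ A).left) := by
        obtain ⟨hf, -, -⟩ := AbMul.isFinite_etale_surjective_pow A ((l ^ N : ℕ) : ℤ)
          (by exact_mod_cast pow_ne_zero N hlK)
        rw [zpow_natCast] at hf
        haveI : IsFinite (bcMap σ ((𝟙 A : A ⟶ A) ^ (l ^ N))).left :=
          MorphismProperty.of_isPullback (isPullback_bcMap σ _) hf
        set q' := (bcMap σ ((𝟙 A : A ⟶ A) ^ (l ^ N))).left
        -- the fibre over the origin is one point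
        let e : A.left := η[A].left (IsLocalRing.closedPoint K)
        haveI : Subsingleton ↥(DegPoly.bc σ (𝟙_ (Over (Spec (CommRingCat.of K))))).left :=
          ⟨fun u v => (pullback.snd (𝟙 (Spec (CommRingCat.of K))) σ).isOpenEmbedding.injective
            (Subsingleton.elim (α := ↥(Spec (CommRingCat.of Ω))) _ _)⟩
        have he' : (π ⁻¹' {e}).Subsingleton := by
          have hmem : ∀ z, π z = e → z ∈ Set.range (bcMap σ η[A]).left := fun z hz => by
            obtain ⟨w, -, hw⟩ := Scheme.exists_preimage_of_isPullback (isPullback_bcMap σ η[A])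
              (IsLocalRing.closedPoint K) z hz.symm
            exact ⟨w, hw⟩
          intro z hz z' hz'
          obtain ⟨w, rfl⟩ := hmem z hz
          obtain ⟨w', rfl⟩ := hmem z' hz'
          rw [Subsingleton.elim w w']
        have hyq : q' y ∈ π ⁻¹' {e} := by
          show π (q' y) = e
          refine (congrArg (fun f : _ ⟶ A.left => f y) (bcMap_left_fst σ ((𝟙 A : A ⟶ A) ^ (l ^ N)))).trans ?_
          show ((𝟙 A : A ⟶ A) ^ (l ^ N)).left (π y) = e
          rw [show π y = a.left (IsLocalRing.closedPoint Ω) from hay.symm,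
            ← Scheme.Hom.comp_apply, ← Over.comp_left, AbTors.pow_comp_eq, haN, Hom.one_def, Over.comp_left,
            Scheme.Hom.comp_apply]
          exact congrArg η[A].left (Subsingleton.elim (α := ↥(Spec (CommRingCat.of K))) _ _)
        set F := q' ⁻¹' (π ⁻¹' {e})
        have hFc : IsClosed F := ((Rigidity.isClosed_point η[A]).preimage π.continuous).preimage q'.continuous
        haveI : DiscreteTopology F := by
          have : π ⁻¹' {e} = {q' y} := he'.eq_singleton_of_mem hyq
          show DiscreteTopology ↥(q' ⁻¹' (π ⁻¹' {e}))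
          rw [this]
          exact (q'.isDiscrete_preimage_singleton _).to_subtype
        have := hFc.isClosedEmbedding_subtypeVal.isClosedMap {(⟨y, hyq⟩ : F)} (isClosed_discrete _)
        rwa [Set.image_singleton] at this
      obtain ⟨q', hq', -⟩ := exists_point_factor (T := DegPoly.bc σ A) y hy
      obtain ⟨a', rfl⟩ := pts_surjective σ q'
      have hy' : ptOf (pts σ a') = y := hq'
      have hsame : a.left (IsLocalRing.closedPoint Ω) = a'.left (IsLocalRing.closedPoint Ω) := by
        rw [← apply_ptOf_pts σ a', hy']; exact hay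
      obtain ⟨s, hs, hsa⟩ := exists_endo_comp_eq A.hom a.left a'.left ((Over.w a).trans hσ) ((Over.w a').trans hσ) hsame
      rw [← hy', ← hmemP0]
      have e : (Over.homMk s (show s ≫ σ = σ by rw [hσ]; exact hs) : Over.mk σ ⟶ Over.mk σ) ≫ a = a' := Over.OverMorphism.ext hsa
      rw [← e]
      exact hstab _ a N haN haP
    · rintro _ ⟨z, rfl⟩
      refine closure_minimal (s := ptOf '' AbTors.primePowTors C₀ l) (t := (π ∘ j₀.left) ⁻¹' closure D) ?_
        (isClosed_closure.preimage (π.continuous.comp j₀.left.continuous))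
        ((AbTors.dense_primePowTors C₀ hl.one_lt (by simpa using hlN 1)) z)
      rintro _ ⟨p, ⟨N, hpN⟩, rfl⟩
      obtain ⟨a, ha⟩ := pts_surjective σ (J₀ p)
      refine subset_closure ⟨a, ⟨⟨N, pts_injective σ ?_⟩, ⟨p, ha.symm⟩⟩, ?_⟩
      · rw [pts_pow, ha, ← map_pow, hpN, map_one, pts_one]
      · show a.left (IsLocalRing.closedPoint Ω) = π (j₀.left (ptOf p))
        rw [← apply_ptOf_pts σ a, ha]
        exact congrArg π (apply_ptOf j₀ p).symm
  -- separable points are dense
  have hsepA : ∀ (N : ℕ) (a : Over.mk σ ⟶ A), a ^ (l ^ N) = 1 →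
      SepPts.IsSepPt A.hom (a.left (IsLocalRing.closedPoint Ω)) := by
    intro N a haN
    obtain ⟨hf, het, -⟩ := AbMul.isFinite_etale_surjective_pow A ((l ^ N : ℕ) : ℤ)
      (by exact_mod_cast pow_ne_zero N hlK)
    rw [zpow_natCast] at hf het
    set q := (𝟙 A : A ⟶ A) ^ (l ^ N) with hq
    haveI : Etale (pullback.snd q.left η[A].left) := inferInstance
    haveI : IsFinite (pullback.snd q.left η[A].left) := inferInstance
    haveI : GeometricallyReduced (pullback.snd q.left η[A].left) :=
      Rigidity.geometricallyReduced_of_smooth (pullback.snd q.left η[A].left)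
    obtain ⟨z, hz, -⟩ := Scheme.Pullback.exists_preimage_pullback (f := q.left) (g := η[A].left)
      (a.left (IsLocalRing.closedPoint Ω)) (IsLocalRing.closedPoint K) (by
        rw [← Scheme.Hom.comp_apply, ← Over.comp_left, hq, AbTors.pow_comp_eq, haN, Hom.one_def, Over.comp_left,
          Scheme.Hom.comp_apply]
        exact congrArg η[A].left (Subsingleton.elim (α := ↥(Spec (CommRingCat.of K))) _ _))
    haveI : DiscreteTopology ↥(pullback q.left η[A].left) := by
      have hd : DiscreteTopology ↥((pullback.snd q.left η[A].left) ⁻¹' {IsLocalRing.closedPoint K}) :=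
        ((pullback.snd q.left η[A].left).isDiscrete_preimage_singleton _).to_subtype
      have huniv : (pullback.snd q.left η[A].left) ⁻¹' {IsLocalRing.closedPoint K} = Set.univ :=
        Set.eq_univ_of_forall fun b => Subsingleton.elim (α := ↥(Spec (CommRingCat.of K))) _ _
      rw [huniv] at hd
      exact (Homeomorph.Set.univ _).discreteTopology
    obtain ⟨k', _, _, hk', x, hx', hzx⟩ :=
      (SepPts.isSepPt_of_maximal (pullback.snd q.left η[A].left) (fun w hw => specializes_iff_eq.1 hw) :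
        SepPts.IsSepPt (pullback.snd q.left η[A].left) z)
    refine ⟨k', inferInstance, inferInstance, hk', x ≫ pullback.fst q.left η[A].left, ?_, ?_⟩
    · have e : pullback.fst q.left η[A].left ≫ A.hom = pullback.snd q.left η[A].left := by
        rw [← Over.w q, pullback.condition_assoc, Over.w η[A]]
        exact Category.comp_id _
      rw [Category.assoc, e, hx']
    · obtain ⟨t, ht⟩ := hzx
      exact ⟨t, by rw [Scheme.Hom.comp_apply, ht, hz]⟩
  let T : Set C.left := j.left ⁻¹' D
  have hTd : Dense T := by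
    intro z
    rw [j.left.isEmbedding.isInducing.closure_eq_preimage_closure_image]
    show j.left z ∈ closure (j.left '' (j.left ⁻¹' D))
    rw [Set.image_preimage_eq_inter_range, show Set.range j.left = closure D from hr,
      Set.inter_eq_left.2 subset_closure]
    exact hr.le ⟨z, rfl⟩
  haveI : GeometricallyReduced C.hom := by
    refine SepPts.geometricallyReduced_of_dense C.hom hTd fun ζ hζ => ?_
    obtain ⟨a, ⟨⟨N, haN⟩, -⟩, hζa⟩ := hζ
    obtain ⟨k', _, _, hk', x, hx', hzx⟩ := hsepA N a haN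
    have hzx' : j.left ζ ∈ Set.range x := hζa ▸ hzx
    obtain ⟨y, hy⟩ := RedSub.exists_lift x j.left (by
      rintro _ ⟨t, rfl⟩
      obtain ⟨t', ht'⟩ := hzx'
      rw [Subsingleton.elim (α := ↥(Spec (CommRingCat.of k'))) t t', ht']
      exact ⟨ζ, rfl⟩)
    refine ⟨k', inferInstance, inferInstance, hk', y, ?_, ?_⟩
    · rw [show C.hom = j.left ≫ A.hom from (Over.w j).symm, reassoc_of% hy, hx']
    · obtain ⟨t', ht'⟩ := hzx'
      refine ⟨t', j.left.isClosedEmbedding.injective ?_⟩
      rw [← Scheme.Hom.comp_apply, hy, ht']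
  -- the base change of `C` has the same points as `C₀`
  haveI : IsClosedImmersion (bcMap σ j).left :=
    MorphismProperty.of_isPullback (isPullback_bcMap σ j) ‹IsClosedImmersion j.left›
  have hrC : Set.range (bcMap σ j).left = Set.range j₀.left := by
    rw [← hpre, ← hr]
    ext z
    constructor
    · rintro ⟨w, rfl⟩
      refine ⟨pullback.fst C.hom σ w, ?_⟩
      show j.left _ = π _
      rw [← Scheme.Hom.comp_apply, ← bcMap_left_fst, Scheme.Hom.comp_apply]
      rfl
    · rintro ⟨w, hw⟩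
      obtain ⟨u, -, hu⟩ := Scheme.exists_preimage_of_isPullback (isPullback_bcMap σ j) w z hw
      exact ⟨u, hu⟩
  haveI : IsIntegral C₀.left := GeometricallyIntegral.isIntegral_of_subsingleton C₀.hom
  have hIrr : IsIrreducible (closure D) := by
    have : closure D = π '' Set.range j₀.left := by
      rw [← hpre, Set.image_preimage_eq]
      exact (MorphismProperty.pullback_fst _ _ (surjective_of_field' σ) : Surjective π).surj
    rw [this, ← Set.range_comp, ← Set.image_univ]
    exact (IrreducibleSpace.isIrreducible_univ _).image _ (π.continuous.comp j₀.left.continuous).continuousOn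
  haveI : IrreducibleSpace C.left := by
    have h0 : Set.range j.left = closure D := hr
    refine (irreducibleSpace_def _).mpr ⟨?_, ?_⟩
    · obtain ⟨_, hp⟩ := hIrr.nonempty
      obtain ⟨x, -⟩ := h0.ge hp
      exact ⟨x, trivial⟩
    · rintro U₁ U₂ hU₁ hU₂ ⟨x₁, -, hx₁⟩ ⟨x₂, -, hx₂⟩
      obtain ⟨W₁, hW₁, rfl⟩ := j.left.isClosedEmbedding.isInducing.isOpen_iff.mp hU₁
      obtain ⟨W₂, hW₂, rfl⟩ := j.left.isClosedEmbedding.isInducing.isOpen_iff.mp hU₂
      obtain ⟨q, hq, h1, h2⟩ := hIrr.isPreirreducible W₁ W₂ hW₁ hW₂ ⟨_, h0.le ⟨x₁, rfl⟩, hx₁⟩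
        ⟨_, h0.le ⟨x₂, rfl⟩, hx₂⟩
      obtain ⟨x, rfl⟩ := h0.ge hq
      exact ⟨x, trivial, h1, h2⟩
  haveI : IsProper (DegPoly.bc σ C).hom := inferInstanceAs (IsProper (pullback.snd C.hom σ))
  have hpt : ∀ p : 𝟙_ (Over (Spec (CommRingCat.of Ω))) ⟶ DegPoly.bc σ C, p ≫ bcMap σ j ∈ P0 := fun p => by
    rw [hmemP0, ← apply_ptOf, ← hrC]
    exact ⟨_, rfl⟩
  -- group laws
  have hlift : ∀ {W : Over (Spec (CommRingCat.of K))} [IsReduced W.left] (f : W ⟶ A)
      [LocallyOfFiniteType W.hom], (∀ P : 𝟙_ _ ⟶ DegPoly.bc σ W, P ≫ bcMap σ f ∈ P0) → ∃ d : W ⟶ C, d ≫ j = f := by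
    intro W _ f _ hP
    obtain ⟨d, hd⟩ := RedSub.exists_lift f.left j.left (by
      rintro _ ⟨w, rfl⟩
      haveI : LocallyOfFiniteType (DegPoly.bc σ W).hom := inferInstanceAs (LocallyOfFiniteType (pullback.snd W.hom σ))
      obtain ⟨w', rfl⟩ := (MorphismProperty.pullback_fst _ _ (surjective_of_field' σ) :
        Surjective (pullback.fst W.hom σ)).surj w
      show f.left _ ∈ Set.range j.left
      rw [show Set.range j.left = closure D from hr, ← Scheme.Hom.comp_apply, ← bcMap_left_fst,
        Scheme.Hom.comp_apply]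
      show (bcMap σ f).left w' ∈ π ⁻¹' closure D
      rw [hpre]
      refine closure_minimal (t := (bcMap σ f).left ⁻¹' Set.range j₀.left) ?_
        (j₀.left.isClosedEmbedding.isClosed_range.preimage (bcMap σ f).left.continuous)
        ((dense_closedPoints (DegPoly.bc σ W)) w')
      intro v hv
      obtain ⟨P, hP', -⟩ := exists_point_factor v hv
      show (bcMap σ f).left v ∈ Set.range j₀.left
      rw [← show ptOf P = v from hP', apply_ptOf, ← hmemP0]
      exact hP P)
    exact ⟨Over.homMk d (by rw [show C.hom = j.left ≫ A.hom from (Over.w j).symm, reassoc_of% hd, Over.w f]),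
      Over.OverMorphism.ext hd⟩
  haveI : IsReduced (C ⊗ C).left := FBase7.isReduced_pullback_of_geometricallyReduced C.hom C.hom
  haveI : LocallyOfFiniteType (C ⊗ C).hom :=
    inferInstanceAs (LocallyOfFiniteType (pullback.fst C.hom C.hom ≫ C.hom))
  haveI : IsReduced (𝟙_ (Over (Spec (CommRingCat.of K)))).left := inferInstanceAs (IsReduced (Spec (CommRingCat.of K)))
  haveI : LocallyOfFiniteType (𝟙_ (Over (Spec (CommRingCat.of K)))).hom :=
    inferInstanceAs (LocallyOfFiniteType (𝟙 (Spec (CommRingCat.of K))))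
  obtain ⟨_, hjhom⟩ := AntiAffine.exists_grpObj_of_factor j
    (hlift η[A] fun P => by
      rw [show bcMap σ η[A] = bcMap σ (1 : 𝟙_ _ ⟶ A) by rw [MonObj.one_eq_one],
        show bcMap σ (1 : 𝟙_ _ ⟶ A) = 1 from map_one (Functor.homMonoidHom (Over.pullback σ)), MonObj.comp_one]
      exact one_mem P0)
    (hlift _ fun P => by
      rw [show bcMap σ ((fst C C ≫ j) * (snd C C ≫ j)) = bcMap σ (fst C C ≫ j) * bcMap σ (snd C C ≫ j) from
          map_mul (Functor.homMonoidHom (Over.pullback σ)) _ _, MonObj.comp_mul, bcMap_comp,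
        bcMap_comp, ← Category.assoc, ← Category.assoc]
      exact mul_mem (hpt _) (hpt _))
    (hlift _ fun P => by
      rw [show bcMap σ j⁻¹ = (bcMap σ j)⁻¹ from map_inv (Functor.homMonoidHom (Over.pullback σ)) _, GrpObj.comp_inv]
      exact inv_mem (hpt _))
  haveI : IsMonHom j := hjhom
  haveI : ConnectedSpace C.left := IrreducibleSpace.connectedSpace _
  haveI := Rigidity.geometricallyIntegral_of_connected C
  exact ⟨C, inferInstance, j, inferInstance, inferInstance, inferInstance, inferInstance, hrC, fun p => by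
    obtain ⟨p₀, hp₀⟩ := hpt p
    exact hp₀ ▸ hC₀ p₀⟩

set_option maxHeartbeats 1000000 in
/-- An abelian subvariety has a complement, over any field. -/
theorem exists_complement (A B : Over (Spec (CommRingCat.of K)))
    [GrpObj A] [IsProper A.hom] [GeometricallyIntegral A.hom]
    [GrpObj B] [IsProper B.hom] [GeometricallyIntegral B.hom]
    (i : B ⟶ A) [IsMonHom i] [IsClosedImmersion i.left] :
    ∃ (C : Over (Spec (CommRingCat.of K))) (_ : GrpObj C) (j : C ⟶ A), IsProper C.hom ∧ GeometricallyIntegral C.hom ∧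
      IsMonHom j ∧ IsClosedImmersion j.left ∧
      Surjective ((fst B C ≫ i) * (snd B C ≫ j)).left ∧ IsFinite ((fst B C ≫ i) * (snd B C ≫ j)).left := by
  classical
  let Ω := AlgebraicClosure K
  let σ : Spec (CommRingCat.of Ω) ⟶ Spec (CommRingCat.of K) := Spec.map (CommRingCat.ofHom (algebraMap K Ω))
  haveI := isCommMonObj_abVar (A := A)
  haveI := isCommMonObj_abVar (A := B)
  haveI : IsProper (DegPoly.bc σ A).hom := inferInstanceAs (IsProper (pullback.snd A.hom σ))
  haveI : GeometricallyIntegral (DegPoly.bc σ A).hom := inferInstanceAs (GeometricallyIntegral (pullback.snd A.hom σ))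
  haveI : IsProper (DegPoly.bc σ B).hom := inferInstanceAs (IsProper (pullback.snd B.hom σ))
  haveI : GeometricallyIntegral (DegPoly.bc σ B).hom := inferInstanceAs (GeometricallyIntegral (pullback.snd B.hom σ))
  haveI := isCommMonObj_abVar (A := DegPoly.bc σ A)
  haveI := isCommMonObj_abVar (A := DegPoly.bc σ B)
  haveI : IsClosedImmersion (bcMap σ i).left :=
    MorphismProperty.of_isPullback (isPullback_bcMap σ i) ‹IsClosedImmersion i.left›
  -- the ample class
  obtain ⟨L, hL⟩ := exists_isAmple A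
  haveI : IsAffineHom (pullback.fst A.hom σ) := MorphismProperty.pullback_fst _ _ (inferInstance : IsAffineHom σ)
  have hL' : CohB1.IsAmple ((Scheme.Modules.pullback (pullback.fst A.hom σ)).obj L) := isAmple_pullback_of_isAffineHom _ hL
  have hx : clsMod hL'.1 = pull (pullback.fst A.hom σ) (clsMod hL.1) := clsMod_pullback (pullback.fst A.hom σ) hL.1
  obtain ⟨g, hg⟩ := AbTors.exists_dim (DegPoly.bc σ A)
  obtain ⟨b, hb⟩ := AbTors.exists_dim (DegPoly.bc σ B)
  obtain ⟨C₀, _, _, _, j₀, c, R, _, _, hc, hgbc, hC₀, hR⟩ := exists_subvariety (bcMap σ i) (clsMod hL'.1) hg hb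
  obtain ⟨C, _, j, _, _, _, _, hrC, hpt⟩ := exists_descend A σ rfl (orth (bcMap σ i) (clsMod hL'.1))
    (fun s a h => by rw [hx] at h ⊢; exact mem_orth_bc_of_endo σ i _ s a h) C₀ j₀ c R hc hC₀ hR
  haveI : IsClosedImmersion (bcMap σ j).left :=
    MorphismProperty.of_isPullback (isPullback_bcMap σ j) ‹IsClosedImmersion j.left›
  haveI : IsProper (DegPoly.bc σ C).hom := inferInstanceAs (IsProper (pullback.snd C.hom σ))
  refine ⟨C, inferInstance, j, inferInstance, inferInstance, inferInstance, inferInstance, ?_⟩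
  -- the product map over the algebraic closure
  haveI : GeometricallyIntegral (DegPoly.bc σ C).hom := inferInstanceAs (GeometricallyIntegral (pullback.snd C.hom σ))
  haveI : Mono (bcMap σ j) := by
    haveI : Mono ((Over.forget _).map (bcMap σ j)) := inferInstanceAs (Mono (bcMap σ j).left)
    exact (Over.forget _).mono_of_mono_map this
  have hfin' := isFinite_prod_orth (bcMap σ i) hL' (bcMap σ j) hpt
  set m' := (fst (DegPoly.bc σ B) (DegPoly.bc σ C) ≫ bcMap σ i) * (snd (DegPoly.bc σ B) (DegPoly.bc σ C) ≫ bcMap σ j)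
  let θ := CartesianMonoidalCategory.prodComparison (Over.pullback σ) B C
  have hθ : bcMap σ ((fst B C ≫ i) * (snd B C ≫ j)) = θ ≫ m' := by
    rw [MonObj.comp_mul, ← Category.assoc, ← Category.assoc, CartesianMonoidalCategory.prodComparison_fst,
      CartesianMonoidalCategory.prodComparison_snd]
    rw [show bcMap σ ((fst B C ≫ i) * (snd B C ≫ j)) = bcMap σ (fst B C ≫ i) * bcMap σ (snd B C ≫ j) from
      map_mul (Functor.homMonoidHom (Over.pullback σ)) _ _, bcMap_comp, bcMap_comp]
  haveI : IsIso θ := inferInstance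
  haveI : IsIso θ.left := inferInstanceAs (IsIso ((Over.forget _).map θ))
  constructor
  · -- dimensions
    haveI : IsIntegral (DegPoly.bc σ B).left := GeometricallyIntegral.isIntegral_of_subsingleton (DegPoly.bc σ B).hom
    haveI : IsIntegral (DegPoly.bc σ C).left := GeometricallyIntegral.isIntegral_of_subsingleton (DegPoly.bc σ C).hom
    haveI : IsIntegral (DegPoly.bc σ A).left := GeometricallyIntegral.isIntegral_of_subsingleton (DegPoly.bc σ A).hom
    haveI : IsReduced (pullback (DegPoly.bc σ B).hom (DegPoly.bc σ C).hom) := GrpSchField.isReduced_pullback _ _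
    haveI : IrreducibleSpace ↥(pullback (DegPoly.bc σ B).hom (DegPoly.bc σ C).hom) :=
      GrpSchField.irreducibleSpace_pullback _ _
    haveI : IsIntegral (DegPoly.bc σ B ⊗ DegPoly.bc σ C).left :=
      isIntegral_of_irreducibleSpace_of_isReduced (pullback (DegPoly.bc σ B).hom (DegPoly.bc σ C).hom)
    haveI : LocallyOfFiniteType (DegPoly.bc σ B ⊗ DegPoly.bc σ C).hom :=
      inferInstanceAs (LocallyOfFiniteType (pullback.fst (DegPoly.bc σ B).hom (DegPoly.bc σ C).hom ≫ (DegPoly.bc σ B).hom))
    haveI : IsProper (DegPoly.bc σ B ⊗ DegPoly.bc σ C).hom :=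
      inferInstanceAs (IsProper (pullback.fst (DegPoly.bc σ B).hom (DegPoly.bc σ C).hom ≫ (DegPoly.bc σ B).hom))
    haveI := geometricallyIntegral_of_isIntegral (DegPoly.bc σ B ⊗ DegPoly.bc σ C).hom
    have hc' : topologicalKrullDim (DegPoly.bc σ C).left = (c : WithBot ℕ∞) := by
      rw [← hc]
      exact (Dim.IsEmbedding.topologicalKrullDim_eq (bcMap σ j).left.isEmbedding hrC).trans
        (Dim.IsEmbedding.topologicalKrullDim_eq j₀.left.isEmbedding rfl).symm
    have hd : topologicalKrullDim (DegPoly.bc σ B ⊗ DegPoly.bc σ C).left = ((b + c : ℕ) : WithBot ℕ∞) := by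
      show topologicalKrullDim ↥(pullback (DegPoly.bc σ B).hom (DegPoly.bc σ C).hom) = _
      rw [FBase7.topologicalKrullDim_pullback_eq_add, hb, hc']
      norm_cast
    have hle : b + c ≤ g := by
      by_contra hlt
      haveI := hfin'
      obtain ⟨N, hN, hN'⟩ := Dim.dim_closure_range_eq m'.left (DegPoly.bc σ A).hom
      have := topologicalKrullDim_subspace_le (DegPoly.bc σ A).left (closure (Set.range m'.left))
      rw [hN', ← hN, hd, hg] at this
      exact hlt (by exact_mod_cast this)
    have heq : b + c = g := by omega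
    haveI := hfin'
    haveI hs' : Surjective m'.left := DegPoly.surjective_of_finite (hd.trans (by rw [heq])) hg m'
    let π := pullback.fst A.hom σ
    haveI : Surjective π := MorphismProperty.pullback_fst _ _ (surjective_of_field' σ)
    haveI : Surjective ((bcMap σ ((fst B C ≫ i) * (snd B C ≫ j))).left ≫ π) := by
      rw [hθ, Over.comp_left]; infer_instance
    rw [bcMap_left_fst] at this
    exact Surjective.of_comp (pullback.fst (B ⊗ C).hom σ) _
  · rw [← isFinite_bcMap_iff σ, hθ, Over.comp_left]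
    haveI := hfin'
    infer_instance

end GrothLib.Poincare
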