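import Groth.Agent.Lib.Poincare.Dual
import Groth.Agent.Lib.CubeRel26.AbScheme
import Groth.Agent.Lib.Cube.SeesawPic
import Groth.Agent.S12008
import Groth.Agent.Lib.Rigidity.Relative.AbScheme

/-!
# Rigidified Pic⁰ classes on an abelian scheme are additive
-/

universe u

open CategoryTheory CategoryTheory.Limits AlgebraicGeometry
open MonoidalCategory CartesianMonoidalCategory MonObj
open GrothLib.Ample GrothLib.Cube

set_option backward.isDefEq.respectTransparency false

noncomputable section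

namespace GrothLib.Dual

/-- Over an algebraically closed field classes algebraically equivalent to zero are additive. -/
theorem addClass_eq_one_of_algEquivZero {K : Type u} [Field K] [IsAlgClosed K]
    {A : Over (Spec (CommRingCat.of K))} [GrpObj A] [IsProper A.hom] [GeometricallyIntegral A.hom]
    {T : Over (Spec (CommRingCat.of K))} (f g : T ⟶ A) {L : A.left.Modules} {x : Pic A.left} (hx : HasCls L x)
    (h : Pic13.IsAlgEquivZero K A.left L) : addClass f g x = 1 := by
  haveI : IsCommMonObj A := isCommMonObj_abVar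
  haveI : Smooth A.hom := smooth_abVar A
  refine addClass_eq_one_of_dense x (dense_closedPoints A) subset_rfl (fun a _ => ?_) f g
  exact (hx.pullback _).eq hx (Groth.Agent.S12008.result K A L hx.choose h a)

variable {S : Scheme.{u}} {A T : Over S}

/-- The Mumford defect of a class on `A × T`. -/
def defect [GrpObj A] (x : Pic (A ⊗ T).left) : Pic ((A ⊗ A) ⊗ T).left :=
  pull (μ[A] ▷ T).left x * (pull (fst A A ▷ T).left x * pull (snd A A ▷ T).left x)⁻¹

theorem pull_defect [GrpObj A] {B : Over S} (x : Pic (A ⊗ T).left) (σ : B ⟶ A ⊗ A) :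
    pull (σ ▷ T).left (defect x) =
      pull (((σ ≫ fst A A) * (σ ≫ snd A A)) ▷ T).left x *
        (pull ((σ ≫ fst A A) ▷ T).left x * pull ((σ ≫ snd A A) ▷ T).left x)⁻¹ := by
  have e : σ ≫ μ[A] = (σ ≫ fst A A) * (σ ≫ snd A A) := by
    rw [← MonObj.comp_mul, Hom.mul_def, lift_fst_snd, Category.id_comp]
  simp only [defect, map_mul, map_inv, CubeRel26.pull_pull_over, ← comp_whiskerRight, e]

theorem pull_one_whisker [GrpObj A] {B : Over S} (x : Pic (A ⊗ T).left)
    (hrig : pull (lift (1 : T ⟶ A) (𝟙 T)).left x = 1) : pull ((1 : B ⟶ A) ▷ T).left x = 1 := by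
  have e : (1 : B ⟶ A) ▷ T = snd B T ≫ lift (1 : T ⟶ A) (𝟙 T) := by
    apply CartesianMonoidalCategory.hom_ext <;> simp [MonObj.comp_one]
  rw [e, ← CubeRel26.pull_pull_over, hrig, map_one]

theorem pull_defect_geometric [GrpObj A] [IsProper A.hom] [GeometricallyIntegral A.hom]
    {L : (PicF.XT A.hom T).Modules} (x : Pic (A ⊗ T).left) (hL : HasCls L x) (t : T.left)
    (hz : AbDual.IsAlgTrivialAt (PicF.XTproj A.hom T) L t)
    (Ω : Type u) [Field Ω] [IsAlgClosed Ω] (σ : Spec (CommRingCat.of Ω) ⟶ T.left)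
    (hσ : Set.range σ.base = {t}) :
    pull ((A ⊗ A) ◁ (Over.homMk σ rfl : Over.mk (σ ≫ T.hom) ⟶ T)).left (defect x) = 1 := by
  let P : Over S := Over.mk (σ ≫ T.hom)
  let s : P ⟶ T := Over.homMk σ rfl
  let F := Over.pullback (σ ≫ T.hom)
  letI : GrpObj (F.obj A) := Functor.grpObjObj
  haveI : IsProper (F.obj A).hom := inferInstanceAs (IsProper (pullback.snd A.hom (σ ≫ T.hom)))
  haveI : GeometricallyIntegral (F.obj A).hom :=
    inferInstanceAs (GeometricallyIntegral (pullback.snd A.hom (σ ≫ T.hom)))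
  let y : Pic (F.obj A).left := pull (A ◁ s).left x
  have hσ' : (A ◁ s).left ≫ PicF.XTproj A.hom T = pullback.snd A.hom (σ ≫ T.hom) ≫ σ := congrArg CategoryTheory.Over.Hom.left (whiskerLeft_snd A s)
  let e : (F.obj A).left ⟶ pullback (PicF.XTproj A.hom T) σ :=
    pullback.lift (A ◁ s).left (pullback.snd A.hom (σ ≫ T.hom)) hσ'
  have h2 := hL.pullback (pullback.fst (PicF.XTproj A.hom T) σ)
  have hm : HasCls ((Scheme.Modules.pullback (A ◁ s).left).obj L)
      (pull e (pull (pullback.fst (PicF.XTproj A.hom T) σ) x)) := by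
    rw [pull_comp, show e ≫ pullback.fst (PicF.XTproj A.hom T) σ = (A ◁ s).left from pullback.lift_fst _ _ _]
    exact hL.pullback (A ◁ s).left
  have halg := isAlgEquivZero_of_isIso (F.obj A).hom (pullback.snd (PicF.XTproj A.hom T) σ) e
    (pullback.lift_snd _ _ _) h2 hm (hz Ω σ hσ)
  have hadd : addClass (F.map (fst A A)) (F.map (snd A A)) y = 1 :=
    addClass_eq_one_of_algEquivZero _ _ (hL.pullback (A ◁ s).left) halg
  have hmap : ∀ h : A ⊗ A ⟶ A, (F.map h).left = (h ▷ P).left := fun h => by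
    refine pullback.hom_ext ?_ ?_
    · exact (pullback.lift_fst _ _ _).trans
        (congrArg (fun k : (A ⊗ A) ⊗ P ⟶ A => k.left) (whiskerRight_fst h P)).symm
    · exact (pullback.lift_snd _ _ _).trans
        (congrArg (fun k : (A ⊗ A) ⊗ P ⟶ P => k.left) (whiskerRight_snd h P)).symm
  have key : ∀ h : A ⊗ A ⟶ A, pull ((A ⊗ A) ◁ s).left (pull (h ▷ T).left x) = pull (F.map h).left y := fun h => by
    rw [hmap h]
    show _ = pull (h ▷ P).left (pull (A ◁ s).left x)
    rw [CubeRel26.pull_pull_over, CubeRel26.pull_pull_over, whisker_exchange]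
  have hmu : F.map μ[A] = F.map (fst A A) * F.map (snd A A) := by
    rw [← Functor.map_mul, Hom.mul_def, lift_fst_snd, Category.id_comp]
  rw [addClass, ← hmu] at hadd
  rw [defect, map_mul, map_inv, map_mul, key, key, key]
  exact hadd

set_option maxHeartbeats 1000000 in
/-- The locus where the defect of a rigidified class vanishes is clopen. -/
theorem exists_clopen_defect [GrpObj A] [IsProper A.hom] [Flat A.hom] [LocallyOfFinitePresentation A.hom]
    [GeometricallyIntegral A.hom] (x : Pic (A ⊗ T).left)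
    (hrig : pull (lift (1 : T ⟶ A) (𝟙 T)).left x = 1) :
    ∃ W : T.left.Opens, IsClosed (W : Set T.left) ∧
      (∀ z, pull ((pullback.snd (pullback.fst A.hom A.hom ≫ A.hom) T.hom).fiberι z) (defect x) = 1 → z ∈ W) ∧
      pull ((pullback.snd (pullback.fst A.hom A.hom ≫ A.hom) T.hom) ⁻¹ᵁ W).ι (defect x) = 1 := by
  let e : S ⟶ A.left := (η[A] : 𝟙_ (Over S) ⟶ A).left
  have he : e ≫ A.hom = 𝟙 S := Over.w (η[A] : 𝟙_ (Over S) ⟶ A)
  obtain ⟨c, hc⟩ := Quotient.exists_rep (defect x)
  change cls c = defect x at hc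
  let M : (pullback (pullback.fst A.hom A.hom ≫ A.hom) T.hom).Modules := c.twist 1
  have hM : PicF.IsInvertible M := c.isInvertible_twist 1
  have hcls : clsMod hM = defect x := (clsMod_eq hM (Iso.refl _)).trans hc
  have wx : (A.hom ≫ e) ≫ A.hom = 𝟙 A.left ≫ A.hom := by simp [he]
  have wy : 𝟙 A.left ≫ A.hom = (A.hom ≫ e) ≫ A.hom := by simp [he]
  let sx : A ⊗ T ⟶ (A ⊗ A) ⊗ T := lift (toUnit A ≫ η[A]) (𝟙 A) ▷ T
  let sy : A ⊗ T ⟶ (A ⊗ A) ⊗ T := lift (𝟙 A) (toUnit A ≫ η[A]) ▷ T
  have hfst : ∀ a : A ⟶ A ⊗ A, (a ▷ T).left ≫ pullback.fst (pullback.fst A.hom A.hom ≫ A.hom) T.hom =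
      pullback.fst A.hom T.hom ≫ a.left := fun a => congrArg CategoryTheory.Over.Hom.left (whiskerRight_fst a T)
  have hsnd : ∀ a : A ⟶ A ⊗ A, (a ▷ T).left ≫ pullback.snd (pullback.fst A.hom A.hom ≫ A.hom) T.hom =
      pullback.snd A.hom T.hom := fun a => congrArg CategoryTheory.Over.Hom.left (whiskerRight_snd a T)
  have hs₁ : pullback.map (pullback.lift (A.hom ≫ e) (𝟙 A.left) wx ≫ (pullback.fst A.hom A.hom ≫ A.hom)) T.hom
      (pullback.fst A.hom A.hom ≫ A.hom) T.hom (pullback.lift (A.hom ≫ e) (𝟙 A.left) wx) (𝟙 T.left) (𝟙 S)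
      (Category.comp_id _) ((Category.comp_id _).trans (Category.id_comp _).symm) =
      (pullback.congrHom (pullback.lift_fst_assoc _ _ _ _ |>.trans (wx.trans (Category.id_comp _))) rfl).hom ≫ sx.left := by
    refine pullback.hom_ext (pullback.hom_ext ?_ ?_) ?_ <;> simp [sx, e, pullback.map, reassoc_of% hfst, hsnd]
  have hs₂ : pullback.map (pullback.lift (𝟙 A.left) (A.hom ≫ e) wy ≫ (pullback.fst A.hom A.hom ≫ A.hom)) T.hom
      (pullback.fst A.hom A.hom ≫ A.hom) T.hom (pullback.lift (𝟙 A.left) (A.hom ≫ e) wy) (𝟙 T.left) (𝟙 S)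
      (Category.comp_id _) ((Category.comp_id _).trans (Category.id_comp _).symm) =
      (pullback.congrHom (pullback.lift_fst_assoc _ _ _ _ |>.trans (Category.id_comp _)) rfl).hom ≫ sy.left := by
    refine pullback.hom_ext (pullback.hom_ext ?_ ?_) ?_ <;> simp [sy, e, pullback.map, reassoc_of% hfst, hsnd]
  obtain ⟨W, hWc, hWz, hW'⟩ := CubeRel26.exists_clopen_cube' A.hom A.hom T.hom e he e he M hM wx wy _ _ _ _
    (by
      rw [hs₁, ← pull_comp, hcls]
      erw [pull_defect]
      rw [lift_fst, lift_snd, ← Hom.one_def, _root_.one_mul, pull_one_whisker x hrig, _root_.one_mul, mul_inv_cancel,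
        map_one])
    (by
      rw [hs₂, ← pull_comp, hcls]
      erw [pull_defect]
      rw [lift_fst, lift_snd, ← Hom.one_def, _root_.mul_one, pull_one_whisker x hrig, _root_.mul_one, mul_inv_cancel,
        map_one])
  rw [hcls] at hWz hW'
  exact ⟨W, hWc, hWz, hW'⟩

set_option maxHeartbeats 1000000 in
/-- A class on `A × T` in Pic⁰, trivial along the unit section, is additive. -/
theorem defect_eq_one [GrpObj A] [IsProper A.hom] [Flat A.hom] [LocallyOfFinitePresentation A.hom]
    [GeometricallyIntegral A.hom]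
    {L : (PicF.XT A.hom T).Modules} (x : Pic (A ⊗ T).left) (hL : HasCls L x)
    (hz : ∀ t : T.left, AbDual.IsAlgTrivialAt (PicF.XTproj A.hom T) L t)
    (hrig : pull (lift (1 : T ⟶ A) (𝟙 T)).left x = 1) : defect x = 1 := by
  obtain ⟨W, -, hWz, hW'⟩ := exists_clopen_defect x hrig
  have hW : W = ⊤ := top_le_iff.1 fun t _ => hWz t (by
    haveI : GeometricallyIntegral (pullback.fst A.hom A.hom) := MorphismProperty.pullback_fst _ _ inferInstance
    haveI : Flat (pullback.fst A.hom A.hom) := inferInstance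
    haveI : GeometricallyIntegral (pullback.fst A.hom A.hom ≫ A.hom) := CubeRel26.geometricallyIntegral_comp _ _
    let r := pullback.snd (pullback.fst A.hom A.hom ≫ A.hom) T.hom
    haveI : GeometricallyIntegral r := MorphismProperty.pullback_snd _ _ inferInstance
    haveI : IsProper r := inferInstance
    haveI : GeometricallyIntegral (r.fiberToSpecResidueField t) := MorphismProperty.pullback_snd _ _ inferInstance
    haveI : IsProper (r.fiberToSpecResidueField t) := MorphismProperty.pullback_snd _ _ inferInstance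
    let Ω := AlgebraicClosure (T.left.residueField t)
    let b : Spec (CommRingCat.of Ω) ⟶ Spec (CommRingCat.of (T.left.residueField t)) :=
      Spec.map (CommRingCat.ofHom (algebraMap (T.left.residueField t) Ω))
    let σ : Spec (CommRingCat.of Ω) ⟶ T.left := b ≫ T.left.fromSpecResidueField t
    have hσ : Set.range σ.base = {t} := by
      refine subset_antisymm ?_ (Set.singleton_subset_iff.2 ?_)
      · rintro _ ⟨z, rfl⟩
        have hr := T.left.range_fromSpecResidueField t
        exact hr.le ⟨b z, rfl⟩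
      · refine ⟨Classical.arbitrary _, ?_⟩
        have hr := T.left.range_fromSpecResidueField t
        exact hr.le ⟨b _, rfl⟩
    let s : Over.mk (σ ≫ T.hom) ⟶ T := Over.homMk σ rfl
    have hsq : IsPullback ((A ⊗ A) ◁ s).left (snd (A ⊗ A) (Over.mk (σ ≫ T.hom))).left r σ := by
      refine IsPullback.of_right ?_ ?_ (IsPullback.of_hasPullback (pullback.fst A.hom A.hom ≫ A.hom) T.hom)
      · rw [show ((A ⊗ A) ◁ s).left ≫ pullback.fst (pullback.fst A.hom A.hom ≫ A.hom) T.hom =
          (fst (A ⊗ A) (Over.mk (σ ≫ T.hom))).left from congrArg CategoryTheory.Over.Hom.left (whiskerLeft_fst (A ⊗ A) s)]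
        exact IsPullback.of_hasPullback (pullback.fst A.hom A.hom ≫ A.hom) (σ ≫ T.hom)
      · exact congrArg CategoryTheory.Over.Hom.left (whiskerLeft_snd (A ⊗ A) s)
    let g : ((A ⊗ A) ⊗ Over.mk (σ ≫ T.hom)).left ⟶ r.fiber t :=
      pullback.lift ((A ⊗ A) ◁ s).left ((snd (A ⊗ A) (Over.mk (σ ≫ T.hom))).left ≫ b)
        (by rw [hsq.w]; simp [σ])
    have H : IsPullback g (snd (A ⊗ A) (Over.mk (σ ≫ T.hom))).left (r.fiberToSpecResidueField t) b := by
      refine IsPullback.of_right ?_ (pullback.lift_snd _ _ _)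
        (IsPullback.of_hasPullback r (T.left.fromSpecResidueField t))
      rw [pullback.lift_fst]
      exact hsq
    refine KL.eq_one_of_pull_field (K := (T.left.residueField t)) (K' := Ω) H _ ?_
    rw [pull_comp, show g ≫ r.fiberι t = ((A ⊗ A) ◁ s).left from pullback.lift_fst _ _ _]
    exact pull_defect_geometric x hL t (hz t) Ω σ hσ)
  subst hW
  have h := congrArg (pull (Scheme.topIso (pullback (pullback.fst A.hom A.hom ≫ A.hom) T.hom)).inv) hW'
  rw [map_one] at h
  exact ((pull_id (defect x)).symm.trans (congrArg (fun f => pull f (defect x)) (Scheme.topIso (pullback (pullback.fst A.hom A.hom ≫ A.hom) T.hom)).inv_hom_id.symm)).trans ((pull_comp _ _ _).symm.trans h)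


end GrothLib.Dual
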