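import Groth.Agent.Lib.Poincare.PicZeroSurj
import Groth.Agent.Lib.Poincare.Additive

/-!
# Consequences of `φ_L` being surjective on `Pic⁰`
-/

set_option autoImplicit false
set_option linter.all false
set_option backward.isDefEq.respectTransparency false

universe u

open CategoryTheory CategoryTheory.Limits AlgebraicGeometry
open MonoidalCategory CartesianMonoidalCategory
open GrothLib.Ample GrothLib.Cube
open scoped MonObj

noncomputable section

namespace GrothLib.PicZeroSurj

variable {K : Type u} [Field K] [IsAlgClosed K] {A : Over (Spec (CommRingCat.of K))} [GrpObj A]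
  [IsProper A.hom] [GeometricallyIntegral A.hom]

/-- The stabiliser of a class. -/
theorem setOf_pull_transl_eq {L : A.left.Modules} {x : Pic A.left} (hL : HasCls L x) :
    {a : 𝟙_ (Over (Spec (CommRingCat.of K))) ⟶ A | pull (transl a).left x = x} =
      {a | Nonempty ((Scheme.Modules.pullback (𝟙 A * (toUnit A ≫ a)).left).obj L ≅ L)} := by
  ext a
  exact ⟨fun h => (hL.pullback _).iso hL h, fun h => (hL.pullback _).eq hL h⟩

/-- Translation invariant modules have invariant classes. -/
theorem invariant_of_iso {M : A.left.Modules} {y : Pic A.left} (hM : HasCls M y)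
    (h : ∀ b : 𝟙_ (Over (Spec (CommRingCat.of K))) ⟶ A,
      Nonempty ((Scheme.Modules.pullback (𝟙 A * (toUnit A ≫ b)).left).obj M ≅ M)) :
    ∀ b, pull (transl b).left y = y := fun b => (hM.pullback _).eq hM (h b)

/-- Classes algebraically equivalent to zero are invariant. -/
theorem invariant_of_algEquivZero {M : A.left.Modules} {y : Pic A.left} (hM : HasCls M y)
    (h : Pic13.IsAlgEquivZero K A.left M) : ∀ b, pull (transl b).left y = y := by
  haveI : IsCommMonObj A := isCommMonObj_abVar
  haveI : Smooth A.hom := smooth_abVar A
  exact invariant_of_iso hM (Groth.Agent.S12008.result K A M hM.choose h)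

end GrothLib.PicZeroSurj
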