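import Groth.Agent.Lib.Poincare.Vanishing
import Groth.Agent.Lib.Poincare.PicZeroSurjCor
import Groth.Agent.Lib.SplitPull.Basic
import Groth.Agent.Lib.AbTors.Degree
import Groth.Agent.Lib.AbTors.FiniteKer
import Groth.Agent.Lib.EulerPull.Degenerate
import Groth.Agent.Lib.SerreVanish.Ample
import Groth.Agent.Lib.HodgeIndex.Form

/-!
# The index of a nondegenerate class and its behaviour under square powers
-/

set_option autoImplicit false
set_option linter.all false
set_option backward.isDefEq.respectTransparency false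
set_option maxHeartbeats 1000000

universe u

open CategoryTheory CategoryTheory.Limits AlgebraicGeometry Opposite TopologicalSpace
open MonoidalCategory CartesianMonoidalCategory
open GrothLib.Ample GrothLib.Cube GrothLib.Poincare
open GrothLib.HodgeIndex (rep isInv_rep cls_rep)
open scoped MonObj

noncomputable section

namespace GrothLib.Index

/-- The representative of a class has that class. -/
theorem hasCls_rep {X : Scheme.{u}} (z : Pic X) : HasCls (rep z) z := ⟨isInv_rep z, cls_rep z⟩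

/-- The cohomology of a class lives exactly in degree `i`. -/
def Conc {X : Scheme.{u}} (z : Pic X) (i : ℕ) : Prop :=
  (∀ j, j ≠ i → Subsingleton (Coh.HH X (rep z) j)) ∧ ¬ Subsingleton (Coh.HH X (rep z) i)

theorem subsingleton_congr {X : Scheme.{u}} {L M : X.Modules} {z : Pic X} (hL : HasCls L z) (hM : HasCls M z)
    (j : ℕ) : Subsingleton (Coh.HH X L j) ↔ Subsingleton (Coh.HH X M j) := by
  obtain ⟨e⟩ := hL.iso hM rfl
  exact ⟨PicZeroSurj.subsingleton_HH_of_iso e j, PicZeroSurj.subsingleton_HH_of_iso e.symm j⟩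

theorem conc_iff {X : Scheme.{u}} {L : X.Modules} {z : Pic X} (hL : HasCls L z) (i : ℕ) :
    Conc z i ↔ (∀ j, j ≠ i → Subsingleton (Coh.HH X L j)) ∧ ¬ Subsingleton (Coh.HH X L i) := by
  simp only [Conc, subsingleton_congr (hasCls_rep z) hL]

theorem Conc.unique {X : Scheme.{u}} {z : Pic X} {i j : ℕ} (h : Conc z i) (h' : Conc z j) : i = j := by
  by_contra hne; exact h.2 (h'.1 i hne)

theorem Conc.subsingleton_iff {X : Scheme.{u}} {z : Pic X} {i : ℕ} (h : Conc z i) {L : X.Modules} (hL : HasCls L z)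
    (j : ℕ) : Subsingleton (Coh.HH X L j) ↔ j ≠ i := by
  obtain ⟨h1, h2⟩ := (conc_iff hL i).1 h
  exact ⟨fun hs hji => h2 (hji ▸ hs), h1 j⟩

/-- A concentrated class has Euler characteristic `± h^i`. -/
theorem Conc.euler {X : Scheme.{u}} (k : Type u) [Field k] [X.Over (Spec (CommRingCat.of k))]
    [IsProper (X ↘ Spec (CommRingCat.of k))] {z : Pic X} {i : ℕ} (h : Conc z i) :
    Curv2.euler k X (rep z) = (-1) ^ i * (Module.finrank k (Coh.HH X (rep z) i) : ℤ) ∧
      Curv2.euler k X (rep z) ≠ 0 := by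
  haveI := Euler.isNoetherian_of_proper (X := X) k
  haveI : FiniteDimensional k (Coh.HH X (rep z) i) :=
    Euler.finiteDimensional_HH k (Euler.isCoh_of_isInvertible (isInv_rep z)) i
  have e : Curv2.euler k X (rep z) = (-1) ^ i * (Module.finrank k (Coh.HH X (rep z) i) : ℤ) := by
    refine finsum_eq_single _ i fun j hj => ?_
    haveI := h.1 j hj
    rw [Module.finrank_zero_of_subsingleton, Nat.cast_zero, mul_zero]
  refine ⟨e, fun h0 => h.2 ?_⟩
  rw [e, mul_eq_zero] at h0
  rcases h0 with h0 | h0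
  · exact absurd h0 (pow_ne_zero _ (by norm_num))
  · exact Module.finrank_zero_iff.1 (by exact_mod_cast h0)

variable {K : Type u} [Field K] [IsAlgClosed K] {A : Over (Spec (CommRingCat.of K))} [GrpObj A]
  [IsProper A.hom] [GeometricallyIntegral A.hom]

/-- The translations fixing a class form a finite set. -/
def Nondeg (z : Pic A.left) : Prop :=
  Set.Finite {a : 𝟙_ (Over (Spec (CommRingCat.of K))) ⟶ A | pull (transl a).left z = z}

theorem nondeg_of_euler {L : A.left.Modules} {z : Pic A.left} (hL : HasCls L z)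
    (h : @Curv2.euler K _ A.left ⟨A.hom⟩ L ≠ 0) : Nondeg z := by
  obtain ⟨hi, rfl⟩ := id hL
  by_contra hinf
  exact h (EulerPull.euler_eq_zero_of_infinite_stab A hi hinf)

/-- A nondegenerate class has an index, and the inverse class has the complementary one. -/
theorem exists_conc {g : ℕ} (hg : topologicalKrullDim A.left = g) {z : Pic A.left} (hz : Nondeg z) :
    ∃ i, i ≤ g ∧ Conc z i ∧ Conc z⁻¹ (g - i) := by
  obtain ⟨i, hi, h1, h2, h3, h4⟩ := Vanishing.exists_index g hg (hasCls_rep z) (hasCls_rep z⁻¹) hz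
  exact ⟨i, hi, ⟨h1, h2⟩, h3, h4⟩

theorem Conc.nondeg {z : Pic A.left} {i : ℕ} (h : Conc z i) : Nondeg z := by
  letI : A.left.Over (Spec (CommRingCat.of K)) := ⟨A.hom⟩
  haveI : IsProper (A.left ↘ Spec (CommRingCat.of K)) := ‹IsProper A.hom›
  exact nondeg_of_euler (hasCls_rep z) (h.euler K).2

theorem Conc.le_dim {g : ℕ} (hg : topologicalKrullDim A.left = g) {z : Pic A.left} {i : ℕ} (h : Conc z i) :
    i ≤ g ∧ Conc z⁻¹ (g - i) := by
  obtain ⟨j, hj, h1, h2⟩ := exists_conc hg h.nondeg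
  obtain rfl := h.unique h1
  exact ⟨hj, h2⟩

/-- Ample classes are nondegenerate. -/
theorem nondeg_of_isAmple {L : A.left.Modules} {z : Pic A.left} (hL : HasCls L z) (hA : CohB1.IsAmple L) :
    Nondeg z := by
  refine finite_stab z fun q => ?_
  obtain ⟨n, U, hq, hU, hs⟩ := exists_hasSec_of_isAmple hA q
  exact ⟨n, U, hq, hU, hL.choose_spec ▸ hs⟩

/-- Positive powers of nondegenerate classes are nondegenerate. -/
theorem Nondeg.pow {z : Pic A.left} (hz : Nondeg z) {m : ℕ} (hm : m ≠ 0) : Nondeg (z ^ m) := by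
  haveI : IsCommMonObj A := isCommMonObj_abVar (A := A)
  haveI := isFinite_pow A hm
  let φ : (𝟙_ (Over (Spec (CommRingCat.of K))) ⟶ A) →* (𝟙_ (Over (Spec (CommRingCat.of K))) ⟶ A) :=
    powMonoidHom m
  have hker : {a : 𝟙_ (Over (Spec (CommRingCat.of K))) ⟶ A | a ^ m = 1}.Finite := by
    have h := AbTors.finite_ker_pts (𝟙 (Spec (CommRingCat.of K))) ((𝟙 A : A ⟶ A) ^ m)
    simp only [AbTors.pow_comp_eq] at h
    exact h
  refine (Set.Finite.preimage' hz (f := φ) fun b _ => ?_).subset fun a ha => ?_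
  · rcases Set.eq_empty_or_nonempty (φ ⁻¹' {b}) with he | ⟨a₀, ha₀⟩
    · rw [he]; exact Set.finite_empty
    · refine (hker.image (a₀ * ·)).subset fun a ha => ⟨a₀⁻¹ * a, ?_, mul_inv_cancel_left a₀ a⟩
      show (a₀⁻¹ * a) ^ m = 1
      rw [mul_pow, inv_pow, show a ^ m = b from ha, show a₀ ^ m = b from ha₀, inv_mul_cancel]
  · show pull (transl (a ^ m)).left z = z
    have h1 : psi (𝟙 A) z (a ^ m) = psi (𝟙 A) (z ^ m) a := by
      rw [map_pow]
      show (pull (𝟙 A * (toUnit A ≫ a)).left z * (pull (Over.Hom.left (𝟙 A)) z)⁻¹) ^ m = _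
      show _ = pull (𝟙 A * (toUnit A ≫ a)).left (z ^ m) * (pull (Over.Hom.left (𝟙 A)) (z ^ m))⁻¹
      rw [mul_pow, inv_pow, map_pow, map_pow]
    have h2 : psi (𝟙 A) (z ^ m) a = 1 := by
      rw [psi_eq_one_iff, pull_over_id]; exact ha
    rw [← h1, psi_eq_one_iff, pull_over_id] at h2
    exact h2

theorem comm_aux' {G : Type*} [CommGroup G] (a b c : G) : a * c⁻¹ * b * a⁻¹ = b * c⁻¹ := by
  rw [mul_right_comm (a * c⁻¹), mul_right_comm a, mul_inv_cancel, _root_.one_mul, mul_comm]

theorem inv_invariant {w : Pic A.left} (h : ∀ b, pull (transl b).left w = w) :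
    pull ((𝟙 A)⁻¹ : A ⟶ A).left w = w⁻¹ := by
  have h1 := congrArg (pull (lift (𝟙 A) ((𝟙 A)⁻¹ : A ⟶ A)).left) (PicZeroSurj.addClass_of_invariant h)
  rw [map_one, pull_addClass, lift_fst, lift_snd, addClass, mul_inv_cancel, pull_one_hom, _root_.one_mul,
    inv_eq_one, pull_over_id] at h1
  exact eq_inv_of_mul_eq_one_right h1

/-- `[n]^* z` is `z^{n²}` up to a translation invariant class. -/
theorem pull_pow_invariant (z : Pic A.left) (n : ℕ) (b : 𝟙_ (Over (Spec (CommRingCat.of K))) ⟶ A) :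
    pull (transl b).left (pull ((𝟙 A : A ⟶ A) ^ n).left z * (z ^ (n ^ 2))⁻¹) =
      pull ((𝟙 A : A ⟶ A) ^ n).left z * (z ^ (n ^ 2))⁻¹ := by
  haveI : IsCommMonObj A := isCommMonObj_abVar (A := A)
  haveI : GeometricallyConnected A.hom := Rigidity.geometricallyConnected_of_geometricallyIrreducible A.hom
  haveI : GeometricallyReduced A.hom := inferInstance
  haveI : LocallyOfFinitePresentation A.hom := inferInstance
  haveI : Flat A.hom := inferInstance
  set w := pull ((𝟙 A)⁻¹ : A ⟶ A).left z * z⁻¹ with hw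
  have hwinv : pull (transl b).left w = w := by
    have e : transl b ≫ ((𝟙 A)⁻¹ : A ⟶ A) = ((𝟙 A)⁻¹ : A ⟶ A) ≫ transl b⁻¹ := by
      rw [transl, transl, GrpObj.comp_inv, Category.comp_id, MonObj.comp_mul, Category.comp_id,
        ← Category.assoc, Subsingleton.elim ((𝟙 A)⁻¹ ≫ toUnit A) (toUnit A), GrpObj.comp_inv, mul_inv_rev,
        hom_mul_comm]
    have h1 : pull (transl b⁻¹).left z * z⁻¹ = (pull (transl b).left z * z⁻¹)⁻¹ := by
      have h := map_inv (psi (𝟙 A) z) b
      simpa only [psi, MonoidHom.coe_mk, OneHom.coe_mk, pull_over_id] using h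
    have h2 : pull ((𝟙 A)⁻¹ : A ⟶ A).left (pull (transl b⁻¹).left z * z⁻¹) = pull (transl b).left z * z⁻¹ := by
      rw [h1, map_inv, inv_invariant (fun c => PicZeroSurj.invariant_translate_div z b c), inv_inv]
    rw [hw, map_mul, map_inv, pull_pull_over, e, ← pull_pull_over]
    rw [map_mul, map_inv, mul_inv_eq_iff_eq_mul] at h2
    rw [h2]
    exact comm_aux' _ _ _
  obtain ⟨v, hv⟩ : ∃ v : ℤ, pull ((𝟙 A : A ⟶ A) ^ n).left z * (z ^ (n ^ 2))⁻¹ = w ^ v := by
    have h := CubeRel26.pull_zpow z (n : ℤ)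
    rw [zpow_natCast, zpow_one, pull_over_id, zpow_neg, zpow_one, pull_one_hom, one_zpow, _root_.mul_one] at h
    refine ⟨((n : ℤ) ^ 2 - n) / 2, ?_⟩
    have hsum : ((n : ℤ) ^ 2 + n) / 2 + ((n : ℤ) ^ 2 - n) / 2 = (n : ℤ) ^ 2 := by
      obtain ⟨c, hc⟩ : Even ((n : ℤ) ^ 2 + n) := by
        rw [sq, ← mul_add_one]; exact Int.even_mul_succ_self _
      omega
    rw [← zpow_natCast z (n ^ 2), Nat.cast_pow, h, hw, mul_zpow, inv_zpow]
    generalize hu : ((n : ℤ) ^ 2 + n) / 2 = u at hsum ⊢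
    generalize ((n : ℤ) ^ 2 - n) / 2 = v at hsum ⊢
    rw [← hsum, zpow_add, mul_inv_rev, mul_comm (z ^ u), _root_.mul_assoc, mul_comm ((z ^ v)⁻¹),
      mul_inv_cancel_left]
  rw [hv, map_zpow, hwinv]

/-- **The index is invariant under square powers prime to the characteristic.** -/
theorem conc_sq {g : ℕ} (hg : topologicalKrullDim A.left = g) {z : Pic A.left} {i : ℕ} (h : Conc z i)
    {n : ℕ} (hn : (n : K) ≠ 0) : Conc (z ^ (n ^ 2)) i := by
  have hn0 : n ≠ 0 := fun h => hn (by simp [h])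
  have hnd : Nondeg (z ^ (n ^ 2)) := h.nondeg.pow (pow_ne_zero 2 hn0)
  obtain ⟨i', -, h', -⟩ := exists_conc hg hnd
  suffices hii : i = i' by exact hii ▸ h'
  by_contra hne
  apply h.2
  obtain ⟨a, ha⟩ := PicZeroSurj.exists_translate (x := z ^ (n ^ 2))
    (y := pull ((𝟙 A : A ⟶ A) ^ n).left z * (z ^ (n ^ 2))⁻¹) hnd (pull_pow_invariant z n)
  rw [mul_comm (z ^ (n ^ 2)), inv_mul_cancel_right] at ha
  haveI : IsLocallyNoetherian A.left := LocallyOfFiniteType.isLocallyNoetherian A.hom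
  haveI := isFinite_pow A hn0
  haveI := flat_pow A hn0
  haveI : LocallyOfFinitePresentation ((𝟙 A : A ⟶ A) ^ n).left := inferInstance
  have hT := ((hasCls_rep (z ^ (n ^ 2))).pullback (transl a).left)
  have hN := ((hasCls_rep z).pullback ((𝟙 A : A ⟶ A) ^ n).left)
  rw [ha] at hT
  haveI hIso : IsIso (transl a).left :=
    ⟨(transl a⁻¹).left, by rw [← Over.comp_left, transl_comp, mul_inv_cancel, transl_one, Over.id_left],
      by rw [← Over.comp_left, transl_comp, inv_mul_cancel, transl_one, Over.id_left]⟩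
  haveI : (rep (z ^ (n ^ 2))).IsQuasicoherent := InvExt.isQuasicoherent_of_isInvertible (isInv_rep _)
  haveI := h'.1 i hne
  refine SplitPull.subsingleton_HH ((𝟙 A : A ⟶ A) ^ n).left
    (fun y => AbTors.finrank_pow A hg hn0 y) ?_ (rep z) (isInv_rep z) i
    ((subsingleton_congr hT hN i).1 (PicZeroSurj.subsingleton_HH_pullback _ _ i))
  have hu : IsUnit ((n : K) ^ (2 * g)) := (isUnit_iff_ne_zero.2 hn).pow _
  have := hu.map (cst A.hom ⊤)
  rwa [map_pow, map_natCast, ← Nat.cast_pow] at this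

/-- Powers prime to the characteristic are unbounded. -/
theorem exists_large (K : Type u) [Field K] (N : ℕ) : ∃ n : ℕ, N ≤ n ∧ (n : K) ≠ 0 := by
  by_cases h : (N : K) = 0
  · exact ⟨N + 1, Nat.le_succ N, by rw [Nat.cast_succ, h, zero_add]; exact one_ne_zero⟩
  · exact ⟨N, le_rfl, h⟩

/-- **Ample classes have index zero.** -/
theorem conc_zero_of_isAmple {g : ℕ} (hg : topologicalKrullDim A.left = g) {L : A.left.Modules} {z : Pic A.left}
    (hL : HasCls L z) (hA : CohB1.IsAmple L) : Conc z 0 := by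
  haveI : IsLocallyNoetherian A.left := LocallyOfFiniteType.isLocallyNoetherian A.hom
  letI : A.left.Over (Spec (CommRingCat.of K)) := ⟨A.hom⟩
  haveI : IsProper (A.left ↘ Spec (CommRingCat.of K)) := ‹IsProper A.hom›
  obtain ⟨i, -, h, -⟩ := exists_conc hg (nondeg_of_isAmple hL hA)
  obtain ⟨n₀, hn₀⟩ := SerreVanish.exists_forall_subsingleton K hA
    (Euler.isCoh_of_isInvertible Euler.isInvertible_structure : Coh.IsCoh (Coh.structureModule A.left))
  obtain ⟨n, hn, hnK⟩ := exists_large K n₀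
  have h' := conc_sq hg h hnK
  rcases Nat.eq_zero_or_pos i with rfl | hi
  · exact h
  exfalso
  have hcls := (hasCls_structureModule A.left).tensor (hL.tensorPow (n ^ 2))
  rw [_root_.one_mul] at hcls
  exact (h'.subsingleton_iff hcls i).1 (hn₀ _ (hn.trans (Nat.le_self_pow two_ne_zero n)) i hi) rfl

end GrothLib.Index
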