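import Groth.Agent.Lib.Poincare.DualFib

/-!
# Base change of dual abelian schemes
-/

set_option autoImplicit false
set_option linter.all false
set_option backward.isDefEq.respectTransparency false

universe u

open CategoryTheory CategoryTheory.Limits AlgebraicGeometry Opposite
open MonoidalCategory CartesianMonoidalCategory
open GrothLib.Ample GrothLib.Cube
open scoped MonObj

noncomputable section

namespace GrothLib.DualBC

variable {S S' : Scheme.{u}} (b : S' ⟶ S)

/-- A scheme over the new base, over the old one. -/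
abbrev res (T : Over S') : Over S := Over.mk (T.hom ≫ b)

/-- A morphism over the new base, over the old one. -/
def resMap {T T' : Over S'} (g : T' ⟶ T) : res b T' ⟶ res b T :=
  Over.homMk g.left (by show g.left ≫ T.hom ≫ b = T'.hom ≫ b; rw [← Category.assoc, Over.w g])

/-- The base change. -/
abbrev bcObj (A : Over S) : Over S' := (Over.pullback b).obj A

variable {b} {A B : Over S} {T T' : Over S'}

/-- A point of the base change as a point. -/
def down (f : T ⟶ bcObj b A) : res b T ⟶ A :=
  Over.homMk (f.left ≫ pullback.fst A.hom b) (by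
    rw [Category.assoc, pullback.condition, ← Category.assoc]
    exact congrArg (· ≫ b) (Over.w f))

/-- A point as a point of the base change. -/
def up (u : res b T ⟶ A) : T ⟶ bcObj b A :=
  (Over.homMk (pullback.lift (𝟙 T.left) T.hom (Category.id_comp _)) (pullback.lift_snd _ _ _) :
    T ⟶ bcObj b (res b T)) ≫ (Over.pullback b).map u

theorem map_left_fst (h : A ⟶ B) :
    ((Over.pullback b).map h).left ≫ pullback.fst B.hom b = pullback.fst A.hom b ≫ h.left :=
  pullback.lift_fst _ _ _

theorem down_up (u : res b T ⟶ A) : down (up u) = u := by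
  refine Over.OverMorphism.ext ?_
  show (pullback.lift (𝟙 T.left) T.hom _ ≫ ((Over.pullback b).map u).left) ≫ pullback.fst A.hom b = u.left
  rw [Category.assoc, map_left_fst, ← Category.assoc]
  show (pullback.lift (𝟙 T.left) T.hom _ ≫ pullback.fst (T.hom ≫ b) b) ≫ u.left = u.left
  rw [pullback.lift_fst]
  exact Category.id_comp _

theorem up_down (f : T ⟶ bcObj b A) : up (down f) = f := by
  refine Over.OverMorphism.ext (pullback.hom_ext ?_ ?_)
  · exact congrArg CategoryTheory.Over.Hom.left (down_up (down f))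
  · exact (Over.w (up (down f))).trans (Over.w f).symm

theorem up_comp (g : T' ⟶ T) (u : res b T ⟶ A) : up (resMap b g ≫ u) = g ≫ up u := by
  refine Over.OverMorphism.ext (pullback.hom_ext ?_ ?_)
  · refine (congrArg CategoryTheory.Over.Hom.left (down_up (resMap b g ≫ u))).trans ?_
    show g.left ≫ u.left = (g.left ≫ (up u).left) ≫ pullback.fst A.hom b
    rw [Category.assoc]
    exact congrArg (g.left ≫ ·) (congrArg CategoryTheory.Over.Hom.left (down_up u)).symm
  · exact (Over.w (up (resMap b g ≫ u))).trans (Over.w (g ≫ up u)).symm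

theorem up_mul [GrpObj A] (u v : res b T ⟶ A) :
    letI : GrpObj (bcObj b A) := Functor.grpObjObj
    up (u * v) = up u * up v := by
  letI : GrpObj (bcObj b A) := Functor.grpObjObj
  unfold up
  rw [show (Over.pullback b).map (u * v) = (Over.pullback b).map u * (Over.pullback b).map v from
    map_mul (Functor.homMonoidHom (Over.pullback b)) u v, MonObj.comp_mul]

/-- The two fibre products. -/
def cmp (A : Over S) (T : Over S') : PicF.XT A.hom (res b T) ⟶ PicF.XT (bcObj b A).hom T :=
  pullback.lift (pullback.lift (pullback.fst A.hom (T.hom ≫ b)) (pullback.snd A.hom (T.hom ≫ b) ≫ T.hom)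
    (by rw [Category.assoc]; exact pullback.condition)) (pullback.snd A.hom (T.hom ≫ b))
    (by exact pullback.lift_snd _ _ _)

/-- The inverse. -/
def cmpInv (A : Over S) (T : Over S') : PicF.XT (bcObj b A).hom T ⟶ PicF.XT A.hom (res b T) :=
  pullback.lift (pullback.fst (bcObj b A).hom T.hom ≫ pullback.fst A.hom b) (pullback.snd (bcObj b A).hom T.hom)
    (by
      rw [Category.assoc, pullback.condition, ← Category.assoc]
      exact (congrArg (· ≫ b) (pullback.condition (f := (bcObj b A).hom) (g := T.hom))).trans (Category.assoc _ _ _))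

theorem cmp_cmpInv : cmp (b := b) A T ≫ cmpInv A T = 𝟙 _ := by
  refine pullback.hom_ext ?_ ?_
  · rw [Category.assoc, Category.id_comp, cmpInv, pullback.lift_fst, ← Category.assoc]
    refine (congrArg (· ≫ pullback.fst A.hom b) (pullback.lift_fst _ _ _)).trans ?_
    exact pullback.lift_fst _ _ _
  · rw [Category.assoc, Category.id_comp, cmpInv, pullback.lift_snd]
    exact pullback.lift_snd _ _ _

theorem cmpInv_cmp : cmpInv (b := b) A T ≫ cmp A T = 𝟙 _ := by
  refine pullback.hom_ext ?_ ?_
  · rw [Category.assoc, Category.id_comp, cmp, pullback.lift_fst]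
    refine pullback.hom_ext ?_ ?_
    · rw [Category.assoc, pullback.lift_fst]
      exact pullback.lift_fst _ _ _
    · rw [Category.assoc, pullback.lift_snd, ← Category.assoc]
      refine (congrArg (· ≫ T.hom) (pullback.lift_snd _ _ _)).trans ?_
      exact (pullback.condition (f := (bcObj b A).hom) (g := T.hom)).symm
  · rw [Category.assoc, Category.id_comp, cmp, pullback.lift_snd]
    exact pullback.lift_snd _ _ _

theorem cmp_proj : cmp (b := b) A T ≫ PicF.XTproj (bcObj b A).hom T = PicF.XTproj A.hom (res b T) :=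
  pullback.lift_snd _ _ _

theorem cmpInv_proj : cmpInv (b := b) A T ≫ PicF.XTproj A.hom (res b T) = PicF.XTproj (bcObj b A).hom T :=
  pullback.lift_snd _ _ _

theorem mono_cmpInv : Mono (cmpInv (b := b) A T) := by
  haveI : IsIso (cmpInv (b := b) A T) := ⟨cmp A T, cmpInv_cmp, cmp_cmpInv⟩
  infer_instance

theorem cmp_natural (g : T' ⟶ T) :
    PicF.XTmap A.hom (resMap b g) ≫ cmp A T = cmp A T' ≫ PicF.XTmap (bcObj b A).hom g := by
  haveI := mono_cmpInv (b := b) (A := A) (T := T)
  rw [← cancel_mono (cmpInv (b := b) A T), Category.assoc, Category.assoc, cmp_cmpInv, Category.comp_id]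
  refine pullback.hom_ext ?_ ?_
  · rw [PicF.XTmap, pullback.lift_fst, Category.comp_id, Category.assoc, Category.assoc, cmpInv, pullback.lift_fst,
      ← Category.assoc (PicF.XTmap _ g), PicF.XTmap, pullback.lift_fst, Category.comp_id, cmp, ← Category.assoc,
      pullback.lift_fst, pullback.lift_fst]
    rfl
  · rw [PicF.XTmap, pullback.lift_snd, Category.assoc, Category.assoc, cmpInv, pullback.lift_snd, PicF.XTmap,
      pullback.lift_snd, cmp, ← Category.assoc, pullback.lift_snd]
    rfl

theorem pullCl_comp {X Y Z : Scheme.{u}} (f : X ⟶ Y) (g : Y ⟶ Z) (c : PicF.Cl Z) :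
    PicF.pullCl f (PicF.pullCl g c) = PicF.pullCl (f ≫ g) c := by
  induction c using Quot.ind with
  | mk L => exact Quot.sound ⟨(Scheme.Modules.pullbackComp f g).app L⟩

theorem pullCl_id {X : Scheme.{u}} (c : PicF.Cl X) : PicF.pullCl (𝟙 X) c = c := by
  induction c using Quot.ind with
  | mk L => exact Quot.sound ⟨(Scheme.Modules.pullbackId X).app L⟩

/-- Classes in `Pic⁰` correspond under the comparison. -/
theorem isPicZeroCl_cmp {c : PicF.Cl (PicF.XT (bcObj b A).hom T)} :
    AbDual.IsPicZeroCl (bcObj b A).hom T c ↔ AbDual.IsPicZeroCl A.hom (res b T) (PicF.pullCl (cmp A T) c) := by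
  have aux : ∀ {X Y : Scheme.{u}} (p : X ⟶ T.left) (q : Y ⟶ T.left) (e : X ⟶ Y) (_ : e ≫ q = p)
      {L : Y.Modules} (hL : PicF.IsInvertible L), (∀ t, AbDual.IsAlgTrivialAt q L t) →
      ∀ t, AbDual.IsAlgTrivialAt p ((Scheme.Modules.pullback e).obj L) t := by
    intro X Y p q e he L hL h t Ω _ _ σ hσ
    let e' : pullback p σ ⟶ pullback q σ :=
      pullback.lift (pullback.fst p σ ≫ e) (pullback.snd p σ) (by rw [Category.assoc, he, pullback.condition])
    refine Dual.isAlgEquivZero_of_isIso (pullback.snd p σ) (pullback.snd q σ) e' (pullback.lift_snd _ _ _)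
      ((hasCls_clsMod hL).pullback (pullback.fst q σ)) ?_ (h t Ω σ hσ)
    rw [pull_comp, show e' ≫ pullback.fst q σ = pullback.fst p σ ≫ e from pullback.lift_fst _ _ _, ← pull_comp]
    exact ((hasCls_clsMod hL).pullback e).pullback _
  constructor
  · rintro ⟨L, rfl, hL, h⟩
    exact ⟨_, rfl, Ample.isInvertible_pullback _ hL, aux _ _ (cmp A T) cmp_proj hL h⟩
  · rintro ⟨L, hLc, hL, h⟩
    refine ⟨(Scheme.Modules.pullback (cmpInv A T)).obj L, ?_, Ample.isInvertible_pullback _ hL,
      aux _ _ (cmpInv A T) cmpInv_proj hL h⟩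
    show PicF.pullCl (cmpInv A T) (PicF.cl L) = c
    rw [hLc, pullCl_comp, cmpInv_cmp, pullCl_id]

variable (b) in
/-- The dual map after base change. -/
def phi {At : Over S} (φ : ∀ T : Over S, PicF.Cl (PicF.XT A.hom T) → (T ⟶ At)) (T : Over S')
    (c : PicF.Cl (PicF.XT (bcObj b A).hom T)) : T ⟶ bcObj b At :=
  up (φ (res b T) (PicF.pullCl (cmp A T) c))

variable (b) in
/-- **Duals commute with base change.** -/
theorem isDualAV (A At : Over S) [GrpObj At] (φ : ∀ T : Over S, PicF.Cl (PicF.XT A.hom T) → (T ⟶ At))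
    (hφ : AbDual.IsDualAV Scheme.fppfPrecoverage A At φ) :
    letI : GrpObj (bcObj b At) := Functor.grpObjObj
    AbDual.IsDualAV Scheme.fppfPrecoverage (bcObj b A) (bcObj b At) (phi b φ) := by
  letI : GrpObj (bcObj b At) := Functor.grpObjObj
  refine ⟨⟨fun T T' g c hc => ?_, fun T g => ?_, fun T c c' hc hc' he => ?_⟩, fun T L M hL hM => ?_⟩
  · rw [phi, phi, pullCl_comp, ← cmp_natural, ← pullCl_comp,
      hφ.relPic.natural (res b T) (res b T') (resMap b g) _ (isPicZeroCl_cmp.1 hc), up_comp]
  · obtain ⟨R, hR, hloc⟩ := hφ.relPic.locallySurjective (res b T) (down g)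
    refine ⟨R, hR, fun U u hu => ?_⟩
    obtain ⟨c, hc, hce⟩ := hloc u hu
    let j : res b (AbDual.ovr T u) ⟶ AbDual.ovr (res b T) u :=
      Over.homMk (𝟙 U) (by show 𝟙 U ≫ u ≫ T.hom ≫ b = (u ≫ T.hom) ≫ b; simp)
    refine ⟨PicF.pullCl (cmpInv A (AbDual.ovr T u)) (PicF.pullCl (PicF.XTmap A.hom j) c), ?_, ?_⟩
    · rw [isPicZeroCl_cmp, pullCl_comp, cmp_cmpInv, pullCl_id]
      exact Dual.isPicZeroCl_pull A.hom j hc
    · rw [phi, pullCl_comp, cmp_cmpInv, pullCl_id, hφ.relPic.natural _ _ j _ hc, hce, ← Category.assoc]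
      rw [show j ≫ AbDual.ovrHom (res b T) u = resMap b (AbDual.ovrHom T u) from
        Over.OverMorphism.ext (Category.id_comp u), up_comp, up_down]
  · have he' : φ (res b T) (PicF.pullCl (cmp A T) c) = φ (res b T) (PicF.pullCl (cmp A T) c') := by
      have h := congrArg down he
      rwa [phi, phi, down_up, down_up] at h
    obtain ⟨R, hR, hloc⟩ := hφ.relPic.locallyInjective (res b T) _ _ (isPicZeroCl_cmp.1 hc) (isPicZeroCl_cmp.1 hc') he'
    refine ⟨R, hR, fun U u hu => ?_⟩
    let j : res b (AbDual.ovr T u) ⟶ AbDual.ovr (res b T) u :=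
      Over.homMk (𝟙 U) (by show 𝟙 U ≫ u ≫ T.hom ≫ b = (u ≫ T.hom) ≫ b; simp)
    have h := congrArg (PicF.pullCl (PicF.XTmap A.hom j)) (hloc u hu)
    have e : PicF.XTmap A.hom j ≫ PicF.XTmap A.hom (AbDual.ovrHom (res b T) u) =
        PicF.XTmap A.hom (resMap b (AbDual.ovrHom T u)) := by
      refine pullback.hom_ext ?_ ?_
      · simp [PicF.XTmap]
      · simp [PicF.XTmap, resMap, j]
    have key : ∀ z, PicF.pullCl (cmpInv A (AbDual.ovr T u)) (PicF.pullCl (PicF.XTmap A.hom j)
        (PicF.pullCl (PicF.XTmap A.hom (AbDual.ovrHom (res b T) u)) (PicF.pullCl (cmp A T) z))) =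
        PicF.pullCl (PicF.XTmap (bcObj b A).hom (AbDual.ovrHom T u)) z := fun z => by
      rw [pullCl_comp (PicF.XTmap A.hom j), e, pullCl_comp (PicF.XTmap A.hom _), cmp_natural, pullCl_comp,
        ← Category.assoc, cmpInv_cmp, Category.id_comp]
    have h' := congrArg (PicF.pullCl (cmpInv A (AbDual.ovr T u))) h
    rwa [key, key] at h'
  · obtain ⟨L₁, eL, hLi, -⟩ := id hL
    obtain ⟨M₁, eM, hMi, -⟩ := id hM
    have eqv : Equivalence fun N N' : (PicF.XT (bcObj b A).hom T).Modules => Nonempty (N ≅ N') :=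
      ⟨fun N => ⟨Iso.refl N⟩, fun ⟨i⟩ => ⟨i.symm⟩, fun ⟨i⟩ ⟨j⟩ => ⟨i ≪≫ j⟩⟩
    obtain ⟨iL⟩ := eqv.eqvGen_iff.1 (Quot.eqvGen_exact eL.symm)
    obtain ⟨iM⟩ := eqv.eqvGen_iff.1 (Quot.eqvGen_exact eM.symm)
    have cL : HasCls L (clsMod hLi) :=
      ⟨RelProjK.isInvertible_of_iso iL hLi, (hasCls_clsMod _).eq (hasCls_clsMod hLi) ⟨iL⟩⟩
    have cM : HasCls M (clsMod hMi) :=
      ⟨RelProjK.isInvertible_of_iso iM hMi, (hasCls_clsMod _).eq (hasCls_clsMod hMi) ⟨iM⟩⟩
    have e : PicF.pullCl (cmp A T) (PicF.cl (CohB1.tensorMod L M)) =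
        PicF.cl (CohB1.tensorMod ((Scheme.Modules.pullback (cmp A T)).obj L)
          ((Scheme.Modules.pullback (cmp A T)).obj M)) := by
      have h1 := (cL.tensor cM).pullback (cmp (b := b) A T)
      have h2 := (cL.pullback (cmp (b := b) A T)).tensor (cM.pullback (cmp (b := b) A T))
      rw [map_mul] at h1
      exact Dual.cl_eq h1 h2
    rw [phi, e, hφ.mul _ _ _ (isPicZeroCl_cmp.1 hL) (isPicZeroCl_cmp.1 hM), up_mul]
    rfl

end GrothLib.DualBC
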