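import Groth.Agent.Lib.Cube.Square
import Groth.Agent.Lib.Cube.SeesawPic
import Groth.Prelude.Def_ThetaK

/-!
# The Mumford class along a point, and the subgroup scheme `K(L)`
-/

universe u

open CategoryTheory CategoryTheory.Limits MonoidalCategory CartesianMonoidalCategory AlgebraicGeometry
open scoped MonObj
open GrothLib.Cube

set_option backward.isDefEq.respectTransparency false

noncomputable section

namespace GrothLib.KL

variable {k : Type u} [Field k] {A T P : Over (Spec (CommRingCat.of k))} [GrpObj A]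

/-- The Mumford class of `x` on `A × T`, along `z : T ⟶ A`. -/
def mc (x : Pic A.left) (z : T ⟶ A) : Pic (A ⊗ T).left := addClass (fst A T) (snd A T ≫ z) x

theorem mc_eq (x : Pic A.left) (z : T ⟶ A) :
    mc x z = pull (fst A T * (snd A T ≫ z)).left x * (pull (fst A T).left x * pull (snd A T ≫ z).left x)⁻¹ := rfl

theorem whisker_comp_mul (z : T ⟶ A) : (A ◁ z) ≫ μ[A] = fst A T * (snd A T ≫ z) := by
  rw [Hom.mul_def]
  congr 1


theorem pull_mc (x : Pic A.left) (σ : P ⟶ T) (z : T ⟶ A) :
    pull (A ◁ σ).left (mc x z) = mc x (σ ≫ z) := by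
  rw [mc, mc, pull_addClass, whiskerLeft_fst, ← Category.assoc, whiskerLeft_snd, Category.assoc]

theorem pull_sec_mc (x : Pic A.left) (z : T ⟶ A) :
    pull (lift (1 : T ⟶ A) (𝟙 T)).left (mc x z) = 1 := by
  rw [mc, pull_addClass, lift_fst, lift_snd_assoc, Category.id_comp, addClass, _root_.one_mul, pull_one_hom,
    _root_.one_mul, mul_inv_cancel]

theorem pull_sec_snd (z : T ⟶ A) (m : Pic T.left) :
    pull (lift (1 : T ⟶ A) (𝟙 T)).left (pull (snd A T).left m) = m := by
  rw [pull_pull_over, lift_snd, pull_over_id]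

/-- A module class twisting `L` into its translate is forced. -/
theorem eq_of_translate (x : Pic A.left) (z : T ⟶ A) (m : Pic T.left)
    (h : pull (fst A T).left x * pull (snd A T).left m = pull (fst A T * (snd A T ≫ z)).left x) :
    m = pull z.left x ∧ mc x z = 1 := by
  have h2 := congrArg (pull (lift (1 : T ⟶ A) (𝟙 T)).left) h
  rw [map_mul, pull_sec_snd z, pull_pull_over, lift_fst, pull_one_hom, _root_.one_mul, pull_pull_over,
    MonObj.comp_mul, lift_fst, lift_snd_assoc, Category.id_comp, _root_.one_mul] at h2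
  refine ⟨h2, ?_⟩
  rw [mc_eq, ← h, ← pull_pull_over (snd A T) z, ← h2, mul_inv_cancel]

theorem translate_of_eq (x : Pic A.left) (z : T ⟶ A) (h : mc x z = 1) :
    pull (fst A T).left x * pull (snd A T).left (pull z.left x) = pull (fst A T * (snd A T ≫ z)).left x := by
  rw [mc_eq, mul_inv_eq_one] at h
  rw [h, pull_pull_over]

variable [IsProper A.hom] [GeometricallyIntegral A.hom]

theorem mc_mul (x : Pic A.left) (z₁ z₂ : T ⟶ A) : mc x (z₁ * z₂) = mc x z₁ * mc x z₂ := by
  have h := cubeClass_eq_one (fst A T) (snd A T ≫ z₁) (snd A T ≫ z₂) x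
  rw [cubeClass, mul_inv_eq_one, _root_.mul_assoc (fst A T)] at h
  simp only [mc, addClass, MonObj.comp_mul]
  generalize pull (fst A T * ((snd A T ≫ z₁) * (snd A T ≫ z₂))).left x = a at h ⊢
  generalize pull (fst A T).left x = p at h ⊢
  generalize pull ((snd A T ≫ z₁) * (snd A T ≫ z₂)).left x = c at h ⊢
  generalize pull (snd A T ≫ z₁).left x = q at h ⊢
  generalize pull (snd A T ≫ z₂).left x = r at h ⊢
  generalize pull (fst A T * (snd A T ≫ z₁)).left x = d at h ⊢
  generalize pull (fst A T * (snd A T ≫ z₂)).left x = e at h ⊢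
  have : a = d * e * c * (p * q * r)⁻¹ := by rw [← h]; group
  subst this
  simp only [mul_inv]
  calc d * e * c * (p⁻¹ * q⁻¹ * r⁻¹) * (p⁻¹ * c⁻¹) = (d * (p⁻¹ * q⁻¹)) * (e * (p⁻¹ * r⁻¹)) * (c * c⁻¹) := by
        ac_rfl
    _ = _ := by rw [mul_inv_cancel, _root_.mul_one]

theorem mc_one (x : Pic A.left) : mc x (1 : T ⟶ A) = 1 := by
  have h := mc_mul x (1 : T ⟶ A) 1
  rw [_root_.one_mul] at h
  exact left_eq_mul.1 h

/-- The Mumford class as a homomorphism in the point. -/
def mcHom (x : Pic A.left) : (T ⟶ A) →* Pic (A ⊗ T).left where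
  toFun := mc x
  map_one' := mc_one x
  map_mul' := mc_mul x

theorem mc_inv (x : Pic A.left) (z : T ⟶ A) : mc x z⁻¹ = (mc x z)⁻¹ := map_inv (mcHom x) z

omit [IsProper A.hom] [GeometricallyIntegral A.hom] in
theorem isMumfordTriv_iff {L : A.left.Modules} {x : Pic A.left} (hx : HasCls L x) (z : T ⟶ A) :
    ThetaGrp.IsMumfordTriv A L z ↔ mc x z = 1 := by
  have hm : ((A ◁ z) ≫ μ[A]).left = (fst A T * (snd A T ≫ z)).left := by rw [whisker_comp_mul]
  constructor
  · rintro ⟨M, hM, he⟩
    have h := (((hasCls_clsMod hM).pullback (snd A T).left).tensor (hx.pullback (fst A T).left)).tensor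
      (hx.pullback (snd A T ≫ z).left) |>.eq (hx.pullback ((A ◁ z) ≫ μ[A]).left) he
    rw [hm] at h
    have h1 : mc x z = pull (snd A T).left (clsMod hM) := by
      rw [mc_eq, ← h]; group
    have h2 := pull_sec_mc x z
    rw [h1, pull_sec_snd z] at h2
    rw [h1, h2, map_one]
  · intro h
    refine ⟨Coh.structureModule T.left, Euler.isInvertible_structure, ?_⟩
    refine ((((hasCls_structureModule T.left).pullback (snd A T).left).tensor (hx.pullback (fst A T).left)).tensor
      (hx.pullback (snd A T ≫ z).left)).iso (hx.pullback ((A ◁ z) ≫ μ[A]).left) ?_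
    rw [mc_eq, mul_inv_eq_one] at h
    rw [hm, h, map_one, _root_.one_mul]

omit [IsProper A.hom] [GeometricallyIntegral A.hom] in
theorem factors_iff {L : A.left.Modules} {x : Pic A.left} (hx : HasCls L x) {K : Over (Spec (CommRingCat.of k))}
    {i : K ⟶ A} (hK : ThetaGrp.IsKL A L i) (z : T ⟶ A) : (∃ y : T ⟶ K, y ≫ i = z) ↔ mc x z = 1 :=
  (hK.univ T z).symm.trans (isMumfordTriv_iff hx z)

omit [IsProper A.hom] [GeometricallyIntegral A.hom] in
theorem mc_incl {L : A.left.Modules} {x : Pic A.left} (hx : HasCls L x) {K : Over (Spec (CommRingCat.of k))}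
    {i : K ⟶ A} (hK : ThetaGrp.IsKL A L i) : mc x i = 1 :=
  (factors_iff hx hK i).1 ⟨𝟙 K, Category.id_comp i⟩

end GrothLib.KL
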