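import Groth.Agent.Lib.Cube.AmpleCrit
import Groth.Agent.Lib.Cube.MulFinite
import Groth.Agent.Lib.GrpdQuot.FppfGeom
import Groth.Agent.Lib.AbTors.Count
import Groth.Agent.Lib.AbTors.Descend
import Mathlib.LinearAlgebra.LinearIndependent.Lemmas

/-!
# Classes killed by pullback along `[n]` are counted by characters of the `n`-torsion

If `[n]^* y = 1`, a trivialisation of `[n]^* y` moves under translations by `n`-torsion points by a constant,
a character; if it is trivial the trivialisation descends and `y = 1`.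
-/

universe u

open CategoryTheory CategoryTheory.Limits Opposite TopologicalSpace AlgebraicGeometry
open MonoidalCategory CartesianMonoidalCategory MonObj
open GrothLib.Ample GrothLib.Cube
open scoped CategoryTheory.Obj

set_option backward.isDefEq.respectTransparency false

noncomputable section

namespace GrothLib.Poincare

section General

variable {X Y : Scheme.{u}} (c : Cocycle X) (f : Y ⟶ X)

/-- A family of units trivialising the pullback of a cocycle. -/
def IsTriv (w : ∀ i, Γ(Y, f ⁻¹ᵁ c.D i)) : Prop :=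
  (∀ i, IsUnit (w i)) ∧ ∀ (i k : c.ι) (W : Y.Opens) (hi : W ≤ f ⁻¹ᵁ c.D i) (hk : W ≤ f ⁻¹ᵁ c.D k),
    res hi (w i) = (c.comap f).G i k hi hk * res hk (w k)

theorem exists_isTriv (h : Triv (c.comap f)) : ∃ w, IsTriv c f w := by
  obtain ⟨a, ha⟩ := h
  refine ⟨fun i => res (le_inf le_top le_rfl) (a.1 i), fun i => isUnit_component ha i le_rfl,
    fun i k W hi hk => ?_⟩
  have := (c.comap f).sect_spec a i k (W := W) (le_inf le_top hi) (le_inf le_top hk)
  simp only [res_res]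
  rw [pow_one] at this
  exact this

theorem triv_of_units {X : Scheme.{u}} (c : Cocycle X) (v : ∀ i, Γ(X, c.D i)) (hu : ∀ i, IsUnit (v i))
    (h : ∀ (i k : c.ι) (W : X.Opens) (hi : W ≤ c.D i) (hk : W ≤ c.D k),
      res hi (v i) = c.G i k hi hk * res hk (v k)) : Triv c := by
  refine ⟨⟨fun i => res inf_le_right (v i), fun i k W hi hk => ?_⟩, top_le_iff.1 fun p _ => ?_⟩
  · rw [res_res, res_res, pow_one]
    exact h i k W _ _
  · obtain ⟨i, hi⟩ := c.exists_mem p
    rw [c.mem_locus_iff _ hi]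
    exact (Scheme.basicOpen_of_isUnit X ((hu i).map (res (inf_le_right : ⊤ ⊓ c.D i ≤ c.D i)))).ge ⟨trivial, hi⟩

theorem le_preimage_self {φ : Y ⟶ Y} (hφ : φ ≫ f = f) (U : X.Opens) : f ⁻¹ᵁ U ≤ φ ⁻¹ᵁ (f ⁻¹ᵁ U) := by
  conv_lhs => rw [← hφ]
  exact le_of_eq rfl

theorem appLE_congr_hom {g g' : Y ⟶ X} (h : g = g') {U : X.Opens} {V : Y.Opens} (e : V ≤ g ⁻¹ᵁ U)
    (e' : V ≤ g' ⁻¹ᵁ U) : g.appLE U V e = g'.appLE U V e' := by
  subst h; rfl

/-- Translate a trivialisation by an automorphism over `X`. -/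
def trans (φ : Y ⟶ Y) (hφ : φ ≫ f = f) (w : ∀ i, Γ(Y, f ⁻¹ᵁ c.D i)) (i : c.ι) : Γ(Y, f ⁻¹ᵁ c.D i) :=
  (φ.appLE _ _ (le_preimage_self f hφ (c.D i))).hom (w i)

variable {c f}

theorem IsTriv.trans {w : ∀ i, Γ(Y, f ⁻¹ᵁ c.D i)} (hw : IsTriv c f w) (φ : Y ⟶ Y) (hφ : φ ≫ f = f) :
    IsTriv c f (trans c f φ hφ w) := by
  refine ⟨fun i => (hw.1 i).map _, fun i k W hi hk => ?_⟩
  have hi' : W ≤ φ ⁻¹ᵁ (f ⁻¹ᵁ c.D i) := hi.trans (le_preimage_self f hφ _)
  have hk' : W ≤ φ ⁻¹ᵁ (f ⁻¹ᵁ c.D k) := hk.trans (le_preimage_self f hφ _)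
  have e : W ≤ φ ⁻¹ᵁ (f ⁻¹ᵁ c.D i ⊓ f ⁻¹ᵁ c.D k) := le_inf hi' hk'
  have h := congrArg (φ.appLE _ W e).hom (hw.2 i k (f ⁻¹ᵁ c.D i ⊓ f ⁻¹ᵁ c.D k) inf_le_left inf_le_right)
  rw [map_mul, appLE_res, appLE_res] at h
  unfold GrothLib.Poincare.trans
  rw [res_appLE, res_appLE, h]
  congr 1
  rw [Cocycle.comap_G, Cocycle.comap_G, ← CommRingCat.comp_apply, Scheme.Hom.appLE_comp_appLE,
    appLE_congr_hom hφ _ (le_inf hi hk)]

theorem trans_of_eq_id (φ : Y ⟶ Y) (hφ : φ ≫ f = f) (h : φ = 𝟙 Y) (w : ∀ i, Γ(Y, f ⁻¹ᵁ c.D i)) :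
    GrothLib.Poincare.trans c f φ hφ w = w := by
  subst h
  funext i
  unfold GrothLib.Poincare.trans
  simp only [Scheme.Hom.appLE, Scheme.Hom.id_app]; erw [Category.id_comp]
  exact res_self _ _

theorem trans_of_eq_comp (φ ψ χ : Y ⟶ Y) (hφ : φ ≫ f = f) (hψ : ψ ≫ f = f) (hχ : χ ≫ f = f) (h : χ = φ ≫ ψ)
    (w : ∀ i, Γ(Y, f ⁻¹ᵁ c.D i)) (i : c.ι) :
    GrothLib.Poincare.trans c f χ hχ w i =
      GrothLib.Poincare.trans c f φ hφ (GrothLib.Poincare.trans c f ψ hψ w) i := by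
  subst h
  unfold GrothLib.Poincare.trans
  rw [← CommRingCat.comp_apply, Scheme.Hom.appLE_comp_appLE]

/-- Two trivialisations differ by a global function. -/
theorem IsTriv.exists_eq_smul {w w' : ∀ i, Γ(Y, f ⁻¹ᵁ c.D i)} (hw : IsTriv c f w) (hw' : IsTriv c f w') :
    ∃ r : Γ(Y, ⊤), ∀ i, w' i = res le_top r * w i := by
  choose u hu using fun i => (hw.1 i).exists_right_inv
  obtain ⟨r, hr⟩ := exists_glue (fun i => f ⁻¹ᵁ c.D i) (O := ⊤) (fun _ => le_top) (c.comap f).cover.ge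
    (fun i => w' i * u i) (fun i k => by
      let O := f ⁻¹ᵁ c.D i ⊓ f ⁻¹ᵁ c.D k
      have e1 := hw'.2 i k O inf_le_left inf_le_right
      have e2 := hw.2 i k O inf_le_left inf_le_right
      have wi := congrArg (res (inf_le_left : O ≤ f ⁻¹ᵁ c.D i)) (hu i)
      have wk := congrArg (res (inf_le_right : O ≤ f ⁻¹ᵁ c.D k)) (hu k)
      simp only [map_mul, map_one] at wi wk
      simp only [map_mul]
      linear_combination (res (inf_le_left : O ≤ f ⁻¹ᵁ c.D i) (u i)) * e1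
        + (res (inf_le_right : O ≤ f ⁻¹ᵁ c.D k) (w' k) * res (inf_le_right : O ≤ f ⁻¹ᵁ c.D k) (u k)) * wi
        - ((c.comap f).G i k inf_le_left inf_le_right * res (inf_le_left : O ≤ f ⁻¹ᵁ c.D i) (u i) *
          res (inf_le_right : O ≤ f ⁻¹ᵁ c.D k) (w' k)) * wk
        - (res (inf_le_right : O ≤ f ⁻¹ᵁ c.D k) (w' k) * res (inf_le_right : O ≤ f ⁻¹ᵁ c.D k) (u k) *
          res (inf_le_left : O ≤ f ⁻¹ᵁ c.D i) (u i)) * e2)
  refine ⟨r, fun i => ?_⟩
  rw [hr i, _root_.mul_assoc, _root_.mul_comm (u i), hu i, _root_.mul_one]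

/-- The quotient of two trivialisations trivialises the quotient class. -/
theorem IsTriv.div {c' : Cocycle X} {w : ∀ i, Γ(Y, f ⁻¹ᵁ c.D i)} {w' : ∀ i, Γ(Y, f ⁻¹ᵁ c'.D i)}
    (hw : IsTriv c f w) (hw' : IsTriv c' f w') (u : ∀ i, Γ(Y, f ⁻¹ᵁ c'.D i)) (hu : ∀ i, w' i * u i = 1) :
    IsTriv (c.prod (Cube.inv c')) f (fun p : (c.prod (Cube.inv c')).ι =>
      res (f.preimage_mono (inf_le_left : c.D p.1 ⊓ c'.D p.2 ≤ c.D p.1)) (w p.1) *
        res (f.preimage_mono (inf_le_right : c.D p.1 ⊓ c'.D p.2 ≤ c'.D p.2)) (u p.2)) := by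
  refine ⟨fun p => ((hw.1 p.1).map _).mul ((IsUnit.of_mul_eq_one _ ((_root_.mul_comm _ _).trans (hu p.2))).map _),
    fun p q W hp hq => ?_⟩
  have h1 := hw.2 p.1 q.1 W (hp.trans (f.preimage_mono inf_le_left)) (hq.trans (f.preimage_mono inf_le_left))
  have hp2 : W ≤ f ⁻¹ᵁ c'.D p.2 := hp.trans (f.preimage_mono inf_le_right)
  have hq2 : W ≤ f ⁻¹ᵁ c'.D q.2 := hq.trans (f.preimage_mono inf_le_right)
  have h2 := hw'.2 q.2 p.2 W hq2 hp2
  have e1 := congrArg (res hp2) (hu p.2)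
  have e2 := congrArg (res hq2) (hu q.2)
  simp only [map_mul, map_one] at e1 e2
  simp only [map_mul]
  erw [res_res, res_res, res_res, res_res]
  have hG : ((c.prod (Cube.inv c')).comap f).G p q hp hq =
      (c.comap f).G p.1 q.1 (hp.trans (f.preimage_mono inf_le_left)) (hq.trans (f.preimage_mono inf_le_left)) *
        (c'.comap f).G q.2 p.2 hq2 hp2 := by
    let V := (c.D p.1 ⊓ c'.D p.2) ⊓ (c.D q.1 ⊓ c'.D q.2)
    have e : W ≤ f ⁻¹ᵁ V := le_inf hp hq
    rw [← Cocycle.appLE_G (c.prod (Cube.inv c')) f p q (V := V) inf_le_left inf_le_right e, Cocycle.prod_G, map_mul,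
      Cube.inv_G, Cocycle.appLE_G, Cocycle.appLE_G]
  rw [hG]
  linear_combination (res hp2 (u p.2)) * h1 +
    (-((c.comap f).G p.1 q.1 (hp.trans (f.preimage_mono inf_le_left)) (hq.trans (f.preimage_mono inf_le_left)) *
      res (hq.trans (f.preimage_mono inf_le_left)) (w q.1))) * (res hp2 (u p.2)) * e2 +
    ((c.comap f).G p.1 q.1 (hp.trans (f.preimage_mono inf_le_left)) (hq.trans (f.preimage_mono inf_le_left)) *
      res (hq.trans (f.preimage_mono inf_le_left)) (w q.1) * res hq2 (u q.2) * res hp2 (u p.2)) * h2 +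
    ((c.comap f).G p.1 q.1 (hp.trans (f.preimage_mono inf_le_left)) (hq.trans (f.preimage_mono inf_le_left)) *
      res (hq.trans (f.preimage_mono inf_le_left)) (w q.1) * res hq2 (u q.2) *
        (c'.comap f).G q.2 p.2 hq2 hp2) * e1

/-- The quotient of trivialisations scaled alike by an automorphism is invariant. -/
theorem trans_div_eq {c' : Cocycle X} (φ : Y ⟶ Y) (hφ : φ ≫ f = f) (r : Γ(Y, ⊤))
    {w : ∀ i, Γ(Y, f ⁻¹ᵁ c.D i)} {w' : ∀ i, Γ(Y, f ⁻¹ᵁ c'.D i)}
    (h : ∀ i, GrothLib.Poincare.trans c f φ hφ w i = res le_top r * w i)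
    (h' : ∀ i, GrothLib.Poincare.trans c' f φ hφ w' i = res le_top r * w' i)
    (u : ∀ i, Γ(Y, f ⁻¹ᵁ c'.D i)) (hu : ∀ i, w' i * u i = 1) :
    GrothLib.Poincare.trans (c.prod (Cube.inv c')) f φ hφ (fun p : (c.prod (Cube.inv c')).ι =>
      res (f.preimage_mono (inf_le_left : c.D p.1 ⊓ c'.D p.2 ≤ c.D p.1)) (w p.1) *
        res (f.preimage_mono (inf_le_right : c.D p.1 ⊓ c'.D p.2 ≤ c'.D p.2)) (u p.2)) =
    fun p : (c.prod (Cube.inv c')).ι =>
      res (f.preimage_mono (inf_le_left : c.D p.1 ⊓ c'.D p.2 ≤ c.D p.1)) (w p.1) *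
        res (f.preimage_mono (inf_le_right : c.D p.1 ⊓ c'.D p.2 ≤ c'.D p.2)) (u p.2) := by
  funext p
  set O := f ⁻¹ᵁ (c.D p.1 ⊓ c'.D p.2)
  have hl : O ≤ f ⁻¹ᵁ c.D p.1 := f.preimage_mono inf_le_left
  have hr : O ≤ f ⁻¹ᵁ c'.D p.2 := f.preimage_mono inf_le_right
  show (φ.appLE O O (le_preimage_self f hφ _)).hom (res hl (w p.1) * res hr (u p.2)) =
    res hl (w p.1) * res hr (u p.2)
  rw [map_mul, appLE_res, appLE_res]
  have e1 := congrArg (res hl) (h p.1)
  have e2 := congrArg (res hr) (h' p.2)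
  unfold GrothLib.Poincare.trans at e1 e2
  rw [map_mul, res_res, res_appLE] at e1 e2
  have e4 := congrArg (φ.appLE _ O (hr.trans (le_preimage_self f hφ _))).hom (hu p.2)
  have e5 := congrArg (res hr) (hu p.2)
  rw [map_mul, map_one] at e4 e5
  rw [e1]
  rw [e2] at e4
  linear_combination (res hl (w p.1) * res hr (u p.2)) * e4 -
    (res (le_top : O ≤ ⊤) r * res hl (w p.1) * (φ.appLE _ O (hr.trans (le_preimage_self f hφ _))).hom (u p.2)) * e5

end General

section AV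

variable {K : Type u} [Field K] {B : Over (Spec (CommRingCat.of K))}

theorem appLE_cst_over {B' : Over (Spec (CommRingCat.of K))} (φ : B' ⟶ B) {V : B.left.Opens} {W : B'.left.Opens}
    (e : W ≤ φ.left ⁻¹ᵁ V) (t : K) : (φ.left.appLE V W e).hom (cst B.hom V t) = cst B'.hom W t := by
  rw [appLE_cst]
  congr 2
  exact Over.w φ

/-- A trivialisation unchanged by the torsion translations comes from downstairs. -/
theorem triv_of_invariant [IsAlgClosed K] [GrpObj B] [IsCommMonObj B] [IsProper B.hom]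
    [GeometricallyIntegral B.hom] {n : ℕ} (hn : (n : K) ≠ 0) (q : B ⟶ B) (hq : q = (𝟙 B : B ⟶ B) ^ n)
    (c : Cocycle B.left) (w : ∀ i, Γ(B.left, q.left ⁻¹ᵁ c.D i)) (hw : IsTriv c q.left w)
    (hinv : ∀ (a : 𝟙_ _ ⟶ B) (h : (transl a).left ≫ q.left = q.left),
      a ^ n = 1 → trans c _ (transl a).left h w = w) : Triv c := by
  obtain ⟨hf, he, hs⟩ := AbMul.isFinite_etale_surjective_pow B (n : ℤ) (by exact_mod_cast hn)
  rw [zpow_natCast] at hf he hs
  haveI : IsIntegral B.left := GeometricallyIntegral.isIntegral_of_subsingleton B.hom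
  rw [← hq] at hf he hs
  let P : Over (Spec (CommRingCat.of K)) := Over.mk (pullback.fst q.left q.left ≫ B.hom)
  haveI : IsReduced P.left :=
    @GrothLib.RedSmooth.isReduced_of_smooth _ _ (pullback.fst q.left q.left) _ inferInstance
  haveI : LocallyOfFiniteType P.hom := inferInstanceAs (LocallyOfFiniteType (pullback.fst q.left q.left ≫ B.hom))
  let p₁ : P ⟶ B := Over.homMk (pullback.fst q.left q.left) rfl
  let p₂ : P ⟶ B := Over.homMk (pullback.snd q.left q.left) (by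
    show pullback.snd q.left q.left ≫ B.hom = pullback.fst q.left q.left ≫ B.hom
    conv_rhs => rw [← Over.w q, ← Category.assoc, pullback.condition, Category.assoc, Over.w q])
  have hp : p₁ ≫ q = p₂ ≫ q := by
    ext1
    exact pullback.condition
  have key : ∀ i (e : p₁.left ⁻¹ᵁ (q.left ⁻¹ᵁ c.D i) ≤ p₂.left ⁻¹ᵁ (q.left ⁻¹ᵁ c.D i)),
      (p₁.left.appLE (q.left ⁻¹ᵁ c.D i) _ le_rfl).hom (w i) = (p₂.left.appLE (q.left ⁻¹ᵁ c.D i) _ e).hom (w i) := by
    intro i e
    rw [← sub_eq_zero]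
    set V := p₁.left ⁻¹ᵁ (q.left ⁻¹ᵁ c.D i)
    set s : Γ(P.left, V) := _ - _ with hs'
    rw [← AlgebraicGeometry.basicOpen_eq_bot_iff]
    by_contra hne
    obtain ⟨p, hpm⟩ := exists_ptOf_mem (A := P) (O := P.left.basicOpen s)
      (by by_contra h0; exact hne ((Opens.not_nonempty_iff_eq_bot _).1 h0))
    set pt := IsLocalRing.closedPoint K
    have hpV : (⊤ : (𝟙_ (Over (Spec (CommRingCat.of K)))).left.Opens) ≤ p.left ⁻¹ᵁ V := fun x _ => by
      rw [Subsingleton.elim (α := ↥(Spec (CommRingCat.of K))) x pt]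
      exact P.left.basicOpen_le s hpm
    suffices h0 : (p.left.appLE V ⊤ hpV).hom s = 0 by
      have := Scheme.basicOpen_appLE p.left ⊤ V hpV s
      rw [h0, Scheme.basicOpen_zero] at this
      exact (this.ge ⟨trivial, hpm⟩ : pt ∈ (⊥ : Opens _))
    rw [hs', map_sub, sub_eq_zero, ← CommRingCat.comp_apply, ← CommRingCat.comp_apply,
      Scheme.Hom.appLE_comp_appLE, Scheme.Hom.appLE_comp_appLE]
    let a := (p ≫ p₁)⁻¹ * (p ≫ p₂)
    have hn' : (p ≫ p₁) ^ n = (p ≫ p₂) ^ n := by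
      rw [← AbTors.pow_comp_eq B (p ≫ p₁) n, ← AbTors.pow_comp_eq B (p ≫ p₂) n, Category.assoc, Category.assoc]
      rw [← hq]
      exact congrArg (p ≫ ·) hp
    have han : a ^ n = 1 := by rw [mul_pow, inv_pow, hn', inv_mul_cancel]
    have htr : transl a ≫ q = q := by
      rw [hq, AbTors.pow_comp_eq, transl, mul_pow, ← MonObj.comp_pow, han, MonObj.comp_one, _root_.mul_one]
    have e2 : p.left ≫ p₂.left = (p.left ≫ p₁.left) ≫ (transl a).left := by
      have : p ≫ p₂ = (p ≫ p₁) ≫ transl a := by rw [comp_transl_point, mul_inv_cancel_left]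
      exact congrArg CommaMorphism.left this
    have hta : (transl a).left ≫ q.left = q.left := congrArg CommaMorphism.left htr
    have hi := congrFun (hinv a hta han) i
    rw [appLE_congr_hom e2 (U := q.left ⁻¹ᵁ c.D i) (V := ⊤) _ ((show (⊤ : (𝟙_ (Over (Spec (CommRingCat.of K)))).left.Opens) ≤
        (p.left ≫ p₁.left) ⁻¹ᵁ (q.left ⁻¹ᵁ c.D i) from hpV).trans
          ((p.left ≫ p₁.left).preimage_mono (le_preimage_self q.left hta (c.D i))))]
    conv_lhs => rw [← hi]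
    unfold GrothLib.Poincare.trans
    rw [← CommRingCat.comp_apply, Scheme.Hom.appLE_comp_appLE]
  have hdesc : ∀ (U : B.left.Opens), Function.Injective (q.left.app U) ∧ ∀ f : Γ(B.left, q.left ⁻¹ᵁ U),
      (∀ {Z : Scheme.{u}} (g₁ g₂ : Z ⟶ B.left) (e₁ : ⊤ ≤ g₁ ⁻¹ᵁ (q.left ⁻¹ᵁ U)) (e₂ : ⊤ ≤ g₂ ⁻¹ᵁ (q.left ⁻¹ᵁ U)),
        g₁ ≫ q.left = g₂ ≫ q.left → g₁.appLE _ ⊤ e₁ f = g₂.appLE _ ⊤ e₂ f) → ∃ s, q.left.app U s = f :=
    fun U => GrpdQuot.sections_of_local_section q.left q.left (𝟙 B.left) (Category.id_comp q.left) U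
  have hv : ∀ i, ∃ v, q.left.app (c.D i) v = w i := fun i => by
    refine (hdesc (c.D i)).2 (w i) fun {Z} g₁ g₂ e₁ e₂ hg => ?_
    let m : Z ⟶ P.left := pullback.lift g₁ g₂ hg
    have hm1 : m ≫ p₁.left = g₁ := pullback.lift_fst _ _ _
    have hm2 : m ≫ p₂.left = g₂ := pullback.lift_snd _ _ _
    have e : p₁.left ⁻¹ᵁ (q.left ⁻¹ᵁ c.D i) ≤ p₂.left ⁻¹ᵁ (q.left ⁻¹ᵁ c.D i) := by
      rw [← Scheme.Hom.comp_preimage, ← Scheme.Hom.comp_preimage, ← Over.comp_left, hp, Over.comp_left]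
    have em : (⊤ : Z.Opens) ≤ m ⁻¹ᵁ (p₁.left ⁻¹ᵁ (q.left ⁻¹ᵁ c.D i)) := by
      rw [← Scheme.Hom.comp_preimage, hm1]; exact e₁
    have h1 := congrArg (m.appLE _ ⊤ em).hom (key i e)
    rw [← CommRingCat.comp_apply, ← CommRingCat.comp_apply, Scheme.Hom.appLE_comp_appLE,
      Scheme.Hom.appLE_comp_appLE, appLE_congr_hom hm1 _ e₁, appLE_congr_hom hm2 _ e₂] at h1
    exact h1
  choose v hv using hv
  refine triv_of_units c v (fun i => ?_) (fun i k W hi hk => (hdesc W).1 ?_)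
  · have hb : B.left.basicOpen (v i) = c.D i := by
      refine le_antisymm (B.left.basicOpen_le _) fun x hx => ?_
      obtain ⟨y, rfl⟩ := hs.surj x
      show y ∈ q.left ⁻¹ᵁ B.left.basicOpen (v i)
      rw [Scheme.preimage_basicOpen, hv i, Scheme.basicOpen_of_isUnit _ (hw.1 i)]
      exact hx
    have := RingedSpace.isUnit_res_basicOpen B.left.toRingedSpace (v i)
    obtain ⟨t, ht⟩ := this.exists_right_inv
    refine IsUnit.of_mul_eq_one (res hb.ge t) ?_
    have := congrArg (res hb.ge) ht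
    rw [map_mul, map_one] at this
    refine Eq.trans ?_ this
    congr 1
    exact ((res_res _ _ _).trans (res_self _ _)).symm
  · rw [map_mul, Scheme.Hom.app_eq_appLE, appLE_res, appLE_res, Cocycle.appLE_G]
    have hW := hw.2 i k (q.left ⁻¹ᵁ W) (q.left.preimage_mono hi) (q.left.preimage_mono hk)
    rw [← hv i, ← hv k, Scheme.Hom.app_eq_appLE, res_appLE, Scheme.Hom.app_eq_appLE, res_appLE] at hW
    exact hW

theorem cst_injective {V : B.left.Opens} (hV : (V : Set B.left).Nonempty) :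
    Function.Injective (cst B.hom V) := by
  haveI : Nonempty V := hV.to_subtype
  exact RingHom.injective _

theorem exists_cst_eq [GrpObj B] [IsProper B.hom] [GeometricallyIntegral B.hom] (r : Γ(B.left, ⊤)) :
    ∃ t : K, cst B.hom ⊤ t = r := by
  obtain ⟨t, ht⟩ := (isAntiAffine_of_proper (X := B) η[B]).2 r
  refine ⟨t, ?_⟩
  rw [← ht]
  simp [cst, Scheme.Hom.app_eq_appLE]

/-- `Pic[[n]^*]` is no larger than the `n`-torsion. -/
theorem finite_ker_pull_pow [IsAlgClosed K] [GrpObj B] [IsCommMonObj B] [IsProper B.hom]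
    [GeometricallyIntegral B.hom] {b : ℕ} (hb : topologicalKrullDim B.left = (b : WithBot ℕ∞)) {n : ℕ}
    (hn : (n : K) ≠ 0) :
    Finite {y : Pic B.left // pull ((𝟙 B : B ⟶ B) ^ n).left y = 1} ∧
      Nat.card {y : Pic B.left // pull ((𝟙 B : B ⟶ B) ^ n).left y = 1} ≤ n ^ (2 * b) := by
  classical
  set q := (𝟙 B : B ⟶ B) ^ n with hq
  let G := AbDual.torsPts B n (𝟙_ (Over (Spec (CommRingCat.of K))))
  have hGn : ∀ a : G, a.1 ^ n = 1 := fun a => (AbDual.mem_torsPts B a.1).1 a.2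
  have hcard : Nat.card G = n ^ (2 * b) :=
    AbTors.card_torsPts B hb hn (𝟙 (Spec (CommRingCat.of K)))
  haveI : Finite G := Nat.finite_of_card_ne_zero (by
    rw [hcard]; exact pow_ne_zero _ (by rintro rfl; exact hn (by simp)))
  have htr : ∀ a : G, (transl a.1).left ≫ q.left = q.left := fun a => by
    have : transl a.1 ≫ q = q := by
      rw [hq, AbTors.pow_comp_eq, transl, mul_pow, ← MonObj.comp_pow, hGn a, MonObj.comp_one, _root_.mul_one]
    exact congrArg CommaMorphism.left this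
  -- the character of a class
  have hex : ∀ y : {y : Pic B.left // pull q.left y = 1}, ∃ (c : Cocycle B.left)
      (w : ∀ i, Γ(B.left, q.left ⁻¹ᵁ c.D i)) (χ : G →* K),
      cls c = y.1 ∧ IsTriv c q.left w ∧
        ∀ (a : G) (i : c.ι), trans c q.left (transl a.1).left (htr a) w i = cst B.hom _ (χ a) * w i := by
    rintro ⟨y, hy⟩
    obtain ⟨c, rfl⟩ := Quotient.exists_rep y
    obtain ⟨w, hw⟩ := exists_isTriv c q.left (cls_eq_one_iff.1 hy)
    have h1 : ∀ a : G, ∃ t : K, ∀ i, trans c q.left (transl a.1).left (htr a) w i = cst B.hom _ t * w i := fun a => by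
      obtain ⟨r, hr⟩ := hw.exists_eq_smul (hw.trans _ (htr a))
      obtain ⟨t, rfl⟩ := exists_cst_eq r
      exact ⟨t, fun i => by rw [hr i, res_cst]⟩
    choose χ hχ using h1
    obtain ⟨p⟩ : Nonempty B.left := ⟨(η[B]).left (IsLocalRing.closedPoint K)⟩
    obtain ⟨i₀, hi₀⟩ := (c.comap q.left).exists_mem p
    have huniq : ∀ (t t' : K), cst B.hom _ t * w i₀ = cst B.hom _ t' * w i₀ → t = t' := fun t t' h =>
      cst_injective ⟨p, hi₀⟩ ((hw.1 i₀).mul_right_cancel h)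
    refine ⟨c, w, { toFun := χ, map_one' := huniq _ _ ?_, map_mul' := fun a a' => huniq _ _ ?_ }, rfl, hw, hχ⟩
    · rw [← hχ 1 i₀, map_one, _root_.one_mul]
      exact congrFun (trans_of_eq_id _ _ (congrArg CommaMorphism.left transl_one) w) i₀
    · rw [← hχ (a * a') i₀, map_mul, _root_.mul_assoc, ← hχ a' i₀]
      rw [trans_of_eq_comp _ _ _ (htr a) (htr a') (htr (a * a'))
        (congrArg CommaMorphism.left (transl_comp a.1 a'.1).symm) w i₀]
      have := hχ a' i₀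
      have h2 := hχ a i₀
      unfold GrothLib.Poincare.trans at this h2 ⊢
      rw [this, map_mul, appLE_cst_over, h2]
      ring
  choose c w χ hc hw hχ using hex
  have hinj : Function.Injective χ := by
    intro y y' hyy
    choose u hu using fun i => ((hw y').1 i).exists_right_inv
    have ht := (hw y).div (hw y') u hu
    have h1 : Triv ((c y).prod (Cube.inv (c y'))) := by
      refine triv_of_invariant hn q hq _ _ ht fun a h han => ?_
      let a' : G := ⟨a, (AbDual.mem_torsPts B a).2 han⟩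
      refine trans_div_eq _ h (cst B.hom ⊤ (χ y a')) (fun i => ?_) (fun i => ?_) u hu
      · rw [res_cst]; exact hχ y a' i
      · rw [res_cst, hyy]; exact hχ y' a' i
    have h2 := cls_eq_one_iff.2 h1
    apply Subtype.ext
    rw [← hc y, ← hc y', ← mul_inv_eq_one]
    exact h2
  have hli := linearIndependent_monoidHom G K
  haveI : Fintype G := Fintype.ofFinite G
  haveI : Finite (G →* K) := hli.finite
  refine ⟨Finite.of_injective χ hinj, (Nat.card_le_card_of_injective χ hinj).trans ?_⟩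
  haveI : Fintype (G →* K) := Fintype.ofFinite _
  rw [← hcard, Nat.card_eq_fintype_card, Nat.card_eq_fintype_card]
  exact hli.fintype_card_le_finrank.trans (Module.finrank_pi K).le

end AV

end GrothLib.Poincare
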