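import Groth.Agent.Lib.Poincare.Descent
import Groth.Agent.Lib.GrpDeligne.AbVar
import Groth.Agent.Lib.DiagGrp.SubgroupEq
import Groth.Agent.Lib.HomFG.Finite
import Groth.Prelude.Def_EndRing
import Mathlib.RingTheory.Artinian.Module

/-!
# The rational endomorphism algebra is von Neumann regular, hence semisimple

A homomorphism which is not finite kills a nonzero abelian subvariety over the base field; so a surjection of
abelian varieties has a section up to isogeny, and with a complement of the image every endomorphism `φ` has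
`φ ψ φ = n φ`.
-/

universe u

open CategoryTheory CategoryTheory.Limits Opposite TopologicalSpace AlgebraicGeometry
open MonoidalCategory CartesianMonoidalCategory MonObj
open GrothLib.Cube
open GrothLib.DegPoly (bcMap bcMap_left_fst isPullback_bcMap isFinite_bcMap_iff ptsEquiv_comp)
open scoped CategoryTheory.Obj TensorProduct

set_option backward.isDefEq.respectTransparency false

noncomputable section

namespace GrothLib.Poincare

variable {K : Type u} [Field K] {A B : Over (Spec (CommRingCat.of K))}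
  [GrpObj A] [IsProper A.hom] [GeometricallyIntegral A.hom] [GrpObj B] [IsProper B.hom]
  [GeometricallyIntegral B.hom]

omit [GrpObj B] in
/-- A product of geometrically integral proper schemes over a field is geometrically integral. -/
theorem geometricallyIntegral_tensor (M C : Over (Spec (CommRingCat.of K))) [IsProper M.hom]
    [GeometricallyIntegral M.hom] [IsProper C.hom] [GeometricallyIntegral C.hom] :
    GeometricallyIntegral (M ⊗ C).hom := by
  haveI : IsIntegral M.left := GeometricallyIntegral.isIntegral_of_subsingleton M.hom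
  haveI : IsLocallyNoetherian M.left := LocallyOfFiniteType.isLocallyNoetherian M.hom
  refine ⟨fun L _ y Z fst snd h => ?_⟩
  have : IsIntegral (pullback (pullback.snd y M.hom) (pullback.fst M.hom C.hom)) := by
    have : IsIntegral (Spec (CommRingCat.of L)) := inferInstance
    have : IsIntegral (pullback y M.hom) := inferInstance
    have : IsLocallyNoetherian (pullback y M.hom) :=
      LocallyOfFiniteType.isLocallyNoetherian (pullback.fst y M.hom)
    infer_instance
  let I := pullbackLeftPullbackSndIso y M.hom (pullback.fst M.hom C.hom) ≪≫ h.flip.isoPullback.symm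
  haveI : Nonempty Z := ⟨I.hom (Classical.arbitrary _)⟩
  exact isIntegral_of_isOpenImmersion I.inv

/-- A proper geometrically integral group with dimension zero is a point. -/
theorem subsingleton_of_dim_zero (h : topologicalKrullDim B.left = 0) : Subsingleton B.left := by
  haveI : IsIntegral B.left := GeometricallyIntegral.isIntegral_of_subsingleton B.hom
  have h1 : (Set.univ : Set B.left).Subsingleton := Dim.subsingleton_of_dim_eq_zero isClosed_univ
    (IrreducibleSpace.isIrreducible_univ _) (le_of_eq ((Homeomorph.Set.univ B.left).isHomeomorph.topologicalKrullDim_eq.trans h))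
  exact ⟨fun x y => h1 trivial trivial⟩

/-- A homomorphism which is not finite kills a positive dimensional abelian subvariety. -/
theorem exists_subvariety_ker (f : A ⟶ B) [IsMonHom f] (hf : ¬ IsFinite f.left) :
    ∃ (W : Over (Spec (CommRingCat.of K))) (_ : GrpObj W) (j : W ⟶ A), IsProper W.hom ∧ GeometricallyIntegral W.hom ∧
      IsMonHom j ∧ IsClosedImmersion j.left ∧ ¬ Subsingleton W.left ∧ j ≫ f = 1 := by
  classical
  let Ω := AlgebraicClosure K
  let σ : Spec (CommRingCat.of Ω) ⟶ Spec (CommRingCat.of K) := Spec.map (CommRingCat.ofHom (algebraMap K Ω))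
  haveI := isCommMonObj_abVar (A := A)
  haveI := isCommMonObj_abVar (A := B)
  haveI : IsProper (DegPoly.bc σ A).hom := inferInstanceAs (IsProper (pullback.snd A.hom σ))
  haveI : GeometricallyIntegral (DegPoly.bc σ A).hom := inferInstanceAs (GeometricallyIntegral (pullback.snd A.hom σ))
  haveI : IsProper (DegPoly.bc σ B).hom := inferInstanceAs (IsProper (pullback.snd B.hom σ))
  haveI : GeometricallyIntegral (DegPoly.bc σ B).hom := inferInstanceAs (GeometricallyIntegral (pullback.snd B.hom σ))
  haveI := isCommMonObj_abVar (A := DegPoly.bc σ A)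
  haveI := isCommMonObj_abVar (A := DegPoly.bc σ B)
  set f' := bcMap σ f
  let F : (𝟙_ (Over (Spec (CommRingCat.of Ω))) ⟶ DegPoly.bc σ A) →* (𝟙_ (Over (Spec (CommRingCat.of Ω))) ⟶ DegPoly.bc σ B) :=
    { toFun := fun a => a ≫ f'
      map_one' := MonObj.one_comp f'
      map_mul' := fun a b => MonObj.mul_comp a b f' }
  have hclosed : ∀ a, ptOf a ∈ closure (ptOf '' (F.ker : Set (𝟙_ (Over (Spec (CommRingCat.of Ω))) ⟶ DegPoly.bc σ A))) →
      a ∈ F.ker := by
    intro a ha
    let e := ptOf (1 : 𝟙_ (Over (Spec (CommRingCat.of Ω))) ⟶ DegPoly.bc σ B)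
    have he : IsClosed ({e} : Set (DegPoly.bc σ B).left) := Rigidity.isClosed_point _
    have h1 : f'.left (ptOf a) = e := by
      refine closure_minimal (t := f'.left ⁻¹' {e}) ?_ (he.preimage f'.left.continuous) ha
      rintro _ ⟨b, hb, rfl⟩
      show f'.left (ptOf b) = e
      rw [apply_ptOf, show b ≫ f' = 1 from hb]
    exact eq_of_ptOf_eq (by show ptOf (a ≫ f') = e; rw [← apply_ptOf]; exact h1)
  obtain ⟨C₀, _, _, _, j₀, c, R, _, _, hc, hH, hR⟩ := exists_subvariety_of_closed F.ker hclosed
  -- some positive dimensional subvariety dies over the algebraic closure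
  obtain ⟨W₀, _, _, _, i₀, _, _, hW₀, hW₀'⟩ : ∃ (W₀ : Over (Spec (CommRingCat.of Ω))) (_ : GrpObj W₀)
      (_ : IsProper W₀.hom) (_ : GeometricallyIntegral W₀.hom) (i₀ : W₀ ⟶ DegPoly.bc σ A),
      IsMonHom i₀ ∧ IsClosedImmersion i₀.left ∧ i₀ ≫ f' = 1 ∧ ¬ Subsingleton W₀.left := by
    by_contra hno
    refine hf ((isFinite_bcMap_iff σ f).1 (AbTors.isFinite_of_forall_subgroup f' fun W _ _ _ i _ _ hi => ?_))
    by_contra hW
    exact hno ⟨W, inferInstance, inferInstance, inferInstance, i, inferInstance, inferInstance, hi, hW⟩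
  haveI := isCommMonObj_abVar (A := W₀)
  obtain ⟨w, hw⟩ := AbTors.exists_dim W₀
  have hw0 : w ≠ 0 := fun h => hW₀' (subsingleton_of_dim_zero (by rw [hw, h]; rfl))
  have hwc : w ≤ c := by
    refine (le_add_of_bound (K := Ω) (a := w) (b := 0) (c := c) (R := R) fun n hn => ?_).trans (by omega)
    rw [Nat.mul_zero, pow_zero, _root_.mul_one]
    refine le_trans ?_ (hR n hn)
    rw [← AbTors.card_torsPts W₀ hw hn (𝟙 (Spec (CommRingCat.of Ω))), ← Nat.card_coe_set_eq]
    haveI : Finite {a : 𝟙_ (Over (Spec (CommRingCat.of Ω))) ⟶ DegPoly.bc σ A | a ^ n = 1 ∧ a ∈ F.ker} := by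
      obtain ⟨g, hg⟩ := AbTors.exists_dim (DegPoly.bc σ A)
      haveI : Finite (AbDual.torsPts (DegPoly.bc σ A) n (𝟙_ (Over (Spec (CommRingCat.of Ω))))) :=
        Nat.finite_of_card_ne_zero ((AbTors.card_torsPts (DegPoly.bc σ A) hg hn (𝟙 _)).trans_ne
          (pow_ne_zero _ (by rintro rfl; exact hn (by simp))))
      exact Finite.of_injective (β := AbDual.torsPts (DegPoly.bc σ A) n (𝟙_ (Over (Spec (CommRingCat.of Ω)))))
        (fun q => ⟨q.1, (AbDual.mem_torsPts (DegPoly.bc σ A) q.1).2 q.2.1⟩)
        fun q q' h => Subtype.ext (congrArg (fun z => z.1) h)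
    haveI : Mono i₀ := by
      haveI : Mono ((Over.forget _).map i₀) := inferInstanceAs (Mono i₀.left)
      exact (Over.forget _).mono_of_mono_map this
    refine Nat.card_le_card_of_injective (fun a => ⟨a.1 ≫ i₀, ?_, ?_⟩)
      fun a a' h => Subtype.ext ((cancel_mono i₀).1 (congrArg (fun z => z.1) h))
    · rw [← MonObj.pow_comp, (AbDual.mem_torsPts W₀ a.1).1 a.2, MonObj.one_comp]
    · show (a.1 ≫ i₀) ≫ f' = 1
      rw [Category.assoc, hW₀, MonObj.comp_one]
  obtain ⟨W, _, j, _, _, _, _, hr, hpt⟩ := exists_descend A σ rfl F.ker (fun s a h => by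
    show pts σ (s ≫ a) ≫ f' = 1
    have h1 : pts σ a ≫ f' = 1 := h
    unfold pts at h1 ⊢
    erw [← ptsEquiv_comp σ] at h1 ⊢
    rw [Category.assoc]
    have h2 : a ≫ f = 1 := (DegPoly.ptsEquiv σ (A := B)).injective (h1.trans (map_one _).symm)
    rw [h2, MonObj.comp_one, map_one]) C₀ j₀ c R hc hH hR
  haveI := isCommMonObj_abVar (A := W)
  refine ⟨W, inferInstance, j, inferInstance, inferInstance, inferInstance, inferInstance, fun hsub => ?_, ?_⟩
  · haveI := hsub
    haveI : IsIntegral W.left := GeometricallyIntegral.isIntegral_of_subsingleton W.hom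
    haveI : IsIso W.hom := GrpDeligne.isIso_of_subsingleton W.hom η[W].left (Over.w η[W])
    haveI : Subsingleton ↥(DegPoly.bc σ W).left :=
      ⟨fun u v => (pullback.snd W.hom σ).isOpenEmbedding.injective
        (Subsingleton.elim (α := ↥(Spec (CommRingCat.of Ω))) _ _)⟩
    haveI : Subsingleton ↥C₀.left := ⟨fun u v => j₀.left.isClosedEmbedding.injective (by
      obtain ⟨u', hu⟩ := hr.ge ⟨u, rfl⟩
      obtain ⟨v', hv⟩ := hr.ge ⟨v, rfl⟩
      rw [← hu, ← hv, Subsingleton.elim u' v'])⟩
    haveI : IsIntegral C₀.left := GeometricallyIntegral.isIntegral_of_subsingleton C₀.hom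
    have : topologicalKrullDim C₀.left ≤ 0 := by
      haveI : DiscreteTopology C₀.left := Subsingleton.discreteTopology
      exact topologicalKrullDim_zero_of_discreteTopology _
    rw [hc] at this
    have : c = 0 := Nat.le_zero.1 (by exact_mod_cast this)
    omega
  · obtain ⟨l, hl, hlK⟩ := HomFG.exists_prime_ne_zero K
    refine AbTors.eq_one_of_forall_tors σ hl.one_lt hlK (j ≫ f) fun n a _ => ?_
    refine (DegPoly.ptsEquiv σ (A := B)).injective ?_
    rw [map_one, ← Category.assoc, ptsEquiv_comp, ptsEquiv_comp, Category.assoc]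
    exact (Category.assoc _ _ _).symm.trans (hpt _)

/-- A surjection of abelian varieties has a section up to a positive integer. -/
theorem exists_section_of_surjective (f : A ⟶ B) [IsMonHom f] [Surjective f.left] :
    ∃ (n : ℕ) (s : B ⟶ A), 0 < n ∧ IsMonHom s ∧ s ≫ f = 𝟙 B ^ n := by
  haveI := isCommMonObj_abVar (A := A)
  obtain ⟨g, hg⟩ := AbTors.exists_dim A
  induction g using Nat.strong_induction_on generalizing A with
  | _ g ih =>
    by_cases hfin : IsFinite f.left
    · haveI := isCommMonObj_abVar (A := B)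
      obtain ⟨n, s, hn, hs, -, hsf⟩ := GrpDeligne.exists_dual_hom_of_surjective A B f
      exact ⟨n, s, hn, hs, hsf⟩
    obtain ⟨W, _, j, _, _, _, _, hW, hjf⟩ := exists_subvariety_ker f hfin
    obtain ⟨W', _, j', _, _, _, _, hsurj, hfin'⟩ := exists_complement A W j
    haveI := isCommMonObj_abVar (A := W')
    haveI := isCommMonObj_abVar (A := W)
    set m := (fst W W' ≫ j) * (snd W W' ≫ j')
    haveI : Surjective (j' ≫ f).left := by
      have e : m ≫ f = snd W W' ≫ j' ≫ f := by
        rw [MonObj.mul_comp, Category.assoc, hjf, MonObj.comp_one, _root_.one_mul, Category.assoc]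
      haveI := hsurj
      haveI : Surjective (m ≫ f).left := by rw [Over.comp_left]; infer_instance
      rw [e, Over.comp_left] at this
      exact Surjective.of_comp (snd W W').left _
    obtain ⟨w, hw⟩ := AbTors.exists_dim W
    obtain ⟨w', hw'⟩ := AbTors.exists_dim W'
    haveI : IsProper (W ⊗ W').hom := inferInstanceAs (IsProper (pullback.fst W.hom W'.hom ≫ W.hom))
    haveI := geometricallyIntegral_tensor W W'
    haveI : IsIntegral (W ⊗ W').left := GeometricallyIntegral.isIntegral_of_subsingleton (W ⊗ W').hom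
    haveI := hfin'
    obtain ⟨N, hN, hN'⟩ := Dim.dim_closure_range_eq m.left A.hom
    have hsum : w + w' = g := by
      haveI := hsurj
      have hd : topologicalKrullDim (W ⊗ W').left = ((w + w' : ℕ) : WithBot ℕ∞) := by
        show topologicalKrullDim ↥(pullback W.hom W'.hom) = _
        rw [FBase7.topologicalKrullDim_pullback_eq_add, hw, hw']
        norm_cast
      rw [hsurj.surj.range_eq, closure_univ,
        (Homeomorph.Set.univ A.left).isHomeomorph.topologicalKrullDim_eq, hg] at hN'
      rw [hd] at hN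
      exact_mod_cast hN.trans hN'.symm
    have hw0 : w ≠ 0 := fun h => hW (subsingleton_of_dim_zero (by rw [hw, h]; rfl))
    obtain ⟨n, s, hn, hs, hsf⟩ := ih w' (by omega) (A := W') (j' ≫ f) inferInstance hw'
    exact ⟨n, s ≫ j', hn, inferInstance, by rw [Category.assoc, hsf]⟩

/-- Every endomorphism `φ` has `φ ψ φ = n φ` for some `ψ` and some positive `n`. -/
theorem exists_regular [IsCommMonObj A] (φ : EndAV.End A) :
    ∃ (n : ℕ) (ψ : EndAV.End A), 0 < n ∧ φ * ψ * φ = n • φ := by
  obtain ⟨M, _, i, _, _, _, _, hr, q, hq⟩ := Rigidity.exists_image φ.toHom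
  haveI := isCommMonObj_abVar (A := M)
  haveI : Mono i := by
    haveI : Mono ((Over.forget _).map i) := inferInstanceAs (Mono i.left)
    exact (Over.forget _).mono_of_mono_map this
  haveI : IsMonHom (q ≫ i) := by rw [hq]; infer_instance
  haveI : IsMonHom q := DiagGrp.isMonHom_of_comp_mono q i
  haveI : Surjective q.left := ⟨fun x => by
    obtain ⟨a, ha⟩ : i.left x ∈ Set.range φ.toHom.left := hr ▸ ⟨x, rfl⟩
    refine ⟨a, i.left.isClosedEmbedding.injective ?_⟩
    rw [← ha, ← Scheme.Hom.comp_apply, ← Over.comp_left, hq]⟩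
  obtain ⟨n', s, hn', _, hs⟩ := exists_section_of_surjective q
  obtain ⟨C, _, j, _, _, _, _, hsurj, hfin⟩ := exists_complement A M i
  haveI := isCommMonObj_abVar (A := C)
  haveI : IsProper (M ⊗ C).hom := inferInstanceAs (IsProper (pullback.fst M.hom C.hom ≫ M.hom))
  haveI : GeometricallyIntegral (M ⊗ C).hom := geometricallyIntegral_tensor M C
  haveI : IsMonHom ((fst M C ≫ i) * (snd M C ≫ j)) :=
    DiagGrp.isMonHom_mul_central i j fun X g h => _root_.mul_comm _ _
  haveI := isCommMonObj_abVar (A := M ⊗ C)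
  haveI := hsurj
  haveI := hfin
  obtain ⟨n, d, hn, _, hd, -⟩ := GrpDeligne.exists_dual_hom_of_surjective (M ⊗ C) A ((fst M C ≫ i) * (snd M C ≫ j))
  have hp : i ≫ d ≫ fst M C = 𝟙 M ^ n := by
    have e : i = lift (𝟙 M) 1 ≫ ((fst M C ≫ i) * (snd M C ≫ j)) := by
      rw [MonObj.comp_mul, lift_fst_assoc, lift_snd_assoc, MonObj.one_comp, _root_.mul_one, Category.id_comp]
    conv_lhs => rw [e]
    rw [Category.assoc, ← Category.assoc _ d, hd, MonObj.pow_comp, Category.id_comp, MonObj.comp_pow, lift_fst]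
  refine ⟨n * n', EndAV.End.of (d ≫ fst M C ≫ s), Nat.mul_pos hn hn', EndAV.End.ext ?_⟩
  rw [EndAV.End.toHom_mul, EndAV.End.toHom_mul, EndAV.End.toHom_of, EndAV.End.toHom_nsmul]
  conv_lhs => rw [← hq]
  simp only [Category.assoc]
  rw [reassoc_of% hp, reassoc_of% hs]
  simp only [MonObj.pow_comp, Category.id_comp, MonObj.comp_pow, hq]
  rw [← pow_mul, Nat.mul_comm]

omit [GrpObj A] [IsProper A.hom] [GeometricallyIntegral A.hom] in
/-- Every element of `End⁰` is a rational multiple of an endomorphism. -/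
theorem exists_smul_toEnd0 [GrpObj A] [IsCommMonObj A] (x : EndAV.End0 A) :
    ∃ (q : ℚ) (φ : EndAV.End A), x = q • EndAV.toEnd0 φ := by
  induction x using TensorProduct.induction_on with
  | zero => exact ⟨0, 0, (zero_smul _ _).symm⟩
  | tmul q φ => exact ⟨q, φ, by rw [EndAV.toEnd0_apply, TensorProduct.smul_tmul', smul_eq_mul, _root_.mul_one]⟩
  | add x y hx hy =>
    obtain ⟨q, φ, rfl⟩ := hx
    obtain ⟨r, ψ, rfl⟩ := hy
    refine ⟨(q.den * r.den : ℚ)⁻¹, (q.num * r.den) • φ + (r.num * q.den) • ψ, ?_⟩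
    rw [map_add, map_zsmul, map_zsmul, ← Int.cast_smul_eq_zsmul ℚ, ← Int.cast_smul_eq_zsmul ℚ, smul_add,
      smul_smul, smul_smul]
    have hq : (q.den : ℚ) ≠ 0 := by exact_mod_cast q.den_nz
    have hr : (r.den : ℚ) ≠ 0 := by exact_mod_cast r.den_nz
    congr 2
    · push_cast
      field_simp
      rw [Rat.mul_den_eq_num q]
    · push_cast
      field_simp
      rw [Rat.mul_den_eq_num r]

/-- `End⁰` of an abelian variety is semisimple. -/
theorem isSemisimpleRing_end0 [IsCommMonObj A] : IsSemisimpleRing (EndAV.End0 A) := by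
  haveI : Module.Finite ℤ (EndAV.End A) := HomFG.finite_hom (A := A) (B := A)
  haveI : Module.Finite ℚ (EndAV.End0 A) := inferInstance
  haveI : IsArtinianRing (EndAV.End0 A) := IsArtinianRing.of_finite ℚ _
  rw [IsArtinianRing.isSemisimpleRing_iff_jacobson, ← Ideal.jacobson_bot, eq_bot_iff]
  intro x hx
  obtain ⟨q, φ, rfl⟩ := exists_smul_toEnd0 x
  rcases eq_or_ne q 0 with rfl | hq
  · simp
  obtain ⟨n, ψ, hn, hψ⟩ := exists_regular φ
  have hn' : (n : ℚ) ≠ 0 := by exact_mod_cast hn.ne'
  set X := q • EndAV.toEnd0 φ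
  set Y := ((n : ℚ) * q)⁻¹ • EndAV.toEnd0 ψ
  have hXYX : X * Y * X = X := by
    simp only [X, Y, smul_mul_assoc, mul_smul_comm, smul_smul, ← map_mul, hψ, map_nsmul]
    rw [← Nat.cast_smul_eq_nsmul ℚ, smul_smul]
    congr 1
    field_simp
  obtain ⟨z, hz⟩ := Ideal.mem_jacobson_iff.1 hx (-Y)
  rw [Ideal.mem_bot] at hz
  have hz1 : z * (1 - Y * X) = 1 := by
    rw [mul_sub, _root_.mul_one, ← _root_.mul_assoc, ← sub_eq_zero]
    rw [← hz]
    have e1 : z * -Y = -(z * Y) := eq_neg_of_add_eq_zero_left (by rw [← mul_add, neg_add_cancel, mul_zero])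
    have e2 : -(z * Y) * X = -(z * Y * X) := eq_neg_of_add_eq_zero_left (by rw [← add_mul, neg_add_cancel, zero_mul])
    rw [e1, e2]
    abel
  have he : (1 - Y * X) * (1 - Y * X) = 1 - Y * X := by
    have : Y * X * (Y * X) = Y * X := by rw [_root_.mul_assoc, ← _root_.mul_assoc X, hXYX]
    rw [sub_mul, mul_sub, mul_sub, this]
    simp
  have h1 : 1 - Y * X = 1 := by
    calc 1 - Y * X = z * (1 - Y * X) * (1 - Y * X) := by rw [hz1, _root_.one_mul]
      _ = 1 := by rw [_root_.mul_assoc, he, hz1]
  rw [sub_eq_self] at h1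
  show X = 0
  rw [← hXYX, _root_.mul_assoc, h1, mul_zero]

end GrothLib.Poincare
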