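import Groth.Agent.Lib.Poincare.MumfordPoincare
import Groth.Agent.Lib.Poincare.PicZeroSurjCor
import Groth.Agent.Lib.Poincare.IndexPow
import Groth.Agent.Lib.Cube.MulFinite

/-!
# Classes algebraically equivalent to zero on an abelian variety
-/

set_option autoImplicit false
set_option linter.all false
set_option backward.isDefEq.respectTransparency false

universe u

open CategoryTheory CategoryTheory.Limits AlgebraicGeometry
open MonoidalCategory CartesianMonoidalCategory
open GrothLib.Ample GrothLib.Cube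
open scoped MonObj

noncomputable section

namespace GrothLib.PicZeroPts

variable {K : Type u} [Field K] [IsAlgClosed K] {A : Over (Spec (CommRingCat.of K))} [GrpObj A]
  [IsProper A.hom] [GeometricallyIntegral A.hom]

/-- `t_a^* x ⊗ x⁻¹`. -/
def diff (x : Pic A.left) (a : 𝟙_ (Over (Spec (CommRingCat.of K))) ⟶ A) : Pic A.left :=
  pull (transl a).left x * x⁻¹

theorem psi_id (x : Pic A.left) (a : 𝟙_ (Over (Spec (CommRingCat.of K))) ⟶ A) :
    Poincare.psi (𝟙 A) x a = diff x a := by
  show pull (𝟙 A * (toUnit A ≫ a)).left x * (pull (Over.Hom.left (𝟙 A)) x)⁻¹ = _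
  rw [pull_over_id]
  rfl

/-- An ample class and its translates give all invariant classes. -/
theorem exists_eq_diff {L : A.left.Modules} {x : Pic A.left} (hL : HasCls L x) (hA : CohB1.IsAmple L)
    {y : Pic A.left} (hy : ∀ b, pull (transl b).left y = y) : ∃ a, y = diff x a := by
  obtain ⟨a, ha⟩ := PicZeroSurj.exists_translate (Index.nondeg_of_isAmple hL hA) hy
  exact ⟨a, by rw [diff, ha, mul_comm x, mul_inv_cancel_right]⟩

/-- **Algebraically equivalent to zero means translation invariant.** -/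
theorem isAlgEquivZero_iff {L : A.left.Modules} {y : Pic A.left} (hL : HasCls L y) :
    @Pic13.IsAlgEquivZero K _ A.left ⟨A.hom⟩ L ↔ ∀ b, pull (transl b).left y = y := by
  refine ⟨PicZeroSurj.invariant_of_algEquivZero hL, fun h => ?_⟩
  obtain ⟨H, hH⟩ := exists_isAmple A
  obtain ⟨a, rfl⟩ := exists_eq_diff (hasCls_clsMod hH.1) hH h
  exact Dual.isAlgEquivZero_translate _ a hL

/-- Roots of points. -/
theorem exists_root (b : 𝟙_ (Over (Spec (CommRingCat.of K))) ⟶ A) {n : ℕ} (hn : n ≠ 0) :
    ∃ c : 𝟙_ (Over (Spec (CommRingCat.of K))) ⟶ A, c ^ n = b := by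
  haveI := Cube.surjective_pow A hn
  haveI := Cube.isFinite_pow A hn
  obtain ⟨s, hs⟩ := MumfordPoincare.exists_lift_geomPoint ((𝟙 A : A ⟶ A) ^ n).left b.left
  let c : 𝟙_ (Over (Spec (CommRingCat.of K))) ⟶ A := Over.homMk s (by
    rw [← Over.w ((𝟙 A : A ⟶ A) ^ n), ← Category.assoc, hs]
    exact Over.w b)
  refine ⟨c, ?_⟩
  have e : c ≫ (𝟙 A : A ⟶ A) ^ n = c ^ n := by rw [MonObj.comp_pow, Category.comp_id]
  rw [← e]
  exact Over.OverMorphism.ext hs

/-- **Translation invariance only depends on a positive power.** -/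
theorem invariant_of_pow {y : Pic A.left} {n : ℕ} (hn : n ≠ 0) (h : ∀ b, pull (transl b).left (y ^ n) = y ^ n) :
    ∀ b, pull (transl b).left y = y := by
  intro b
  haveI : IsCommMonObj A := isCommMonObj_abVar
  obtain ⟨c, rfl⟩ := exists_root b hn
  have h1 : Poincare.psi (𝟙 A) y (c ^ n) = 1 := by
    rw [map_pow, psi_id, diff, mul_pow, inv_pow, ← map_pow, h c, mul_inv_cancel]
  rwa [psi_id, diff, mul_inv_eq_one] at h1

section Transpose

variable {B : Over (Spec (CommRingCat.of K))} [GrpObj B] [IsProper B.hom] [GeometricallyIntegral B.hom]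

omit [IsAlgClosed K] [IsProper A.hom] [GeometricallyIntegral A.hom] [IsProper B.hom] [GeometricallyIntegral B.hom] in
theorem transl_comp (α : A ⟶ B) [IsMonHom α] (a : 𝟙_ (Over (Spec (CommRingCat.of K))) ⟶ A) :
    transl a ≫ α = α ≫ transl (a ≫ α) := by
  simp only [Cube.transl, MonObj.mul_comp, MonObj.comp_mul, Category.id_comp, Category.comp_id, Category.assoc,
    comp_toUnit_assoc]

omit [IsAlgClosed K] [IsProper A.hom] [GeometricallyIntegral A.hom] [IsProper B.hom] [GeometricallyIntegral B.hom] in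
theorem pull_diff (α : A ⟶ B) [IsMonHom α] (y : Pic B.left) (a : 𝟙_ (Over (Spec (CommRingCat.of K))) ⟶ A) :
    diff (pull α.left y) a = pull α.left (diff y (a ≫ α)) := by
  rw [diff, diff, map_mul, map_inv, pull_pull_over, pull_pull_over, transl_comp]

/-- **The transpose of a finite homomorphism is surjective on `Pic⁰`.** -/
theorem exists_pullback_eq (α : A ⟶ B) [IsMonHom α] [IsFinite α.left] {M : A.left.Modules}
    (hM : PicF.IsInvertible M) (hMa : @Pic13.IsAlgEquivZero K _ A.left ⟨A.hom⟩ M) :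
    ∃ N : B.left.Modules, PicF.IsInvertible N ∧ @Pic13.IsAlgEquivZero K _ B.left ⟨B.hom⟩ N ∧
      Nonempty ((Scheme.Modules.pullback α.left).obj N ≅ M) := by
  obtain ⟨H, hH⟩ := exists_isAmple B
  have hx := hasCls_clsMod hH.1
  obtain ⟨a, ha⟩ := exists_eq_diff (hx.pullback α.left) (Ample.isAmple_pullback_of_isAffineHom α.left hH)
    ((isAlgEquivZero_iff (hasCls_clsMod hM)).1 hMa)
  refine ⟨Dual.rep (diff (clsMod hH.1) (a ≫ α)), (Dual.hasCls_rep _).choose,
    Dual.isAlgEquivZero_translate _ _ (Dual.hasCls_rep _), ((Dual.hasCls_rep _).pullback α.left).iso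
      (hasCls_clsMod hM) ?_⟩
  rw [ha, pull_diff]

end Transpose

/-- On an abelian variety every invariant class moves an effective class to a translate. -/
theorem exists_effective : ∃ (W : A.left.Modules) (s : Coh.structureModule A.left ⟶ W), PicF.IsInvertible W ∧ s ≠ 0 ∧
    ∀ L : A.left.Modules, PicF.IsInvertible L →
      (∀ a : 𝟙_ (Over (Spec (CommRingCat.of K))) ⟶ A,
        Nonempty ((Scheme.Modules.pullback (𝟙 A * (toUnit A ≫ a)).left).obj L ≅ L)) →
      ∃ u : 𝟙_ (Over (Spec (CommRingCat.of K))) ⟶ A, Nonempty (CohB1.tensorMod (CohB1.tensorPow L 1) W ≅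
        (Scheme.Modules.pullback (𝟙 A * (toUnit A ≫ u)).left).obj W) := by
  obtain ⟨H, hH⟩ := exists_isAmple A
  have hx := hasCls_clsMod hH.1
  haveI : IsCommMonObj A := isCommMonObj_abVar
  obtain ⟨g, hg⟩ := AbTors.exists_dim A
  have hc := Index.conc_zero_of_isAmple hg hx hH
  haveI : IsIntegral A.left := GeometricallyIntegral.isIntegral_of_subsingleton A.hom
  haveI : Nontrivial (Coh.HH A.left H 0) :=
    not_subsingleton_iff_nontrivial.1 fun h => (hc.subsingleton_iff hx 0).1 h rfl
  obtain ⟨s, hs⟩ := Euler.exists_ne_zero_section (X := A.left) (L := H) inferInstance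
  refine ⟨H, FinCov.homOfSection s, hH.1, fun h0 => hs ?_, fun L hL hinv => ?_⟩
  · have h1 := FinCov.homOfSection_one s ⊤
    rw [h0] at h1
    simpa using h1.symm
  · obtain ⟨u, hu⟩ := exists_eq_diff hx hH (PicZeroSurj.invariant_of_iso (hasCls_clsMod hL) hinv)
    refine ⟨u, (((hasCls_clsMod hL).tensorPow 1).tensor hx).iso (hx.pullback _) ?_⟩
    rw [pow_one, hu, diff, inv_mul_cancel_right]

end GrothLib.PicZeroPts
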