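import Groth.Agent.Lib.Seesaw26.Criterion
import Groth.Agent.Lib.Cube.Square

/-!
# Cancelling an invertible module in a tensor product
-/

universe u

open CategoryTheory AlgebraicGeometry

noncomputable section

namespace GrothLib.KL

/-- A tensor complement of an invertible module in an invertible module is invertible. -/
theorem isInvertible_of_tensor_iso {X : Scheme.{u}} {L M N : X.Modules}
    (e : CohB1.tensorMod L M ≅ N) (hL : PicF.IsInvertible L) (hN : PicF.IsInvertible N) : PicF.IsInvertible M := by
  obtain ⟨c, ⟨i⟩⟩ := Ample.exists_cocycle hL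
  let T := (Cube.inv c).twist 1
  have hT : PicF.IsInvertible T := (Cube.inv c).isInvertible_twist 1
  obtain ⟨t⟩ := (Cube.clsMod_eq_one_iff (Ample.isInvertible_tensorMod hT hL)).1 (by
    rw [Cube.clsMod_tensorMod hT hL, Cube.clsMod_eq hT (Iso.refl _), Cube.clsMod_eq hL i, ← Cube.cls_prod]
    exact Quotient.sound (Cube.eqv_prod_inv c))
  let B := DCoh.tensorBi (X := X)
  let φ : M ≅ (B.obj T).obj N :=
    (OX.tensorUnitLeftIso M).symm ≪≫ (B.mapIso t.symm).app M ≪≫
      ((OX.tensorAssocNatIso.app T).app L).app M ≪≫ (B.obj T).mapIso e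
  exact RelProjK.isInvertible_of_iso φ (Ample.isInvertible_tensorMod hT hN)

/-- A module whose pullback along a retraction is invertible is invertible. -/
theorem isInvertible_of_section {X Y : Scheme.{u}} (s : Y ⟶ X) (p : X ⟶ Y) (h : s ≫ p = 𝟙 Y) {M : Y.Modules}
    (hM : PicF.IsInvertible ((Scheme.Modules.pullback p).obj M)) : PicF.IsInvertible M :=
  RelProjK.isInvertible_of_iso
    (((Scheme.Modules.pullbackId Y).app M).symm ≪≫ (Scheme.Modules.pullbackCongr h.symm).app M ≪≫
      ((Scheme.Modules.pullbackComp s p).app M).symm)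
    (Ample.isInvertible_pullback s hM)

end GrothLib.KL
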