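import Groth.Agent.Lib.Poincare.BidualField
import Groth.Agent.Lib.Poincare.DualBC
import Groth.Agent.Lib.FibreFlat.Fibrewise

/-!
# Biduality of abelian schemes
-/

set_option autoImplicit false
set_option linter.all false
set_option backward.isDefEq.respectTransparency false
set_option maxHeartbeats 1000000

universe u

open CategoryTheory CategoryTheory.Limits AlgebraicGeometry Opposite TopologicalSpace
open MonoidalCategory CartesianMonoidalCategory
open GrothLib.Ample GrothLib.Cube
open scoped MonObj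

noncomputable section

namespace GrothLib.Bidual

variable {S : Scheme.{u}}

/-- The swap over any base. -/
def swp (A B : Over S) : A ⊗ B ⟶ B ⊗ A := lift (snd A B) (fst A B)

section Class

variable {S' : Scheme.{u}} (b : S' ⟶ S) (A B : Over S)

/-- The projection from the base change. -/
def proj : DualBC.res b (DualBC.bcObj b B) ⟶ B := DualBC.down (𝟙 _)

/-- The comparison of products after base change. -/
def bcProd : (DualBC.bcObj b A ⊗ DualBC.bcObj b B).left ⟶ (A ⊗ B).left :=
  DualBC.cmpInv A (DualBC.bcObj b B) ≫ (A ◁ proj b B).left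

theorem proj_left : (proj b B).left = pullback.fst B.hom b := Category.id_comp _

theorem bcProd_fst : bcProd b A B ≫ (fst A B).left =
    (fst (DualBC.bcObj b A) (DualBC.bcObj b B)).left ≫ pullback.fst A.hom b := by
  rw [bcProd, Category.assoc, ← Over.comp_left, whiskerLeft_fst]
  exact pullback.lift_fst _ _ _

theorem bcProd_snd : bcProd b A B ≫ (snd A B).left =
    (snd (DualBC.bcObj b A) (DualBC.bcObj b B)).left ≫ pullback.fst B.hom b := by
  rw [bcProd, Category.assoc, ← Over.comp_left, whiskerLeft_snd, Over.comp_left, ← Category.assoc, proj_left]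
  exact congrArg (· ≫ pullback.fst B.hom b) (pullback.lift_snd _ _ _)

theorem bcProd_swp : (swp (DualBC.bcObj b B) (DualBC.bcObj b A)).left ≫ bcProd b A B =
    bcProd b B A ≫ (swp B A).left := by
  have e1 : (swp B A).left ≫ (fst A B).left = (snd B A).left := by
    rw [← Over.comp_left, swp, lift_fst]
  have e2 : (swp B A).left ≫ (snd A B).left = (fst B A).left := by
    rw [← Over.comp_left, swp, lift_snd]
  refine pullback.hom_ext (f := A.hom) (g := B.hom) ?_ ?_
  · show (_ ≫ _) ≫ (fst A B).left = (_ ≫ _) ≫ (fst A B).left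
    rw [Category.assoc, bcProd_fst, Category.assoc, e1, bcProd_snd, ← Category.assoc, ← Over.comp_left]
    congr 2
    rw [swp, lift_fst]
  · show (_ ≫ _) ≫ (snd A B).left = (_ ≫ _) ≫ (snd A B).left
    rw [Category.assoc, bcProd_snd, Category.assoc, e2, bcProd_fst, ← Category.assoc, ← Over.comp_left]
    congr 2
    rw [swp, lift_snd]

end Class

variable {A At : Over S} [GrpObj A] [GrpObj At]
  {φ : ∀ T : Over S, PicF.Cl (PicF.XT A.hom T) → (T ⟶ At)}
  (hφ : AbDual.IsDualAV Scheme.fppfPrecoverage A At φ)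

include hφ in
theorem pz_bc {S' : Scheme.{u}} (b : S' ⟶ S) {x : Pic (A ⊗ At).left} (hz : Dual.PZ A At x) :
    Dual.PZ (DualBC.bcObj b A) (DualBC.bcObj b At) (pull (bcProd b A At) x) := by
  have h := Dual.isPicZeroCl_pull A.hom (proj b At) ((Dual.pz_iff (Dual.hasCls_rep x)).2 hz)
  refine (Dual.pz_iff ((Dual.hasCls_rep x).pullback _)).1 ?_
  rw [DualBC.isPicZeroCl_cmp]
  have e : PicF.pullCl (DualBC.cmp A (DualBC.bcObj b At)) (PicF.cl ((Scheme.Modules.pullback (bcProd b A At)).obj (Dual.rep x)))
      = PicF.pullCl (PicF.XTmap A.hom (proj b At)) (PicF.cl (Dual.rep x)) := by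
    show PicF.pullCl (DualBC.cmp A (DualBC.bcObj b At)) (PicF.pullCl (bcProd b A At) (PicF.cl (Dual.rep x))) = _
    rw [DualBC.pullCl_comp, bcProd, ← Category.assoc, DualBC.cmp_cmpInv, Dual.XTmap_eq, Category.id_comp]
  rw [e]; exact h

include hφ in
theorem phi_bc {S' : Scheme.{u}} (b : S' ⟶ S) {x : Pic (A ⊗ At).left} (hz : Dual.PZ A At x) :
    Dual.dphi (DualBC.phi b φ) (DualBC.bcObj b At) (pull (bcProd b A At) x) =
      DualBC.up (proj b At ≫ Dual.dphi φ At x) := by
  rw [← Dual.dphi_eq ((Dual.hasCls_rep x).pullback (bcProd b A At)), DualBC.phi]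
  congr 1
  show φ _ (PicF.pullCl (DualBC.cmp A (DualBC.bcObj b At)) (PicF.pullCl (bcProd b A At) (PicF.cl (Dual.rep x)))) = _
  rw [DualBC.pullCl_comp, bcProd, ← Category.assoc, DualBC.cmp_cmpInv, Category.id_comp, ← Dual.XTmap_eq,
    hφ.relPic.natural _ _ _ _ ((Dual.pz_iff (Dual.hasCls_rep x)).2 hz)]
  rfl

omit [GrpObj At] in
theorem rigid_bc {S' : Scheme.{u}} (b : S' ⟶ S) {x : Pic (A ⊗ At).left}
    (hr : pull (lift (1 : At ⟶ A) (𝟙 At)).left x = 1) :
    letI : GrpObj (DualBC.bcObj b A) := Functor.grpObjObj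
    pull (lift (1 : DualBC.bcObj b At ⟶ DualBC.bcObj b A) (𝟙 _)).left (pull (bcProd b A At) x) = 1 := by
  letI : GrpObj (DualBC.bcObj b A) := Functor.grpObjObj
  have e : (lift (1 : DualBC.bcObj b At ⟶ DualBC.bcObj b A) (𝟙 _)).left ≫ bcProd b A At =
      pullback.fst At.hom b ≫ (lift (1 : At ⟶ A) (𝟙 At)).left := by
    refine pullback.hom_ext (f := A.hom) (g := At.hom) ?_ ?_
    · show (_ ≫ _) ≫ (fst A At).left = (_ ≫ _) ≫ (fst A At).left
      rw [Category.assoc, bcProd_fst, ← Category.assoc, ← Over.comp_left, lift_fst, Category.assoc,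
        ← Over.comp_left, lift_fst]
      have h1 : (Over.pullback b).map (1 : At ⟶ A) = (1 : DualBC.bcObj b At ⟶ DualBC.bcObj b A) :=
        map_one (Functor.homMonoidHom (Over.pullback b))
      rw [← h1]
      exact DualBC.map_left_fst _
    · show (_ ≫ _) ≫ (snd A At).left = (_ ≫ _) ≫ (snd A At).left
      rw [Category.assoc, bcProd_snd, ← Category.assoc, ← Over.comp_left, lift_snd, Category.assoc,
        ← Over.comp_left, lift_snd, Over.id_left, Over.id_left, Category.comp_id]
      exact Category.id_comp _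
  rw [pull_comp, e, ← pull_comp, hr, map_one]

/-- **Biduality of abelian schemes.** -/
theorem isIso_toBidual_rel [IsLocallyNoetherian S] {X Xt Xtt : Over S} [GrpObj X] [GrpObj Xt] [GrpObj Xtt]
    [IsProper X.hom] [Smooth X.hom] [GeometricallyConnected X.hom]
    [IsProper Xt.hom] [Smooth Xt.hom] [GeometricallyConnected Xt.hom]
    [IsProper Xtt.hom] [Smooth Xtt.hom] [GeometricallyConnected Xtt.hom]
    {φX : ∀ T : Over S, PicF.Cl (PicF.XT X.hom T) → (T ⟶ Xt)}
    {φXt : ∀ T : Over S, PicF.Cl (PicF.XT Xt.hom T) → (T ⟶ Xtt)}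
    (hX : AbDual.IsDualAV Scheme.fppfPrecoverage X Xt φX) (hXt : AbDual.IsDualAV Scheme.fppfPrecoverage Xt Xtt φXt)
    {P : (X ⊗ Xt).left.Modules} {x : Pic (X ⊗ Xt).left} (hP : HasCls P x)
    (hξ : AbDual.IsPoincareCl X Xt φX (PicF.cl P))
    (hz' : Dual.PZ Xt X (pull (swp Xt X).left x)) :
    IsMonHom (Dual.dphi φXt X (pull (swp Xt X).left x)) ∧ IsIso (Dual.dphi φXt X (pull (swp Xt X).left x)) := by
  haveI := Dual.geometricallyIntegral_of_abScheme X
  haveI := Dual.geometricallyIntegral_of_abScheme Xt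
  haveI := Dual.geometricallyIntegral_of_abScheme Xtt
  haveI : GeometricallyReduced X.hom := Rigidity.geometricallyReduced_of_smooth' X.hom
  haveI : Flat X.hom := inferInstance
  haveI : LocallyOfFinitePresentation X.hom := inferInstance
  set w := Dual.dphi φXt X (pull (swp Xt X).left x) with hw
  have hz : Dual.PZ X Xt x := (Dual.pz_iff hP).1 hξ.1
  have hd : Dual.dphi φX Xt x = 𝟙 Xt := (Dual.dphi_eq hP).symm.trans hξ.2.1
  have hr1 : pull (lift (1 : Xt ⟶ X) (𝟙 Xt)).left x = 1 := by
    have h := hξ.2.2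
    rw [Dual.secT_eq] at h
    exact Dual.cls_eq_of_cl_eq (hP.pullback _) (hasCls_structureModule _) h
  -- homomorphism
  haveI hmon : IsMonHom w := Rigidity.isMonHom_of_one_comp' w (by
    have h := Dual.dphi_pull hXt hz' η[X]
    have hA : (η[X] : 𝟙_ _ ⟶ X) = 1 := by rw [Hom.one_def, toUnit_unit, Category.id_comp]
    have hAt : (η[Xtt] : 𝟙_ _ ⟶ Xtt) = 1 := by rw [Hom.one_def, toUnit_unit, Category.id_comp]
    rw [CubeRel26.pull_pull_over, show Xt ◁ η[X] ≫ swp Xt X = fst Xt (𝟙_ _) ≫ lift (1 : Xt ⟶ X) (𝟙 Xt) by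
        rw [hA]
        apply CartesianMonoidalCategory.hom_ext <;> simp [swp, MonObj.comp_one],
      ← CubeRel26.pull_pull_over, hr1, map_one, Dual.dphi_one hXt] at h
    rw [hAt]
    exact h.symm)
  refine ⟨hmon, ?_⟩
  haveI : LocallyOfFinitePresentation (w.left ≫ Xtt.hom) := by rw [Over.w w]; infer_instance
  haveI : Flat (w.left ≫ Xtt.hom) := by rw [Over.w w]; infer_instance
  haveI : IsIso w.left := FibreFlat.isIso_of_fibrewise w.left Xtt.hom fun s => by
    let b := S.fromSpecResidueField s
    letI : GrpObj (DualBC.bcObj b X) := Functor.grpObjObj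
    letI : GrpObj (DualBC.bcObj b Xt) := Functor.grpObjObj
    letI : GrpObj (DualBC.bcObj b Xtt) := Functor.grpObjObj
    haveI : IsProper (DualBC.bcObj b X).hom := inferInstanceAs (IsProper (pullback.snd X.hom b))
    haveI : IsProper (DualBC.bcObj b Xt).hom := inferInstanceAs (IsProper (pullback.snd Xt.hom b))
    haveI : IsProper (DualBC.bcObj b Xtt).hom := inferInstanceAs (IsProper (pullback.snd Xtt.hom b))
    haveI : Smooth (DualBC.bcObj b X).hom := inferInstanceAs (Smooth (pullback.snd X.hom b))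
    haveI : Smooth (DualBC.bcObj b Xt).hom := inferInstanceAs (Smooth (pullback.snd Xt.hom b))
    haveI : Smooth (DualBC.bcObj b Xtt).hom := inferInstanceAs (Smooth (pullback.snd Xtt.hom b))
    haveI : GeometricallyIntegral (DualBC.bcObj b X).hom := inferInstanceAs (GeometricallyIntegral (pullback.snd X.hom b))
    haveI : GeometricallyIntegral (DualBC.bcObj b Xt).hom := inferInstanceAs (GeometricallyIntegral (pullback.snd Xt.hom b))
    haveI : GeometricallyIntegral (DualBC.bcObj b Xtt).hom :=
      inferInstanceAs (GeometricallyIntegral (pullback.snd Xtt.hom b))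
    let p := pull (bcProd b X Xt) x
    have hpz := pz_bc hX b hz
    have hp : AbDual.IsPoincareCl (DualBC.bcObj b X) (DualBC.bcObj b Xt) (DualBC.phi b φX) (PicF.cl (Dual.rep p)) := by
      refine ⟨(Dual.pz_iff (Dual.hasCls_rep p)).2 hpz, ?_, ?_⟩
      · refine (Dual.dphi_eq (φ := DualBC.phi b φX) (Dual.hasCls_rep p)).trans ?_
        rw [phi_bc hX b hz, hd, Category.comp_id]
        exact DualBC.up_down _
      · rw [Dual.secT_eq]
        have h := (Dual.hasCls_rep p).pullback (lift (1 : DualBC.bcObj b Xt ⟶ DualBC.bcObj b X) (𝟙 _)).left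
        rw [rigid_bc b hr1] at h
        exact Dual.cl_eq h (hasCls_structureModule _)
    have e : pull (swap (DualBC.bcObj b Xt) (DualBC.bcObj b X)).left p =
        pull (bcProd b Xt X) (pull (swp Xt X).left x) := by
      rw [pull_comp, pull_comp]
      exact congrArg (fun f => pull f x) (bcProd_swp b X Xt)
    have hzs : Dual.PZ (DualBC.bcObj b Xt) (DualBC.bcObj b X) (pull (bcProd b Xt X) (pull (swp Xt X).left x)) := by
      have h := Dual.isPicZeroCl_pull Xt.hom (proj b X) ((Dual.pz_iff (Dual.hasCls_rep _)).2 hz')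
      refine (Dual.pz_iff ((Dual.hasCls_rep (pull (swp Xt X).left x)).pullback (bcProd b Xt X))).1 ?_
      rw [DualBC.isPicZeroCl_cmp]
      show AbDual.IsPicZeroCl Xt.hom _ (PicF.pullCl (DualBC.cmp Xt (DualBC.bcObj b X))
        (PicF.pullCl (bcProd b Xt X) (PicF.cl (Dual.rep (pull (swp Xt X).left x)))))
      rw [DualBC.pullCl_comp, bcProd, ← Category.assoc, DualBC.cmp_cmpInv, Category.id_comp, ← Dual.XTmap_eq]
      exact h
    obtain ⟨-, hiso⟩ := isIso_toBidual (DualBC.isDualAV b X Xt φX hX) (DualBC.isDualAV b Xt Xtt φXt hXt) hp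
      (e ▸ hzs)
    have hmap : Dual.dphi (DualBC.phi b φXt) (DualBC.bcObj b X) (pull (bcProd b Xt X) (pull (swp Xt X).left x)) =
        (Over.pullback b).map w := by
      rw [← DualBC.up_down ((Over.pullback b).map w),
        ← Dual.dphi_eq ((Dual.hasCls_rep (pull (swp Xt X).left x)).pullback (bcProd b Xt X)), DualBC.phi]
      congr 1
      show φXt _ (PicF.pullCl (DualBC.cmp Xt (DualBC.bcObj b X))
        (PicF.pullCl (bcProd b Xt X) (PicF.cl (Dual.rep (pull (swp Xt X).left x))))) = _
      rw [DualBC.pullCl_comp, bcProd, ← Category.assoc, DualBC.cmp_cmpInv, Category.id_comp, ← Dual.XTmap_eq,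
        hXt.relPic.natural _ _ _ _ ((Dual.pz_iff (Dual.hasCls_rep _)).2 hz')]
      refine Over.OverMorphism.ext ?_
      show (proj b X).left ≫ w.left = ((Over.pullback b).map w).left ≫ pullback.fst Xtt.hom b
      rw [proj_left, DualBC.map_left_fst]
    rw [e, hmap] at hiso
    haveI := hiso
    haveI : IsIso ((Over.pullback b).map w).left :=
      Functor.map_isIso (Over.forget _) ((Over.pullback b).map w)
    have H : IsPullback (pullback.fst X.hom b) ((Over.pullback b).map w).left w.left (pullback.fst Xtt.hom b) := by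
      refine IsPullback.of_bot ?_ (DualBC.map_left_fst w).symm (IsPullback.of_hasPullback Xtt.hom b)
      rw [show ((Over.pullback b).map w).left ≫ pullback.snd Xtt.hom b = pullback.snd X.hom b from
        Over.w ((Over.pullback b).map w), Over.w w]
      exact IsPullback.of_hasPullback X.hom b
    show IsIso (pullback.snd w.left (pullback.fst Xtt.hom b))
    rw [← H.isoPullback_inv_snd]
    infer_instance
  haveI : IsIso ((Over.forget _).map w) := inferInstanceAs (IsIso w.left)
  exact isIso_of_reflects_iso w (Over.forget _)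

/-- The symmetry of the fibre product. -/
theorem pullbackSymmetry_eq (A B : Over S) : (pullbackSymmetry A.hom B.hom).hom = (swp A B).left := by
  refine pullback.hom_ext ?_ ?_
  · rw [pullbackSymmetry_hom_comp_fst]
    exact (congrArg (fun f : A ⊗ B ⟶ B => f.left) (lift_fst (snd A B) (fst A B))).symm
  · rw [pullbackSymmetry_hom_comp_snd]
    exact (congrArg (fun f : A ⊗ B ⟶ A => f.left) (lift_snd (snd A B) (fst A B))).symm

end GrothLib.Bidual
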