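import Groth.Agent.Lib.Poincare.Additive
import Groth.Agent.Lib.PicSep26.Separated
import Groth.Agent.Lib.Seesaw26.Scheme
import Mathlib.AlgebraicGeometry.Sites.Fpqc

/-!
# The dual map of an abelian scheme on Picard classes
-/

universe u

open CategoryTheory CategoryTheory.Limits Opposite AlgebraicGeometry
open MonoidalCategory CartesianMonoidalCategory MonObj
open GrothLib.Ample GrothLib.Cube

set_option backward.isDefEq.respectTransparency false

noncomputable section

namespace GrothLib.Dual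

variable {S : Scheme.{u}}

theorem sheafFor {T : Scheme.{u}} {R : Presieve T} (hR : R ∈ Scheme.fppfPrecoverage T) (Z : Scheme.{u}) :
    Presieve.IsSheafFor (yoneda.obj Z) R :=
  (Presieve.isSheafFor_iff_generate R).2
    ((GrothendieckTopology.Subcanonical.isSheaf_of_isRepresentable (J := Scheme.fppfTopology) (yoneda.obj Z))
      _ (Precoverage.generate_mem_toGrothendieck hR))

theorem cls_eq_one_of_mem {X : Scheme.{u}} (c : Cocycle X) (i₀ : c.ι) (h0 : (⊤ : X.Opens) ≤ c.D i₀) : cls c = 1 := by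
  refine Quotient.sound (eqv_of_map (c := c) (c' := Cocycle.triv _) (fun _ => PUnit.unit) (fun _ => le_top)
    (fun i => c.G i₀ i (le_top.trans h0) le_rfl) (fun i => c.isUnit_G _ _ _ _) fun i k O hi hk => ?_)
  rw [triv_G, _root_.mul_one, Cocycle.res_G, Cocycle.res_G, mul_comm]
  exact c.G_trans i₀ i k (le_top.trans h0) hi hk

/-- Morphisms agreeing on an fppf cover agree. -/
theorem hom_ext_fppf {T Z : Over S} {R : Presieve T.left} (hR : R ∈ Scheme.fppfPrecoverage T.left) (a b : T ⟶ Z)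
    (h : ∀ ⦃U : Scheme.{u}⦄ (u : U ⟶ T.left), R u → AbDual.ovrHom T u ≫ a = AbDual.ovrHom T u ≫ b) : a = b :=
  Over.OverMorphism.ext ((sheafFor hR Z.left).isSeparatedFor.ext fun _ f hf =>
    congrArg CategoryTheory.Over.Hom.left (h f hf))

/-- A point of a closed subscheme can be glued from an fppf cover. -/
theorem exists_factor_fppf {T Z : Scheme.{u}} (i : Z ⟶ T) [Mono i] {R : Presieve T}
    (hR : R ∈ Scheme.fppfPrecoverage T) (h : ∀ ⦃U : Scheme.{u}⦄ (u : U ⟶ T), R u → ∃ v : U ⟶ Z, v ≫ i = u) :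
    ∃ v : T ⟶ Z, v ≫ i = 𝟙 T := by
  choose v hv using h
  let x : Presieve.FamilyOfElements (yoneda.obj Z) R := fun U u hu => v u hu
  have hx : x.Compatible := by
    intro Y₁ Y₂ W g₁ g₂ f₁ f₂ h₁ h₂ e
    show g₁ ≫ v f₁ h₁ = g₂ ≫ v f₂ h₂
    rw [← cancel_mono i, Category.assoc, Category.assoc, hv, hv, e]
  refine ⟨(sheafFor hR Z).amalgamate x hx, (sheafFor hR T).isSeparatedFor.ext fun U u hu => ?_⟩
  show u ≫ (sheafFor hR Z).amalgamate x hx ≫ i = u ≫ 𝟙 T
  have e : u ≫ (sheafFor hR Z).amalgamate x hx = v u hu := (sheafFor hR Z).valid_glue hx u hu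
  rw [← Category.assoc, e, hv, Category.comp_id]

theorem exists_rep {X : Scheme.{u}} (x : Pic X) : ∃ L : X.Modules, HasCls L x := by
  obtain ⟨c, rfl⟩ := Quotient.exists_rep x
  exact ⟨c.twist 1, c.isInvertible_twist 1, clsMod_eq (c.isInvertible_twist 1) (Iso.refl _)⟩

/-- A module representing a class. -/
def rep {X : Scheme.{u}} (x : Pic X) : X.Modules := (exists_rep x).choose

theorem hasCls_rep {X : Scheme.{u}} (x : Pic X) : HasCls (rep x) x := (exists_rep x).choose_spec

variable {A T T' : Over S}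

/-- The class is in Pic⁰ over `T`. -/
def PZ (A T : Over S) (x : Pic (A ⊗ T).left) : Prop :=
  ∀ t : T.left, AbDual.IsAlgTrivialAt (PicF.XTproj A.hom T) (rep x) t

theorem algTrivial_congr {T : Over S} {L L' : (PicF.XT A.hom T).Modules} {x y : Pic (A ⊗ T).left}
    (hL : HasCls L x) (hL' : HasCls L' y)
    (hxy : ∀ (Ω : Type u) [Field Ω] (σ : Spec (CommRingCat.of Ω) ⟶ T.left),
      pull (pullback.fst (PicF.XTproj A.hom T) σ) x = pull (pullback.fst (PicF.XTproj A.hom T) σ) y) {t : T.left}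
    (h : AbDual.IsAlgTrivialAt (PicF.XTproj A.hom T) L t) : AbDual.IsAlgTrivialAt (PicF.XTproj A.hom T) L' t := by
  intro Ω _ _ σ hσ
  refine isAlgEquivZero_of_isIso _ (pullback.snd _ σ) (𝟙 _) (Category.id_comp _) (hL.pullback _) ?_ (h Ω σ hσ)
  rw [pull_id]
  exact (hxy Ω σ).symm ▸ hL'.pullback _

theorem pz_iff {L : (PicF.XT A.hom T).Modules} {x : Pic (A ⊗ T).left} (hL : HasCls L x) :
    AbDual.IsPicZeroCl A.hom T (PicF.cl L) ↔ PZ A T x := by
  constructor
  · rintro ⟨L', e, hL', h⟩ t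
    exact algTrivial_congr (hasCls_clsMod hL') (hasCls_rep x)
      (fun Ω _ σ => by rw [cls_eq_of_cl_eq (hasCls_clsMod hL') hL e]) (h t)
  · intro h
    exact ⟨L, rfl, hL.choose, fun t => algTrivial_congr (hasCls_rep x) hL (fun Ω _ σ => rfl) (h t)⟩

theorem pull_fibre_base (m : Pic T.left) {Ω : Type u} [Field Ω] (σ : Spec (CommRingCat.of Ω) ⟶ T.left) :
    pull (pullback.fst (PicF.XTproj A.hom T) σ) (pull (snd A T).left m) = 1 := by
  refine (pull_comp (pullback.fst (PicF.XTproj A.hom T) σ) (snd A T).left m).trans ?_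
  rw [show (snd A T).left = PicF.XTproj A.hom T from rfl, pullback.condition, ← pull_comp,
    pic_spec_field_eq_one (F := Ω) (pull σ m), map_one]

theorem PZ.mul_base {x : Pic (A ⊗ T).left} (h : PZ A T x) (m : Pic T.left) :
    PZ A T (x * pull (snd A T).left m) := fun t =>
  algTrivial_congr (hasCls_rep x) (hasCls_rep _)
    (fun Ω _ σ => by rw [map_mul, pull_fibre_base m σ, _root_.mul_one]) (h t)

theorem pz_one : PZ A T 1 := (pz_iff (hasCls_structureModule _)).1 (isPicZeroCl_one A.hom T (hasCls_structureModule _))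

theorem pz_base (m : Pic T.left) : PZ A T (pull (snd A T).left m) := by
  simpa using pz_one.mul_base (A := A) m

theorem PZ.pullT {x : Pic (A ⊗ T).left} (h : PZ A T x) (g : T' ⟶ T) : PZ A T' (pull (A ◁ g).left x) := by
  have h1 := isPicZeroCl_pull A.hom g ((pz_iff (hasCls_rep x)).2 h)
  rw [XTmap_eq] at h1
  exact (pz_iff ((hasCls_rep x).pullback _)).1 h1

theorem PZ.pullHom {B : Over S} {x : Pic (A ⊗ T).left} (h : PZ A T x) (f : B ⟶ A) :
    PZ B T (pull (f ▷ T).left x) := by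
  intro t Ω _ _ σ hσ
  have hsnd : (f ▷ T).left ≫ PicF.XTproj A.hom T = PicF.XTproj B.hom T :=
    congrArg CategoryTheory.Over.Hom.left (whiskerRight_snd f T)
  let e : pullback (PicF.XTproj B.hom T) σ ⟶ pullback (PicF.XTproj A.hom T) σ :=
    pullback.map (PicF.XTproj B.hom T) σ (PicF.XTproj A.hom T) σ (f ▷ T).left (𝟙 _) (𝟙 _)
      ((Category.comp_id _).trans hsnd.symm) (by simp)
  refine isAlgEquivZero_of_isIso _ (pullback.snd (PicF.XTproj A.hom T) σ) e
    ((pullback.lift_snd _ _ _).trans (Category.comp_id _)) ((hasCls_rep x).pullback _) ?_ (h t Ω σ hσ)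
  rw [pull_comp, show e ≫ pullback.fst (PicF.XTproj A.hom T) σ = pullback.fst (PicF.XTproj B.hom T) σ ≫ (f ▷ T).left
    from pullback.lift_fst _ _ _, ← pull_comp]
  exact (hasCls_rep (pull (f ▷ T).left x)).pullback _

variable {At : Over S}

/-- The dual map on classes. -/
def dphi (φ : ∀ T : Over S, PicF.Cl (PicF.XT A.hom T) → (T ⟶ At)) (T : Over S) (x : Pic (A ⊗ T).left) : T ⟶ At :=
  φ T (PicF.cl (rep x))

variable {φ : ∀ T : Over S, PicF.Cl (PicF.XT A.hom T) → (T ⟶ At)}

theorem dphi_eq {L : (PicF.XT A.hom T).Modules} {x : Pic (A ⊗ T).left} (hL : HasCls L x) :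
    φ T (PicF.cl L) = dphi φ T x := congrArg (φ T) (cl_eq hL (hasCls_rep x))

variable [GrpObj At] (hφ : AbDual.IsDualAV Scheme.fppfPrecoverage A At φ)
include hφ

theorem dphi_pull {x : Pic (A ⊗ T).left} (h : PZ A T x) (g : T' ⟶ T) :
    dphi φ T' (pull (A ◁ g).left x) = g ≫ dphi φ T x := by
  rw [← dphi_eq ((hasCls_rep x).pullback (A ◁ g).left)]
  have := hφ.relPic.natural T T' g (PicF.cl (rep x)) ((pz_iff (hasCls_rep x)).2 h)
  rw [XTmap_eq] at this
  exact this

theorem dphi_mul {x y : Pic (A ⊗ T).left} (hx : PZ A T x) (hy : PZ A T y) :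
    dphi φ T (x * y) = dphi φ T x * dphi φ T y := by
  rw [← dphi_eq ((hasCls_rep x).tensor (hasCls_rep y))]
  exact hφ.mul T _ _ ((pz_iff (hasCls_rep x)).2 hx) ((pz_iff (hasCls_rep y)).2 hy)

theorem dphi_one : dphi φ T (1 : Pic (A ⊗ T).left) = 1 := by
  rw [← dphi_eq (hasCls_structureModule _)]
  exact phi_one hφ T (hasCls_structureModule _)

/-- Classes from the base give the unit. -/
theorem dphi_base (m : Pic T.left) : dphi φ T (pull (snd A T).left m) = 1 := by
  obtain ⟨c, rfl⟩ := Quotient.exists_rep m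
  refine Over.OverMorphism.ext (Scheme.Cover.hom_ext (T.left.openCoverOfIsOpenCover c.D
    (TopologicalSpace.IsOpenCover.mk (top_le_iff.1 fun p _ => TopologicalSpace.Opens.mem_iSup.2 (c.exists_mem p)))) _ _
    fun i => ?_)
  let g : AbDual.ovr T (c.D i).ι ⟶ T := AbDual.ovrHom T (c.D i).ι
  have h1 : pull g.left (cls c) = 1 := by
    rw [pull_cls]
    exact cls_eq_one_of_mem (c.comap g.left) i fun z _ => z.2
  have h2 := dphi_pull hφ (pz_base (A := A) (cls c)) g
  rw [CubeRel26.pull_pull_over, whiskerLeft_snd, ← CubeRel26.pull_pull_over, h1, map_one, dphi_one hφ] at h2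
  have h3 : g ≫ (1 : T ⟶ At) = g ≫ dphi φ T (pull (snd A T).left (cls c)) := by rw [MonObj.comp_one]; exact h2
  exact (congrArg CategoryTheory.Over.Hom.left h3).symm

theorem dphi_mul_base {x : Pic (A ⊗ T).left} (hx : PZ A T x) (m : Pic T.left) :
    dphi φ T (x * pull (snd A T).left m) = dphi φ T x := by
  rw [dphi_mul hφ hx (pz_base m), dphi_base hφ, _root_.mul_one]

/-- Morphisms out of the dual are determined by classes. -/
theorem hom_ext_dual {Z : Over S} (a b : At ⟶ Z)
    (h : ∀ (T : Over S) (x : Pic (A ⊗ T).left), PZ A T x → dphi φ T x ≫ a = dphi φ T x ≫ b) : a = b := by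
  obtain ⟨R, hR, hloc⟩ := hφ.relPic.locallySurjective At (𝟙 At)
  refine hom_ext_fppf hR a b fun U u hu => ?_
  obtain ⟨c, ⟨L, rfl, hLi, hL⟩, hc⟩ := hloc u hu
  rw [Category.comp_id, dphi_eq (φ := φ) (hasCls_clsMod hLi)] at hc
  rw [← hc]
  exact h _ _ ((pz_iff (hasCls_clsMod hLi)).1 ⟨L, rfl, hLi, hL⟩)

omit hφ

variable [GrpObj A]

omit [GrpObj At] in
/-- The rigidification of a class. -/
theorem exists_rigid (x : Pic (A ⊗ T).left) :
    ∃ m : Pic T.left, pull (lift (1 : T ⟶ A) (𝟙 T)).left (x * pull (snd A T).left m) = 1 := by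
  refine ⟨(pull (lift (1 : T ⟶ A) (𝟙 T)).left x)⁻¹, ?_⟩
  rw [map_mul, CubeRel26.pull_pull_over, lift_snd, Over.id_left, pull_id, mul_inv_cancel]

omit [GrpObj At] in
/-- Pic⁰ classes rigidified along the unit are additive. -/
theorem pull_mul_hom [IsProper A.hom] [Flat A.hom] [LocallyOfFinitePresentation A.hom] [GeometricallyIntegral A.hom]
    {B : Over S} (f g : B ⟶ A) {x : Pic (A ⊗ T).left} (h : PZ A T x)
    (hr : pull (lift (1 : T ⟶ A) (𝟙 T)).left x = 1) :
    pull ((f * g) ▷ T).left x = pull (f ▷ T).left x * pull (g ▷ T).left x := by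
  have hd := congrArg (pull (lift f g ▷ T).left) (defect_eq_one x (hasCls_rep x) h hr)
  rw [map_one, pull_defect, lift_fst, lift_snd] at hd
  exact mul_inv_eq_one.1 hd

include hφ in
/-- Pullback of classes is additive in the homomorphism, after the dual map. -/
theorem dphi_mul_hom {B Bt : Over S} [GrpObj Bt] {ψ : ∀ T : Over S, PicF.Cl (PicF.XT B.hom T) → (T ⟶ Bt)}
    (hψ : AbDual.IsDualAV Scheme.fppfPrecoverage B Bt ψ)
    [IsProper A.hom] [Flat A.hom] [LocallyOfFinitePresentation A.hom] [GeometricallyIntegral A.hom]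
    (f g : B ⟶ A) {x : Pic (A ⊗ T).left} (h : PZ A T x) :
    dphi ψ T (pull ((f * g) ▷ T).left x) = dphi ψ T (pull (f ▷ T).left x) * dphi ψ T (pull (g ▷ T).left x) := by
  obtain ⟨m, hm⟩ := exists_rigid x
  have hb : ∀ k : B ⟶ A, pull (k ▷ T).left (x * pull (snd A T).left m) =
      pull (k ▷ T).left x * pull (snd B T).left m := fun k => by
    rw [map_mul, CubeRel26.pull_pull_over, whiskerRight_snd]
  have e : ∀ k : B ⟶ A, dphi ψ T (pull (k ▷ T).left (x * pull (snd A T).left m)) = dphi ψ T (pull (k ▷ T).left x) :=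
    fun k => by rw [hb, dphi_mul_base hψ (h.pullHom k)]
  rw [← e, ← e, ← e, pull_mul_hom f g (h.mul_base m) hm,
    dphi_mul hψ ((h.mul_base m).pullHom f) ((h.mul_base m).pullHom g)]

omit [GrpObj At] in
/-- A rigidified class which is trivial fppf-locally on the base is trivial. -/
theorem eq_one_of_fppf_local [IsProper A.hom] [Flat A.hom] [LocallyOfFinitePresentation A.hom]
    [GeometricallyIntegral A.hom]
    {x : Pic (A ⊗ T).left} (hr : pull (lift (1 : T ⟶ A) (𝟙 T)).left x = 1)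
    {R : Presieve T.left} (hR : R ∈ Scheme.fppfPrecoverage T.left)
    (hloc : ∀ ⦃U : Scheme.{u}⦄ (u : U ⟶ T.left), R u → pull (A ◁ AbDual.ovrHom T u).left x = 1) : x = 1 := by
  obtain ⟨Z, i, _, -, hZ⟩ := Seesaw26.exists_seesaw_subscheme' (PicF.XTproj A.hom T) (rep x) (hasCls_rep x).choose
  have hfac : ∀ ⦃U : Scheme.{u}⦄ (u : U ⟶ T.left), R u → ∃ v : U ⟶ Z, v ≫ i = u := fun U u hu => by
    refine (hZ U u).2 ⟨Coh.structureModule U, Euler.isInvertible_structure, ?_⟩
    refine ((hasCls_rep x).pullback _).iso ((hasCls_structureModule U).pullback _) ?_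
    have e2 := hloc u hu
    have hsq := PicSep26.isPullback_XTmap A.hom (AbDual.ovrHom T u)
    rw [XTmap_eq] at hsq
    have e3 := congrArg (pull hsq.isoPullback.inv) e2
    replace e3 := e3.trans (map_one _)
    rw [map_one]
    exact (congrArg (fun f => pull f x) hsq.isoPullback_inv_fst).symm.trans ((pull_comp _ _ _).symm.trans e3)
  obtain ⟨v, hv⟩ := exists_factor_fppf i hR hfac
  obtain ⟨N, hN, ⟨j⟩⟩ := (hZ T.left (𝟙 _)).1 ⟨v, hv⟩
  have e := ((hasCls_rep x).pullback (pullback.fst (PicF.XTproj A.hom T) (𝟙 T.left))).eq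
    ((hasCls_clsMod hN).pullback (pullback.snd (PicF.XTproj A.hom T) (𝟙 T.left))) ⟨j⟩
  have e' := congrArg (pull (pullback.lift (𝟙 (PicF.XT A.hom T)) (PicF.XTproj A.hom T)
    (by rw [Category.id_comp, Category.comp_id]) : PicF.XT A.hom T ⟶ pullback (PicF.XTproj A.hom T) (𝟙 T.left))) e
  rw [pull_comp, pull_comp, pullback.lift_fst, pullback.lift_snd, pull_id] at e'
  have hm : x = pull (snd A T).left (clsMod hN) := e'
  rw [hm, CubeRel26.pull_pull_over, lift_snd, Over.id_left, pull_id] at hr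
  rw [hm, hr, map_one]

include hφ in
/-- Rigidified Pic⁰ classes with the same image agree. -/
theorem eq_of_dphi [IsProper A.hom] [Flat A.hom] [LocallyOfFinitePresentation A.hom] [GeometricallyIntegral A.hom]
    {x y : Pic (A ⊗ T).left} (hx : PZ A T x) (hy : PZ A T y)
    (hr : pull (lift (1 : T ⟶ A) (𝟙 T)).left x = pull (lift (1 : T ⟶ A) (𝟙 T)).left y)
    (h1 : dphi φ T x = dphi φ T y) : x = y := by
  obtain ⟨R, hR, hloc⟩ := hφ.relPic.locallyInjective T _ _ ((pz_iff (hasCls_rep x)).2 hx) ((pz_iff (hasCls_rep y)).2 hy) h1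
  refine mul_inv_eq_one.1 (eq_one_of_fppf_local (by rw [map_mul, map_inv, hr, mul_inv_cancel]) hR fun U u hu => ?_)
  have e1 := hloc u hu
  rw [XTmap_eq] at e1
  rw [map_mul, map_inv]
  exact mul_inv_eq_one.2 (cls_eq_of_cl_eq ((hasCls_rep x).pullback _) ((hasCls_rep y).pullback _) e1)

include hφ in
/-- The dual map is injective on rigidified classes. -/
theorem eq_one_of_dphi [IsProper A.hom] [Flat A.hom] [LocallyOfFinitePresentation A.hom] [GeometricallyIntegral A.hom]
    {x : Pic (A ⊗ T).left} (h : PZ A T x) (hr : pull (lift (1 : T ⟶ A) (𝟙 T)).left x = 1)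
    (h1 : dphi φ T x = 1) : x = 1 :=
  eq_of_dphi hφ h pz_one (by rw [hr, map_one]) (h1.trans (dphi_one hφ).symm)

end GrothLib.Dual

namespace GrothLib.Dual

/-- Smooth proper group schemes with geometrically connected fibres have geometrically integral fibres. -/
theorem geometricallyIntegral_of_abScheme {S : Scheme.{u}} (X : Over S) [GrpObj X] [IsProper X.hom] [Smooth X.hom]
    [GeometricallyConnected X.hom] : GeometricallyIntegral X.hom := by
  haveI := Rigidity.geometricallyReduced_of_smooth' X.hom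
  exact CubeRel26.geometricallyIntegral_abScheme X

/-- A statement about classes suffices for transposes. -/
theorem isTranspose_of {S : Scheme.{u}} {A B At Bt : Over S} (f : A ⟶ B)
    (φA : ∀ T : Over S, PicF.Cl (PicF.XT A.hom T) → (T ⟶ At))
    (φB : ∀ T : Over S, PicF.Cl (PicF.XT B.hom T) → (T ⟶ Bt)) (ft : Bt ⟶ At)
    (h : ∀ (T : Over S) (x : Pic (B ⊗ T).left), PZ B T x →
      dphi φA T (pull (f ▷ T).left x) = dphi φB T x ≫ ft) :
    AbDual.IsTranspose f φA φB ft := by
  rintro T c ⟨L, rfl, hLi, hL⟩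
  rw [bcMap_eq, dphi_eq (φ := φB) (hasCls_clsMod hLi)]
  refine Eq.trans ?_ (h T _ ((pz_iff (hasCls_clsMod hLi)).1 ⟨L, rfl, hLi, hL⟩))
  exact dphi_eq ((hasCls_clsMod hLi).pullback _)

theorem dphi_transpose {S : Scheme.{u}} {A B At Bt : Over S} {f : A ⟶ B}
    {φA : ∀ T : Over S, PicF.Cl (PicF.XT A.hom T) → (T ⟶ At)}
    {φB : ∀ T : Over S, PicF.Cl (PicF.XT B.hom T) → (T ⟶ Bt)} {ft : Bt ⟶ At}
    (h : AbDual.IsTranspose f φA φB ft) {T : Over S} {x : Pic (B ⊗ T).left} (hx : PZ B T x) :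
    dphi φA T (pull (f ▷ T).left x) = dphi φB T x ≫ ft := by
  have := h T (PicF.cl (rep x)) ((pz_iff (hasCls_rep x)).2 hx)
  rw [bcMap_eq] at this
  rw [← dphi_eq ((hasCls_rep x).pullback (f ▷ T).left)]
  exact this

end GrothLib.Dual
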