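import Groth.Agent.Lib.FlatBCRpush.Main
import Groth.Agent.Lib.Poincare.KL
import Groth.Agent.Lib.OX.TildePerfect
import Groth.Agent.Lib.FFormal7.Affine
import Groth.Agent.Lib.Cohom.ResolutionCompare
import Groth.Agent.S0927

/-!
# Cohomology of a nontrivial translation invariant line bundle vanishes
-/

set_option autoImplicit false
set_option linter.all false
set_option backward.isDefEq.respectTransparency false
set_option maxHeartbeats 1000000

universe u

open CategoryTheory CategoryTheory.Limits AlgebraicGeometry Opposite TopologicalSpace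
open MonoidalCategory CartesianMonoidalCategory
open GrothLib.Ample GrothLib.Cube
open scoped MonObj

noncomputable section

namespace GrothLib.PicZeroVanish

/-- A morphism into a finite coproduct of objects receiving no nonzero morphism vanishes. -/
theorem sigma_hom_eq_zero {C : Type*} [Category C] [Preadditive C] {Y L : C} {n : ℕ}
    [HasCoproduct fun _ : Fin n => L] (hzero : ∀ s : Y ⟶ L, s = 0) (s : Y ⟶ ∐ fun _ : Fin n => L) : s = 0 := by
  classical
  have h : (∑ j : Fin n, Sigma.desc (fun i : Fin n => if i = j then 𝟙 L else 0) ≫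
      Sigma.ι (fun _ : Fin n => L) j) = 𝟙 _ := by
    refine Sigma.hom_ext _ _ fun i => ?_
    rw [Preadditive.comp_sum, Category.comp_id, Finset.sum_eq_single i]
    · simp
    · intro j _ hj
      simp [Ne.symm hj]
    · simp
  rw [← Category.comp_id s, ← h, Preadditive.comp_sum]
  refine Finset.sum_eq_zero fun j _ => ?_
  rw [← Category.assoc, hzero (s ≫ _), zero_comp]

variable {k : Type u} [Field k] {X : Over (Spec (CommRingCat.of k))} [GrpObj X]

/-- The class of `m^* L` in Mumford's form. -/
theorem pull_inv_mul {x : Pic X.left} (h : addClass (fst X X) (snd X X) x = 1) :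
    pull ((𝟙 X)⁻¹ : X ⟶ X).left x * x = 1 := by
  have h1 := congrArg (pull (lift (𝟙 X) ((𝟙 X)⁻¹ : X ⟶ X)).left) h
  rw [pull_addClass, lift_fst, lift_snd, map_one, addClass, mul_inv_cancel, pull_one_hom, _root_.one_mul,
    inv_eq_one, pull_over_id] at h1
  rw [mul_comm, h1]

variable [IsProper X.hom] [GeometricallyIntegral X.hom]

/-- A nontrivial translation invariant class has no nonzero sections. -/
theorem sect_eq_zero {c : Cocycle X.left} (h : addClass (fst X X) (snd X X) (cls c) = 1) (hc : ¬ Triv c)
    (a : c.sect 1 ⊤) : a = 0 := by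
  by_contra ha
  haveI : IsIntegral X.left := GeometricallyIntegral.isIntegral_of_subsingleton X.hom
  let i : X.left ⟶ X.left := ((𝟙 X)⁻¹ : X ⟶ X).left
  have hii : i ≫ i = 𝟙 X.left := by
    show ((𝟙 X)⁻¹ : X ⟶ X).left ≫ ((𝟙 X)⁻¹ : X ⟶ X).left = _
    rw [← Over.comp_left, GrpObj.comp_inv, Category.comp_id, inv_inv, Over.id_left]
  refine hc (triv_of_sections (Rigidity.isField_appTop_of_universallyClosed (K := k) X.hom) c (c.comap i) ?_
    ⟨a, ha⟩ ⟨c.pullSect i le_top a, fun h0 => ?_⟩)
  · rw [← pull_cls]
    exact pull_inv_mul h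
  · obtain ⟨q, hq⟩ : ((c.locus a : X.left.Opens) : Set X.left).Nonempty := by
      by_contra hne
      exact locus_ne_bot c ha ((Opens.not_nonempty_iff_eq_bot _).1 hne)
    obtain ⟨l, hl⟩ := (c.comap i).exists_mem (i q)
    have hm : i q ∈ (c.comap i).locus (c.pullSect i le_top a) := by
      rw [c.locus_pullSect i a]
      show i (i q) ∈ c.locus a
      rw [← Scheme.Hom.comp_apply, hii]
      exact hq
    rw [(c.comap i).mem_locus_iff _ hl, h0, show (0 : (c.comap i).sect 1 ⊤).1 l = 0 from rfl,
      Scheme.basicOpen_zero] at hm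
    exact hm

/-- All cohomology of a nontrivial translation invariant invertible module vanishes. -/
theorem subsingleton_HH {L : X.left.Modules} (hL : PicF.IsInvertible L)
    (h : addClass (fst X X) (snd X X) (clsMod hL) = 1) (hne : ¬ Nonempty (L ≅ Coh.structureModule X.left))
    (m : ℕ) : Subsingleton (Coh.HH X.left L m) := by
  haveI : IsIntegral X.left := GeometricallyIntegral.isIntegral_of_subsingleton X.hom
  haveI : IsLocallyNoetherian X.left := LocallyOfFiniteType.isLocallyNoetherian X.hom
  obtain ⟨c, ⟨e⟩⟩ := exists_cocycle hL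
  rw [clsMod_eq hL e] at h
  have hc : ¬ Triv c := fun ht => hne ⟨e ≪≫ ((triv_iff c).1 ht).some⟩
  have hsect := sect_eq_zero h hc
  have hhom : ∀ s : Coh.structureModule X.left ⟶ L, s = 0 := fun s => by
    obtain ⟨a, ha⟩ := c.exists_hom_eq (s ≫ e.hom)
    obtain ⟨b, hb⟩ := c.exists_hom_eq (0 : Coh.structureModule X.left ⟶ c.twist 1)
    rw [← cancel_mono e.hom, ← ha, hsect a, ← hsect b, hb, zero_comp]
  match m with
  | 0 =>
    haveI : Subsingleton Γ(L, ⊤) := subsingleton_of_forall_eq 0 fun s => by
      have h1 : e.hom.app ⊤ s = 0 := hsect _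
      have h2 := congrArg (e.inv.app ⊤) h1
      rw [map_zero, ← ConcreteCategory.comp_apply, ← Scheme.Modules.Hom.comp_app, e.hom_inv_id] at h2
      exact h2
    exact @Equiv.subsingleton _ _ (Sheaf.H.equiv₀ (Coh.toAb L) isTerminalTop).toEquiv
      (inferInstanceAs (Subsingleton Γ(L, ⊤)))
  | m + 1 =>
    haveI : HasInjectiveResolutions X.left.Modules :=
      haveI : IsGrothendieckAbelian.{u} X.left.Modules :=
        SheafCoh.isGrothendieckAbelian_sheafOfModules (R := X.left.ringCatSheaf)
      inferInstance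
    haveI : HasInjectiveResolutions (X ⊗ X).left.Modules :=
      haveI : IsGrothendieckAbelian.{u} (X ⊗ X).left.Modules :=
        SheafCoh.isGrothendieckAbelian_sheafOfModules (R := (X ⊗ X).left.ringCatSheaf)
      inferInstance
    haveI : IsCommMonObj X := isCommMonObj_abVar
    haveI : IsProper (snd X X).left := isProper_snd_left X X
    have hsq : IsPullback (fst X X).left (snd X X).left X.hom X.hom := IsPullback.of_hasPullback X.hom X.hom
    have hLc : Coh.IsCoh L := Euler.isCoh_of_isInvertible hL
    haveI : L.IsQuasicoherent := hLc.1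
    obtain ⟨eE⟩ := FlatBCRpush.nonempty_iso X.hom X.hom (fst X X).left (snd X X).left hsq (m + 1) L hLc.1
    let V := (Coh.Rpush X.hom (m + 1)).obj L
    obtain ⟨M, hMfin, ⟨eV⟩⟩ := FFormal7.exists_tilde_of_isCoh (F := V) (Cohom.isCoh_Rpush X.hom L hLc (m + 1))
    haveI := hMfin
    let n := Module.finrank k M
    let eM : M ≅ ModuleCat.of (CommRingCat.of k) (ULift.{u} (Fin n) →₀ k) :=
      (((Module.finBasis k M).reindex Equiv.ulift.symm).repr).toModuleIso
    let eV' : V ≅ FlatMod.freeMod (Spec (CommRingCat.of k)) n :=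
      eV.symm ≪≫ (tilde.functor (CommRingCat.of k)).mapIso eM ≪≫ OX.tildeFreeIso (CommRingCat.of k) n
    -- the shear
    let σ : X ⊗ X ⟶ X ⊗ X := lift (fst X X * snd X X) (snd X X)
    let τ : X ⊗ X ⟶ X ⊗ X := lift (fst X X * (snd X X)⁻¹) (snd X X)
    have hστ : σ ≫ τ = 𝟙 _ := by
      apply CartesianMonoidalCategory.hom_ext <;>
        simp only [σ, τ, Category.assoc, lift_fst, lift_snd, MonObj.comp_mul, GrpObj.comp_inv, Category.id_comp,
          mul_inv_cancel_right]
    have hτσ : τ ≫ σ = 𝟙 _ := by
      apply CartesianMonoidalCategory.hom_ext <;>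
        simp only [σ, τ, Category.assoc, lift_fst, lift_snd, MonObj.comp_mul, GrpObj.comp_inv, Category.id_comp,
          inv_mul_cancel_right]
    haveI : IsIso τ.left := ⟨σ.left, by rw [← Over.comp_left, hτσ, Over.id_left], by rw [← Over.comp_left, hστ, Over.id_left]⟩
    let F := (Scheme.Modules.pullback (fst X X).left).obj L
    have hFi : PicF.IsInvertible F := Ample.isInvertible_pullback _ hL
    let G := (Scheme.Modules.pushforward τ.left).obj F
    haveI : F.IsQuasicoherent := FittSheaf.isQuasicoherent_pullback _ L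
    obtain ⟨eS⟩ := Cohom.nonempty_Rpush_pushforward_iso τ.left (snd X X).left F (m + 1)
    have hτs : τ.left ≫ (snd X X).left = (snd X X).left := by rw [← Over.comp_left, lift_snd]
    have eG : Nonempty (G ≅ CohB1.tensorMod ((Scheme.Modules.pullback (snd X X).left).obj L) F) := by
      haveI : IsIso σ.left := ⟨τ.left, by rw [← Over.comp_left, hστ, Over.id_left], by rw [← Over.comp_left, hτσ, Over.id_left]⟩
      have hi : σ.left ≫ τ.left = 𝟙 _ := by rw [← Over.comp_left, hστ, Over.id_left]
      have hi' : τ.left ≫ σ.left = 𝟙 _ := by rw [← Over.comp_left, hτσ, Over.id_left]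
      let Eq : (X ⊗ X).left.Modules ≌ (X ⊗ X).left.Modules :=
        CategoryTheory.Equivalence.mk (Scheme.Modules.pushforward τ.left) (Scheme.Modules.pushforward σ.left)
          ((Scheme.Modules.pushforwardComp τ.left σ.left ≪≫ Scheme.Modules.pushforwardCongr hi' ≪≫
            Scheme.Modules.pushforwardId _).symm)
          (Scheme.Modules.pushforwardComp σ.left τ.left ≪≫ Scheme.Modules.pushforwardCongr hi ≪≫
            Scheme.Modules.pushforwardId _)
      let e1 : Scheme.Modules.pullback σ.left ≅ Scheme.Modules.pushforward τ.left :=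
        (Scheme.Modules.pullbackPushforwardAdjunction σ.left).leftAdjointUniq Eq.toAdjunction
      have hx := hasCls_clsMod hL
      rw [clsMod_eq hL e] at hx
      refine ⟨(e1.app F).symm ≪≫ ?_⟩
      refine Classical.choice ?_
      refine ((hx.pullback (fst X X).left).pullback σ.left).iso
        ((hx.pullback (snd X X).left).tensor (hx.pullback (fst X X).left)) ?_
      rw [pull_pull_over, lift_fst, mul_comm (pull (snd X X).left _)]
      rw [addClass, mul_inv_eq_one] at h
      exact h
    obtain ⟨eG⟩ := eG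
    obtain ⟨eP⟩ := Groth.Agent.S0927.result (snd X X).left F L (Euler.isFinLocFree_of_isInvertible hL) (m + 1)
    let T := (DCoh.tensorBi (X := X.left)).obj L
    let E := (Coh.Rpush (snd X X).left (m + 1)).obj F
    let eE' : E ≅ FlatMod.freeMod X.left n :=
      eE.symm ≪≫ (Scheme.Modules.pullback X.hom).mapIso eV' ≪≫ OX.pullFreeModIso X.hom n
    let eEL : E ≅ T.obj E :=
      (eqToIso (by rw [hτs]) : E ≅ (Coh.Rpush (τ.left ≫ (snd X X).left) (m + 1)).obj F) ≪≫ eS.symm ≪≫
        (Coh.Rpush (snd X X).left (m + 1)).mapIso eG ≪≫ eP.symm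
    let eL : T.obj (Coh.structureModule X.left) ≅ L :=
      (OX.tensorBraiding.app L).symm.app _ ≪≫ OX.tensorUnitLeftIso L
    let eFree : FlatMod.freeMod X.left n ≅ ∐ fun _ : Fin n => L :=
      eE'.symm ≪≫ eEL ≪≫ T.mapIso eE' ≪≫ PreservesCoproduct.iso T _ ≪≫ Sigma.mapIso fun _ => eL
    have hn : n = 0 := by
      by_contra hn
      let j : Fin n := ⟨0, Nat.pos_of_ne_zero hn⟩
      have h1 : (Sigma.ι (fun _ : Fin n => Coh.structureModule X.left) j ≫ eFree.hom) = 0 := sigma_hom_eq_zero hhom _
      have h2 : Sigma.ι (fun _ : Fin n => Coh.structureModule X.left) j = 0 := by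
        rw [← cancel_mono eFree.hom, zero_comp]; exact h1
      have h3 : 𝟙 (Coh.structureModule X.left) = 0 := by
        have := congrArg (fun t => t ≫ Sigma.desc (fun _ : Fin n => 𝟙 (Coh.structureModule X.left))) h2
        simpa using this
      obtain ⟨a, ha⟩ := nontrivial_sections_of_triv (triv_triv X.left)
      obtain ⟨e0⟩ := (triv_iff _).1 (triv_triv X.left)
      have h4 : e0.hom = 0 := by rw [← Category.comp_id e0.hom, h3, comp_zero]
      refine ha ?_
      have h5 := congrArg (fun t => (t ≫ e0.inv).app ⊤ a) h4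
      simp only [zero_comp] at h5
      rw [e0.hom_inv_id] at h5
      exact h5
    haveI hV0 : Subsingleton Γ(V, (⊤ : (Spec (CommRingCat.of k)).Opens)) := by
      haveI : Subsingleton M := Module.finrank_zero_iff.1 hn
      have hz : IsZero V := (Functor.map_isZero (tilde.functor (CommRingCat.of k)) (ModuleCat.isZero_of_subsingleton M)).of_iso eV.symm
      refine subsingleton_of_forall_eq 0 fun s => ?_
      have := congrArg (fun t : V ⟶ V => t.app ⊤ s) (hz.eq_of_src (𝟙 V) 0)
      exact this
    obtain ⟨I⟩ := Cohom.nonempty_flRes L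
    obtain ⟨eI⟩ := Cohom.nonempty_Rpush_iso X.hom I (m + 1)
    have hb := Cohom.classToSection_bijective X.hom I (m + 1) (isAffineOpen_top (Spec (CommRingCat.of k)))
    haveI : Subsingleton Γ((Cohom.pushCx X.hom I.cocomplex).homology (m + 1), (⊤ : (Spec (CommRingCat.of k)).Opens)) := by
      refine Function.Injective.subsingleton (f := eI.inv.app (⊤ : (Spec (CommRingCat.of k)).Opens)) ?_
      exact (ConcreteCategory.bijective_of_isIso (eI.inv.app _)).1
    haveI h6 := hb.1.subsingleton
    exact @Equiv.subsingleton _ _ (Cohom.HEquivTop (Coh.toAb L) (m + 1)).toEquiv h6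

end GrothLib.PicZeroVanish
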