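import Groth.Agent.Lib.Poincare.RpushSupport
import Groth.Agent.Lib.Poincare.PicZeroVanish
import Groth.Agent.Lib.Poincare.DualRel
import Groth.Agent.Lib.Snapper.LerayAcyclic
import Groth.Agent.Lib.Seesaw26.LocalGood
import Groth.Agent.Lib.FibreDim5.Basic

/-!
# Mumford's theorem: translation invariant classes are differences of translates
-/

set_option autoImplicit false
set_option linter.all false
set_option backward.isDefEq.respectTransparency false
set_option maxHeartbeats 1000000

universe u

open CategoryTheory CategoryTheory.Limits AlgebraicGeometry Opposite TopologicalSpace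
open MonoidalCategory CartesianMonoidalCategory
open GrothLib.Ample GrothLib.Cube
open scoped MonObj

noncomputable section

namespace GrothLib.PicZeroSurj

/-- Cohomology only depends on the isomorphism class. -/
theorem subsingleton_HH_of_iso {X : Scheme.{u}} {M N : X.Modules} (e : M ≅ N) (n : ℕ)
    (h : Subsingleton (Coh.HH X M n)) : Subsingleton (Coh.HH X N n) := by
  refine subsingleton_of_forall_eq 0 fun x => ?_
  have h1 : Sheaf.H.map ((QCoh.toAbFun X).map e.hom) n (Sheaf.H.map ((QCoh.toAbFun X).map e.inv) n x) = x := by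
    rw [← Sheaf.H.map_comp_apply, ← Functor.map_comp, e.inv_hom_id, CategoryTheory.Functor.map_id,
      Sheaf.H.map_id_apply]
  rw [← h1, h.elim (Sheaf.H.map ((QCoh.toAbFun X).map e.inv) n x) 0, map_zero]

/-- Cohomology of a pullback along an isomorphism. -/
theorem subsingleton_HH_pullback {X Y : Scheme.{u}} (j : Y ⟶ X) [IsIso j] (W : X.Modules)
    [W.IsQuasicoherent] (n : ℕ) [h : Subsingleton (Coh.HH X W n)] :
    Subsingleton (Coh.HH Y ((Scheme.Modules.pullback j).obj W) n) := by
  let Eq : Y.Modules ≌ X.Modules :=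
    CategoryTheory.Equivalence.mk (Scheme.Modules.pushforward j) (Scheme.Modules.pushforward (CategoryTheory.inv j))
      ((Scheme.Modules.pushforwardComp j (CategoryTheory.inv j) ≪≫ Scheme.Modules.pushforwardCongr (IsIso.hom_inv_id j) ≪≫
        Scheme.Modules.pushforwardId _).symm)
      (Scheme.Modules.pushforwardComp (CategoryTheory.inv j) j ≪≫ Scheme.Modules.pushforwardCongr (IsIso.inv_hom_id j) ≪≫
        Scheme.Modules.pushforwardId _)
  let e1 : Scheme.Modules.pullback j ≅ Scheme.Modules.pushforward (CategoryTheory.inv j) :=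
    (Scheme.Modules.pullbackPushforwardAdjunction j).leftAdjointUniq Eq.symm.toAdjunction
  obtain ⟨e⟩ := Cohom.nonempty_HH_equiv_pushforward (CategoryTheory.inv j) W n
  exact subsingleton_HH_of_iso (e1.app W).symm n e.symm.toEquiv.subsingleton

variable {K : Type u} [Field K] [IsAlgClosed K] {A : Over (Spec (CommRingCat.of K))} [GrpObj A]
  [IsProper A.hom] [GeometricallyIntegral A.hom]

/-- A translation invariant class has trivial Mumford class. -/
theorem addClass_of_invariant {w : Pic A.left} (h : ∀ b, pull (transl b).left w = w) :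
    addClass (fst A A) (snd A A) w = 1 :=
  addClass_eq_one_of_dense w (dense_closedPoints A) subset_rfl (fun b _ => h b) _ _

/-- Differences of translates are translation invariant. -/
theorem invariant_translate_div (x : Pic A.left) (a b : 𝟙_ _ ⟶ A) :
    pull (transl b).left (pull (transl a).left x * x⁻¹) = pull (transl a).left x * x⁻¹ := by
  haveI : IsCommMonObj A := isCommMonObj_abVar
  have h := square (𝟙 A) a b x
  rw [pull_over_id] at h
  have hc : transl b ≫ transl a = 𝟙 A * (toUnit A ≫ (a * b)) := by
    show transl b ≫ (𝟙 A * (toUnit A ≫ a)) = _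
    rw [MonObj.comp_mul, Category.comp_id, ← Category.assoc, Subsingleton.elim (transl b ≫ toUnit A) (toUnit A),
      MonObj.comp_mul, _root_.mul_assoc, hom_mul_comm (toUnit A ≫ b)]
  rw [map_mul, map_inv, pull_pull_over, hc, ← div_eq_mul_inv, ← div_eq_mul_inv, div_eq_div_iff_mul_eq_mul]
  exact h

/-- Slices with no cohomology give fibres with no cohomology. -/
theorem subsingleton_fiberH {Z : (A ⊗ A).left.Modules} {z : Pic (A ⊗ A).left} (hZ : HasCls Z z) (y : A.left)
    (hy : IsClosed ({y} : Set A.left))
    (h : ∀ a : 𝟙_ _ ⟶ A, a.left (IsLocalRing.closedPoint K) = y →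
      pull (lift (𝟙 A) (toUnit A ≫ a)).left z ≠ 1 ∧
        ∀ b, pull (transl b).left (pull (lift (𝟙 A) (toUnit A ≫ a)).left z) =
          pull (lift (𝟙 A) (toUnit A ≫ a)).left z) (n : ℕ) :
    Subsingleton (CohIII.fiberH (snd A A).left Z y n) := by
  obtain ⟨a, ha, hfac⟩ := exists_point_factor y hy
  obtain ⟨hne, hinv⟩ := h a ha
  let p := (snd A A).left
  let s := lift (𝟙 A) (toUnit A ≫ a)
  let j : p.fiber y ⟶ A.left := p.fiberι y ≫ (fst A A).left
  have hw : a.left ≫ A.hom = 𝟙 _ := Over.w a
  have hq : IsIso (A.left.fromSpecResidueField y ≫ A.hom) := by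
    haveI : Mono (A.left.fromSpecResidueField y) := inferInstance
    obtain ⟨⟨y', φ⟩, hφ⟩ := (Scheme.SpecToEquivOfField K A.left).symm.surjective a.left
    have hφ' : Spec.map φ ≫ A.left.fromSpecResidueField y' = a.left := hφ
    have hyy : y' = y := by
      rw [← ha, ← hφ']
      exact (Scheme.fromSpecResidueField_apply _ _).symm
    subst hyy
    refine ⟨Spec.map φ, ?_, ?_⟩
    · rw [← cancel_mono (A.left.fromSpecResidueField y'), Category.assoc, hφ', Category.assoc, hfac, Category.id_comp]
    · rw [← Category.assoc, hφ', hw]; rfl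
  let jinv : A.left ⟶ p.fiber y := pullback.lift s.left
    (A.hom ≫ CategoryTheory.inv (A.left.fromSpecResidueField y ≫ A.hom)) (by
    rw [← Over.comp_left, lift_snd, Category.assoc, Over.comp_left]
    show A.hom ≫ a.left = _
    congr 1
    rw [IsIso.eq_inv_comp, Category.assoc, hfac])
  have hj : p.fiberι y = j ≫ s.left := by
    apply pullback.hom_ext
    · show p.fiberι y ≫ (fst A A).left = (j ≫ s.left) ≫ (fst A A).left
      rw [Category.assoc, ← Over.comp_left, lift_fst, Over.id_left]
      exact (Category.comp_id _).symm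
    · show p.fiberι y ≫ (snd A A).left = (j ≫ s.left) ≫ (snd A A).left
      rw [Category.assoc, ← Over.comp_left, lift_snd, Over.comp_left, Scheme.Hom.fiber_fac]
      show _ = (p.fiberι y ≫ (fst A A).left) ≫ A.hom ≫ a.left
      rw [Category.assoc, ← Category.assoc (fst A A).left, Over.w (fst A A), ← Over.w (snd A A),
        ← Category.assoc, ← Category.assoc]
      erw [Scheme.Hom.fiber_fac]
      simp only [Category.assoc, hfac]
  have hji : jinv ≫ j = 𝟙 _ := by
    show jinv ≫ p.fiberι y ≫ (fst A A).left = _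
    rw [← Category.assoc, show jinv ≫ p.fiberι y = s.left from pullback.lift_fst _ _ _, ← Over.comp_left, lift_fst,
      Over.id_left]
  haveI : IsIso j := ⟨jinv, by
    apply pullback.hom_ext
    · show (j ≫ jinv) ≫ p.fiberι y = 𝟙 _ ≫ p.fiberι y
      rw [Category.assoc, show jinv ≫ p.fiberι y = s.left from pullback.lift_fst _ _ _, ← hj, Category.id_comp]
    · show (j ≫ jinv) ≫ p.fiberToSpecResidueField y = 𝟙 _ ≫ p.fiberToSpecResidueField y
      have e : (A.hom ≫ CategoryTheory.inv (A.left.fromSpecResidueField y ≫ A.hom)) ≫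
          A.left.fromSpecResidueField y ≫ A.hom = A.hom := by
        rw [Category.assoc, IsIso.inv_hom_id, Category.comp_id]
      rw [Category.assoc, show jinv ≫ p.fiberToSpecResidueField y = _ from pullback.lift_snd _ _ _,
        ← cancel_mono (A.left.fromSpecResidueField y ≫ A.hom), Category.assoc j, e, Category.id_comp,
        ← Category.assoc (p.fiberToSpecResidueField y), ← Scheme.Hom.fiber_fac]
      show (p.fiberι y ≫ (fst A A).left) ≫ A.hom = (p.fiberι y ≫ (snd A A).left) ≫ A.hom
      rw [Category.assoc, Category.assoc, Over.w (fst A A), Over.w (snd A A)], hji⟩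
  let w := pull s.left z
  obtain ⟨W, hW⟩ := Dual.exists_rep w
  obtain ⟨hWi, hWc⟩ := hW
  haveI : W.IsQuasicoherent := InvExt.isQuasicoherent_of_isInvertible hWi
  haveI : Subsingleton (Coh.HH A.left W n) := PicZeroVanish.subsingleton_HH hWi
    (by rw [hWc]; exact addClass_of_invariant hinv)
    (fun ⟨e⟩ => hne (hWc.symm.trans ((clsMod_eq_one_iff hWi).2 ⟨e⟩))) n
  haveI := subsingleton_HH_pullback j W n
  obtain ⟨e⟩ := (HasCls.pullback j (⟨hWi, hWc⟩ : HasCls W w)).iso (hZ.pullback (p.fiberι y))
    (by rw [pull_comp, hj])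
  exact subsingleton_HH_of_iso e n inferInstance

/-- If all slices of `z` over the second factor outside a finite set have no cohomology, cohomology is concentrated there. -/
theorem finrank_HH_eq (F : (A ⊗ A).left.Modules) (hF : PicF.IsInvertible F) {D : Set A.left} (hDfin : D.Finite)
    (hDc : ∀ y ∈ D, IsClosed ({y} : Set A.left))
    (h : ∀ y ∉ D, IsClosed ({y} : Set A.left) → ∀ n, Subsingleton (CohIII.fiberH (snd A A).left F y n)) :
    letI : (A ⊗ A).left.Over (Spec (CommRingCat.of K)) := ⟨(A ⊗ A).hom⟩
    letI : A.left.Over (Spec (CommRingCat.of K)) := ⟨A.hom⟩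
    haveI : HasInjectiveResolutions (A ⊗ A).left.Modules :=
      haveI : IsGrothendieckAbelian.{u} (A ⊗ A).left.Modules :=
        SheafCoh.isGrothendieckAbelian_sheafOfModules (R := (A ⊗ A).left.ringCatSheaf)
      inferInstance
    ∀ n, (Module.finrank K (Coh.HH (A ⊗ A).left F n) =
        Module.finrank K (Coh.HH A.left ((Coh.Rpush (snd A A).left n).obj F) 0)) ∧
      (∀ x ∉ D, x ∉ CohB1.support ((Coh.Rpush (snd A A).left n).obj F)) := by
  intro n
  letI : (A ⊗ A).left.Over (Spec (CommRingCat.of K)) := ⟨(A ⊗ A).hom⟩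
  letI : A.left.Over (Spec (CommRingCat.of K)) := ⟨A.hom⟩
  haveI : HasInjectiveResolutions (A ⊗ A).left.Modules :=
    haveI : IsGrothendieckAbelian.{u} (A ⊗ A).left.Modules :=
      SheafCoh.isGrothendieckAbelian_sheafOfModules (R := (A ⊗ A).left.ringCatSheaf)
    inferInstance
  haveI : IsLocallyNoetherian A.left := LocallyOfFiniteType.isLocallyNoetherian A.hom
  haveI : JacobsonSpace A.left := LocallyOfFiniteType.jacobsonSpace A.hom
  haveI : IsProper (snd A A).left := isProper_snd_left A A
  haveI : Flat (snd A A).left := flat_snd_left A A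
  haveI hAA : IsProper (A ⊗ A).hom := isProper_prod
  haveI : IsLocallyNoetherian (A ⊗ A).left := LocallyOfFiniteType.isLocallyNoetherian (A ⊗ A).hom
  let U : A.left.Opens := ⟨Dᶜ, (isOpen_compl_iff.2 (by
    rw [← Set.biUnion_of_singleton D]; exact hDfin.isClosed_biUnion hDc))⟩
  have hsupp : ∀ i, ∀ x ∉ D, x ∉ CohB1.support ((Coh.Rpush (snd A A).left i).obj F) := fun i x hx =>
    RpushSupport.notMem_support (snd A A).left F (Euler.isCoh_of_isInvertible hF)
      (Seesaw26.isFlatOver_of_isInvertible _ hF) i U (fun y hy hyc => h y hy hyc i) (show x ∈ U from hx)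
  refine ⟨?_, hsupp n⟩
  haveI : IsProper (A.left ↘ Spec (CommRingCat.of K)) := inferInstanceAs (IsProper A.hom)
  haveI : IsProper ((A ⊗ A).left ↘ Spec (CommRingCat.of K)) := hAA
  refine Snapper.finrank_HH_eq_of_acyclic_Rpush K (f := (snd A A).left) (Over.w (snd A A)) F
    (Euler.isCoh_of_isInvertible hF) (fun i q => ?_) n
  have hsub : CohB1.support ((Coh.Rpush (snd A A).left i).obj F) ⊆ D := fun x hx => by
    by_contra hD; exact hsupp i x hD hx
  exact Euler.subsingleton_HH_of_finite_support _ (hDfin.subset hsub) (fun x hx => hDc x (hsub hx)) (q + 1) (by omega)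

theorem eq_of_point_eq {a a' : 𝟙_ (Over (Spec (CommRingCat.of K))) ⟶ A}
    (h : a.left (IsLocalRing.closedPoint K) = a'.left (IsLocalRing.closedPoint K)) : a = a' :=
  Over.OverMorphism.ext (ext_of_apply_closedPoint_eq A.hom (Over.w a) (Over.w a') h)

/-- **Mumford's theorem**: a translation invariant class is `t_a^* x ⊗ x⁻¹` for nondegenerate `x`. -/
theorem exists_translate {x y : Pic A.left}
    (hfin : Set.Finite {a : 𝟙_ (Over (Spec (CommRingCat.of K))) ⟶ A | pull (transl a).left x = x})
    (hy : ∀ b, pull (transl b).left y = y) : ∃ a, pull (transl a).left x = x * y := by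
  by_contra hno
  push Not at hno
  haveI : IsCommMonObj A := isCommMonObj_abVar
  haveI : IsIntegral A.left := GeometricallyIntegral.isIntegral_of_subsingleton A.hom
  haveI : IsLocallyNoetherian A.left := LocallyOfFiniteType.isLocallyNoetherian A.hom
  let z : Pic (A ⊗ A).left :=
    pull (fst A A * snd A A).left x * (pull (fst A A).left x * pull (snd A A).left (x * y))⁻¹
  let z' : Pic (A ⊗ A).left :=
    pull (snd A A * fst A A).left x * (pull (snd A A).left x * pull (fst A A).left (x * y))⁻¹
  -- slices over the first factor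
  have hslice' : ∀ a : 𝟙_ _ ⟶ A, pull (lift (𝟙 A) (toUnit A ≫ a)).left z' =
      pull (transl a).left x * x⁻¹ * y⁻¹ := by
    intro a
    simp only [z', map_mul, map_inv, pull_pull_over, MonObj.comp_mul, lift_fst, lift_snd, pull_over_id,
      pull_toUnit_comp, _root_.one_mul, mul_inv, inv_one]
    rw [hom_mul_comm (toUnit A ≫ a) (𝟙 A), _root_.mul_assoc]
  have hslice : ∀ a : 𝟙_ _ ⟶ A, pull (lift (𝟙 A) (toUnit A ≫ a)).left z = pull (transl a).left x * x⁻¹ := by
    intro a
    simp only [z, map_mul, map_inv, pull_pull_over, MonObj.comp_mul, lift_fst, lift_snd, pull_over_id,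
      pull_toUnit_comp, _root_.mul_one]
  obtain ⟨F, hFi, hFc⟩ := Dual.exists_rep z
  have hF : HasCls F z := ⟨hFi, hFc⟩
  let β := lift (snd A A) (fst A A)
  have hββ : β ≫ β = 𝟙 _ := by apply CartesianMonoidalCategory.hom_ext <;> simp [β]
  haveI : IsIso β.left := ⟨β.left, by rw [← Over.comp_left, hββ, Over.id_left], by rw [← Over.comp_left, hββ, Over.id_left]⟩
  let F' := (Scheme.Modules.pullback β.left).obj F
  have hF'i : PicF.IsInvertible F' := Ample.isInvertible_pullback _ hFi
  have hF' : HasCls F' z' := by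
    have hz : pull β.left z = z' := by
      simp only [z, z', β, map_mul, map_inv, pull_pull_over, MonObj.comp_mul, lift_fst, lift_snd]
    rw [← hz]
    exact hF.pullback β.left
  let D : Set A.left := (fun a : 𝟙_ (Over (Spec (CommRingCat.of K))) ⟶ A => a.left (IsLocalRing.closedPoint K)) ''
    {a | pull (transl a).left x = x}
  have hDc : ∀ y ∈ D, IsClosed ({y} : Set A.left) := by
    rintro _ ⟨a, -, rfl⟩
    haveI : IsClosedImmersion a.left := isClosedImmersion_of_comp_eq_id A.hom a.left (Over.w a)
    rw [← Set.image_singleton]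
    refine a.left.isClosedEmbedding.isClosedMap _ ?_
    exact (isClosed_singleton (x := IsLocalRing.closedPoint K))
  letI : (A ⊗ A).left.Over (Spec (CommRingCat.of K)) := ⟨(A ⊗ A).hom⟩
  letI : A.left.Over (Spec (CommRingCat.of K)) := ⟨A.hom⟩
  haveI : IsProper (A.left ↘ Spec (CommRingCat.of K)) := inferInstanceAs (IsProper A.hom)
  haveI : IsProper ((A ⊗ A).left ↘ Spec (CommRingCat.of K)) := isProper_prod
  -- all cohomology vanishes
  have h1 : ∀ n, Subsingleton (Coh.HH (A ⊗ A).left F' n) := by
    intro n
    obtain ⟨he, hs⟩ := finrank_HH_eq F' hF'i Set.finite_empty (fun _ h => absurd h (Set.notMem_empty _))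
      (fun y' _ hy' m => subsingleton_fiberH hF' y' hy' (fun a _ => by
        rw [hslice']
        refine ⟨fun h => hno a ?_, fun b => by rw [map_mul, invariant_translate_div x a b, map_inv, hy b]⟩
        rw [mul_inv_eq_one, mul_inv_eq_iff_eq_mul, mul_comm] at h
        exact h) m) n
    have hz0 : Subsingleton (Coh.HH A.left ((Coh.Rpush (snd A A).left n).obj F') 0) := by
      haveI : Subsingleton Γ((Coh.Rpush (snd A A).left n).obj F', (⊤ : A.left.Opens)) := by
        refine subsingleton_of_forall_eq 0 fun s => ?_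
        refine TopCat.Presheaf.section_ext (C := Ab.{u}) (X := A.left.carrier)
          ⟨((Coh.Rpush (snd A A).left n).obj F').presheaf, ((Coh.Rpush (snd A A).left n).obj F').isSheaf⟩ ⊤ _ _
          fun q hq => ?_
        refine ((QCoh.notMem_support_iff _ q).1 (hs q (Set.notMem_empty _)) ⊤ hq s).trans ?_
        exact (map_zero _).symm
      exact @Equiv.subsingleton _ _
        (Sheaf.H.equiv₀ (Coh.toAb ((Coh.Rpush (snd A A).left n).obj F')) isTerminalTop).toEquiv this
    haveI : FiniteDimensional K (Coh.HH (A ⊗ A).left F' n) :=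
      Euler.finiteDimensional_HH K (Euler.isCoh_of_isInvertible hF'i) n
    haveI := hz0
    exact Module.finrank_zero_iff.1 (he.trans Module.finrank_zero_of_subsingleton)
  have h2 : ∀ n, Subsingleton (Coh.HH (A ⊗ A).left F n) := by
    intro n
    haveI := h1 n
    haveI : F'.IsQuasicoherent := InvExt.isQuasicoherent_of_isInvertible hF'i
    haveI := subsingleton_HH_pullback β.left F' n
    obtain ⟨e⟩ := (hF'.pullback β.left).iso hF (by
      simp only [z, z', β, map_mul, map_inv, pull_pull_over, MonObj.comp_mul, lift_fst, lift_snd])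
    exact (Euler.hhEquiv (A := K) e n).symm.toEquiv.subsingleton
  have h3 := fun n => finrank_HH_eq F hFi (hfin.image _) hDc (fun y' hy' hyc m =>
    subsingleton_fiberH hF y' hyc (fun a ha => by
      rw [hslice]
      refine ⟨fun h => hy' ⟨a, mul_inv_eq_one.1 h, ha⟩, fun b => invariant_translate_div x a b⟩) m) n
  haveI : IsProper (snd A A).left := isProper_snd_left A A
  haveI : Flat (snd A A).left := flat_snd_left A A
  have hR0 : ∀ n, ∀ q, q ∉ CohB1.support ((Coh.Rpush (snd A A).left n).obj F) := by
    intro n q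
    obtain ⟨he, hs⟩ := h3 n
    let R := (Coh.Rpush (snd A A).left n).obj F
    have hR : Coh.IsCoh R := Cohom.isCoh_Rpush (snd A A).left F (Euler.isCoh_of_isInvertible hFi) n
    haveI : FiniteDimensional K (Coh.HH A.left R 0) := Euler.finiteDimensional_HH K hR 0
    haveI := h2 n
    rw [Module.finrank_zero_of_subsingleton] at he
    haveI : Subsingleton (Coh.HH A.left R 0) := Module.finrank_zero_iff.1 he.symm
    haveI : Subsingleton Γ(R, (⊤ : A.left.Opens)) :=
      @Equiv.subsingleton _ _ (Sheaf.H.equiv₀ (Coh.toAb R) isTerminalTop).symm.toEquiv inferInstance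
    have hfs : (CohB1.support R).Finite := (hfin.image _).subset fun w hw => by
      by_contra hw'; exact hs w hw' hw
    have hcs : ∀ w ∈ CohB1.support R, IsClosed ({w} : Set A.left) := fun w hw => hDc w (by
      by_contra hw'; exact hs w hw' hw)
    have hfl := Euler.isFlasque_of_finite_support R hfs hcs
    rw [QCoh.notMem_support_iff]
    intro V hV t
    obtain ⟨t', rfl⟩ := (AddCommGrpCat.epi_iff_surjective _).1
      (hfl.epi (homOfLE (le_top : V ≤ ⊤)).op) t
    show R.presheaf.germ V q hV (R.presheaf.map (homOfLE (le_top : V ≤ ⊤)).op t') = 0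
    rw [Subsingleton.elim (show Γ(R, (⊤ : A.left.Opens)) from t') 0, map_zero, map_zero]
  -- but the fibre over the origin is trivial
  let one' : 𝟙_ (Over (Spec (CommRingCat.of K))) ⟶ A := 1
  let y : A.left := one'.left (IsLocalRing.closedPoint K)
  let p := (snd A A).left
  let σ := lift (𝟙 A) (toUnit A ≫ one')
  haveI : CompactSpace A.left := QuasiCompact.compactSpace_of_compactSpace A.hom
  obtain ⟨d, hd⟩ := FibreDim5.exists_dim_fiber_le p
  have hsub : Subsingleton (CohIII.fiberH p F y 0) := by
    haveI : F.IsQuasicoherent := InvExt.isQuasicoherent_of_isInvertible hFi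
    refine (BCCrit.subsingleton_fiberH_iff (LocFree8.isFP_of_isFinLocFree _ (Euler.isFinLocFree_of_isInvertible hFi))
      (Seesaw26.isFlatOver_of_isInvertible _ hFi) 0 y).2 ?_
    exact RpushSupport.fiberRank_eq_zero p F (Euler.isCoh_of_isInvertible hFi)
      (LocFree8.isFP_of_isFinLocFree _ (Euler.isFinLocFree_of_isInvertible hFi))
      (Seesaw26.isFlatOver_of_isInvertible _ hFi) hR0 y d (hd y) 0
  haveI : IsClosedImmersion one'.left := isClosedImmersion_of_comp_eq_id A.hom one'.left (Over.w one')
  have hfac := exists_point_factor y (by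
    rw [show ({y} : Set A.left) = one'.left '' {IsLocalRing.closedPoint K} from Set.image_singleton.symm]
    exact one'.left.isClosedEmbedding.isClosedMap _ (isClosed_singleton (x := IsLocalRing.closedPoint K)))
  obtain ⟨a, ha, hfac⟩ := hfac
  obtain rfl : a = one' := eq_of_point_eq ha
  have hj : p.fiberι y = (p.fiberι y ≫ (fst A A).left) ≫ σ.left := by
    apply pullback.hom_ext
    · show p.fiberι y ≫ (fst A A).left = ((p.fiberι y ≫ (fst A A).left) ≫ σ.left) ≫ (fst A A).left
      rw [Category.assoc, Category.assoc, ← Over.comp_left, lift_fst, Over.id_left]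
      exact congrArg _ (Category.comp_id _).symm
    · show p.fiberι y ≫ (snd A A).left = ((p.fiberι y ≫ (fst A A).left) ≫ σ.left) ≫ (snd A A).left
      rw [Category.assoc, Category.assoc, ← Over.comp_left, lift_snd, Over.comp_left, Scheme.Hom.fiber_fac]
      show _ = p.fiberι y ≫ (fst A A).left ≫ A.hom ≫ one'.left
      rw [← Category.assoc (fst A A).left, Over.w (fst A A), ← Over.w (snd A A),
        ← Category.assoc, ← Category.assoc]
      erw [Scheme.Hom.fiber_fac]
      simp only [Category.assoc, hfac]
  have hpz : pull (p.fiberι y) z = 1 := by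
    rw [hj, ← pull_comp, hslice, show pull (transl one').left x = x from ?_, mul_inv_cancel, map_one]
    rw [show transl one' = 𝟙 A from transl_one, pull_over_id]
  haveI : Nonempty ↥(p.fiber y) := by
    obtain ⟨q, hq⟩ : ∃ q, p q = y := ⟨σ.left y, by
      rw [← Scheme.Hom.comp_apply, ← Over.comp_left, lift_snd, Over.comp_left]
      show one'.left (A.hom y) = y
      exact congrArg one'.left (Subsingleton.elim (α := PrimeSpectrum K) _ _)⟩
    exact ⟨(p.fiberHomeo y).symm ⟨q, hq⟩⟩
  obtain ⟨e⟩ := (hF.pullback (p.fiberι y)).iso (hasCls_structureModule (p.fiber y)) hpz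
  have h0 : Subsingleton (Coh.HH (p.fiber y) (Coh.structureModule (p.fiber y)) 0) :=
    subsingleton_HH_of_iso e 0 hsub
  have h1' : Subsingleton Γ(p.fiber y, ⊤) :=
    @Equiv.subsingleton _ _ (Sheaf.H.equiv₀ (Coh.toAb (Coh.structureModule (p.fiber y))) isTerminalTop).symm.toEquiv h0
  haveI : Nonempty ↥(⊤ : (p.fiber y).Opens) := ⟨⟨Classical.arbitrary _, trivial⟩⟩
  exact not_subsingleton Γ(p.fiber y, ⊤) h1'

end GrothLib.PicZeroSurj
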