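import Groth.Agent.Lib.Poincare.Skyscraper
import Groth.Agent.Lib.Poincare.PicZeroSurj
import Groth.Agent.Lib.Snapper.LerayAcyclic

/-!
# The cohomology of a Poincaré bundle
-/

set_option autoImplicit false
set_option linter.all false
set_option backward.isDefEq.respectTransparency false
set_option maxHeartbeats 1000000

universe u

open CategoryTheory CategoryTheory.Limits AlgebraicGeometry Opposite TopologicalSpace
open MonoidalCategory CartesianMonoidalCategory
open GrothLib.Ample GrothLib.Cube
open scoped MonObj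

noncomputable section

namespace GrothLib.Skyscraper

variable {k : Type u} [Field k]

/-- The global sections of the skyscraper at a rational point form a line. -/
theorem finrank_HH_push_point {X : Over (Spec (CommRingCat.of k))} (e : Spec (CommRingCat.of k) ⟶ X.left)
    (he : e ≫ X.hom = 𝟙 _) :
    @Module.finrank k (Coh.HH X.left ((Coh.push e).obj (Coh.structureModule (Spec (CommRingCat.of k)))) 0) _ _
      (@Coh.moduleOver k _ X.left ⟨X.hom⟩ _ 0) = 1 := by
  letI : X.left.Over (Spec (CommRingCat.of k)) := ⟨X.hom⟩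
  let M := (Coh.push e).obj (Coh.structureModule (Spec (CommRingCat.of k)))
  let Φ : Coh.HH X.left M 0 ≃+ Γ(Spec (CommRingCat.of k), ⊤) := ProjCoh.H0top M
  have hΦ : ∀ (a : k) z, Φ (a • z) = (Scheme.ΓSpecIso (CommRingCat.of k)).inv a * Φ z := fun a z => by
    refine (ProjCoh.H0top_smul M a z).trans ?_
    show e.appTop (X.hom.appTop ((Scheme.ΓSpecIso (CommRingCat.of k)).inv a)) * _ = _
    rw [← CommRingCat.comp_apply X.hom.appTop e.appTop, ← Scheme.Hom.comp_appTop, he, Scheme.Hom.id_appTop]
    rfl
  refine (finrank_eq_one_iff_of_nonzero' (Φ.symm 1) ?_).2 fun w => ⟨(Scheme.ΓSpecIso (CommRingCat.of k)).hom (Φ w), ?_⟩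
  · intro h
    have : (1 : Γ(Spec (CommRingCat.of k), ⊤)) = 0 := by rw [← Φ.apply_symm_apply 1, h, map_zero]
    have h2 := congrArg (Scheme.ΓSpecIso (CommRingCat.of k)).hom this
    rw [map_one, map_zero] at h2
    exact one_ne_zero h2
  · refine Φ.injective ((hΦ _ _).trans ?_)
    rw [Φ.apply_symm_apply, _root_.mul_one, ← CommRingCat.comp_apply, Iso.hom_inv_id, CommRingCat.id_apply]

variable {A At : Over (Spec (CommRingCat.of k))} [GrpObj At]
  [GrpObj A] [IsProper A.hom] [GeometricallyIntegral A.hom] [Smooth A.hom]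
  [IsProper At.hom] [GeometricallyIntegral At.hom] [Smooth At.hom]
  {φ : ∀ T : Over (Spec (CommRingCat.of k)), PicF.Cl (PicF.XT A.hom T) → (T ⟶ At)}
  (hφ : AbDual.IsDualAV Scheme.fppfPrecoverage A At φ)

include hφ

/-- **The cohomology of the Poincaré bundle** is a line in degree `g` and zero elsewhere. -/
theorem cohomology {g : ℕ} (hg : topologicalKrullDim A.left = g) {P : (A ⊗ At).left.Modules}
    {x : Pic (A ⊗ At).left} (hP : HasCls P x) (hξ : AbDual.IsPoincareCl A At φ (PicF.cl P))
    [HasInjectiveResolutions (A ⊗ At).left.Modules] :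
    (∀ i : ℕ, i ≠ g → Subsingleton (Coh.HH (A ⊗ At).left P i)) ∧
      @Module.finrank k (Coh.HH (A ⊗ At).left P g) _ _
        (@Coh.moduleOver k _ (A ⊗ At).left ⟨(A ⊗ At).hom⟩ P g) = 1 := by
  obtain ⟨hz, ⟨i₀⟩, -⟩ := exists_main hφ hg hP hξ
  obtain ⟨hPi, -⟩ := id hP
  letI : (A ⊗ At).left.Over (Spec (CommRingCat.of k)) := ⟨(A ⊗ At).hom⟩
  letI : At.left.Over (Spec (CommRingCat.of k)) := ⟨At.hom⟩
  haveI : IsProper (snd A At).left := inferInstanceAs (IsProper (pullback.snd A.hom At.hom))
  haveI : Flat (snd A At).left := inferInstanceAs (Flat (pullback.snd A.hom At.hom))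
  haveI : IsLocallyNoetherian At.left := LocallyOfFiniteType.isLocallyNoetherian At.hom
  haveI : JacobsonSpace At.left := LocallyOfFiniteType.jacobsonSpace At.hom
  haveI : IsProper (At.left ↘ Spec (CommRingCat.of k)) := inferInstanceAs (IsProper At.hom)
  haveI : IsProper ((A ⊗ At).left ↘ Spec (CommRingCat.of k)) :=
    inferInstanceAs (IsProper (pullback.fst A.hom At.hom ≫ A.hom))
  haveI : IsClosedImmersion η[At].left := isClosedImmersion_of_comp_eq_id At.hom η[At].left (Over.w η[At])
  let e₀ := η[At].left (IsLocalRing.closedPoint k)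
  have he₀ : IsClosed ({e₀} : Set At.left) := by
    rw [show ({e₀} : Set At.left) = η[At].left '' {IsLocalRing.closedPoint k} from Set.image_singleton.symm]
    exact η[At].left.isClosedEmbedding.isClosedMap _ (isClosed_singleton (x := IsLocalRing.closedPoint k))
  let U : At.left.Opens := ⟨{e₀}ᶜ, he₀.isOpen_compl⟩
  have hsub : ∀ q, CohB1.support ((Coh.Rpush (snd A At).left q).obj P) ⊆ {e₀} := fun q w hw => by
    by_contra hne
    exact RpushSupport.notMem_support (snd A At).left P (Euler.isCoh_of_isInvertible hPi)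
      (Seesaw26.isFlatOver_of_isInvertible _ hPi) q U (fun y hy _ => Dual.subsingleton_fiberH hφ hP hξ y hy q)
      (show w ∈ U from hne) hw
  have hL := fun n => Snapper.finrank_HH_eq_of_acyclic_Rpush k (f := (snd A At).left) (Over.w (snd A At)) P
    (Euler.isCoh_of_isInvertible hPi) (fun q j => Euler.subsingleton_HH_of_finite_support _
      ((Set.finite_singleton e₀).subset (hsub q)) (fun w hw => by rw [hsub q hw]; exact he₀) (j + 1) (by omega)) n
  refine ⟨fun n hn => ?_, ?_⟩
  · haveI : Subsingleton (Coh.HH At.left ((Coh.Rpush (snd A At).left n).obj P) 0) :=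
      Cohom.subsingleton_HH_of_isZero (hz n hn) 0
    haveI : FiniteDimensional k (Coh.HH (A ⊗ At).left P n) :=
      Euler.finiteDimensional_HH k (Euler.isCoh_of_isInvertible hPi) n
    exact Module.finrank_zero_iff.1 ((hL n).trans Module.finrank_zero_of_subsingleton)
  · exact (hL g).trans ((Euler.hhEquiv (A := k) i₀ 0).finrank_eq.trans
      (finrank_HH_push_point (X := At) η[At].left (Over.w η[At])))

end GrothLib.Skyscraper
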