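import Groth.Agent.Lib.Poincare.DualIsog
import Groth.Agent.Lib.Poincare.SkyscraperCor
import Groth.Agent.Lib.EulerPull.Abelian
import Groth.Agent.Lib.AlgSp.Dim
import Groth.Agent.Lib.EulerPull.RR

/-!
# The transpose of an isogeny is an isogeny of the same degree
-/

set_option autoImplicit false
set_option linter.all false
set_option backward.isDefEq.respectTransparency false
set_option maxHeartbeats 1000000

universe u

open CategoryTheory CategoryTheory.Limits AlgebraicGeometry Opposite TopologicalSpace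
open MonoidalCategory CartesianMonoidalCategory
open GrothLib.Ample GrothLib.Cube
open scoped MonObj

noncomputable section

namespace GrothLib.TransposeIsog

variable {k : Type u} [Field k]

/-- The Euler characteristic of a Poincaré bundle is `(-1)^g`. -/
theorem euler_poincare {A At : Over (Spec (CommRingCat.of k))} [GrpObj A] [IsProper A.hom]
    [GeometricallyIntegral A.hom] [Smooth A.hom] [GrpObj At] [IsProper At.hom] [GeometricallyIntegral At.hom]
    [Smooth At.hom] {φ : ∀ T : Over (Spec (CommRingCat.of k)), PicF.Cl (PicF.XT A.hom T) → (T ⟶ At)}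
    (hφ : AbDual.IsDualAV Scheme.fppfPrecoverage A At φ) {g : ℕ} (hg : topologicalKrullDim A.left = g)
    {P : (A ⊗ At).left.Modules} {x : Pic (A ⊗ At).left} (hP : HasCls P x)
    (hξ : AbDual.IsPoincareCl A At φ (PicF.cl P)) :
    @Curv2.euler k _ (A ⊗ At).left ⟨(A ⊗ At).hom⟩ P = (-1) ^ g := by
  obtain ⟨hvan, hone⟩ := Skyscraper.cohomology hφ hg hP hξ
  letI : (A ⊗ At).left.Over (Spec (CommRingCat.of k)) := ⟨(A ⊗ At).hom⟩
  unfold Curv2.euler
  rw [finsum_eq_single _ g fun j hj => by
    haveI := hvan j hj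
    rw [Module.finrank_zero_of_subsingleton, Nat.cast_zero, mul_zero]]
  rw [hone]
  simp

variable {A At B Bt : Over (Spec (CommRingCat.of k))}
  [GrpObj A] [IsProper A.hom] [GeometricallyIntegral A.hom] [Smooth A.hom]
  [GrpObj At] [IsProper At.hom] [GeometricallyIntegral At.hom] [Smooth At.hom]
  [GrpObj B] [IsProper B.hom] [GeometricallyIntegral B.hom] [Smooth B.hom]
  [GrpObj Bt] [IsProper Bt.hom] [GeometricallyIntegral Bt.hom] [Smooth Bt.hom]
  {φA : ∀ T : Over (Spec (CommRingCat.of k)), PicF.Cl (PicF.XT A.hom T) → (T ⟶ At)}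
  (hA : AbDual.IsDualAV Scheme.fppfPrecoverage A At φA)
  {φB : ∀ T : Over (Spec (CommRingCat.of k)), PicF.Cl (PicF.XT B.hom T) → (T ⟶ Bt)}
  (hB : AbDual.IsDualAV Scheme.fppfPrecoverage B Bt φB)

include hA hB in
/-- The map to the dual of a pulled back class factors through the transpose. -/
theorem psi_pull (f : A ⟶ B) [IsMonHom f] {ft : Bt ⟶ At} (hft : AbDual.IsTranspose f φA φB ft) (y : Pic B.left) :
    MumfordPoincare.psi φA (pull f.left y) = f ≫ MumfordPoincare.psi φB y ≫ ft := by
  have h1 : KL.mc (pull f.left y) (𝟙 A) = pull (f ▷ A).left (pull (B ◁ f).left (KL.mc y (𝟙 B))) := by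
    rw [KL.pull_mc, Category.comp_id, KL.mc, KL.mc, pull_addClass]
    simp only [whiskerRight_fst, whiskerRight_snd, whiskerRight_snd_assoc, Category.comp_id]
    rw [addClass, addClass, pull_pull_over, pull_pull_over, pull_pull_over, MonObj.mul_comp]
  show Dual.dphi φA A (KL.mc (pull f.left y) (𝟙 A)) = _
  rw [h1]
  refine (Dual.dphi_transpose hft ((MumfordPoincare.pz_lam y).pullT f)).trans ?_
  rw [← Category.assoc]
  congr 1
  exact Dual.dphi_pull hB (MumfordPoincare.pz_lam y) f

include hA hB in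
/-- **The transpose of an isogeny is an isogeny of the same degree.** -/
theorem isogeny (f : A ⟶ B) [IsMonHom f] [IsFinite f.left] [Flat f.left] [Surjective f.left]
    (d : ℕ) (hd : ∀ y : B.left, f.left.finrank y = d) {ft : Bt ⟶ At} (hft : AbDual.IsTranspose f φA φB ft) :
    IsFinite ft.left ∧ Flat ft.left ∧ Surjective ft.left ∧ ∀ x : At.left, ft.left.finrank x = d := by
  haveI : IsCommMonObj A := isCommMonObj_abVar
  haveI : IsCommMonObj At := isCommMonObj_abVar
  obtain ⟨g, hg⟩ := AbTors.exists_dim A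
  have hgB : topologicalKrullDim B.left = g := le_antisymm
    ((AlgSp.topologicalKrullDim_le_of_isIntegralHom_surjective (f := f.left)).trans hg.le)
    (hg.ge.trans (AlgSp.topologicalKrullDim_le_of_isIntegralHom (f := f.left)))
  -- surjectivity
  obtain ⟨H, hH⟩ := exists_isAmple B
  have hy := hasCls_clsMod hH.1
  have hs := DualIsog.surjective_psi hA (hy.pullback f.left) (Ample.isAmple_pullback_of_isAffineHom f.left hH)
  rw [psi_pull hA hB f hft, Over.comp_left, Over.comp_left, ← Category.assoc] at hs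
  haveI : Surjective ft.left := by
    haveI := hs
    exact Surjective.of_comp (f.left ≫ (MumfordPoincare.psi φB (clsMod hH.1)).left) ft.left
  haveI : IsIntegral At.left := GeometricallyIntegral.isIntegral_of_subsingleton At.hom
  haveI := Rigidity.isFinite_of_dim_eq Bt At ft
    ((DualIsog.dim_dual hB hgB).trans (DualIsog.dim_dual hA hg).symm)
  haveI : GeometricallyConnected A.hom := Rigidity.geometricallyConnected_of_geometricallyIrreducible A.hom
  haveI : GeometricallyConnected Bt.hom := Rigidity.geometricallyConnected_of_geometricallyIrreducible Bt.hom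
  haveI : GeometricallyReduced Bt.hom := inferInstance
  haveI : IsMonHom ft := Rigidity.isMonHom_of_one_comp' ft (by
    have h := Dual.dphi_transpose hft (Dual.pz_one (A := B) (T := 𝟙_ _))
    rw [map_one, Dual.dphi_one hA, Dual.dphi_one hB] at h
    have hAt : (η[At] : 𝟙_ _ ⟶ At) = 1 := by rw [Hom.one_def, toUnit_unit, Category.id_comp]
    have hBt : (η[Bt] : 𝟙_ _ ⟶ Bt) = 1 := by rw [Hom.one_def, toUnit_unit, Category.id_comp]
    rw [hAt, hBt]
    exact h.symm)
  haveI : Flat ft.left := Rigidity.flat_of_isFinite Bt At ft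
  refine ⟨inferInstance, inferInstance, inferInstance, ?_⟩
  -- the degree
  haveI : IsLocallyNoetherian At.left := LocallyOfFiniteType.isLocallyNoetherian At.hom
  haveI : LocallyOfFinitePresentation ft.left := inferInstance
  obtain ⟨x₀⟩ : Nonempty At.left := inferInstance
  let e := ft.left.finrank x₀
  have he : ∀ x : At.left, ft.left.finrank x = e := fun x =>
    (ft.left.isLocallyConstant_finrank).apply_eq_of_preconnectedSpace x x₀
  suffices e = d by intro x; rw [he x, this]
  obtain ⟨pA, hpA⟩ := DualIsog.exists_poincare hA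
  obtain ⟨pB, hpB⟩ := DualIsog.exists_poincare hB
  have hzA : Dual.PZ A At pA := (Dual.pz_iff (Dual.hasCls_rep pA)).1 hpA.1
  have hzB : Dual.PZ B Bt pB := (Dual.pz_iff (Dual.hasCls_rep pB)).1 hpB.1
  have hdA : Dual.dphi φA At pA = 𝟙 At := hpA.2.1
  have hdB : Dual.dphi φB Bt pB = 𝟙 Bt := hpB.2.1
  have hrA := (Dual.isBirigid_of_isPoincareCl hA (Dual.hasCls_rep pA) hpA).1
  have hrB := (Dual.isBirigid_of_isPoincareCl hB (Dual.hasCls_rep pB) hpB).1
  have key : pull (A ◁ ft).left pA = pull (f ▷ Bt).left pB := by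
    refine Dual.eq_of_dphi hA (hzA.pullT ft) (hzB.pullHom f) ?_ ?_
    · have e1 : lift (1 : Bt ⟶ A) (𝟙 Bt) ≫ A ◁ ft = ft ≫ lift (1 : At ⟶ A) (𝟙 At) := by
        apply CartesianMonoidalCategory.hom_ext <;> simp [MonObj.comp_one]
      have e2 : lift (1 : Bt ⟶ A) (𝟙 Bt) ≫ f ▷ Bt = lift (1 : Bt ⟶ B) (𝟙 Bt) := by
        apply CartesianMonoidalCategory.hom_ext <;> simp [MonObj.one_comp]
      rw [pull_pull_over, pull_pull_over, e1, e2, ← pull_pull_over, hrA, map_one, hrB]
    · rw [Dual.dphi_pull hA hzA ft, hdA, Dual.dphi_transpose hft hzB, hdB, Category.comp_id, Category.id_comp]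
  haveI : IsProper (A ⊗ Bt).hom := inferInstanceAs (IsProper (pullback.fst A.hom Bt.hom ≫ A.hom))
  haveI : IsProper (A ⊗ At).hom := inferInstanceAs (IsProper (pullback.fst A.hom At.hom ≫ A.hom))
  haveI : IsProper (B ⊗ Bt).hom := inferInstanceAs (IsProper (pullback.fst B.hom Bt.hom ≫ B.hom))
  haveI : GeometricallyIntegral (A ⊗ Bt).hom :=
    CubeRel26.geometricallyIntegral_comp (pullback.fst A.hom Bt.hom) A.hom
  haveI : GeometricallyIntegral (A ⊗ At).hom :=
    CubeRel26.geometricallyIntegral_comp (pullback.fst A.hom At.hom) A.hom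
  haveI : GeometricallyIntegral (B ⊗ Bt).hom :=
    CubeRel26.geometricallyIntegral_comp (pullback.fst B.hom Bt.hom) B.hom
  have H1 : IsPullback (A ◁ ft).left (snd A Bt).left (snd A At).left ft.left := by
    have := PicSep26.isPullback_XTmap A.hom ft
    rwa [Dual.XTmap_eq] at this
  have H2 : IsPullback (f ▷ Bt).left (fst A Bt).left (fst B Bt).left f.left := by
    refine IsPullback.of_right (h₁₂ := pullback.snd B.hom Bt.hom) (v₁₃ := Bt.hom) (h₂₂ := B.hom) ?_ ?_
      (IsPullback.of_hasPullback B.hom Bt.hom).flip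
    · rw [show (f ▷ Bt).left ≫ pullback.snd B.hom Bt.hom = pullback.snd A.hom Bt.hom from
        congrArg CategoryTheory.Over.Hom.left (whiskerRight_snd f Bt), Over.w f]
      exact (IsPullback.of_hasPullback A.hom Bt.hom).flip
    · exact congrArg CategoryTheory.Over.Hom.left (whiskerRight_fst f Bt)
  haveI : IsFinite (A ◁ ft).left := MorphismProperty.of_isPullback H1.flip ‹IsFinite ft.left›
  haveI : Flat (A ◁ ft).left := MorphismProperty.of_isPullback H1.flip ‹Flat ft.left›
  haveI : IsFinite (f ▷ Bt).left := MorphismProperty.of_isPullback H2.flip ‹IsFinite f.left›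
  haveI : Flat (f ▷ Bt).left := MorphismProperty.of_isPullback H2.flip ‹Flat f.left›
  have d1 : ∀ y, (A ◁ ft).left.finrank y = e := fun y => by
    rw [Scheme.Hom.finrank_of_isPullback _ _ _ _ H1.flip]; exact he _
  have d2 : ∀ y, (f ▷ Bt).left.finrank y = d := fun y => by
    rw [Scheme.Hom.finrank_of_isPullback _ _ _ _ H2.flip]; exact hd _
  have h1 := EulerPull.euler_pullback (A ◁ ft) e d1 (Dual.rep pA)
    (Euler.isCoh_of_isInvertible (Dual.hasCls_rep pA).choose)
  have h2 := EulerPull.euler_pullback (f ▷ Bt) d d2 (Dual.rep pB)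
    (Euler.isCoh_of_isInvertible (Dual.hasCls_rep pB).choose)
  rw [euler_poincare hA hg (Dual.hasCls_rep pA) hpA] at h1
  rw [euler_poincare hB hgB (Dual.hasCls_rep pB) hpB] at h2
  have hc := (Dual.hasCls_rep pA).pullback (A ◁ ft).left
  rw [key] at hc
  letI : (A ⊗ Bt).left.Over (Spec (CommRingCat.of k)) := ⟨(A ⊗ Bt).hom⟩
  have h3 := EulerPull.euler_eq_of_hasCls (k := k) hc ((Dual.hasCls_rep pB).pullback (f ▷ Bt).left)
  have h4 : (e : ℤ) * (-1) ^ g = (d : ℤ) * (-1) ^ g := h1.symm.trans (h3.trans h2)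
  exact_mod_cast mul_right_cancel₀ (pow_ne_zero g (by norm_num : (-1 : ℤ) ≠ 0)) h4

end GrothLib.TransposeIsog
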