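import Groth.Agent.Lib.Poincare.PosCone
import Groth.Agent.Lib.Poincare.TransposeIsog
import Groth.Agent.Lib.Poincare.Bidual
import Groth.Agent.S7790
import Groth.Agent.S12385

/-!
# Positivity transferred to the dual
-/

set_option autoImplicit false
set_option linter.all false
set_option backward.isDefEq.respectTransparency false
set_option maxHeartbeats 1000000

universe u

open CategoryTheory CategoryTheory.Limits AlgebraicGeometry Opposite TopologicalSpace
open MonoidalCategory CartesianMonoidalCategory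
open GrothLib.Ample GrothLib.Cube
open scoped MonObj

noncomputable section

namespace GrothLib.PosTransfer

open GrothLib.PosCone
open MumfordPoincare (lam psi pz_lam)
open Kodaira (PLe)
open TraceForm (tr)

variable {K : Type u} [Field K] [IsAlgClosed K] {A At Att : Over (Spec (CommRingCat.of K))}
  [GrpObj A] [IsCommMonObj A] [IsProper A.hom] [GeometricallyIntegral A.hom]
  [GrpObj At] [IsCommMonObj At] [IsProper At.hom] [GeometricallyIntegral At.hom]
  [GrpObj Att] [IsCommMonObj Att] [IsProper Att.hom] [GeometricallyIntegral Att.hom]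

theorem pull_swp_lam (y : Pic A.left) : pull (Bidual.swp A A).left (lam y) = lam y := by
  rw [lam, KL.mc, pull_addClass, Category.comp_id, Bidual.swp, lift_fst, lift_snd, KL.addClass_comm]

theorem sym_of_mc {y z : Pic A.left} {u : A ⟶ A} (h : KL.mc y (𝟙 A) = KL.mc z u) : PosCone.Sym z u := by
  have h1 := pull_swp_lam y
  rw [lam, h] at h1
  rw [PosCone.Sym, pull_lam]
  conv_lhs => rw [← h1]
  rw [KL.mc, pull_addClass, Bidual.swp, lift_fst, lift_snd_assoc]

theorem ple_of_section {M : A.left.Modules} {y : Pic A.left} (hM : HasCls M y)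
    (s : Coh.structureModule A.left ⟶ M) (hs : s ≠ 0) : PLe 1 y := by
  haveI : IsIntegral A.left := GeometricallyIntegral.isIntegral_of_subsingleton A.hom
  obtain ⟨hO, hO1⟩ := hasCls_structureModule A.left
  obtain ⟨hMi, rfl⟩ := hM
  exact ⟨_, _, hO, hMi, hO1, rfl, s, Euler.mono_of_ne_zero hO hMi hs⟩

theorem ple_pow {y : Pic A.left} (hy : PLe 1 y) (c : ℕ) : PLe 1 (y ^ c) := by
  induction c with
  | zero => rw [pow_zero]; exact PLe.rfl' 1
  | succ c ih =>
    have := ih.mul_right y
    rw [_root_.one_mul, ← pow_succ] at this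
    exact hy.trans this

/-- **Products of effective endomorphisms have positive trace.** -/
theorem tr_mul_pos {z : Pic A.left} {N : A.left.Modules} (hN : HasCls N z) (hamp : CohB1.IsAmple N)
    {g gam : EndAV.End A} {y w : Pic A.left} (hy : PLe 1 y) (hw : PLe 1 w)
    (hg : KL.mc y (𝟙 A) = KL.mc z g.toHom) (hgam : KL.mc w (𝟙 A) = KL.mc z gam.toHom) (hne : gam * g ≠ 0) :
    0 < tr (gam * g) := by
  have hz := Index.nondeg_of_isAmple hN hamp
  have hg0 : g ≠ 0 := fun h => hne (by rw [h, mul_zero])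
  have hgam0 : gam ≠ 0 := fun h => hne (by rw [h, zero_mul])
  obtain ⟨M, s, hM, hs, -⟩ := exists_section hy fun h1 => hg0 (EndAV.End.ext
    (eq_one_of_mc hz g.toHom (by rw [← hg, h1, KL.mc, KL.addClass_class_one])))
  obtain ⟨M₂, s₂, hM₂, hs₂, -⟩ := exists_section hw fun h1 => hgam0 (EndAV.End.ext
    (eq_one_of_mc hz gam.toHom (by rw [← hgam, h1, KL.mc, KL.addClass_class_one])))
  obtain ⟨n, x, hx, hxs⟩ := exists_sum_sq hN hamp le_rfl hgam0 (sym_of_mc hgam) hM₂ s₂ hs₂ (by rw [pow_one]; exact hgam)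
  obtain ⟨n₂, x₂, hx₂, hxs₂⟩ := exists_sum_sq hN hamp le_rfl hg0 (sym_of_mc hg) hM s hs (by rw [pow_one]; exact hg)
  obtain ⟨c, a, hc, ha, hca⟩ := exists_int_sq hx hxs
  obtain ⟨c₂, b, hc₂, hb, hcb⟩ := exists_int_sq hx₂ hxs₂
  have key : ∀ i j, 0 ≤ tr (a i * a i * (b j * b j)) ∧ (a i * b j ≠ 0 → 0 < tr (a i * a i * (b j * b j))) :=
    fun i j => by
    have e : tr (a i * a i * (b j * b j)) = tr (b j * a i * (a i * b j)) := by
      rw [← _root_.mul_assoc (a i * a i), TraceForm.tr_mul_comm, ← _root_.mul_assoc, ← _root_.mul_assoc,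
        ← _root_.mul_assoc]
    obtain ⟨q, hq, hE, hpos⟩ := eff_sandwich hN hamp (b j) (a i) (sym_aeval g (sym_of_mc hg) (hb j))
      (sym_aeval gam (sym_of_mc hgam) (ha i))
    rw [e]
    exact ⟨hE.tr_nonneg hN hamp hq, hpos⟩
  have hsum : ((c * c₂ : ℕ) : ℤ) * tr (gam * g) = ∑ i, ∑ j, tr (a i * a i * (b j * b j)) := by
    rw [← TraceForm.tr_nsmul, ← smul_mul_smul_comm, hca, hcb, Finset.sum_mul_sum, ← TraceForm.trHom_apply, map_sum]
    refine Finset.sum_congr rfl fun i _ => ?_
    rw [map_sum]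
    rfl
  obtain ⟨i₀, j₀, hij⟩ : ∃ i j, a i * b j ≠ 0 := by
    by_contra h
    simp only [not_exists, not_not] at h
    refine hne (HomFG.toEnd0_injective (A := A) ?_)
    have h1 : (c * c₂) • (gam * g) = 0 := by
      rw [← smul_mul_smul_comm, hca, hcb, Finset.sum_mul_sum]
      refine Finset.sum_eq_zero fun i _ => Finset.sum_eq_zero fun j _ => ?_
      rw [_root_.mul_assoc, ← _root_.mul_assoc (a i) (b j), h i j, zero_mul, mul_zero]
    have h2 := congrArg EndAV.toEnd0 h1
    rw [map_nsmul, map_zero, ← Nat.cast_smul_eq_nsmul ℚ, smul_eq_zero] at h2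
    rw [map_zero]
    exact h2.resolve_left (Nat.cast_ne_zero.2 (Nat.mul_pos hc hc₂).ne')
  have hpos : 0 < ((c * c₂ : ℕ) : ℤ) * tr (gam * g) := by
    rw [hsum]
    exact Finset.sum_pos' (fun i _ => Finset.sum_nonneg fun j _ => (key i j).1)
      ⟨i₀, Finset.mem_univ _, Finset.sum_pos' (fun j _ => (key i₀ j).1) ⟨j₀, Finset.mem_univ _, (key i₀ j₀).2 hij⟩⟩
  exact (pos_iff_pos_of_mul_pos hpos).1 (by positivity)

/-- A nonzero section stays nonzero after pulling back along a surjection. -/
theorem ple_pullback (f : A ⟶ At) [Surjective f.left] {M : At.left.Modules} {y : Pic At.left} (hM : HasCls M y)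
    (s : Coh.structureModule At.left ⟶ M) (hs : s ≠ 0) : PLe 1 (pull f.left y) := by
  haveI : IsIntegral At.left := GeometricallyIntegral.isIntegral_of_subsingleton At.hom
  obtain ⟨q, hq⟩ : ∃ q, q ∈ CohB1.genLocus M s := by
    haveI : Mono s := Euler.mono_of_ne_zero Euler.isInvertible_structure hM.choose hs
    have hQ : Coh.IsCoh (cokernel s) := by
      letI : At.left.Over (Spec (CommRingCat.of K)) := ⟨At.hom⟩
      haveI : IsProper (At.left ↘ Spec (CommRingCat.of K)) := ‹IsProper At.hom›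
      haveI := Euler.isNoetherian_of_proper (X := At.left) K
      exact QCoh.isCoh_cokernel s (Euler.isCoh_of_isInvertible Euler.isInvertible_structure)
        (Euler.isCoh_of_isInvertible hM.choose)
    let O : At.left.Opens := ⟨(CohB1.support (cokernel s))ᶜ, (QCoh.isClosed_support_of_isCoh hQ).isOpen_compl⟩
    exact ⟨genericPoint At.left, Hilb20.le_genLocus_of_disjoint_support s (U := O) (fun x hx => hx)
      (HodgeIndex.mem_support_structure_ne_zero s hs hM.choose)⟩
  obtain ⟨p, hp⟩ := f.left.surjective q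
  let iO := (Ample.nonempty_pullback_structureModule (X := At.left) f.left).some
  let s' : Coh.structureModule A.left ⟶ (Scheme.Modules.pullback f.left).obj M :=
    iO.inv ≫ (Scheme.Modules.pullback f.left).map s
  refine ple_of_section (hM.pullback f.left) s'
    (TraceApps.ne_zero_of_mem_genLocus (hM.pullback f.left).choose s' (x := p) ?_)
  rw [show CohB1.genLocus _ s' = f.left ⁻¹ᵁ CohB1.genLocus M s from genLocus_pullback f.left M hM.choose s iO.symm]
  show f.left p ∈ CohB1.genLocus M s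
  rw [hp]
  exact hq

theorem psi_of_isLambda {B Bt : Over (Spec (CommRingCat.of K))} [GrpObj B]
    {φ : ∀ T : Over (Spec (CommRingCat.of K)), PicF.Cl (PicF.XT B.hom T) → (T ⟶ Bt)} {L : B.left.Modules}
    (hL : PicF.IsInvertible L) {f : B ⟶ Bt} (h : AgPol.IsLambda B Bt φ L f) : psi φ (clsMod hL) = f := by
  obtain ⟨N, hN, ⟨i⟩, hf⟩ := h
  have hx := hasCls_clsMod hL
  have hn := hasCls_clsMod hN
  have e := ((hn.tensor (hx.pullback _)).tensor (hx.pullback _)).eq (hx.pullback _) ⟨i⟩
  have e2 : clsMod hN = lam (clsMod hL) := by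
    rw [lam, KL.mc, Category.comp_id, addClass, eq_mul_inv_iff_mul_eq, ← _root_.mul_assoc, ← MonObj.mul_eq_mul]
    exact e
  rw [← hf, Dual.dphi_eq (φ := φ) hn, e2]
  rfl

variable [Smooth A.hom] [Smooth At.hom] [Smooth Att.hom]
variable {φA : ∀ T : Over (Spec (CommRingCat.of K)), PicF.Cl (PicF.XT A.hom T) → (T ⟶ At)}
  (hAt : AbDual.IsDualAV Scheme.fppfPrecoverage A At φA)
  {φAt : ∀ T : Over (Spec (CommRingCat.of K)), PicF.Cl (PicF.XT At.hom T) → (T ⟶ Att)}
  (hAtt : AbDual.IsDualAV Scheme.fppfPrecoverage At Att φAt)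

include hAt hAtt in
/-- `φ_L` is its own transpose through the bidual. -/
theorem isTranspose_psi (z : Pic A.left) [IsMonHom (psi φA z)] {x : Pic (A ⊗ At).left}
    (hx : AbDual.IsPoincareCl A At φA (PicF.cl (Dual.rep x)))
    (hx' : Dual.PZ At A (pull (Bidual.swp At A).left x))
    [IsIso (Dual.dphi φAt A (pull (Bidual.swp At A).left x))] :
    AbDual.IsTranspose (psi φA z) φA φAt
      (inv (Dual.dphi φAt A (pull (Bidual.swp At A).left x)) ≫ psi φA z) := by
  obtain ⟨hz, hid, hrig⟩ := id hx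
  have hbr := Dual.isBirigid_of_isPoincareCl hAt (Dual.hasCls_rep x) hx
  refine Dual.isTranspose_of _ _ _ _ fun T c hc => ?_
  set κ := Dual.dphi φAt A (pull (Bidual.swp At A).left x) with hκ
  let b : T ⟶ A := Dual.dphi φAt T c ≫ inv κ
  let m : Pic T.left := pull (lift (1 : T ⟶ At) (𝟙 T)).left c
  have hc' : c = pull (At ◁ b).left (pull (Bidual.swp At A).left x) * pull (snd At T).left m := by
    refine Dual.eq_of_dphi hAtt hc ((hx'.pullT b).mul_base m) ?_ ?_
    · have e : (lift (1 : T ⟶ At) (𝟙 T) ≫ At ◁ b) ≫ Bidual.swp At A = b ≫ lift (𝟙 A) (1 : A ⟶ At) := by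
        apply CartesianMonoidalCategory.hom_ext <;> simp [Bidual.swp, MonObj.comp_one]
      rw [map_mul, pull_pull_over, pull_pull_over, e, ← pull_pull_over, hbr.2, map_one, _root_.one_mul,
        pull_pull_over, lift_snd, pull_over_id]
    · rw [Dual.dphi_mul_base hAtt (hx'.pullT b), Dual.dphi_pull hAtt hx', ← hκ, Category.assoc, IsIso.inv_hom_id,
        Category.comp_id]
  have e2 : pull (A ◁ psi φA z).left x = lam z := by
    refine Dual.eq_of_dphi hAt (((Dual.pz_iff (Dual.hasCls_rep x)).1 hz).pullT _) (pz_lam z) ?_ ?_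
    · have e : lift (1 : A ⟶ A) (𝟙 A) ≫ A ◁ psi φA z = psi φA z ≫ lift (1 : At ⟶ A) (𝟙 At) := by
        apply CartesianMonoidalCategory.hom_ext <;> simp [MonObj.comp_one]
      rw [pull_pull_over, e, ← pull_pull_over, hbr.1, map_one, lam, KL.pull_sec_mc]
    · rw [Dual.dphi_pull hAt ((Dual.pz_iff (Dual.hasCls_rep x)).1 hz)]
      show psi φA z ≫ φA At (PicF.cl (Dual.rep x)) = _
      rw [hid, Category.comp_id]
      rfl
  have e3 : (psi φA z ▷ T ≫ At ◁ b) ≫ Bidual.swp At A = A ◁ b ≫ Bidual.swp A A ≫ A ◁ psi φA z := by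
    apply CartesianMonoidalCategory.hom_ext <;> simp [Bidual.swp]
  conv_lhs => rw [hc', map_mul, pull_pull_over, pull_pull_over, e3, ← pull_pull_over, ← pull_pull_over, e2,
    pull_swp_lam, pull_pull_over _ (snd At T), whiskerRight_snd]
  rw [Dual.dphi_mul_base hAt ((pz_lam z).pullT b), Dual.dphi_pull hAt (pz_lam z), ← Category.assoc]
  rfl

include hAt hAtt in
/-- **The trace of `κ⁻¹ φ_Z φ_Y` is positive.** -/
theorem tr_pos {r : ℕ} (hr : topologicalKrullDim A.left = r) {x : Pic (A ⊗ At).left}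
    (hx : AbDual.IsPoincareCl A At φA (PicF.cl (Dual.rep x)))
    (hx' : Dual.PZ At A (pull (Bidual.swp At A).left x))
    [IsMonHom (Dual.dphi φAt A (pull (Bidual.swp At A).left x))]
    [IsIso (Dual.dphi φAt A (pull (Bidual.swp At A).left x))]
    {Y : A.left.Modules} {y : Pic A.left} (hY : HasCls Y y) (s : Coh.structureModule A.left ⟶ Y) (hs : s ≠ 0)
    {Z : At.left.Modules} {w : Pic At.left} (hZ : HasCls Z w) (sZ : Coh.structureModule At.left ⟶ Z) (hsZ : sZ ≠ 0)
    (α : EndAV.End A)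
    (hα : α.toHom ≫ Dual.dphi φAt A (pull (Bidual.swp At A).left x) = psi φA y ≫ psi φAt w) (hne : α ≠ 0) :
    0 < tr α := by
  set κ := Dual.dphi φAt A (pull (Bidual.swp At A).left x) with hκ
  obtain ⟨L, hL⟩ := exists_isAmple A
  have hN := hasCls_clsMod hL.1
  set z := clsMod hL.1 with hz
  haveI := DualIsog.isMonHom_psi hAt z
  haveI := DualIsog.isMonHom_psi hAt y
  haveI := DualIsog.isMonHom_psi hAtt w
  obtain ⟨h1, h2, h3⟩ := DualIsog.isogeny_psi hAt hN hL
  haveI := h1; haveI := h2; haveI := h3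
  haveI : GeometricallyConnected A.hom := Rigidity.geometricallyConnected_of_geometricallyIrreducible A.hom
  haveI : GeometricallyConnected At.hom := Rigidity.geometricallyConnected_of_geometricallyIrreducible At.hom
  let c := Scheme.Hom.finrank (psi φA z).left (η[At].left (IsLocalRing.closedPoint K))
  have hc : 1 ≤ c := (Scheme.Hom.one_le_finrank_iff_surjective (psi φA z).left).2 h3 _
  obtain ⟨⟨ψ', ⟨hψ', hψ1⟩, -⟩, hrest⟩ := Groth.Agent.S7790.result A At (psi φA z) c hc fun p =>
    congrArg (fun q => Scheme.Hom.finrank (psi φA z).left (η[At].left q)) (Subsingleton.elim (α := PrimeSpectrum K) _ _)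
  obtain ⟨hψ2, -⟩ := hrest ψ' hψ' hψ1
  haveI := hψ'
  haveI : IsMonHom (asIso κ).hom := ‹IsMonHom κ›
  have hκ' : IsMonHom (inv κ) := by
    rw [show inv κ = (asIso κ).inv from rfl]
    infer_instance
  let g : EndAV.End A := EndAV.End.of (psi φA y ≫ ψ')
  let gam : EndAV.End A := EndAV.End.of (psi φA z ≫ psi φAt w ≫ inv κ)
  have hg : KL.mc (y ^ c) (𝟙 A) = KL.mc z g.toHom := by
    rw [← Category.comp_id g.toHom, ← KL.pull_mc]
    refine Dual.eq_of_dphi hAt (pz_lam (y ^ c)) ((pz_lam z).pullT g.toHom) ?_ ?_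
    · rw [KL.pull_mc, KL.pull_sec_mc, KL.pull_sec_mc]
    · change _ = Dual.dphi φA A (pull (A ◁ _).left (lam z))
      rw [Dual.dphi_pull hAt (pz_lam z)]
      show _ = (psi φA y ≫ ψ') ≫ psi φA z
      rw [Category.assoc, hψ2, MonObj.comp_pow, Category.comp_id]
      show psi φA (y ^ c) = _
      have hpow : ∀ n : ℕ, psi φA (y ^ n) = psi φA y ^ n := fun n => by
        induction n with
        | zero =>
          rw [pow_zero, pow_zero, psi, lam, KL.mc, KL.addClass_class_one]
          exact Dual.dphi_one hAt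
        | succ n ih =>
          rw [pow_succ, pow_succ, ← ih, psi, psi, psi, lam, lam, lam, KL.mc, KL.addClass_mul_class]
          exact Dual.dphi_mul hAt (pz_lam (y ^ n)) (pz_lam y)
      exact hpow c
  have hgam : KL.mc (pull (psi φA z).left w) (𝟙 A) = KL.mc z gam.toHom := by
    rw [← Category.comp_id gam.toHom, ← KL.pull_mc]
    refine Dual.eq_of_dphi hAt (pz_lam _) ((pz_lam z).pullT gam.toHom) ?_ ?_
    · rw [KL.pull_mc, KL.pull_sec_mc, KL.pull_sec_mc]
    · change _ = Dual.dphi φA A (pull (A ◁ _).left (lam z))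
      rw [Dual.dphi_pull hAt (pz_lam z)]
      show psi φA (pull (psi φA z).left w) = (psi φA z ≫ psi φAt w ≫ inv κ) ≫ psi φA z
      haveI : IsMonHom (inv κ ≫ psi φA z) := inferInstance
      rw [TransposeIsog.psi_pull hAt hAtt (psi φA z) (isTranspose_psi hAt hAtt z hx hx') w, Category.assoc,
        Category.assoc]
  have hprod : gam * g = c • α := by
    refine EndAV.End.ext ?_
    rw [EndAV.End.toHom_mul, EndAV.End.toHom_nsmul]
    show (psi φA y ≫ ψ') ≫ psi φA z ≫ psi φAt w ≫ inv κ = _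
    rw [Category.assoc, ← Category.assoc ψ', hψ2, MonObj.pow_comp, Category.id_comp, MonObj.comp_pow]
    congr 1
    rw [← Category.assoc, ← hα, Category.assoc, IsIso.hom_inv_id, Category.comp_id]
  have hne' : gam * g ≠ 0 := by
    rw [hprod]
    intro h
    refine hne (HomFG.toEnd0_injective (A := A) ?_)
    have h2 := congrArg EndAV.toEnd0 h
    rw [map_nsmul, map_zero, ← Nat.cast_smul_eq_nsmul ℚ, smul_eq_zero] at h2
    rw [map_zero]
    exact h2.resolve_left (Nat.cast_ne_zero.2 (by omega))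
  have h := tr_mul_pos hN hL (ple_pow (ple_of_section hY s hs) c) (ple_pullback (psi φA z) hZ sZ hsZ) hg hgam hne'
  rw [hprod, TraceForm.tr_nsmul] at h
  exact (pos_iff_pos_of_mul_pos h).1 (by exact_mod_cast hc)

end GrothLib.PosTransfer
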