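import Groth.Agent.Lib.Poincare.Products
import Groth.Agent.Lib.AbTors.FiniteKer
import Groth.Agent.Lib.GrpDeligne.AbVar
import Groth.Agent.Lib.DegPoly.Valuation
import Groth.Agent.Lib.Rigidity.AbMaximal
import Groth.Agent.Lib.Dim.Morphism
import Groth.Agent.Lib.DiagGrp.KernelFP
import Groth.Agent.S11999

/-!
# Sequences of abelian varieties exact up to isogeny split up to isogeny
-/

universe u

open CategoryTheory CategoryTheory.Limits AlgebraicGeometry TopologicalSpace
open MonoidalCategory CartesianMonoidalCategory MonObj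
open GrothLib.Cube
open scoped CategoryTheory.Obj

set_option backward.isDefEq.respectTransparency false
set_option linter.style.haveILetI false

noncomputable section

namespace GrothLib.Poincare

variable {K : Type u} [Field K]

theorem dim_tensor (X Y : Over (Spec (CommRingCat.of K))) [LocallyOfFiniteType X.hom] [LocallyOfFiniteType Y.hom]
    [GeometricallyIntegral X.hom] [GeometricallyIntegral Y.hom] {a b : ℕ}
    (ha : topologicalKrullDim X.left = (a : WithBot ℕ∞)) (hb : topologicalKrullDim Y.left = (b : WithBot ℕ∞)) :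
    topologicalKrullDim (X ⊗ Y).left = ((a + b : ℕ) : WithBot ℕ∞) := by
  show topologicalKrullDim ↥(pullback X.hom Y.hom) = _
  rw [FBase7.topologicalKrullDim_pullback_eq_add, ha, hb]
  norm_cast

/-- A surjective morphism does not raise the dimension. -/
theorem dim_le_of_surjective {X Y : Over (Spec (CommRingCat.of K))} [IsProper X.hom] [GeometricallyIntegral X.hom]
    [IsProper Y.hom] [GeometricallyIntegral Y.hom] (f : X ⟶ Y) [Surjective f.left] {a b : ℕ}
    (ha : topologicalKrullDim X.left = (a : WithBot ℕ∞)) (hb : topologicalKrullDim Y.left = (b : WithBot ℕ∞)) :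
    b ≤ a := by
  haveI : IsIntegral X.left := GeometricallyIntegral.isIntegral_of_subsingleton X.hom
  haveI : IsIntegral Y.left := GeometricallyIntegral.isIntegral_of_subsingleton Y.hom
  haveI : LocallyOfFiniteType f.left := by
    have : LocallyOfFiniteType (f.left ≫ Y.hom) := by rw [Over.w]; infer_instance
    exact locallyOfFiniteType_of_comp f.left Y.hom
  obtain ⟨n, m, e, hn, hm, -, hnme⟩ := Dim.exists_dim_genericFibre f.left Y.hom
  have h1 : n = a := by exact_mod_cast hn.symm.trans ha
  have h2 : m = b := by exact_mod_cast hm.symm.trans hb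
  omega

/-- A finite morphism does not lower the dimension. -/
theorem dim_le_of_finite {X Y : Over (Spec (CommRingCat.of K))} [IsProper X.hom] [GeometricallyIntegral X.hom]
    [IsProper Y.hom] (f : X ⟶ Y) [IsFinite f.left] {a b : ℕ}
    (ha : topologicalKrullDim X.left = (a : WithBot ℕ∞)) (hb : topologicalKrullDim Y.left = (b : WithBot ℕ∞)) :
    a ≤ b := by
  haveI : IsIntegral X.left := GeometricallyIntegral.isIntegral_of_subsingleton X.hom
  obtain ⟨n, hn, hn'⟩ := Dim.dim_closure_range_eq f.left Y.hom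
  have h1 := topologicalKrullDim_subspace_le Y.left (closure (Set.range f.left))
  rw [hn'] at h1
  have h2 : (n : WithBot ℕ∞) = a := hn.symm.trans ha
  rw [h2, hb] at h1
  exact_mod_cast h1

variable [IsAlgClosed K]

/-- Surjective homomorphisms between abelian varieties of the same dimension are finite. -/
theorem isFinite_of_surjective_dim {X Y : Over (Spec (CommRingCat.of K))} [GrpObj X] [IsProper X.hom]
    [GeometricallyIntegral X.hom] [GrpObj Y] [IsProper Y.hom] [GeometricallyIntegral Y.hom] (f : X ⟶ Y) [IsMonHom f]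
    [Surjective f.left] {d : ℕ} (hX : topologicalKrullDim X.left = (d : WithBot ℕ∞))
    (hY : topologicalKrullDim Y.left = (d : WithBot ℕ∞)) : IsFinite f.left := by
  haveI := isCommMonObj_abVar (A := X)
  haveI := isCommMonObj_abVar (A := Y)
  refine AbTors.isFinite_of_forall_subgroup f fun W _ _ _ w _ _ hw => ?_
  haveI := isCommMonObj_abVar (A := W)
  obtain ⟨V, _, j, _, _, hj, hjc, hs, hf⟩ := Groth.Agent.S11999.result K X W w
  haveI := isCommMonObj_abVar (A := V)
  haveI : IsProper (W ⊗ V).hom := inferInstanceAs (IsProper (pullback.fst W.hom V.hom ≫ W.hom))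
  haveI := geometricallyIntegral_tensor W V
  haveI := hs
  haveI := hf
  obtain ⟨a, ha⟩ := AbTors.exists_dim W
  obtain ⟨b, hb⟩ := AbTors.exists_dim V
  have hle := dim_le_of_finite ((fst W V ≫ w) * (snd W V ≫ j)) (dim_tensor W V ha hb) hX
  haveI : Surjective (j ≫ f).left := by
    haveI : Surjective (((fst W V ≫ w) * (snd W V ≫ j)).left ≫ f.left) := inferInstance
    have e : ((fst W V ≫ w) * (snd W V ≫ j)).left ≫ f.left = (snd W V).left ≫ (j ≫ f).left := by
      rw [← Over.comp_left, ← Over.comp_left]
      congr 1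
      rw [MonObj.mul_comp, Category.assoc, Category.assoc, hw, MonObj.comp_one, _root_.one_mul]
    have h2 : Surjective ((snd W V).left ≫ (j ≫ f).left) := e ▸ inferInstance
    exact Surjective.of_comp (snd W V).left (j ≫ f).left
  have hle2 := dim_le_of_surjective (j ≫ f) hb hY
  have h0 : a = 0 := by omega
  subst h0
  haveI : IsIntegral W.left := GeometricallyIntegral.isIntegral_of_subsingleton W.hom
  have hs0 := Dim.subsingleton_of_dim_eq_zero (S := (Set.univ : Set W.left)) isClosed_univ
    (IrreducibleSpace.isIrreducible_univ _)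
    ((IsHomeomorph.topologicalKrullDim_eq _ (Homeomorph.Set.univ W.left).isHomeomorph).trans ha).le
  exact ⟨fun p q => hs0 trivial trivial⟩

/-- A sequence exact up to isogeny is split up to isogeny. -/
theorem exists_quasi_splitting {A B C : Over (Spec (CommRingCat.of K))}
    [GrpObj A] [IsProper A.hom] [GeometricallyIntegral A.hom] [GrpObj B] [IsProper B.hom]
    [GeometricallyIntegral B.hom] [GrpObj C] [IsProper C.hom] [GeometricallyIntegral C.hom]
    (α : A ⟶ B) [IsMonHom α] (β : B ⟶ C) [IsMonHom β]
    {dA dB dC : ℕ} (hdA : topologicalKrullDim A.left = (dA : WithBot ℕ∞))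
    (hdB : topologicalKrullDim B.left = (dB : WithBot ℕ∞)) (hdC : topologicalKrullDim C.left = (dC : WithBot ℕ∞))
    (hdim : dB = dA + dC) (hα : Set.Finite {a : (𝟙_ (Over (Spec (CommRingCat.of K))) ⟶ A) | a ≫ α = 1})
    (hβ : Surjective β.left) (hαβ : α ≫ β = 1) :
    ∃ (N : ℕ) (π : B ⟶ A) (c : C ⟶ B), 1 ≤ N ∧ IsMonHom π ∧ IsMonHom c ∧
      (π ≫ α) * (β ≫ c) = (𝟙 B : B ⟶ B) ^ N := by
  haveI := isCommMonObj_abVar (A := A)
  haveI := isCommMonObj_abVar (A := B)
  haveI := isCommMonObj_abVar (A := C)
  haveI : IsFinite α.left := AbTors.isFinite_of_forall_subgroup α fun W _ _ _ w _ _ hw => by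
    haveI : Mono w := by
      haveI : Mono ((Over.forget _).map w) := inferInstanceAs (Mono w.left)
      exact (Over.forget _).mono_of_mono_map this
    haveI := hα.to_subtype
    haveI : Finite (𝟙_ (Over (Spec (CommRingCat.of K))) ⟶ W) :=
      Finite.of_injective (β := {a : (𝟙_ (Over (Spec (CommRingCat.of K))) ⟶ A) | a ≫ α = 1})
        (fun z => ⟨z ≫ w, by show (z ≫ w) ≫ α = 1; rw [Category.assoc, hw, MonObj.comp_one]⟩)
        fun z z' h => (cancel_mono w).1 (congrArg Subtype.val h)
    exact subsingleton_of_finite_pts W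
  -- the maximal abelian subvariety of the kernel of `β`
  let N : Over (Spec (CommRingCat.of K)) := pullback β η[C]
  let iN : N ⟶ B := pullback.fst β η[C]
  have hN : AlgGrp.IsKernel iN β := by
    have := IsPullback.of_hasPullback β η[C]
    rwa [toUnit_unique (pullback.snd β η[C]) (toUnit _)] at this
  obtain ⟨_, _⟩ := GrpDeligne.exists_grpObj_kernel β iN hN
  haveI := GrpDeligne.mono_of_isKernel hN
  haveI : IsCommMonObj N := by
    constructor
    rw [← cancel_mono iN, Category.assoc, IsMonHom.mul_hom, ← Category.assoc, ← BraidedCategory.braiding_naturality,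
      Category.assoc, IsCommMonObj.mul_comm]
  have hpb : IsPullback iN.left N.hom β.left η[C].left := hN.map (Over.forget _)
  haveI : LocallyOfFiniteType N.hom := by
    haveI : LocallyOfFiniteType β.left := by
      have : LocallyOfFiniteType (β.left ≫ C.hom) := by rw [Over.w]; infer_instance
      exact locallyOfFiniteType_of_comp β.left C.hom
    exact MorphismProperty.of_isPullback hpb inferInstance
  haveI : IsClosedImmersion iN.left := by
    haveI : IsClosedImmersion η[C].left :=
      DiagGrp.isClosedImmersion_one C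
    exact MorphismProperty.of_isPullback hpb.flip inferInstance
  obtain ⟨M, _, m, _, _, _, _, hmax⟩ := Rigidity.exists_maximal_abelian (G := N)
  let i : M ⟶ B := m ≫ iN
  haveI : IsClosedImmersion i.left := inferInstanceAs (IsClosedImmersion (m.left ≫ iN.left))
  haveI := isCommMonObj_abVar (A := M)
  have hiβ : i ≫ β = 1 := by
    rw [Category.assoc, GrpDeligne.ker_comp_eq_one hN, MonObj.comp_one]
  -- `α` factors through it
  obtain ⟨α', hα'⟩ := GrpDeligne.exists_lift_ker hN α hαβ
  haveI : IsMonHom α' := DiagGrp.isMonHom_of_points α' fun Z a b => by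
    rw [← cancel_mono iN]
    simp only [MonObj.mul_comp, Category.assoc, hα']
  haveI : ConnectedSpace A.left :=
    haveI : IsIntegral A.left := GeometricallyIntegral.isIntegral_of_subsingleton A.hom
    inferInstance
  obtain ⟨σ, hσ'⟩ := hmax A α' inferInstance
  have hσ : σ ≫ i = α := by rw [← Category.assoc, hσ', hα']
  haveI : Mono i := by
    haveI : Mono ((Over.forget _).map i) := inferInstanceAs (Mono i.left)
    exact (Over.forget _).mono_of_mono_map this
  haveI : IsMonHom σ := DiagGrp.isMonHom_of_points σ fun Z a b => by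
    rw [← cancel_mono i]
    simp only [MonObj.mul_comp, Category.assoc, hσ]
  haveI : IsFinite σ.left := by
    have : IsFinite (σ.left ≫ i.left) := by rw [← Over.comp_left, hσ]; infer_instance
    exact IsFinite.of_comp σ.left i.left
  -- a complement
  obtain ⟨V, _, j, _, _, hj, hjc, hs, hf⟩ := Groth.Agent.S11999.result K B M i
  haveI := isCommMonObj_abVar (A := V)
  haveI : IsProper (M ⊗ V).hom := inferInstanceAs (IsProper (pullback.fst M.hom V.hom ≫ M.hom))
  haveI := geometricallyIntegral_tensor M V
  haveI := hs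
  haveI := hf
  let h : M ⊗ V ⟶ B := (fst M V ≫ i) * (snd M V ≫ j)
  haveI : IsMonHom h := DiagGrp.isMonHom_mul_central i j fun X g h => _root_.mul_comm _ _
  have hhβ : h ≫ β = snd M V ≫ j ≫ β := by
    simp only [h, MonObj.mul_comp, Category.assoc, hiβ, MonObj.comp_one, _root_.one_mul]
  obtain ⟨a, ha⟩ := AbTors.exists_dim M
  obtain ⟨b, hb⟩ := AbTors.exists_dim V
  haveI : Surjective (j ≫ β).left := by
    have e : (snd M V).left ≫ (j ≫ β).left = h.left ≫ β.left := by
      rw [← Over.comp_left, ← Over.comp_left, hhβ]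
    have h2 : Surjective ((snd M V).left ≫ (j ≫ β).left) := by rw [e]; infer_instance
    exact Surjective.of_comp (snd M V).left (j ≫ β).left
  have hab := dim_le_of_finite h (dim_tensor M V ha hb) hdB
  have hA' := dim_le_of_finite σ hdA ha
  have hC' := dim_le_of_surjective (j ≫ β) hb hdC
  obtain rfl : a = dA := by omega
  obtain rfl : b = dC := by omega
  haveI := DegPoly.surjective_of_finite hdA ha σ
  haveI := isFinite_of_surjective_dim (j ≫ β) hb hdC
  obtain ⟨n, ε, hn, _, -, hεh⟩ := GrpDeligne.exists_dual_hom_of_surjective (M ⊗ V) B h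
  obtain ⟨p, ρ, hp, _, -, hρσ⟩ := GrpDeligne.exists_dual_hom_of_surjective A M σ
  obtain ⟨l, τ, hl, _, hτ, -⟩ := GrpDeligne.exists_dual_hom_of_surjective V C (j ≫ β)
  have e1 : β ^ n = ε ≫ snd M V ≫ j ≫ β := by
    rw [← hhβ, reassoc_of% hεh, MonObj.pow_comp, Category.id_comp]
  refine ⟨n * p * l, (ε ≫ fst M V ≫ ρ) ^ l, (τ ≫ j) ^ (n * p), Nat.mul_pos (Nat.mul_pos hn hp) hl, ?_, ?_, ?_⟩
  · exact GrpDeligne.isMonHom_pow _ l
  · exact GrpDeligne.isMonHom_pow _ _
  · have t1 : ε ≫ fst M V ≫ ρ ≫ α = (ε ≫ fst M V ≫ i) ^ p := by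
      rw [← hσ, reassoc_of% hρσ, MonObj.pow_comp, Category.id_comp, MonObj.comp_pow, MonObj.comp_pow]
    have t2 : (β ≫ τ ≫ j) ^ n = (ε ≫ snd M V ≫ j) ^ l := by
      have h3 : (β ^ n) ≫ τ ≫ j = (β ≫ τ ≫ j) ^ n := MonObj.pow_comp _ _ _
      rw [← h3, e1]
      simp only [Category.assoc]
      rw [show j ≫ β ≫ τ ≫ j = ((𝟙 V : V ⟶ V) ^ l) ≫ j by rw [← hτ]; simp only [Category.assoc],
        MonObj.pow_comp, Category.id_comp, MonObj.comp_pow, MonObj.comp_pow]
    have t3 : (ε ≫ fst M V ≫ i) * (ε ≫ snd M V ≫ j) = (𝟙 B : B ⟶ B) ^ n := by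
      rw [← MonObj.comp_mul]; exact hεh
    rw [MonObj.pow_comp, MonObj.comp_pow]
    simp only [Category.assoc]
    rw [t1, ← pow_mul, pow_mul (β ≫ τ ≫ j) n p, t2, ← pow_mul, _root_.mul_comm p l, ← mul_pow, t3, ← pow_mul]
    congr 1
    ring

end GrothLib.Poincare
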