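import Mathlib.RingTheory.TensorProduct.Maps
import Mathlib.RingTheory.Flat.FaithfullyFlat.Algebra
import Mathlib.AlgebraicGeometry.PullbackCarrier
import Mathlib.AlgebraicGeometry.Pullbacks

/-!
# A unit cocycle of a faithfully flat extension is locally a coboundary
-/

set_option autoImplicit false
set_option linter.all false

universe u

open TensorProduct CategoryTheory AlgebraicGeometry

namespace GrothLib.H90

variable {B C : Type u} [CommRing B] [CommRing C] [Algebra B C]

noncomputable abbrev f12 : C ⊗[B] C →ₐ[B] C ⊗[B] (C ⊗[B] C) :=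
  Algebra.TensorProduct.map (AlgHom.id B C) Algebra.TensorProduct.includeLeft

noncomputable abbrev f13 : C ⊗[B] C →ₐ[B] C ⊗[B] (C ⊗[B] C) :=
  Algebra.TensorProduct.map (AlgHom.id B C) Algebra.TensorProduct.includeRight

noncomputable abbrev f23 : C ⊗[B] C →ₐ[B] C ⊗[B] (C ⊗[B] C) := Algebra.TensorProduct.includeRight

theorem exists_prime_over {q q' : PrimeSpectrum C}
    (h : PrimeSpectrum.comap (algebraMap B C) q = PrimeSpectrum.comap (algebraMap B C) q') :
    ∃ Q : PrimeSpectrum (C ⊗[B] C),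
      PrimeSpectrum.comap (Algebra.TensorProduct.includeLeftRingHom : C →+* C ⊗[B] C) Q = q ∧
        PrimeSpectrum.comap (Algebra.TensorProduct.includeRight : C →ₐ[B] C ⊗[B] C).toRingHom Q = q' := by
  let f := Spec.map (CommRingCat.ofHom (algebraMap B C))
  obtain ⟨w, h1, h2⟩ := Scheme.Pullback.exists_preimage_pullback (f := f) (g := f) q q' h
  refine ⟨(pullbackSpecIso B C C).hom w, ?_, ?_⟩
  · rw [← h1, ← pullbackSpecIso_hom_fst B C C]; rfl
  · rw [← h2, ← pullbackSpecIso_hom_snd B C C]; rfl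

/-- A cocycle takes the value `1` on the diagonal. -/
theorem mul'_eq_one {θ : C ⊗[B] C} (hθ : IsUnit θ) (hc : f13 θ = f12 θ * f23 θ) :
    Algebra.TensorProduct.lmul' B θ = 1 := by
  let m : C ⊗[B] C →ₐ[B] C := Algebra.TensorProduct.lmul' B
  let g : C ⊗[B] (C ⊗[B] C) →ₐ[B] C := m.comp (Algebra.TensorProduct.map (AlgHom.id B C) m)
  have e12 : g.comp f12 = m := Algebra.TensorProduct.ext' fun a b => by simp [g, m]
  have e13 : g.comp f13 = m := Algebra.TensorProduct.ext' fun a b => by simp [g, m]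
  have e23 : g.comp f23 = m := Algebra.TensorProduct.ext' fun a b => by simp [g, m]
  have h := congrArg g hc
  rw [map_mul, ← AlgHom.comp_apply, ← AlgHom.comp_apply, ← AlgHom.comp_apply, e12, e13, e23] at h
  exact ((hθ.map m).mul_eq_left.1 h.symm)

/-- **Hilbert 90**: near every prime of the base a unit cocycle is the coboundary of one element. -/
theorem exists_coboundary [Module.FaithfullyFlat B C] {θ : C ⊗[B] C} (hθ : IsUnit θ)
    (hc : f13 θ = f12 θ * f23 θ) (p : PrimeSpectrum B) :
    ∃ x : C, (1 : C) ⊗ₜ[B] x = θ * (x ⊗ₜ[B] (1 : C)) ∧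
      ∀ q : PrimeSpectrum C, PrimeSpectrum.comap (algebraMap B C) q = p → x ∉ q.asIdeal := by
  let δ : C →ₗ[B] C ⊗[B] C := (Algebra.TensorProduct.includeRight : C →ₐ[B] C ⊗[B] C).toLinearMap -
    (LinearMap.mulLeft B θ).comp (Algebra.TensorProduct.includeLeft : C →ₐ[B] C ⊗[B] C).toLinearMap
  let M := LinearMap.ker δ
  have hδ : ∀ z : C ⊗[B] C, δ.lTensor C z = f13 z - f23 θ * f12 z := fun z => by
    induction z using TensorProduct.induction_on with
    | zero => simp
    | add u v hu hv => rw [map_add, map_add, map_add, hu, hv, mul_add]; abel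
    | tmul a b =>
      simp only [δ, LinearMap.lTensor_tmul, LinearMap.sub_apply, LinearMap.comp_apply, LinearMap.mulLeft_apply,
        AlgHom.toLinearMap_apply, Algebra.TensorProduct.includeRight_apply, Algebra.TensorProduct.includeLeft_apply,
        Algebra.TensorProduct.map_tmul, AlgHom.id_apply, tmul_sub, Algebra.TensorProduct.tmul_mul_tmul, one_mul]
  -- the unit ideal is generated by invariant elements
  have hgen : ∀ c : C, θ * (c ⊗ₜ[B] (1 : C)) ∈ LinearMap.range (M.subtype.lTensor C) := fun c => by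
    refine ((Module.Flat.lTensor_exact C (LinearMap.exact_subtype_ker_map δ)) _).1 ?_
    rw [hδ, map_mul, map_mul, hc]
    simp only [Algebra.TensorProduct.map_tmul, AlgHom.id_apply, Algebra.TensorProduct.includeLeft_apply,
      Algebra.TensorProduct.includeRight_apply]
    rw [← Algebra.TensorProduct.one_def]
    ring
  have hM : ∀ c : C, c ∈ Ideal.span (M : Set C) := fun c => by
    obtain ⟨z, hz⟩ := hgen c
    have hz' := congrArg (Algebra.TensorProduct.lmul' B) hz
    rw [map_mul, mul'_eq_one hθ hc, one_mul, Algebra.TensorProduct.lmul'_apply_tmul, mul_one] at hz'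
    rw [← hz']
    clear hz hz'
    induction z using TensorProduct.induction_on with
    | zero => simp
    | add u v hu hv => rw [map_add, map_add]; exact add_mem hu hv
    | tmul a b =>
      rw [LinearMap.lTensor_tmul, Algebra.TensorProduct.lmul'_apply_tmul]
      exact Ideal.mul_mem_left _ _ (Ideal.subset_span b.2)
  obtain ⟨q, hq⟩ := PrimeSpectrum.comap_surjective_of_faithfullyFlat (A := B) (B := C) p
  obtain ⟨x, hxM, hxq⟩ : ∃ x ∈ M, x ∉ q.asIdeal := by
    by_contra hne
    push Not at hne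
    exact q.isPrime.ne_top ((Ideal.eq_top_iff_one _).2 (Ideal.span_le.2 hne (hM 1)))
  have hx : (1 : C) ⊗ₜ[B] x = θ * (x ⊗ₜ[B] (1 : C)) := sub_eq_zero.1 (LinearMap.mem_ker.1 hxM)
  refine ⟨x, hx, fun q' hq' hxq' => hxq ?_⟩
  obtain ⟨Q, h1, h2⟩ := exists_prime_over (hq.trans hq'.symm)
  rw [← h2] at hxq'
  rw [← h1]
  have h3 : θ * (x ⊗ₜ[B] (1 : C)) ∈ Q.asIdeal := hx ▸ hxq'
  exact (Q.isPrime.mem_or_mem h3).resolve_left fun h => Q.isPrime.ne_top (Ideal.eq_top_of_isUnit_mem _ h hθ)

end GrothLib.H90
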