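import Groth.Agent.Lib.Poincare.DualFib

/-!
# Vanishing on the fibres of a Pic⁰ family away from the kernel of its dual map
-/

universe u

open CategoryTheory CategoryTheory.Limits AlgebraicGeometry Opposite TopologicalSpace
open MonoidalCategory CartesianMonoidalCategory
open GrothLib.Ample GrothLib.Cube
open scoped MonObj

set_option autoImplicit false
set_option linter.all false
set_option backward.isDefEq.respectTransparency false
set_option maxHeartbeats 1000000

noncomputable section

namespace GrothLib.Dual

variable {k : Type u} [Field k] {A At : Over (Spec (CommRingCat.of k))} [GrpObj A] [GrpObj At]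
  [IsProper A.hom] [GeometricallyIntegral A.hom] [Smooth A.hom] [LocallyOfFiniteType At.hom]
  {φ : ∀ T : Over (Spec (CommRingCat.of k)), PicF.Cl (PicF.XT A.hom T) → (T ⟶ At)}
  (hφ : AbDual.IsDualAV Scheme.fppfPrecoverage A At φ)

include hφ

/-- **Fibres of a Pic⁰ family at points over which the dual map is not at the origin have no cohomology.** -/
theorem subsingleton_fiberH_of_dphi {B : Over (Spec (CommRingCat.of k))} {P : (A ⊗ B).left.Modules}
    {x : Pic (A ⊗ B).left} (hP : HasCls P x) (hz : PZ A B x)
    (hr : pull (lift (1 : B ⟶ A) (𝟙 B)).left x = 1) (y : B.left)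
    (hy : (dphi φ B x).left y ≠ η[At].left (IsLocalRing.closedPoint k)) (n : ℕ) :
    Subsingleton (CohIII.fiberH (snd A B).left P y n) := by
  have hdef : defect x = 1 := defect_eq_one x (hasCls_rep x) hz hr
  let p := (snd A B).left
  haveI : IsProper p := inferInstanceAs (IsProper (pullback.snd A.hom B.hom))
  let κ := B.left.residueField y
  let Ω := AlgebraicClosure κ
  let b : Spec (CommRingCat.of Ω) ⟶ Spec (CommRingCat.of κ) := Spec.map (CommRingCat.ofHom (algebraMap κ Ω))
  let σ : Spec (CommRingCat.of Ω) ⟶ B.left := b ≫ B.left.fromSpecResidueField y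
  let T' : Over (Spec (CommRingCat.of k)) := Over.mk (σ ≫ B.hom)
  let s : T' ⟶ B := Over.homMk σ rfl
  let F := Over.pullback (σ ≫ B.hom)
  let X := F.obj A
  letI : GrpObj X := Functor.grpObjObj
  haveI : IsProper X.hom := inferInstanceAs (IsProper (pullback.snd A.hom (σ ≫ B.hom)))
  haveI : GeometricallyIntegral X.hom := inferInstanceAs (GeometricallyIntegral (pullback.snd A.hom (σ ≫ B.hom)))
  let z : Pic X.left := pull (A ◁ s).left x
  have hmap : ∀ h : A ⊗ A ⟶ A, (F.map h).left = (h ▷ T').left := fun h => by
    refine pullback.hom_ext ?_ ?_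
    · exact (pullback.lift_fst _ _ _).trans
        (congrArg (fun q : (A ⊗ A) ⊗ T' ⟶ A => q.left) (whiskerRight_fst h T')).symm
    · exact (pullback.lift_snd _ _ _).trans
        (congrArg (fun q : (A ⊗ A) ⊗ T' ⟶ T' => q.left) (whiskerRight_snd h T')).symm
  have key : ∀ h : A ⊗ A ⟶ A, pull ((A ⊗ A) ◁ s).left (pull (h ▷ B).left x) = pull (F.map h).left z := fun h => by
    rw [hmap h]
    show _ = pull (h ▷ T').left (pull (A ◁ s).left x)
    rw [CubeRel26.pull_pull_over, CubeRel26.pull_pull_over, whisker_exchange]
  have hadd0 : addClass (F.map (fst A A)) (F.map (snd A A)) z = 1 := by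
    have h := congrArg (pull ((A ⊗ A) ◁ s).left) hdef
    rw [map_one, defect, map_mul, map_inv, map_mul, key, key, key] at h
    rw [addClass, show F.map (fst A A) * F.map (snd A A) = F.map μ[A] by
      rw [← Functor.map_mul, Hom.mul_def, lift_fst_snd, Category.id_comp]]
    exact h
  have hadd : addClass (fst X X) (snd X X) z = 1 := by
    have h := congrArg (pull (Functor.LaxMonoidal.μ F A A).left) hadd0
    rwa [pull_addClass, Functor.Monoidal.μ_fst, Functor.Monoidal.μ_snd, map_one] at h
  have hne : z ≠ 1 := fun h => hy (by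
    have hp : dphi φ T' (pull (A ◁ s).left x) = s ≫ dphi φ B x := dphi_pull hφ hz s
    rw [show pull (A ◁ s).left x = 1 from h, dphi_one hφ, Hom.one_def] at hp
    have h2 := congrArg (fun q : T' ⟶ At => q.left (IsLocalRing.closedPoint Ω)) hp
    refine Eq.trans ?_ (h2.symm.trans ?_)
    · exact congrArg (dphi φ B x).left (Scheme.fromSpecResidueField_apply y (b (IsLocalRing.closedPoint Ω))).symm
    · exact congrArg η[At].left (Subsingleton.elim (α := PrimeSpectrum k) _ _))
  let g : X.left ⟶ p.fiber y :=
    pullback.lift (A ◁ s).left (pullback.snd A.hom (σ ≫ B.hom) ≫ b) (by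
      rw [show (A ◁ s).left ≫ p = pullback.snd A.hom (σ ≫ B.hom) ≫ σ from
        congrArg CategoryTheory.Over.Hom.left (whiskerLeft_snd A s)]
      exact (Category.assoc _ _ _).symm)
  have H : IsPullback g X.hom (p.fiberToSpecResidueField y) b := by
    refine IsPullback.of_right ?_ (pullback.lift_snd _ _ _)
      (IsPullback.of_hasPullback p (B.left.fromSpecResidueField y))
    rw [pullback.lift_fst]
    refine IsPullback.of_right ?_ (congrArg CategoryTheory.Over.Hom.left (whiskerLeft_snd A s))
      (IsPullback.of_hasPullback A.hom B.hom)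
    rw [show (A ◁ s).left ≫ pullback.fst A.hom B.hom = pullback.fst A.hom (σ ≫ B.hom) from
      congrArg CategoryTheory.Over.Hom.left (whiskerLeft_fst A s)]
    exact IsPullback.of_hasPullback A.hom (σ ≫ B.hom)
  have hL : HasCls ((Scheme.Modules.pullback g).obj (CohIII.fiberMod p P y)) z := by
    have := (hP.pullback (p.fiberι y)).pullback g
    rwa [pull_comp, show g ≫ p.fiberι y = (A ◁ s).left from pullback.lift_fst _ _ _] at this
  obtain ⟨hLi, hLc⟩ := id hL
  have hvan : Subsingleton (Coh.HH X.left ((Scheme.Modules.pullback g).obj (CohIII.fiberMod p P y)) n) := by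
    refine PicZeroVanish.subsingleton_HH hLi (by rw [hLc]; exact hadd) (fun ⟨e⟩ => hne ?_) n
    exact hLc.symm.trans ((clsMod_eq_one_iff hLi).2 ⟨e⟩)
  letI : (p.fiber y).Over (Spec (CommRingCat.of κ)) := ⟨p.fiberToSpecResidueField y⟩
  letI : X.left.Over (Spec (CommRingCat.of Ω)) := ⟨X.hom⟩
  haveI : IsProper ((p.fiber y) ↘ Spec (CommRingCat.of κ)) :=
    show IsProper (p.fiberToSpecResidueField y) from MorphismProperty.pullback_snd p _ ‹IsProper p›
  exact (Index.subsingleton_HH_pullback_iff (algebraMap κ Ω) g H (Ample.isInvertible_pullback _ hP.choose) n).1 hvan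

end GrothLib.Dual
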