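import Groth.Agent.Lib.Poincare.TraceApps
import Groth.Agent.Lib.DegPoly.Apps
import Groth.Agent.Lib.DegPoly.Charpoly

/-!
# The trace of an endomorphism and adjoint pairs
-/

set_option autoImplicit false
set_option linter.all false
set_option backward.isDefEq.respectTransparency false
set_option maxHeartbeats 1000000

universe u

open CategoryTheory CategoryTheory.Limits AlgebraicGeometry Opposite TopologicalSpace
open MonoidalCategory CartesianMonoidalCategory Polynomial
open GrothLib.Ample GrothLib.Cube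
open scoped MonObj

noncomputable section

namespace GrothLib.TraceForm

variable {K : Type u} [Field K] [IsAlgClosed K] {A : Over (Spec (CommRingCat.of K))} [GrpObj A] [IsCommMonObj A]
  [IsProper A.hom] [GeometricallyIntegral A.hom]

open MumfordEuler (E E_eq)
open DegPoly (rep0)

/-- The trace of an endomorphism. -/
def tr (α : EndAV.End A) : ℤ :=
  - (DegPoly.exists_int_charpoly (AbTors.exists_dim A).choose_spec α).choose.nextCoeff

/-- The trace is the trace on every Tate module. -/
theorem cast_tr (α : EndAV.End A) (l : ℕ) [Fact l.Prime] (hlK : (l : K) ≠ 0)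
    [Module.Free ℤ_[l] (AbDual.TateMod A l (Over.mk (𝟙 (Spec (CommRingCat.of K)))))]
    [Module.Finite ℤ_[l] (AbDual.TateMod A l (Over.mk (𝟙 (Spec (CommRingCat.of K)))))] :
    LinearMap.trace ℤ_[l] _ (rep0 l α) = (tr α : ℤ_[l]) := by
  obtain ⟨hm, -, -, hc⟩ := (DegPoly.exists_int_charpoly (AbTors.exists_dim A).choose_spec α).choose_spec
  let b := Module.Free.chooseBasis ℤ_[l] (AbDual.TateMod A l (Over.mk (𝟙 (Spec (CommRingCat.of K)))))
  rw [LinearMap.trace_eq_matrix_trace ℤ_[l] b, Matrix.trace_eq_neg_charpoly_nextCoeff, LinearMap.charpoly_toMatrix,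
    hc l hlK, nextCoeff_map_of_leadingCoeff_ne_zero _ (by rw [hm.leadingCoeff]; simp), tr, Int.cast_neg]
  rfl

theorem tr_rules : (∀ α β : EndAV.End A, tr (α + β) = tr α + tr β) ∧ ∀ α β : EndAV.End A, tr (α * β) = tr (β * α) := by
  obtain ⟨l, hlp, hlK⟩ := HomFG.exists_prime_ne_zero K
  haveI := Fact.mk hlp
  haveI := AbTors.module_finite A (𝟙 (Spec (CommRingCat.of K))) l hlK
  haveI : Module.Free ℤ_[l] (AbDual.TateMod A l (Over.mk (𝟙 (Spec (CommRingCat.of K))))) :=
    Module.free_of_finite_type_torsion_free'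
  constructor <;> intro α β <;> refine Int.cast_injective (α := ℤ_[l]) ?_
  · rw [Int.cast_add, ← cast_tr _ l hlK, ← cast_tr _ l hlK, ← cast_tr _ l hlK, map_add, map_add]
  · rw [← cast_tr _ l hlK, ← cast_tr _ l hlK, map_mul (rep0 l), map_mul (rep0 l), LinearMap.trace_mul_comm]

theorem tr_add (α β : EndAV.End A) : tr (α + β) = tr α + tr β := tr_rules.1 α β

theorem tr_mul_comm (α β : EndAV.End A) : tr (α * β) = tr (β * α) := tr_rules.2 α β

/-- The trace as an additive map. -/
def trHom : EndAV.End A →+ ℤ := AddMonoidHom.mk' tr tr_add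

theorem trHom_apply (α : EndAV.End A) : trHom α = tr α := rfl

theorem tr_zero : tr (0 : EndAV.End A) = 0 := map_zero trHom

theorem tr_zsmul (c : ℤ) (α : EndAV.End A) : tr (c • α) = c * tr α := by
  rw [← trHom_apply, map_zsmul, smul_eq_mul, trHom_apply]

theorem tr_nsmul (c : ℕ) (α : EndAV.End A) : tr (c • α) = c * tr α := by
  rw [← trHom_apply, map_nsmul, nsmul_eq_mul, trHom_apply]

/-- A polynomial with the values `deg(gam + j)`. -/
def Spec' (r : ℕ) (gam : EndAV.End A) (P : ℚ[X]) : Prop :=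
  P.Monic ∧ P.natDegree = 2 * r ∧
    ∀ j : ℤ, (IsFinite (EndAV.End.toHom (gam + (j : EndAV.End A))).left →
        ∀ a : A.left, (Scheme.Hom.finrank (EndAV.End.toHom (gam + (j : EndAV.End A))).left a : ℚ) = P.eval (j : ℚ)) ∧
      (¬ IsFinite (EndAV.End.toHom (gam + (j : EndAV.End A))).left → P.eval (j : ℚ) = 0)

theorem exists_spec {r : ℕ} (hr : topologicalKrullDim A.left = r) (gam : EndAV.End A) :
    ∃ P : ℚ[X], Spec' r gam P ∧ P.nextCoeff = (tr gam : ℚ) := by
  have hchoose : (AbTors.exists_dim A).choose = r := by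
    exact_mod_cast (AbTors.exists_dim A).choose_spec.symm.trans hr
  obtain ⟨hm, hd, hv, -⟩ := (DegPoly.exists_int_charpoly (AbTors.exists_dim A).choose_spec gam).choose_spec
  replace hd := hd.trans (congrArg (2 * ·) hchoose)
  set Q := (DegPoly.exists_int_charpoly (AbTors.exists_dim A).choose_spec gam).choose with hQ
  let P : ℚ[X] := (Q.map (Int.castRingHom ℚ)).comp (-X)
  have hQm : (Q.map (Int.castRingHom ℚ)).Monic := hm.map _
  have hQd : (Q.map (Int.castRingHom ℚ)).natDegree = 2 * r := by rw [hm.natDegree_map, hd]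
  have hPd : P.natDegree = 2 * r := by rw [natDegree_comp, hQd]; simp
  have hPm : P.Monic := by
    rw [Monic, leadingCoeff_comp (by simp), hQm.leadingCoeff, hQd]
    simp [pow_mul]
  haveI : IsIntegral A.left := GeometricallyIntegral.isIntegral_of_subsingleton A.hom
  refine ⟨P, ⟨hPm, hPd, fun j => ?_⟩, ?_⟩
  · have he : gam - ((-j : ℤ) : EndAV.End A) = gam + (j : EndAV.End A) := by rw [Int.cast_neg, sub_neg_eq_add]
    have h := hv (-j)
    rw [he] at h
    have hev : P.eval (j : ℚ) = ((Q.eval (-j) : ℤ) : ℚ) := by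
      rw [eval_comp, eval_neg, eval_X, ← Int.cast_neg]
      exact eval_intCast_map (Int.castRingHom ℚ) Q (-j)
    rw [hev, ← h]
    exact ⟨fun hf a => (DegPoly.dg_eq_of_isFinite hr hf a).symm, fun hf => DegPoly.dg_eq_zero hf⟩
  · rcases Nat.eq_zero_or_pos r with h0 | h0
    · rw [tr, ← hQ, nextCoeff, nextCoeff, if_pos (by rw [hPd, h0]), if_pos (by rw [hd, h0])]
      simp
    · rw [tr, ← hQ, nextCoeff_of_natDegree_pos (by omega), nextCoeff_of_natDegree_pos (by omega), hPd, hd]
      show P.coeff _ = _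
      rw [show P = (Q.map (Int.castRingHom ℚ)).comp (C (-1) * X) by simp [P], comp_C_mul_X_coeff, coeff_map]
      obtain ⟨t, ht⟩ : ∃ t, 2 * r - 1 = 2 * t + 1 := ⟨r - 1, by omega⟩
      rw [ht, pow_succ, pow_mul]
      simp

/-- The coefficient below the top one is the trace. -/
theorem nextCoeff_eq_tr {r : ℕ} (hr : topologicalKrullDim A.left = r) {gam : EndAV.End A} {P : ℚ[X]}
    (hP : Spec' r gam P) : P.nextCoeff = (tr gam : ℚ) := by
  obtain ⟨Q, hQ, h⟩ := exists_spec hr gam
  suffices P = Q by rw [this, h]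
  refine DegPoly.eq_of_eval_int fun n => ?_
  exact DegPoly.eval_eq_of_spec _ _ _ (hP.2.2 n).1 (hP.2.2 n).2 (hQ.2.2 n).1 (hQ.2.2 n).2

theorem coeff_eq_tr {r : ℕ} (hr : topologicalKrullDim A.left = r) (h0 : 0 < r) {gam : EndAV.End A} {P : ℚ[X]}
    (hP : Spec' r gam P) : P.coeff (2 * r - 1) = (tr gam : ℚ) := by
  rw [← nextCoeff_eq_tr hr hP, nextCoeff_of_natDegree_pos (by rw [hP.2.1]; omega), hP.2.1]

/-- The Euler characteristic of a pulled back Mumford class. -/
theorem E_pull_lam {r : ℕ} (hr : topologicalKrullDim A.left = r) {gam : EndAV.End A} {P : ℚ[X]} (hP : Spec' r gam P)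
    (w : Pic A.left) (j : ℤ) :
    (E (A ⊗ A) (pull (A ◁ (gam + (j : EndAV.End A)).toHom).left (MumfordPoincare.lam w)) : ℚ) =
      P.eval (j : ℚ) * ((-1 : ℚ) ^ r * (E A w : ℚ) ^ 2) := by
  haveI : IsIntegral A.left := GeometricallyIntegral.isIntegral_of_subsingleton A.hom
  haveI : IsLocallyNoetherian A.left := LocallyOfFiniteType.isLocallyNoetherian A.hom
  haveI : Smooth A.hom := smooth_abVar A
  haveI : IsProper (A ⊗ A).hom := inferInstanceAs (IsProper (pullback.fst A.hom A.hom ≫ A.hom))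
  haveI : GeometricallyIntegral (A ⊗ A).hom :=
    CubeRel26.geometricallyIntegral_comp (pullback.fst A.hom A.hom) A.hom
  letI : (A ⊗ A).left.Over (Spec (CommRingCat.of K)) := ⟨(A ⊗ A).hom⟩
  set f := (gam + (j : EndAV.End A)).toHom with hf
  have h2 := LamEuler.E_lam hr w
  have hcls := (Dual.hasCls_rep (MumfordPoincare.lam w)).pullback (A ◁ f).left
  obtain ⟨hfin, hnfin⟩ := hP.2.2 j
  by_cases hfi : IsFinite f.left
  · haveI := hfi
    haveI : Surjective f.left := Bidual.surjective_of_finite_of_dim_eq f hr hr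
    haveI : Flat f.left := Rigidity.flat_of_isFinite A A f
    obtain ⟨a⟩ : Nonempty A.left := inferInstance
    have H1 : IsPullback (A ◁ f).left (snd A A).left (snd A A).left f.left := by
      have := PicSep26.isPullback_XTmap A.hom f
      rwa [Dual.XTmap_eq] at this
    haveI : IsFinite (A ◁ f).left := MorphismProperty.of_isPullback H1.flip hfi
    haveI : Flat (A ◁ f).left := MorphismProperty.of_isPullback H1.flip ‹Flat f.left›
    have hd : ∀ b, f.left.finrank b = f.left.finrank a := fun b => by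
      exact_mod_cast ((hfin hfi b).trans (hfin hfi a).symm)
    have h3 := EulerPull.euler_pullback (A ◁ f) _ (fun b => by
      rw [Scheme.Hom.finrank_of_isPullback _ _ _ _ H1.flip]; exact hd _) (Dual.rep (MumfordPoincare.lam w))
      (Euler.isCoh_of_isInvertible (Dual.hasCls_rep _).choose)
    rw [E_eq hcls, E_eq (Dual.hasCls_rep _), h2] at h3
    rw [h3, ← hfin hfi a]
    push_cast
    ring
  · have h3 := EulerWhisker.euler_eq_zero (B := A) f hfi (Dual.hasCls_rep (MumfordPoincare.lam w)).choose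
    rw [E_eq hcls] at h3
    rw [h3, hnfin hfi]
    simp

theorem swap_lam (w : Pic A.left) : pull (lift (snd A A) (fst A A)).left (MumfordPoincare.lam w) =
    MumfordPoincare.lam w := by
  rw [MumfordPoincare.lam, KL.mc, pull_addClass, Category.comp_id, lift_fst, lift_snd, KL.addClass_comm]

theorem swap_whisker (f : A ⟶ A) :
    lift (snd A A) (fst A A) ≫ f ▷ A = A ◁ f ≫ lift (snd A A) (fst A A) := by
  apply CartesianMonoidalCategory.hom_ext <;> simp

theorem E_swap (v : Pic (A ⊗ A).left) : E (A ⊗ A) (pull (lift (snd A A) (fst A A)).left v) = E (A ⊗ A) v := by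
  haveI : IsProper (A ⊗ A).hom := inferInstanceAs (IsProper (pullback.fst A.hom A.hom ≫ A.hom))
  letI : (A ⊗ A).left.Over (Spec (CommRingCat.of K)) := ⟨(A ⊗ A).hom⟩
  let s : A ⊗ A ⟶ A ⊗ A := lift (snd A A) (fst A A)
  haveI : IsIso s := ⟨s, by constructor <;> apply CartesianMonoidalCategory.hom_ext <;> simp [s]⟩
  haveI : IsIso s.left := inferInstanceAs (IsIso ((Over.forget _).map s))
  haveI := (Euler.isCoh_of_isInvertible (Dual.hasCls_rep v).choose).1
  rw [← E_eq ((Dual.hasCls_rep v).pullback s.left), ← E_eq (Dual.hasCls_rep v)]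
  exact CurveMult.RelNef.euler_pullback_iso s.left (Over.w s) _

theorem swap_mc (z : Pic A.left) (f : A ⟶ A) :
    pull (lift (snd A A) (fst A A)).left (KL.mc z f) = pull (f ▷ A).left (MumfordPoincare.lam z) := by
  rw [← swap_lam z, pull_pull_over, MumfordPoincare.lam, KL.mc, KL.mc, pull_addClass, pull_addClass,
    Category.comp_id, Category.assoc, Category.assoc, lift_fst, lift_snd, lift_snd_assoc, whiskerRight_snd, whiskerRight_fst]

/-- **An adjoint pair for `φ_z` has traces in the given ratio.** -/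
theorem tr_adjoint {r : ℕ} (hr : topologicalKrullDim A.left = r) (z : Pic A.left) (hz : E A z ≠ 0)
    (δ gam : EndAV.End A) (c : ℕ) (hc : 0 < c)
    (h : KL.mc z δ.toHom = pull (gam.toHom ▷ A).left (MumfordPoincare.lam (z ^ c))) : tr δ = c * tr gam := by
  haveI : IsIntegral A.left := GeometricallyIntegral.isIntegral_of_subsingleton A.hom
  rcases Nat.eq_zero_or_pos r with h0 | hpos
  · have key : ∀ e' : EndAV.End A, tr e' = 0 := fun e' => by
      obtain ⟨P, hP, h1⟩ := exists_spec hr e'
      rw [nextCoeff, if_pos (by rw [hP.2.1, h0])] at h1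
      exact_mod_cast h1.symm
    rw [key, key]; simp
  obtain ⟨R, hR, hRt⟩ := exists_spec hr δ
  obtain ⟨P, hP, hPt⟩ := exists_spec hr gam
  have heq : R.comp (C (c : ℚ) * X) = C ((c : ℚ) ^ (2 * r)) * P := by
    refine DegPoly.eq_of_eval_int fun j => ?_
    have hj : KL.mc z (δ + ((c * j : ℤ) : EndAV.End A)).toHom =
        pull ((gam + (j : EndAV.End A)).toHom ▷ A).left (MumfordPoincare.lam (z ^ c)) := by
      have hp : ∀ (m : ℤ), KL.mc z ((𝟙 A : A ⟶ A) ^ m) = KL.mc z (𝟙 A) ^ m := fun m => map_zpow (KL.mcHom z) (𝟙 A : A ⟶ A) m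
      have hw : ∀ (u : A ⟶ A) (w : Pic A.left), pull (u ▷ A).left (MumfordPoincare.lam w) =
          addClass (snd A A) (fst A A ≫ u) w := fun u w => by
        rw [MumfordPoincare.lam, KL.mc, pull_addClass, Category.comp_id, whiskerRight_fst, whiskerRight_snd, KL.addClass_comm]
      rw [EndAV.End.toHom_add, EndAV.End.toHom_intCast, KL.mc_mul, h, hp, EndAV.End.toHom_add,
        EndAV.End.toHom_intCast, hw, hw, MonObj.comp_mul, KL.addClass_mul_right]
      congr 1
      have hf : fst A A ≫ ((𝟙 A : A ⟶ A) ^ j) = fst A A ^ j := by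
        have := map_zpow (MonoidHom.mk' (fun u : A ⟶ A => fst A A ≫ u) fun u v => MonObj.comp_mul (fst A A) u v)
          (𝟙 A) j
        simpa using this
      have hh : ∀ (m : ℤ), addClass (snd A A) (fst A A ^ m) (z ^ c) = addClass (snd A A) (fst A A) (z ^ c) ^ m :=
        fun m => map_zpow (MonoidHom.mk' (fun u : A ⊗ A ⟶ A => addClass (snd A A) u (z ^ c))
          fun u v => KL.addClass_mul_right _ _ u v) (fst A A) m
      rw [hf, hh, KL.addClass_comm (z ^ c), KL.addClass_pow_class, KL.mc, Category.comp_id, ← zpow_natCast,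
        ← zpow_mul]
    have h1 := E_pull_lam hr hR z (c * j)
    have h2 := E_pull_lam hr hP (z ^ c) j
    rw [← E_swap, ← swap_lam (z ^ c), pull_pull_over (A ◁ _), ← swap_whisker, ← pull_pull_over, pull_pull_over,
      pull_pull_over, show lift (snd A A) (fst A A) ≫ lift (snd A A) (fst A A) = 𝟙 _ from by
        apply CartesianMonoidalCategory.hom_ext <;> simp, Category.id_comp, ← hj] at h2
    have hl : pull (A ◁ (δ + ((c * j : ℤ) : EndAV.End A)).toHom).left (MumfordPoincare.lam z) =
        KL.mc z (δ + ((c * j : ℤ) : EndAV.End A)).toHom := by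
      rw [MumfordPoincare.lam, KL.pull_mc, Category.comp_id]
    rw [hl, h2, TracePos.E_pow hr] at h1
    push_cast at h1
    rw [eval_comp, eval_mul, eval_C, eval_X, eval_mul, eval_C]
    have hne : ((-1 : ℚ) ^ r * (E A z : ℚ) ^ 2) ≠ 0 :=
      mul_ne_zero (pow_ne_zero _ (by norm_num)) (pow_ne_zero _ (Int.cast_ne_zero.2 hz))
    refine mul_right_cancel₀ hne ?_
    rw [← h1, pow_mul]
    ring
  have hco := congrArg (fun p : ℚ[X] => p.coeff (2 * r - 1)) heq
  simp only [comp_C_mul_X_coeff, coeff_C_mul] at hco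
  rw [coeff_eq_tr hr hpos hR, coeff_eq_tr hr hpos hP] at hco
  rw [show 2 * r = 2 * r - 1 + 1 by omega, pow_succ, show 2 * r - 1 + 1 - 1 = 2 * r - 1 by omega] at hco
  have hcp : ((c : ℚ) ^ (2 * r - 1)) ≠ 0 := pow_ne_zero _ (Nat.cast_ne_zero.2 hc.ne')
  have : (tr δ : ℚ) = (c : ℚ) * (tr gam : ℚ) := mul_left_cancel₀ hcp (by linear_combination hco)
  exact_mod_cast this

/-- The adjointness relation from points. -/
theorem adjoint_of_points (z : Pic A.left) (ρ α : A ⟶ A) [IsMonHom α] (n : ℕ)
    (h : ∀ a : 𝟙_ (Over (Spec (CommRingCat.of K))) ⟶ A,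
      pull (transl (a ≫ ρ)).left z * pull α.left (z ^ n) = z * pull α.left (pull (transl a).left (z ^ n))) :
    KL.mc z ρ = pull (α ▷ A).left (MumfordPoincare.lam (z ^ n)) := by
  haveI : IsIntegral A.left := GeometricallyIntegral.isIntegral_of_subsingleton A.hom
  rw [← mul_inv_eq_one]
  refine eq_one_of_dense_slices (normal_abVar A) η[A] _ (dense_closedPoints A) subset_rfl (fun a _ => ?_) ?_
  · have e1 : lift (𝟙 A) (toUnit A ≫ a) ≫ α ▷ A = α ≫ lift (𝟙 A) (toUnit A ≫ a) := by
      apply CartesianMonoidalCategory.hom_ext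
      · simp
      · simp only [Category.assoc, whiskerRight_snd, lift_snd]
        rw [← Category.assoc α, toUnit_unique (α ≫ toUnit A) (toUnit A)]
    rw [map_mul, map_inv, mul_inv_eq_one, pull_pull_over, e1, ← pull_pull_over, LamEuler.slice_lam, map_mul, map_inv,
      KL.mc, pull_addClass, lift_fst, lift_snd_assoc, Category.assoc, addClass, pull_over_id, pull_toUnit_comp,
      _root_.mul_one, ← div_eq_mul_inv, ← div_eq_mul_inv, div_eq_div_iff_mul_eq_mul, h a, mul_comm]
  · have e : lift (toUnit A ≫ η[A]) (𝟙 A) = lift (1 : A ⟶ A) (𝟙 A) := by rw [Hom.one_def]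
    have e2 : lift (1 : A ⟶ A) (𝟙 A) ≫ α ▷ A = lift (1 : A ⟶ A) (𝟙 A) := by
      apply CartesianMonoidalCategory.hom_ext <;> simp [MonObj.one_comp]
    rw [e, map_mul, map_inv, KL.pull_sec_mc, pull_pull_over, e2, MumfordPoincare.lam, KL.pull_sec_mc, mul_inv_cancel]

/-- The points criterion from the equality of Mumford classes. -/
theorem points_of_mc (y z : Pic A.left) (g : A ⟶ A) (h : KL.mc y (𝟙 A) = KL.mc z g)
    (a : 𝟙_ (Over (Spec (CommRingCat.of K))) ⟶ A) :
    pull (transl a).left y * z = y * pull (transl (a ≫ g)).left z := by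
  have h1 := congrArg (pull (lift (𝟙 A) (toUnit A ≫ a)).left) h
  rw [KL.mc, KL.mc, pull_addClass, pull_addClass, lift_fst, lift_snd_assoc, lift_snd_assoc, Category.comp_id,
    Category.assoc, addClass, addClass, pull_over_id, pull_over_id, pull_toUnit_comp, pull_toUnit_comp,
    _root_.mul_one, _root_.mul_one, ← div_eq_mul_inv, ← div_eq_mul_inv, div_eq_div_iff_mul_eq_mul] at h1
  rw [h1, mul_comm]

end GrothLib.TraceForm
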