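import Groth.Agent.Lib.Poincare.MumfordPoincare
import Groth.Agent.Lib.Poincare.PicZeroPts
import Groth.Agent.Lib.Poincare.ExactUpTo
import Groth.Agent.Lib.Rigidity.Isogeny
import Groth.Agent.Lib.AbTors.Descend

/-!
# The dual abelian variety over a field is isogenous to the variety

For an ample class `x` the map `A ⟶ At` of the Mumford class is an isogeny; hence `dim At = dim A` and Poincaré
classes exist, over any field.
-/

set_option autoImplicit false
set_option linter.all false
set_option backward.isDefEq.respectTransparency false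
set_option maxHeartbeats 1000000

universe u

open CategoryTheory CategoryTheory.Limits AlgebraicGeometry Opposite TopologicalSpace
open MonoidalCategory CartesianMonoidalCategory
open GrothLib.Ample GrothLib.Cube
open scoped MonObj

noncomputable section

namespace GrothLib.DualIsog

variable {k : Type u} [Field k] {A At : Over (Spec (CommRingCat.of k))} [GrpObj A] [GrpObj At]
  [IsProper A.hom] [GeometricallyIntegral A.hom] [Smooth A.hom]
  [IsProper At.hom] [GeometricallyIntegral At.hom] [Smooth At.hom]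
  {φ : ∀ T : Over (Spec (CommRingCat.of k)), PicF.Cl (PicF.XT A.hom T) → (T ⟶ At)}
  (hφ : AbDual.IsDualAV Scheme.fppfPrecoverage A At φ)

omit [IsProper At.hom] [GeometricallyIntegral At.hom] [Smooth At.hom] [Smooth A.hom] [GrpObj At] in
/-- An fppf cover of a geometric point has a section. -/
theorem exists_section_fppf {Ω : Type u} [Field Ω] [IsAlgClosed Ω] {R : Presieve (Spec (CommRingCat.of Ω))}
    (hR : R ∈ Scheme.fppfPrecoverage (Spec (CommRingCat.of Ω))) :
    ∃ (U : Scheme.{u}) (u : U ⟶ Spec (CommRingCat.of Ω)) (s : Spec (CommRingCat.of Ω) ⟶ U), R u ∧ s ≫ u = 𝟙 _ := by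
  obtain ⟨hs, hP⟩ := hR
  suffices key : ∀ (U : Scheme.{u}) (g : U ⟶ Spec (CommRingCat.of Ω)), R g → U →
      ∃ (U : Scheme.{u}) (u : U ⟶ Spec (CommRingCat.of Ω)) (s : Spec (CommRingCat.of Ω) ⟶ U), R u ∧ s ≫ u = 𝟙 _ by
    obtain ⟨Y, g, ⟨hu⟩, z, -⟩ := hs (IsLocalRing.closedPoint Ω)
    exact key _ _ hu z
  intro U g hu z
  let P := Over.mk g
  haveI : LocallyOfFinitePresentation P.hom := (hP hu).2
  haveI : LocallyOfFiniteType P.hom := inferInstance
  haveI : JacobsonSpace P.left := LocallyOfFiniteType.jacobsonSpace P.hom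
  obtain ⟨w, -, hw⟩ : ∃ w : P.left, w ∈ Set.univ ∧ w ∈ closedPoints P.left :=
    nonempty_inter_closedPoints ⟨z, trivial⟩ isClosed_univ.isLocallyClosed
  obtain ⟨t, -, -⟩ := exists_point_factor (T := P) w hw
  exact ⟨U, g, t.left, hu, Over.w t⟩

include hφ in
/-- **Every geometric point of the dual is the image of one of `A`.** -/
theorem exists_pt_comp_psi {L : A.left.Modules} {x : Pic A.left} (hL : HasCls L x) (hA : CohB1.IsAmple L)
    {Ω : Type u} [Field Ω] [IsAlgClosed Ω] (σ : Spec (CommRingCat.of Ω) ⟶ Spec (CommRingCat.of k))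
    (t : Over.mk σ ⟶ At) : ∃ z : Over.mk σ ⟶ A, z ≫ MumfordPoincare.psi φ x = t := by
  let P : Over (Spec (CommRingCat.of k)) := Over.mk σ
  obtain ⟨R, hR, hloc⟩ := hφ.relPic.locallySurjective P t
  obtain ⟨U, u, s, hu, hsu⟩ := exists_section_fppf hR
  obtain ⟨c, ⟨M, rfl, hMi, hM⟩, hc⟩ := hloc u hu
  let j : P ⟶ AbDual.ovr P u := Over.homMk s (by
    show s ≫ u ≫ σ = σ
    rw [← Category.assoc, hsu]; exact Category.id_comp σ)
  have hj : j ≫ AbDual.ovrHom P u = 𝟙 P := Over.OverMorphism.ext hsu
  have hz := (Dual.pz_iff (hasCls_clsMod hMi)).1 ⟨M, rfl, hMi, hM⟩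
  let y : Pic (A ⊗ P).left := pull (A ◁ j).left (clsMod hMi)
  have hy : Dual.PZ A P y := hz.pullT j
  have hdy : Dual.dphi φ P y = t := by
    rw [Dual.dphi_pull hφ hz j, ← Dual.dphi_eq (φ := φ) (hasCls_clsMod hMi), hc, ← Category.assoc, hj,
      Category.id_comp]
  -- read on the geometric fibre
  let X := DegPoly.bc σ A
  letI : GrpObj X := Functor.grpObjObj
  haveI : IsProper X.hom := inferInstanceAs (IsProper (pullback.snd A.hom σ))
  haveI : GeometricallyIntegral X.hom := inferInstanceAs (GeometricallyIntegral (pullback.snd A.hom σ))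
  haveI : IsAffineHom (pullback.fst A.hom σ) := MorphismProperty.pullback_fst _ _ inferInstance
  have hy' : HasCls (Dual.rep y) y := Dual.hasCls_rep y
  let e : X.left ⟶ pullback (PicF.XTproj A.hom P) (𝟙 (Spec (CommRingCat.of Ω))) :=
    pullback.lift (𝟙 _) (pullback.snd A.hom σ) (by
      rw [Category.id_comp, Category.comp_id]; rfl)
  have halg : @Pic13.IsAlgEquivZero Ω _ X.left ⟨X.hom⟩ (Dual.rep y) := by
    refine Dual.isAlgEquivZero_of_isIso X.hom (pullback.snd _ _) e (pullback.lift_snd _ _ _)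
      (hy'.pullback _) ?_ (hy (IsLocalRing.closedPoint Ω) Ω (𝟙 _) ?_)
    · rw [pull_comp, show e ≫ pullback.fst (PicF.XTproj A.hom P) (𝟙 (Spec (CommRingCat.of Ω))) = 𝟙 _ from
        pullback.lift_fst _ _ _]
      exact (congrArg (HasCls (Dual.rep y)) (pull_id y)).mpr hy'
    · ext w
      exact ⟨fun _ => Subsingleton.elim (α := PrimeSpectrum Ω) w _, fun _ => ⟨w, rfl⟩⟩
  obtain ⟨a, ha⟩ := PicZeroPts.exists_eq_diff (A := X) (hL.pullback (pullback.fst A.hom σ))
    (Ample.isAmple_pullback_of_isAffineHom (pullback.fst A.hom σ) hA)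
    ((PicZeroPts.isAlgEquivZero_iff (A := X) hy').1 halg)
  refine ⟨(DegPoly.ptsEquiv σ (A := A)).symm a, ?_⟩
  have h1 : KL.mc x ((DegPoly.ptsEquiv σ (A := A)).symm a) = y := by
    refine (Dual.mc_point σ x _).trans ?_
    unfold Dual.diffCls
    rw [(DegPoly.ptsEquiv σ (A := A)).apply_symm_apply]
    exact ha.symm
  have h2 := Dual.dphi_pull hφ (MumfordPoincare.pz_lam x) ((DegPoly.ptsEquiv σ (A := A)).symm a)
  rw [MumfordPoincare.lam, KL.pull_mc, Category.comp_id, h1, hdy] at h2
  exact h2.symm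

include hφ in
theorem surjective_psi {L : A.left.Modules} {x : Pic A.left} (hL : HasCls L x) (hA : CohB1.IsAmple L) :
    Surjective (MumfordPoincare.psi φ x).left := by
  refine ⟨fun y => ?_⟩
  let Ω := AlgebraicClosure (At.left.residueField y)
  let b : Spec (CommRingCat.of Ω) ⟶ Spec (At.left.residueField y) :=
    Spec.map (CommRingCat.ofHom (algebraMap (At.left.residueField y) Ω))
  obtain ⟨z, hz⟩ := exists_pt_comp_psi hφ hL hA ((b ≫ At.left.fromSpecResidueField y) ≫ At.hom)
    (Over.homMk (b ≫ At.left.fromSpecResidueField y) rfl)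
  refine ⟨z.left (IsLocalRing.closedPoint Ω), ?_⟩
  have h := congrArg (fun q : Over.mk ((b ≫ At.left.fromSpecResidueField y) ≫ At.hom) ⟶ At =>
    q.left (IsLocalRing.closedPoint Ω)) hz
  exact h.trans (Scheme.fromSpecResidueField_apply y (b (IsLocalRing.closedPoint Ω)))

include hφ in
theorem isMonHom_psi (x : Pic A.left) : IsMonHom (MumfordPoincare.psi φ x) := by
  haveI : GeometricallyConnected A.hom := Rigidity.geometricallyConnected_of_geometricallyIrreducible A.hom
  haveI : GeometricallyReduced A.hom := inferInstance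
  refine Rigidity.isMonHom_of_one_comp' _ ?_
  have h := Dual.dphi_pull hφ (MumfordPoincare.pz_lam x) η[A]
  have hA : (η[A] : 𝟙_ _ ⟶ A) = 1 := by rw [Hom.one_def, toUnit_unit, Category.id_comp]
  have hAt : (η[At] : 𝟙_ _ ⟶ At) = 1 := by rw [Hom.one_def, toUnit_unit, Category.id_comp]
  rw [MumfordPoincare.lam, KL.pull_mc, Category.comp_id, hA, KL.mc_one, Dual.dphi_one hφ] at h
  rw [hA, hAt]
  exact h.symm

include hφ in
/-- **The dual has the dimension of the variety.** -/
theorem dim_dual {g : ℕ} (hg : topologicalKrullDim A.left = g) : topologicalKrullDim At.left = g := by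
  haveI : IsCommMonObj At := isCommMonObj_abVar
  obtain ⟨gt, hgt⟩ := AbTors.exists_dim At
  obtain ⟨L, hA⟩ := exists_isAmple A
  haveI := surjective_psi hφ (hasCls_clsMod hA.1) hA
  have h1 := Poincare.dim_le_of_surjective (MumfordPoincare.psi φ (clsMod hA.1)) hg hgt
  haveI : IsClosedImmersion η[At].left := isClosedImmersion_of_comp_eq_id At.hom η[At].left (Over.w η[At])
  have he₀ : IsClosed ({η[At].left (IsLocalRing.closedPoint k)} : Set At.left) := by
    rw [← Set.image_singleton (f := ⇑η[At].left)]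
    exact η[At].left.isClosedEmbedding.isClosedMap _ (isClosed_singleton (x := IsLocalRing.closedPoint k))
  have h2 := Dual.dim_le_dual hφ hg
  rw [GrpSchField.ringKrullDim_stalk_eq At he₀, hgt] at h2
  have h3 : g ≤ gt := by exact_mod_cast h2
  rw [hgt, le_antisymm h1 h3]

include hφ in
/-- **For an ample class the map to the dual is an isogeny.** -/
theorem isogeny_psi {L : A.left.Modules} {x : Pic A.left} (hL : HasCls L x) (hA : CohB1.IsAmple L) :
    IsFinite (MumfordPoincare.psi φ x).left ∧ Flat (MumfordPoincare.psi φ x).left ∧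
      Surjective (MumfordPoincare.psi φ x).left := by
  haveI : IsCommMonObj A := isCommMonObj_abVar
  obtain ⟨g, hg⟩ := AbTors.exists_dim A
  haveI := surjective_psi hφ hL hA
  haveI := isMonHom_psi hφ x
  haveI : IsIntegral At.left := GeometricallyIntegral.isIntegral_of_subsingleton At.hom
  haveI := Rigidity.isFinite_of_dim_eq A At (MumfordPoincare.psi φ x) (hg.trans (dim_dual hφ hg).symm)
  exact ⟨inferInstance, Rigidity.flat_of_isFinite A At (MumfordPoincare.psi φ x), inferInstance⟩

include hφ in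
/-- **Poincaré classes exist**, over any field. -/
theorem exists_poincare : ∃ p : Pic (A ⊗ At).left, AbDual.IsPoincareCl A At φ (PicF.cl (Dual.rep p)) := by
  obtain ⟨L, hA⟩ := exists_isAmple A
  obtain ⟨h1, h2, h3⟩ := isogeny_psi hφ (hasCls_clsMod hA.1) hA
  haveI := h1; haveI := h2; haveI := h3
  obtain ⟨p, hp, -⟩ := MumfordPoincare.exists_poincare hφ (clsMod hA.1)
  exact ⟨p, hp⟩

end GrothLib.DualIsog
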