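import Groth.Agent.Lib.BCCoh.Grauert2
import Groth.Agent.Lib.BCCoh.ModelAffine
import Groth.Agent.Lib.QCoh.Support
import Groth.Agent.Lib.Cohom.RpushModules
import Groth.Agent.Lib.BCCrit.DimBound
import Groth.Agent.Lib.OX.Support
import Mathlib.Topology.JacobsonSpace

/-!
# Higher direct images vanish where the fibres have no cohomology
-/

set_option autoImplicit false
set_option linter.all false
set_option backward.isDefEq.respectTransparency false
set_option maxHeartbeats 1000000

universe u

open CategoryTheory CategoryTheory.Limits AlgebraicGeometry Opposite TopologicalSpace TensorProduct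

noncomputable section

namespace GrothLib.RpushSupport

open GrothLib.BCCoh

/-- Where the closed fibres have no cohomology in degree `p`, `R^p f_* F` vanishes. -/
theorem notMem_support {X Y : Scheme.{u}} (f : X ⟶ Y) [IsProper f] [IsLocallyNoetherian Y] [JacobsonSpace Y]
    [HasInjectiveResolutions X.Modules] (F : X.Modules) (hF : Coh.IsCoh F) (hfl : FlatMod.IsFlatOver f F)
    (p : ℕ) (U : Y.Opens) (h : ∀ y ∈ U, IsClosed ({y} : Set Y) → Subsingleton (CohIII.fiberH f F y p))
    {x : Y} (hx : x ∈ U) : x ∉ CohB1.support ((Coh.Rpush f p).obj F) := by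
  haveI := hF.1
  have hsec : ∀ (V : Y.Opens) (hV : IsAffineOpen V), V ≤ U → Subsingleton Γ((Coh.Rpush f p).obj F, V) := by
    intro V hV hVU
    haveI : IsNoetherianRing Γ(Y, V) := IsLocallyNoetherian.component_noetherian ⟨V, hV⟩
    haveI : IsProper (affBase f hV) := inferInstance
    obtain ⟨m⟩ := nonempty_model (affBase f hV) (F.restrict (f ⁻¹ᵁ V).ι) (Cohom.isCoh_restrict F hF _)
      (isFlatOver_affBase f hV F hfl)
    haveI := m.flatL
    haveI := fun i => (m.finFree i).1
    obtain ⟨e⟩ := m.nonempty_T_equiv_Rpush f hV F p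
    haveI : Subsingleton (CohIII.T m.L (p : ℤ) (ModuleCat.of Γ(Y, V) Γ(Y, V))) :=
      ModuleCat.subsingleton_of_isZero (isZero_T_of_dRank_zero m.L (p : ℤ) (fun q hq => by
        rw [m.dRank_eq_fiberRank f hV F p q]
        refine fiberRank_eq_zero_of_subsingleton f F p _ (h _ (hVU (fromSpec_mem hV q)) ?_)
        refine isClosed_singleton_of_isLocallyClosed_singleton ?_
        rw [← Set.image_singleton]
        exact ((PrimeSpectrum.isClosed_singleton_iff_isMaximal q).2 hq).isLocallyClosed.image
          hV.fromSpec.isOpenEmbedding.isInducing hV.fromSpec.isOpenEmbedding.isOpen_range.isLocallyClosed) _)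
    exact e.symm.toEquiv.subsingleton
  rw [QCoh.notMem_support_iff]
  intro V hxV z
  obtain ⟨W, hW, hxW, hWV⟩ := exists_isAffineOpen_mem_and_subset (show x ∈ V ⊓ U from ⟨hxV, hx⟩)
  have hWV' : W ≤ V := fun w hw => (hWV hw).1
  haveI := hsec W hW fun w hw => (hWV hw).2
  rw [← TopCat.Presheaf.germ_res_apply ((Coh.Rpush f p).obj F).presheaf (homOfLE hWV') x hxW z,
    Subsingleton.elim (((Coh.Rpush f p).obj F).presheaf.map (homOfLE hWV').op z) 0, map_zero]

/-- If all higher direct images vanish, so does the cohomology of all fibres. -/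
theorem fiberRank_eq_zero {X Y : Scheme.{u}} (f : X ⟶ Y) [IsProper f] [IsLocallyNoetherian Y]
    [HasInjectiveResolutions X.Modules] (F : X.Modules) (hF : Coh.IsCoh F) (hfp : CohB1.IsFP F) (hfl : FlatMod.IsFlatOver f F)
    (h : ∀ (p : ℕ) (x : Y), x ∉ CohB1.support ((Coh.Rpush f p).obj F)) (s : Y) (d : ℕ)
    (hd : topologicalKrullDim ↥(f.fiber s) ≤ d) (p : ℕ) : CohIII.fiberRank f F p s = 0 := by
  haveI := hF.1
  haveI : Coh.IsQCoh F := hF.1
  have hz : ∀ p, IsZero ((Coh.Rpush f p).obj F) := fun p =>
    OX.isZero_of_subsingleton_stalks _ fun x => not_not.1 (h p x)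
  have key : ∀ k p : ℕ, d + 1 ≤ p + k → CohIII.fiberRank f F p s = 0 := by
    intro k
    induction k with
    | zero => exact fun p hp => BCCrit.fiberRank_eq_zero_of_dim_lt s d p hd (by omega)
    | succ k ih =>
      intro p hp
      have h2 : BCCrit.GoodAll f F (p : ℤ) s := by
        have := (BCCrit.goodAll_of_fiberRank_eq_zero (p + 1) s (ih (p + 1) (by omega))).2
        simpa using this
      have h1 : BCCrit.GoodAll f F ((p : ℤ) - 1) s :=
        BCCrit.goodAll_pred_of_free p h2 (U := ⊤) (n := 0) trivial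
          (((Scheme.Modules.restrictFunctor (⊤ : Y.Opens).ι).map_isZero (hz p)).iso (Euler.isZero_freeMod_zero _))
      obtain ⟨U, n, hsU, ⟨φ⟩, hn⟩ := BCCrit.exists_free_near hfp hfl p s h1 h2
      rw [hn s hsU]
      obtain ⟨e, he⟩ := FinCov.exists_frame_of_iso φ
      have hy' : s ∈ U.ι ''ᵁ ⊤ := by rw [Scheme.Opens.ι_image_top]; exact hsU
      haveI : Subsingleton (((Coh.Rpush f p).obj F).presheaf.stalk s) := not_not.1 (h p s)
      haveI : Subsingleton (Fin n → Y.presheaf.stalk s) := (Ref1.stalk_of_isFrame he s hy').1.subsingleton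
      by_contra hn0
      obtain ⟨i⟩ : Nonempty (Fin n) := Fin.pos_iff_nonempty.1 (Nat.pos_of_ne_zero hn0)
      exact one_ne_zero (congrFun (Subsingleton.elim (fun _ : Fin n => (1 : Y.presheaf.stalk s)) 0) i)
  exact key (d + 1) p (by omega)

end GrothLib.RpushSupport
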