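import Groth.Agent.Lib.DepthVanish.Basic
import Groth.Agent.Lib.FlatCx.LES
import Groth.Agent.Lib.FlatCx.EW
import Groth.Agent.Lib.FlatCx.ArtinLen
import Mathlib.RingTheory.Length
import Mathlib.Data.Nat.Choose.Basic

/-!
# Free complexes with fibre homology at a single point

A complex with fibre homology only at a point `p` cut out by a regular sequence of length `g`, amplitude
`[0, g]` and `T⁰ = Hom(A/p, -)`, behaves like a shifted Koszul complex.
-/

set_option autoImplicit false
set_option linter.all false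
set_option backward.isDefEq.respectTransparency false
universe u

open CategoryTheory CategoryTheory.Limits TensorProduct RingTheory.Sequence
open scoped Pointwise

noncomputable section

namespace GrothLib.PointCx

variable {A : Type u} [CommRing A]

section Reg

theorem isWeaklyRegular_of_exact {M M₂ M₃ : Type u} [AddCommGroup M] [Module A M] [AddCommGroup M₂]
    [Module A M₂] [AddCommGroup M₃] [Module A M₃] (rs : List A) (f : M →ₗ[A] M₂) (g : M₂ →ₗ[A] M₃)
    (hf : Function.Injective f) (hg : Function.Surjective g) (hex : Function.Exact f g)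
    (h1 : IsWeaklyRegular M rs) (h3 : IsWeaklyRegular M₃ rs) : IsWeaklyRegular M₂ rs := by
  induction rs generalizing M M₂ M₃ with
  | nil => exact IsWeaklyRegular.nil A M₂
  | cons r rs ih =>
    rw [isWeaklyRegular_cons_iff] at h1 h3 ⊢
    refine ⟨isSMulRegular_of_range_eq_ker hf (LinearMap.exact_iff.1 hex).symm h1.1 h3.1,
      ih (QuotSMulTop.map r f) (QuotSMulTop.map r g) ?_ (QuotSMulTop.map_surjective r hg)
        (QuotSMulTop.map_exact r hex hg) h1.2 h3.2⟩
    rw [injective_iff_map_eq_zero]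
    intro x hx
    obtain ⟨x, rfl⟩ := Submodule.Quotient.mk_surjective _ x
    rw [show QuotSMulTop.map r f (Submodule.Quotient.mk x) = Submodule.Quotient.mk (f x) from rfl,
      Submodule.Quotient.mk_eq_zero, Submodule.mem_smul_pointwise_iff_exists] at hx
    obtain ⟨y, -, hy⟩ := hx
    have hy0 : g y = 0 := h3.1 (show r • g y = r • 0 by
      rw [smul_zero, ← map_smul, hy, hex.apply_apply_eq_zero])
    obtain ⟨w, rfl⟩ := (hex y).1 hy0
    rw [← map_smul] at hy
    rw [Submodule.Quotient.mk_eq_zero, Submodule.mem_smul_pointwise_iff_exists]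
    exact ⟨w, trivial, hf hy⟩

/-- Powers of a weakly regular sequence are weakly regular. -/
theorem isWeaklyRegular_pow {M : Type u} [AddCommGroup M] [Module A M] (n : ℕ) (rs : List A)
    (h : IsWeaklyRegular M rs) : IsWeaklyRegular M (rs.map (· ^ (n + 1))) := by
  induction rs generalizing M with
  | nil => exact IsWeaklyRegular.nil A M
  | cons r rs ih =>
    rw [isWeaklyRegular_cons_iff] at h
    rw [List.map_cons, isWeaklyRegular_cons_iff]
    refine ⟨h.1.pow (n + 1), ?_⟩
    suffices ∀ k : ℕ, IsWeaklyRegular (QuotSMulTop (r ^ (k + 1)) M) (rs.map (· ^ (n + 1))) from this n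
    intro k
    induction k with
    | zero => rw [zero_add, pow_one]; exact ih h.2
    | succ k ihk =>
      let f : QuotSMulTop (r ^ (k + 1)) M →ₗ[A] QuotSMulTop (r ^ (k + 1 + 1)) M :=
        Submodule.mapQ _ _ (LinearMap.lsmul A M r) (fun x hx => by
          obtain ⟨y, -, rfl⟩ := (Submodule.mem_smul_pointwise_iff_exists _ _ _).1 hx
          refine (Submodule.mem_smul_pointwise_iff_exists _ _ _).2 ⟨y, trivial, ?_⟩
          rw [LinearMap.lsmul_apply, smul_smul, ← pow_succ'])
      let g : QuotSMulTop (r ^ (k + 1 + 1)) M →ₗ[A] QuotSMulTop r M :=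
        Submodule.factor (fun x hx => by
          obtain ⟨y, -, rfl⟩ := (Submodule.mem_smul_pointwise_iff_exists _ _ _).1 hx
          refine (Submodule.mem_smul_pointwise_iff_exists _ _ _).2 ⟨r ^ (k + 1) • y, trivial, ?_⟩
          rw [smul_smul, ← pow_succ'])
      refine isWeaklyRegular_of_exact _ f g ?_ (Submodule.factor_surjective _) ?_ ihk (ih h.2)
      · rw [injective_iff_map_eq_zero]
        intro x hx
        obtain ⟨x, rfl⟩ := Submodule.Quotient.mk_surjective _ x
        rw [show f (Submodule.Quotient.mk x) = Submodule.Quotient.mk (r • x) from rfl,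
          Submodule.Quotient.mk_eq_zero, Submodule.mem_smul_pointwise_iff_exists] at hx
        obtain ⟨y, -, hy⟩ := hx
        rw [pow_succ', ← smul_smul] at hy
        rw [Submodule.Quotient.mk_eq_zero, Submodule.mem_smul_pointwise_iff_exists]
        exact ⟨y, trivial, h.1 hy⟩
      · intro x
        obtain ⟨x, rfl⟩ := Submodule.Quotient.mk_surjective _ x
        constructor
        · intro hx
          rw [show g (Submodule.Quotient.mk x) = Submodule.Quotient.mk x from rfl,
            Submodule.Quotient.mk_eq_zero, Submodule.mem_smul_pointwise_iff_exists] at hx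
          obtain ⟨y, -, rfl⟩ := hx
          exact ⟨Submodule.Quotient.mk y, rfl⟩
        · rintro ⟨y, hy⟩
          obtain ⟨y, rfl⟩ := Submodule.Quotient.mk_surjective _ y
          rw [← hy]
          exact (Submodule.Quotient.mk_eq_zero _).2
            ((Submodule.mem_smul_pointwise_iff_exists _ _ _).2 ⟨y, trivial, rfl⟩)

end Reg

variable (L : CochainComplex (ModuleCat.{u} A) ℤ) [∀ i, Module.Flat A (L.X i)]

/-- The sequence of multiplication by `r`. -/
def mulSC (r : A) (N : Type u) [AddCommGroup N] [Module A N] : ShortComplex (ModuleCat.{u} A) :=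
  ShortComplex.mk (ModuleCat.ofHom (r • LinearMap.id : N →ₗ[A] N))
    (ModuleCat.ofHom (Submodule.mkQ (r • ⊤ : Submodule A N)) : ModuleCat.of A N ⟶ ModuleCat.of A (QuotSMulTop r N))
    (ModuleCat.hom_ext (LinearMap.ext fun x =>
      (Submodule.Quotient.mk_eq_zero _).2 (Submodule.smul_mem_pointwise_smul x r ⊤ trivial)))

theorem mulSC_shortExact {r : A} {N : Type u} [AddCommGroup N] [Module A N] (h : IsSMulRegular N r) :
    (mulSC r N).ShortExact where
  exact := (ShortComplex.ShortExact.moduleCat_exact_iff_function_exact _).2 fun x => by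
    constructor
    · intro hx
      obtain ⟨y, -, rfl⟩ := (Submodule.mem_smul_pointwise_iff_exists _ _ _).1
        ((Submodule.Quotient.mk_eq_zero _).1 hx)
      exact ⟨y, rfl⟩
    · rintro ⟨y, rfl⟩
      exact (Submodule.Quotient.mk_eq_zero _).2 (Submodule.smul_mem_pointwise_smul y r ⊤ trivial)
  mono_f := (ModuleCat.mono_iff_injective _).2 h
  epi_g := (ModuleCat.epi_iff_surjective _).2 (Submodule.mkQ_surjective _)

variable [IsNoetherianRing A] [IsJacobsonRing A] (p : Ideal A)

/-- The hypotheses: no negative homology, fibre homology only at `p`. -/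
structure IsPoint : Prop where
  fin : ∀ i, Module.Finite A (L.X i)
  neg : ∀ i : ℤ, i < 0 → ∀ N : ModuleCat.{u} A, IsZero ((CohIII.TFun L i).obj N)
  dr : ∀ (q : Ideal A) (hq : q.IsMaximal) (i : ℕ), q ≠ p → CohIII.dRank L (i : ℤ) ⟨q, hq.isPrime⟩ = 0

variable {L p} (hL : IsPoint L p)
include hL

theorem isZero_T_of_lt {N : Type u} [AddCommGroup N] [Module A N] {rs : List A} (hmem : ∀ r ∈ rs, r ∈ p)
    (hreg : IsWeaklyRegular N rs) {i : ℤ} (hi : i < rs.length) :
    IsZero ((CohIII.TFun L i).obj (ModuleCat.of A N)) :=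
  (FlatCx.isZero_T_iff L i (ModuleCat.of A N)).2
    (DepthVanish.injective_of_isWeaklyRegular L hL.fin p hL.neg hL.dr rs hmem N hreg i hi)

/-- `T⁰(N / rs N)` is the `rs`-torsion of `T^l(N)`. -/
theorem exists_socle (rs : List A) : ∀ (N : Type u) [AddCommGroup N] [Module A N],
    (∀ r ∈ rs, r ∈ p) → IsWeaklyRegular N rs →
    ∃ f : (CohIII.TFun L 0).obj (ModuleCat.of A (N ⧸ (Ideal.ofList rs • ⊤ : Submodule A N))) →ₗ[A]
        (CohIII.TFun L (rs.length : ℤ)).obj (ModuleCat.of A N),
      Function.Injective f ∧ ∀ z, (∀ r ∈ rs, r • z = 0) → z ∈ LinearMap.range f := by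
  induction rs with
  | nil =>
    intro N _ _ _ _
    let e : (N ⧸ (Ideal.ofList ([] : List A) • ⊤ : Submodule A N)) ≃ₗ[A] N :=
      Submodule.quotEquivOfEqBot _ (by rw [Ideal.ofList_nil, Submodule.bot_smul])
    let E := ((CohIII.TFun L 0).mapIso e.toModuleIso).toLinearEquiv
    exact ⟨E.toLinearMap, E.injective, fun z _ => ⟨E.symm z, E.apply_symm_apply z⟩⟩
  | cons r rs ih =>
    intro N _ _ hmem hreg
    have hreg' := hreg
    rw [isWeaklyRegular_cons_iff] at hreg'
    obtain ⟨f, hf, hf'⟩ := ih (QuotSMulTop r N) (fun s hs => hmem s (List.mem_cons_of_mem _ hs)) hreg'.2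
    let e := Submodule.quotOfListConsSMulTopEquivQuotSMulTopInner N r rs
    let E := ((CohIII.TFun L 0).mapIso e.toModuleIso).toLinearEquiv
    have hS := mulSC_shortExact hreg'.1
    have hrel : (ComplexShape.up ℤ).Rel ((rs.length : ℕ) : ℤ) ((r :: rs).length : ℕ) := by simp
    let δ := (FlatCx.Tδ L hS ((rs.length : ℕ) : ℤ) ((r :: rs).length : ℕ) hrel).hom
    have hz : IsZero ((CohIII.TFun L ((rs.length : ℕ) : ℤ)).obj (ModuleCat.of A N)) :=
      isZero_T_of_lt hL hmem hreg (by simp)
    haveI := ModuleCat.subsingleton_of_isZero hz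
    have hδ : Function.Injective δ := by
      rw [injective_iff_map_eq_zero]
      intro y hy
      obtain ⟨w, rfl⟩ := ((FlatCx.T_exact₃ L hS _ _ hrel) y).1 hy
      rw [show w = 0 from Subsingleton.elim (α := (CohIII.TFun L ((rs.length : ℕ) : ℤ)).obj (ModuleCat.of A N)) _ _]
      exact map_zero _
    refine ⟨(δ ∘ₗ f) ∘ₗ E.toLinearMap, (hδ.comp hf).comp E.injective, fun z hz' => ?_⟩
    obtain ⟨y, rfl⟩ : z ∈ Set.range δ := ((FlatCx.T_exact₁ L hS _ _ hrel) z).1
      ((FlatCx.map_smul_id L _ (ModuleCat.of A N) r z).trans (hz' r List.mem_cons_self))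
    obtain ⟨x, rfl⟩ := hf' y fun s hs => hδ (by
      rw [map_smul, map_zero]; exact hz' s (List.mem_cons_of_mem _ hs))
    refine ⟨E.symm x, ?_⟩
    show δ (f (E (E.symm x))) = _
    rw [E.apply_symm_apply]

/-- A class is killed by a power of each element of `p`. -/
theorem exists_pow_smul_eq_zero [p.IsMaximal] (i : ℕ) (M : ModuleCat.{u} A) {r : A} (hr : r ∈ p)
    (z : (CohIII.TFun L (i : ℤ)).obj M) : ∃ n : ℕ, r ^ n • z = 0 := by
  haveI := hL.fin (i : ℤ)
  haveI := hL.fin ((ComplexShape.up ℤ).next (i : ℤ))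
  let e := FlatCx.TKerEquiv L (i : ℤ) M
  let J : Ideal A := LinearMap.ker (LinearMap.toSpanSingleton A _ (e z))
  have hrad : r ∈ J.radical := by
    rw [Ideal.radical_eq_jacobson]
    refine Ideal.mem_sInf.2 fun {q} hq' => ?_
    obtain ⟨hle, hq⟩ := hq'
    by_contra hrq
    obtain ⟨s, hsq, hsz⟩ := DepthVanish.exists_smul_eq_zero L (i : ℤ) q
      (hL.dr q hq i fun h => hrq (h ▸ hr)) M (e z).1 (LinearMap.mem_ker.1 (e z).2)
    exact hsq (hle (Subtype.ext hsz))
  obtain ⟨n, hn⟩ := hrad
  exact ⟨n, e.injective (by rw [map_smul, map_zero]; exact hn)⟩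

variable {g g' : ℕ} (b : Fin g' → A) (hspan : Ideal.span (Set.range b) = p)
  (hreg : IsWeaklyRegular A (List.ofFn b))
  (htop : ∀ i : ℕ, g < i → ∀ N : ModuleCat.{u} A, IsZero ((CohIII.TFun L (i : ℤ)).obj N))
  (hone : Nonempty ((CohIII.TFun L 0).obj (ModuleCat.of A (A ⧸ p)) ≃ₗ[A] A ⧸ p))
  (hkill0 : ∀ (N : ModuleCat.{u} A) (y : (CohIII.TFun L 0).obj N), ∀ r ∈ p, r • y = 0)

omit [∀ i, Module.Flat A (L.X i)] hL in
include hspan in
theorem mem_of_mem_ofFn : ∀ r ∈ List.ofFn b, r ∈ p := fun r hr => by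
  obtain ⟨i, rfl⟩ := List.mem_ofFn.1 hr
  exact hspan ▸ Ideal.subset_span ⟨i, rfl⟩

include hspan in
omit [∀ i, Module.Flat A (L.X i)] hL in
theorem quot_eq : (Ideal.ofList (List.ofFn b) • ⊤ : Submodule A A) = p := by
  rw [Ideal.smul_eq_mul, Ideal.mul_top, ← hspan, Ideal.ofList]
  congr 1
  ext r
  exact List.mem_ofFn

include hspan hreg hone in
/-- The point has codimension at most the amplitude. -/
theorem le_amplitude [p.IsMaximal] (htop : ∀ i : ℕ, g < i → ∀ N : ModuleCat.{u} A, IsZero ((CohIII.TFun L (i : ℤ)).obj N)) :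
    g' ≤ g := by
  by_contra hlt
  obtain ⟨f, hf, -⟩ := exists_socle hL (List.ofFn b) A (mem_of_mem_ofFn b hspan) hreg
  haveI := ModuleCat.subsingleton_of_isZero (htop (List.ofFn b).length (by rw [List.length_ofFn]; omega) (ModuleCat.of A A))
  haveI := hf.subsingleton
  obtain ⟨e⟩ := hone
  let E := ((CohIII.TFun L 0).mapIso (Submodule.quotEquivOfEq _ _ (quot_eq b hspan)).toModuleIso).toLinearEquiv
  haveI : Subsingleton (A ⧸ p) := (E.trans e).symm.toEquiv.subsingleton
  exact Ideal.IsMaximal.ne_top (I := p) ‹_› (Ideal.Quotient.subsingleton_iff.1 ‹_›)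

variable {b}

section eq

variable {c : Fin g → A} (hc : Ideal.span (Set.range c) = p) (hcreg : IsWeaklyRegular A (List.ofFn c))

include hc hcreg

include hkill0 in
/-- `T^g(A)` is killed by `p`. -/
theorem smul_eq_zero_top [p.IsMaximal] (z : (CohIII.TFun L (g : ℤ)).obj (ModuleCat.of A A)) :
    ∀ r ∈ p, r • z = 0 := by
  choose n hn using fun i : Fin g => exists_pow_smul_eq_zero hL g (ModuleCat.of A A)
    (hc ▸ Ideal.subset_span ⟨i, rfl⟩ : c i ∈ p) z
  let N := Finset.univ.sup n
  obtain ⟨f, hf, hf'⟩ := exists_socle hL ((List.ofFn c).map (· ^ (N + 1))) A (fun r hr => by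
    obtain ⟨s, hs, rfl⟩ := List.mem_map.1 hr
    exact Ideal.pow_mem_of_mem _ (mem_of_mem_ofFn c hc s hs) _ (Nat.succ_pos _))
    (isWeaklyRegular_pow N _ hcreg)
  intro r hr
  have hlen : ((((List.ofFn c).map (· ^ (N + 1))).length : ℕ) : ℤ) = (g : ℤ) := by simp
  revert f
  rw [hlen]
  intro f _ hf'
  obtain ⟨x, rfl⟩ := hf' z fun t ht => by
    obtain ⟨s, hs', rfl⟩ := List.mem_map.1 ht
    obtain ⟨i, rfl⟩ := List.mem_ofFn.1 hs'
    have hle : n i ≤ N + 1 := (Finset.le_sup (Finset.mem_univ i)).trans (Nat.le_succ _)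
    show c i ^ (N + 1) • z = 0
    rw [← Nat.sub_add_cancel hle, pow_add, mul_smul, hn, smul_zero]
  rw [← map_smul, hkill0 _ x r hr, map_zero]

include hone hkill0 in
/-- `T^g(A)` is the residue field. -/
theorem nonempty_top [p.IsMaximal] :
    Nonempty ((CohIII.TFun L (g : ℤ)).obj (ModuleCat.of A A) ≃ₗ[A] A ⧸ p) := by
  obtain ⟨f, hf, hf'⟩ := exists_socle hL (List.ofFn c) A (mem_of_mem_ofFn c hc) hcreg
  revert f
  rw [List.length_ofFn]
  intro f hf hf'
  obtain ⟨e⟩ := hone
  let E := ((CohIII.TFun L 0).mapIso (Submodule.quotEquivOfEq _ _ (quot_eq c hc)).toModuleIso).toLinearEquiv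
  exact ⟨(LinearEquiv.ofBijective f ⟨hf, fun z => hf' z fun r hr =>
    smul_eq_zero_top hL hkill0 hc hcreg z r (mem_of_mem_ofFn c hc r hr)⟩).symm ≪≫ₗ E ≪≫ₗ e⟩

include hkill0 in
theorem smul_T_free [p.IsMaximal] (htop : ∀ i : ℕ, g < i → ∀ N : ModuleCat.{u} A, IsZero ((CohIII.TFun L (i : ℤ)).obj N))
    (i : ℕ) (n : ℕ) (y : (CohIII.TFun L (i : ℤ)).obj (ModuleCat.of A (Fin n → A))) (r : A) (hr : r ∈ p) :
    r • y = 0 := by
  classical
  let T := CohIII.TFun L (i : ℤ)
  let π : Fin n → (ModuleCat.of A (Fin n → A) ⟶ ModuleCat.of A A) := fun j => ModuleCat.ofHom (LinearMap.proj j)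
  let ι : Fin n → (ModuleCat.of A A ⟶ ModuleCat.of A (Fin n → A)) := fun j =>
    ModuleCat.ofHom (LinearMap.single A (fun _ => A) j)
  have hid : (∑ j, π j ≫ ι j) = 𝟙 _ := by
    refine ModuleCat.hom_ext (LinearMap.ext fun v => ?_)
    simp [π, ι, Finset.univ_sum_single]
  have hA : ∀ w : T.obj (ModuleCat.of A A), r • w = 0 := by
    intro w
    rcases lt_trichotomy i g with h | h | h
    · haveI := ModuleCat.subsingleton_of_isZero
        (isZero_T_of_lt hL (mem_of_mem_ofFn c hc) hcreg (i := (i : ℤ)) (by simpa using h))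
      exact Subsingleton.elim (α := (CohIII.TFun L (i : ℤ)).obj (ModuleCat.of A A)) _ _
    · subst h
      exact smul_eq_zero_top hL hkill0 hc hcreg w r hr
    · haveI := ModuleCat.subsingleton_of_isZero (htop i h (ModuleCat.of A A))
      exact Subsingleton.elim (α := (CohIII.TFun L (i : ℤ)).obj (ModuleCat.of A A)) _ _
  have hy := congrArg (fun F => (T.map F).hom y) hid
  rw [CategoryTheory.Functor.map_sum, CategoryTheory.Functor.map_id] at hy
  simp only [CategoryTheory.Functor.map_comp, ModuleCat.hom_sum, LinearMap.sum_apply,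
    ModuleCat.hom_id, LinearMap.id_apply, ModuleCat.hom_comp, LinearMap.comp_apply] at hy
  rw [← hy, Finset.smul_sum]
  exact Finset.sum_eq_zero fun j _ => by rw [← map_smul, hA, map_zero]

include hkill0 htop in
/-- All `T^i` of finite modules are killed by `p`. -/
theorem smul_eq_zero [p.IsMaximal] : ∀ (m i : ℕ), g ≤ i + m → ∀ (N : Type u) [AddCommGroup N] [Module A N]
    [Module.Finite A N] (y : (CohIII.TFun L (i : ℤ)).obj (ModuleCat.of A N)) (r : A), r ∈ p → r • y = 0 := by
  intro m
  induction m with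
  | zero =>
    intro i hi N _ _ _ y r hr
    obtain ⟨n, π, hπ⟩ := Module.Finite.exists_fin' A N
    let S : ShortComplex (ModuleCat.{u} A) := ShortComplex.mk
      (ModuleCat.ofHom (LinearMap.ker π).subtype) (ModuleCat.ofHom π)
      (ModuleCat.hom_ext (LinearMap.ext fun x : LinearMap.ker π => x.2))
    have hS : S.ShortExact :=
      { exact := (ShortComplex.ShortExact.moduleCat_exact_iff_function_exact _).2
          (LinearMap.exact_subtype_ker_map π)
        mono_f := (ModuleCat.mono_iff_injective _).2 Subtype.val_injective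
        epi_g := (ModuleCat.epi_iff_surjective _).2 hπ }
    have hrel : (ComplexShape.up ℤ).Rel (i : ℤ) ((i + 1 : ℕ) : ℤ) := by simp
    haveI := ModuleCat.subsingleton_of_isZero (htop (i + 1) (by omega) S.X₁)
    obtain ⟨w, rfl⟩ := ((FlatCx.T_exact₃ L hS _ _ hrel) y).1 (Subsingleton.elim (α := (CohIII.TFun L ((i + 1 : ℕ) : ℤ)).obj S.X₁) _ _)
    refine (map_smul _ r w).symm.trans ?_
    rw [smul_T_free hL hkill0 hc hcreg htop i n w r hr]
    exact map_zero _
  | succ m ih =>
    intro i hi N _ _ _ y r hr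
    rcases le_or_gt g i with h | h
    · exact ih i (by omega) N y r hr
    obtain ⟨n, π, hπ⟩ := Module.Finite.exists_fin' A N
    let S : ShortComplex (ModuleCat.{u} A) := ShortComplex.mk
      (ModuleCat.ofHom (LinearMap.ker π).subtype) (ModuleCat.ofHom π)
      (ModuleCat.hom_ext (LinearMap.ext fun x : LinearMap.ker π => x.2))
    have hS : S.ShortExact :=
      { exact := (ShortComplex.ShortExact.moduleCat_exact_iff_function_exact _).2
          (LinearMap.exact_subtype_ker_map π)
        mono_f := (ModuleCat.mono_iff_injective _).2 Subtype.val_injective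
        epi_g := (ModuleCat.epi_iff_surjective _).2 hπ }
    have hrel : (ComplexShape.up ℤ).Rel (i : ℤ) ((i + 1 : ℕ) : ℤ) := by simp
    haveI hz : Subsingleton ((CohIII.TFun L (i : ℤ)).obj (ModuleCat.of A (Fin n → A))) := by
      refine ModuleCat.subsingleton_of_isZero (isZero_T_of_lt hL (rs := List.ofFn c) (mem_of_mem_ofFn c hc) ?_ (by simpa using h))
      exact ((TensorProduct.lid A (Fin n → A)).isWeaklyRegular_congr _).1
        (hcreg.isWeaklyRegular_rTensor (M₂ := Fin n → A))
    refine (injective_iff_map_eq_zero _).1 (show Function.Injective (FlatCx.Tδ L hS _ _ hrel).hom from ?_) _ ?_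
    · rw [injective_iff_map_eq_zero]
      intro w hw
      obtain ⟨v, rfl⟩ := ((FlatCx.T_exact₃ L hS _ _ hrel) w).1 hw
      rw [show v = 0 from Subsingleton.elim (α := (CohIII.TFun L (i : ℤ)).obj (ModuleCat.of A (Fin n → A))) _ _]
      exact map_zero _
    · rw [map_smul]
      haveI : Module.Finite A (LinearMap.ker π) := inferInstance
      exact ih (i + 1) (by omega) (LinearMap.ker π) _ r hr

include hkill0 htop in
/-- The lengths along a regular sequence. -/
theorem length_quot [p.IsMaximal] : ∀ (rs : List A) (j : ℕ) (N : Type u) [AddCommGroup N] [Module A N]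
    [Module.Finite A N], (∀ r ∈ rs, r ∈ p) → IsWeaklyRegular N rs →
    (∀ i : ℕ, Module.length A ((CohIII.TFun L (i : ℤ)).obj (ModuleCat.of A N)) =
      ((if i ≤ g then j.choose (g - i) else 0 : ℕ) : ℕ∞)) →
    ∀ i : ℕ, Module.length A ((CohIII.TFun L (i : ℤ)).obj (ModuleCat.of A (N ⧸ (Ideal.ofList rs • ⊤ : Submodule A N)))) =
      ((if i ≤ g then (j + rs.length).choose (g - i) else 0 : ℕ) : ℕ∞) := by
  intro rs
  induction rs with
  | nil =>
    intro j N _ _ _ _ _ hlen i
    let e : (N ⧸ (Ideal.ofList ([] : List A) • ⊤ : Submodule A N)) ≃ₗ[A] N :=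
      Submodule.quotEquivOfEqBot _ (by rw [Ideal.ofList_nil, Submodule.bot_smul])
    rw [((CohIII.TFun L (i : ℤ)).mapIso e.toModuleIso).toLinearEquiv.length_eq, List.length_nil, add_zero]
    exact hlen i
  | cons r rs ih =>
    intro j N _ _ _ hmem hr hlen i
    rw [isWeaklyRegular_cons_iff] at hr
    let e := Submodule.quotOfListConsSMulTopEquivQuotSMulTopInner N r rs
    rw [((CohIII.TFun L (i : ℤ)).mapIso e.toModuleIso).toLinearEquiv.length_eq]
    refine (ih (j + 1) (QuotSMulTop r N) (fun s hs => hmem s (List.mem_cons_of_mem _ hs)) hr.2 (fun i => ?_) i).trans ?_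
    swap
    · rw [List.length_cons, add_right_comm, add_assoc]
    have hS := mulSC_shortExact hr.1
    have hrel : (ComplexShape.up ℤ).Rel (i : ℤ) ((i + 1 : ℕ) : ℤ) := by simp
    have h0 : ∀ (q : ℕ) (y : (CohIII.TFun L (q : ℤ)).obj (ModuleCat.of A N)),
        ((CohIII.TFun L (q : ℤ)).map (mulSC r N).f).hom y = 0 := fun q y =>
      (FlatCx.map_smul_id L (q : ℤ) (ModuleCat.of A N) r y).trans
        (smul_eq_zero hL htop hkill0 hc hcreg g q (by omega) N y r (hmem r List.mem_cons_self))
    have hinj : Function.Injective ((CohIII.TFun L (i : ℤ)).map (mulSC r N).g).hom := by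
      rw [injective_iff_map_eq_zero]
      intro y hy
      obtain ⟨x, rfl⟩ := ((FlatCx.T_mid_exact L (i : ℤ) _ hS) y).1 hy
      exact h0 i x
    have hsurj : Function.Surjective (FlatCx.Tδ L hS _ _ hrel).hom := fun y =>
      ((FlatCx.T_exact₁ L hS _ _ hrel) y).1 (h0 (i + 1) y)
    refine (Module.length_eq_add_of_exact _ _ hinj hsurj (FlatCx.T_exact₃ L hS _ _ hrel)).trans ?_
    refine (congr (congrArg (· + ·) (hlen i)) (hlen (i + 1))).trans ?_
    rw [← Nat.cast_add]
    congr 1
    rcases lt_trichotomy i g with h | h | h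
    · rw [if_pos h.le, if_pos (show i + 1 ≤ g by omega), if_pos h.le,
        show g - i = g - (i + 1) + 1 by omega, Nat.choose_succ_succ, add_comm]
    · subst h
      simp
    · rw [if_neg (by omega), if_neg (by omega), if_neg (by omega)]

include hone hkill0 htop in
/-- `T^i` of the residue field has length `C(g, g - i)`. -/
theorem length_residue [p.IsMaximal] (i : ℕ) :
    Module.length A ((CohIII.TFun L (i : ℤ)).obj (ModuleCat.of A (A ⧸ p))) =
      ((if i ≤ g then g.choose (g - i) else 0 : ℕ) : ℕ∞) := by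
  have := length_quot hL htop hkill0 hc hcreg (List.ofFn c) 0 A (mem_of_mem_ofFn c hc) hcreg (fun i => ?_) i
  · rw [zero_add, List.length_ofFn] at this
    exact (((CohIII.TFun L (i : ℤ)).mapIso
      (Submodule.quotEquivOfEq _ _ (quot_eq c hc)).toModuleIso).toLinearEquiv.length_eq).symm.trans this
  rcases lt_trichotomy i g with h | h | h
  · haveI := ModuleCat.subsingleton_of_isZero
      (isZero_T_of_lt hL (mem_of_mem_ofFn c hc) hcreg (i := (i : ℤ)) (by simpa using h))
    rw [if_pos h.le, Nat.choose_eq_zero_of_lt (by omega), Nat.cast_zero]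
    exact Module.length_eq_zero
  · subst h
    obtain ⟨e⟩ := nonempty_top hL hone hkill0 hc hcreg
    rw [e.length_eq, if_pos le_rfl, Nat.sub_self, Nat.choose_self, Nat.cast_one]
    haveI : IsSimpleModule A (A ⧸ p) := isSimpleModule_iff_quot_maximal.2 ⟨p, ‹_›, ⟨LinearEquiv.refl A _⟩⟩
    exact Module.length_eq_one A _
  · haveI := ModuleCat.subsingleton_of_isZero (htop i h (ModuleCat.of A A))
    rw [if_neg (by omega), Nat.cast_zero]
    exact Module.length_eq_zero

end eq

end GrothLib.PointCx
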