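import Groth.Agent.Lib.Poincare.PicZeroVanish
import Groth.Agent.Lib.Poincare.DualRel
import Groth.Agent.Lib.CurveRR.Dual

/-!
# Higher direct images of an exterior product of line bundles on `A × A`
-/

set_option autoImplicit false
set_option linter.all false
set_option backward.isDefEq.respectTransparency false
set_option maxHeartbeats 1000000

universe u

open CategoryTheory CategoryTheory.Limits AlgebraicGeometry Opposite TopologicalSpace
open MonoidalCategory CartesianMonoidalCategory
open GrothLib.Ample GrothLib.Cube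
open scoped MonObj

noncomputable section

namespace GrothLib.FstPush

/-- Cohomology of a finite sum of copies. -/
theorem subsingleton_HH_sigma_iff {k : Type u} [Field k] {X : Scheme.{u}} [X.Over (Spec (CommRingCat.of k))]
    (M : X.Modules) (n b : ℕ) [HasCoproduct fun _ : Fin n => M] :
    Subsingleton (Coh.HH X (∐ fun _ : Fin n => M) b) ↔ (n = 0 ∨ Subsingleton (Coh.HH X M b)) := by
  classical
  let π : Fin n → ((∐ fun _ : Fin n => M) ⟶ M) := fun j => Sigma.desc (fun i : Fin n => if i = j then 𝟙 M else 0)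
  have hid : (∑ j : Fin n, π j ≫ Sigma.ι (fun _ : Fin n => M) j) = 𝟙 _ := by
    refine Sigma.hom_ext _ _ fun i => ?_
    rw [Preadditive.comp_sum, Category.comp_id, Finset.sum_eq_single i]
    · simp [π]
    · intro j _ hj
      simp [π, Ne.symm hj]
    · simp
  constructor
  · intro h
    rcases Nat.eq_zero_or_pos n with hn | hn
    · exact Or.inl hn
    refine Or.inr (subsingleton_of_forall_eq 0 fun x => ?_)
    have h1 : Sigma.ι (fun _ : Fin n => M) ⟨0, hn⟩ ≫ π ⟨0, hn⟩ = 𝟙 M := by simp [π]
    rw [← Euler.hhMap_id (A := k) M b x, ← h1, Euler.hhMap_comp,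
      h.elim (Cohom.hhMap k (Sigma.ι (fun _ : Fin n => M) ⟨0, hn⟩) b x) 0, map_zero]
  · intro h
    refine subsingleton_of_forall_eq 0 fun x => ?_
    rw [← Euler.hhMap_id (A := k) _ b x, ← hid, CurveRR.hhMap_sum]
    refine Finset.sum_eq_zero fun j _ => ?_
    rcases h with rfl | h
    · exact j.elim0
    · rw [Euler.hhMap_comp, h.elim (Cohom.hhMap k (π j) b x) 0, map_zero]

variable {k : Type u} [Field k] {X : Over (Spec (CommRingCat.of k))} [IsProper X.hom]
  [GeometricallyIntegral X.hom]

/-- **`R^q p_{1*}(p_1^* M ⊗ p_2^* L)` is a sum of copies of `M`, as many as `dim H^q(L)`.** -/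
theorem exists_iso {L M : X.left.Modules} (hL : PicF.IsInvertible L) (hM : PicF.IsInvertible M) (q : ℕ)
    [HasInjectiveResolutions X.left.Modules] [HasInjectiveResolutions (X ⊗ X).left.Modules] :
    ∃ n : ℕ, (n = 0 ↔ Subsingleton (Coh.HH X.left L q)) ∧
      Nonempty ((Coh.Rpush (fst X X).left q).obj (CohB1.tensorMod
        ((Scheme.Modules.pullback (fst X X).left).obj M) ((Scheme.Modules.pullback (snd X X).left).obj L)) ≅
          ∐ fun _ : Fin n => M) := by
  haveI : IsLocallyNoetherian X.left := LocallyOfFiniteType.isLocallyNoetherian X.hom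
  have hsq : IsPullback (snd X X).left (fst X X).left X.hom X.hom :=
    (IsPullback.of_hasPullback X.hom X.hom).flip
  have hLc : Coh.IsCoh L := Euler.isCoh_of_isInvertible hL
  haveI : L.IsQuasicoherent := hLc.1
  obtain ⟨eE⟩ := FlatBCRpush.nonempty_iso X.hom X.hom (snd X X).left (fst X X).left hsq q L hLc.1
  let V := (Coh.Rpush X.hom q).obj L
  obtain ⟨N, hNfin, ⟨eV⟩⟩ := FFormal7.exists_tilde_of_isCoh (F := V) (Cohom.isCoh_Rpush X.hom L hLc q)
  haveI := hNfin
  let n := Module.finrank k N
  let eN : N ≅ ModuleCat.of (CommRingCat.of k) (ULift.{u} (Fin n) →₀ k) :=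
    (((Module.finBasis k N).reindex Equiv.ulift.symm).repr).toModuleIso
  let eV' : V ≅ FlatMod.freeMod (Spec (CommRingCat.of k)) n :=
    eV.symm ≪≫ (tilde.functor (CommRingCat.of k)).mapIso eN ≪≫ OX.tildeFreeIso (CommRingCat.of k) n
  let E := (Coh.Rpush (fst X X).left q).obj ((Scheme.Modules.pullback (snd X X).left).obj L)
  let eE' : E ≅ FlatMod.freeMod X.left n :=
    eE.symm ≪≫ (Scheme.Modules.pullback X.hom).mapIso eV' ≪≫ OX.pullFreeModIso X.hom n
  refine ⟨n, ?_, ?_⟩
  · -- the rank
    obtain ⟨I⟩ := Cohom.nonempty_flRes L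
    obtain ⟨eI⟩ := Cohom.nonempty_Rpush_iso X.hom I q
    have hb := Cohom.classToSection_bijective X.hom I q (isAffineOpen_top (Spec (CommRingCat.of k)))
    have hV : Subsingleton N ↔ Subsingleton Γ(V, (⊤ : (Spec (CommRingCat.of k)).Opens)) := by
      refine ((tilde.isoTop (R := CommRingCat.of k) N).toLinearEquiv.toEquiv.subsingleton_congr).trans ?_
      exact (((SheafOfModules.toSheaf _ ⋙ sheafToPresheaf _ _ ⋙ (evaluation _ _).obj
        (op (⊤ : (Spec (CommRingCat.of k)).Opens))).mapIso eV).addCommGroupIsoToAddEquiv.toEquiv.subsingleton_congr)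
    have hH : Subsingleton Γ(V, (⊤ : (Spec (CommRingCat.of k)).Opens)) ↔ Subsingleton (Coh.HH X.left L q) := by
      refine (((SheafOfModules.toSheaf _ ⋙ sheafToPresheaf _ _ ⋙ (evaluation _ _).obj
        (op (⊤ : (Spec (CommRingCat.of k)).Opens))).mapIso eI).addCommGroupIsoToAddEquiv.toEquiv.subsingleton_congr).trans ?_
      refine (Equiv.ofBijective _ hb).subsingleton_congr.symm.trans ?_
      exact (Cohom.HEquivTop (Coh.toAb L) q).toEquiv.subsingleton_congr.symm
    rw [← hH, ← hV]
    exact Module.finrank_zero_iff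
  · obtain ⟨eP⟩ := Groth.Agent.S0927.result (fst X X).left ((Scheme.Modules.pullback (snd X X).left).obj L) M
      (Euler.isFinLocFree_of_isInvertible hM) q
    let T := (DCoh.tensorBi (X := X.left)).obj M
    let eM : T.obj (Coh.structureModule X.left) ≅ M :=
      (OX.tensorBraiding.app M).symm.app _ ≪≫ OX.tensorUnitLeftIso M
    exact ⟨eP.symm ≪≫ T.mapIso eE' ≪≫ PreservesCoproduct.iso T _ ≪≫ Sigma.mapIso fun _ => eM⟩

end GrothLib.FstPush
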