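import Groth.Agent.Lib.Poincare.IndexPow
import Groth.Agent.Lib.BCCoh.FlatBC
import Groth.Agent.Lib.AbTors.Tate
import Groth.Agent.Lib.CurveLocus.Basic

/-!
# The index under extension of the base field
-/

set_option autoImplicit false
set_option linter.all false
set_option backward.isDefEq.respectTransparency false

universe u

open CategoryTheory CategoryTheory.Limits AlgebraicGeometry Opposite TopologicalSpace
open MonoidalCategory CartesianMonoidalCategory
open GrothLib.Cube
open GrothLib.HodgeIndex (rep isInv_rep cls_rep)

noncomputable section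

namespace GrothLib.Index

section General

variable {k k' : Type u} [Field k] [Field k'] (φ : k →+* k') {X X' : Scheme.{u}}
  [X.Over (Spec (CommRingCat.of k))] [X'.Over (Spec (CommRingCat.of k'))]
  [IsProper (X ↘ Spec (CommRingCat.of k))]
  (g : X' ⟶ X) (H : IsPullback g (X' ↘ Spec (CommRingCat.of k')) (X ↘ Spec (CommRingCat.of k))
      (Spec.map (CommRingCat.ofHom φ)))

include H in
theorem finrank_HH_pullback {L : X.Modules} (hL : Coh.IsCoh L) (p : ℕ) :
    Module.finrank k' (Coh.HH X' ((Scheme.Modules.pullback g).obj L) p) =
      Module.finrank k (Coh.HH X L p) := by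
  letI := φ.toAlgebra
  haveI : CompactSpace X := QuasiCompact.compactSpace_of_compactSpace (X ↘ Spec (CommRingCat.of k))
  haveI : X.IsSeparated := ⟨by
    rw [show terminal.from X = (X ↘ Spec (CommRingCat.of k)) ≫ terminal.from _ from terminal.hom_ext _ _]
    infer_instance⟩
  haveI := hL.1
  have hflat : φ.Flat := by
    show Module.Flat k k'
    infer_instance
  obtain ⟨e⟩ := BCCoh.exists_flatBC φ hflat _ _ g H L p
  exact e.finrank_eq.symm.trans Module.finrank_baseChange

include H in
theorem subsingleton_HH_pullback_iff {L : X.Modules} (hL : PicF.IsInvertible L) (p : ℕ) :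
    Subsingleton (Coh.HH X' ((Scheme.Modules.pullback g).obj L) p) ↔ Subsingleton (Coh.HH X L p) := by
  haveI : IsProper (X' ↘ Spec (CommRingCat.of k')) := MorphismProperty.of_isPullback (P := @IsProper) H ‹_›
  haveI := Euler.isNoetherian_of_proper (X := X) k
  haveI := Euler.isNoetherian_of_proper (X := X') k'
  haveI : FiniteDimensional k (Coh.HH X L p) :=
    Euler.finiteDimensional_HH k (Euler.isCoh_of_isInvertible hL) p
  haveI : FiniteDimensional k' (Coh.HH X' ((Scheme.Modules.pullback g).obj L) p) :=
    Euler.finiteDimensional_HH k' (Euler.isCoh_of_isInvertible (Ample.isInvertible_pullback g hL)) p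
  refine (Module.finrank_zero_iff (R := k')).symm.trans (Iff.trans ?_ (Module.finrank_zero_iff (R := k)))
  rw [finrank_HH_pullback φ g H (Euler.isCoh_of_isInvertible hL) p]

include H in
theorem euler_pullback_field {L : X.Modules} (hL : PicF.IsInvertible L) :
    Curv2.euler k' X' ((Scheme.Modules.pullback g).obj L) = Curv2.euler k X L := by
  haveI := Euler.isNoetherian_of_proper (X := X) k
  exact finsum_congr fun i => by rw [finrank_HH_pullback φ g H (Euler.isCoh_of_isInvertible hL) i]

include H in
theorem conc_pull_iff (z : Pic X) (i : ℕ) : Conc (pull g z) i ↔ Conc z i := by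
  rw [conc_iff ((hasCls_rep z).pullback g) i]
  simp only [Conc, subsingleton_HH_pullback_iff φ g H (isInv_rep z)]

end General

variable {k : Type u} [Field k] (A : Over (Spec (CommRingCat.of k)))

/-- The scalar extension of `A` to an algebraic closure. -/
abbrev geomFib : Over (Spec (CommRingCat.of (AlgebraicClosure k))) :=
  (Over.pullback (Spec.map (CommRingCat.ofHom (algebraMap k (AlgebraicClosure k))))).obj A

/-- The projection from the geometric fibre. -/
abbrev geomProj : (geomFib A).left ⟶ A.left :=
  pullback.fst A.hom (Spec.map (CommRingCat.ofHom (algebraMap k (AlgebraicClosure k))))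

theorem isPullback_geomProj :
    IsPullback (geomProj A) (geomFib A).hom A.hom
      (Spec.map (CommRingCat.ofHom (algebraMap k (AlgebraicClosure k)))) :=
  IsPullback.of_hasPullback _ _

variable [GrpObj A] [IsProper A.hom] [GeometricallyIntegral A.hom]

instance : GrpObj (geomFib A) := Functor.grpObjObj
instance : IsProper (geomFib A).hom := inferInstanceAs (IsProper (pullback.snd A.hom _))
instance : GeometricallyIntegral (geomFib A).hom := inferInstanceAs (GeometricallyIntegral (pullback.snd A.hom _))

theorem conc_geom (z : Pic A.left) (i : ℕ) : Conc (pull (geomProj A) z) i ↔ Conc z i :=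
  letI : A.left.Over (Spec (CommRingCat.of k)) := ⟨A.hom⟩
  letI : (geomFib A).left.Over (Spec (CommRingCat.of (AlgebraicClosure k))) := ⟨(geomFib A).hom⟩
  haveI : IsProper (A.left ↘ Spec (CommRingCat.of k)) := ‹IsProper A.hom›
  conc_pull_iff (algebraMap k (AlgebraicClosure k)) (geomProj A) (isPullback_geomProj A) z i

theorem euler_geom {L : A.left.Modules} (hL : PicF.IsInvertible L) :
    @Curv2.euler (AlgebraicClosure k) _ (geomFib A).left ⟨(geomFib A).hom⟩
        ((Scheme.Modules.pullback (geomProj A)).obj L) = @Curv2.euler k _ A.left ⟨A.hom⟩ L :=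
  letI : A.left.Over (Spec (CommRingCat.of k)) := ⟨A.hom⟩
  letI : (geomFib A).left.Over (Spec (CommRingCat.of (AlgebraicClosure k))) := ⟨(geomFib A).hom⟩
  haveI : IsProper (A.left ↘ Spec (CommRingCat.of k)) := ‹IsProper A.hom›
  euler_pullback_field (algebraMap k (AlgebraicClosure k)) (geomProj A) (isPullback_geomProj A) hL

theorem dim_geom {g : ℕ} (hg : topologicalKrullDim A.left = g) :
    topologicalKrullDim (geomFib A).left = g :=
  (CurveLocus.topologicalKrullDim_of_isPullback A.hom (isPullback_geomProj A)).trans hg

end GrothLib.Index
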