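import Groth.Agent.Lib.Poincare.IndexRoots
import Groth.Agent.Lib.Poincare.IndexBC
import Groth.Agent.Lib.Cube.AffineComplement
import Groth.Agent.Lib.CurveMult.GenEtale

/-!
# The index over an arbitrary field: roots, powers and isogenies
-/

set_option autoImplicit false
set_option linter.all false
set_option backward.isDefEq.respectTransparency false
set_option maxHeartbeats 1000000

universe u

open CategoryTheory CategoryTheory.Limits AlgebraicGeometry TopologicalSpace
open MonoidalCategory CartesianMonoidalCategory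
open GrothLib.HodgeIndex (rep isInv_rep cls_rep)
open GrothLib.Cube (Pic clsMod HasCls hasCls_clsMod hasCls_structureModule pull)
open Polynomial

noncomputable section

namespace GrothLib.Index

variable {k : Type u} [Field k] {A : Over (Spec (CommRingCat.of k))} [GrpObj A] [IsProper A.hom]
  [GeometricallyIntegral A.hom]

theorem isAmple_rep {X : Scheme.{u}} {L : X.Modules} {z : Pic X} (hL : HasCls L z) (hA : CohB1.IsAmple L) :
    CohB1.IsAmple (rep z) := by
  obtain ⟨e⟩ := hL.iso (hasCls_rep z) rfl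
  exact (Ample.isAmple_iff_of_iso e).1 hA

theorem isAffineHom_geomProj : IsAffineHom (geomProj A) :=
  MorphismProperty.pullback_fst _ _ inferInstance

/-- The Euler characteristic of a module from that of its class on the geometric fibre. -/
theorem chiA_geom {L : A.left.Modules} {z : Pic A.left} (hL : HasCls L z) :
    chiA (A := geomFib A) (pull (geomProj A) z) = @Curv2.euler k _ A.left ⟨A.hom⟩ L := by
  rw [← euler_geom A hL.choose]
  exact (@EulerPull.euler_eq_of_hasCls (AlgebraicClosure k) _ _ ⟨(geomFib A).hom⟩ _ _ _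
    (hL.pullback (geomProj A)) (hasCls_rep _)).symm

/-- A module with nonzero Euler characteristic has an index. -/
theorem exists_conc_of_euler {g : ℕ} (hg : topologicalKrullDim A.left = g) {L : A.left.Modules} {z : Pic A.left}
    (hL : HasCls L z) (h : @Curv2.euler k _ A.left ⟨A.hom⟩ L ≠ 0) : ∃ i, i ≤ g ∧ Conc z i := by
  obtain ⟨i, hi, hc⟩ := exists_conc_of_chi (A := geomFib A) (dim_geom A hg) (z := pull (geomProj A) z)
    (by rw [chiA_geom hL]; exact h)
  exact ⟨i, hi, (conc_geom A z i).1 hc⟩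

theorem euler_ne_zero {L : A.left.Modules} {z : Pic A.left} (hL : HasCls L z) {i : ℕ} (h : Conc z i) :
    @Curv2.euler k _ A.left ⟨A.hom⟩ L ≠ 0 := by
  letI : A.left.Over (Spec (CommRingCat.of k)) := ⟨A.hom⟩
  haveI : IsProper (A.left ↘ Spec (CommRingCat.of k)) := ‹IsProper A.hom›
  rw [EulerPull.euler_eq_of_hasCls hL (hasCls_rep z)]
  exact (h.euler k).2

theorem eval_zero_cast {Φ : ℚ[X]} {t : ℝ} (n : ℕ) (ht : t = n) :
    (Φ.map (algebraMap ℚ ℝ)).eval t = ((Φ.eval (n : ℚ) : ℚ) : ℝ) := by
  rw [ht, ← eval_cast, Rat.cast_natCast]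

/-- **The index counts the roots above the slope, over any field.** -/
theorem index_roots {g : ℕ} (hg : topologicalKrullDim A.left = g) {L H : A.left.Modules}
    (hH : CohB1.IsAmple H) {x : Pic A.left} (hL : HasCls L x) {Φ : ℚ[X]}
    (hΦ : ∀ n : ℕ, Φ.eval (n : ℚ) =
      (@Curv2.euler k _ A.left ⟨A.hom⟩ (CohB1.tensorMod L (CohB1.tensorPow H n)) : ℚ))
    (n : ℕ) {i : ℕ} (hi : Conc (x * clsMod hH.1 ^ n) i) :
    (Φ.map (algebraMap ℚ ℝ)).eval (n : ℝ) ≠ 0 ∧
      i = Multiset.card ((Φ.map (algebraMap ℚ ℝ)).roots.filter fun t => (n : ℝ) < t) ∧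
      Multiset.card (Φ.map (algebraMap ℚ ℝ)).roots = Φ.natDegree := by
  haveI := isAffineHom_geomProj (A := A)
  have hy := isAmple_rep ((hasCls_clsMod hH.1).pullback (geomProj A))
    (Ample.isAmple_pullback_of_isAffineHom (geomProj A) hH)
  have hHP : IsHP (A := geomFib A) (pull (geomProj A) x) (pull (geomProj A) (clsMod hH.1)) Φ := fun m => by
    rw [hΦ m, ← map_pow, ← map_mul, chiA_geom (hL.tensor ((hasCls_clsMod hH.1).tensorPow m))]
  have hne : (Φ.map (algebraMap ℚ ℝ)).eval ((n : ℚ) : ℝ) ≠ 0 := by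
    rw [eval_cast, hΦ n]
    have := euler_ne_zero (hL.tensor ((hasCls_clsMod hH.1).tensorPow n)) hi
    exact_mod_cast this
  have hidx : Idx (pull (geomProj A) x) (pull (geomProj A) (clsMod hH.1)) (n : ℚ) i := by
    show Conc _ _
    rw [Rat.den_natCast, Rat.num_natCast, zpow_natCast, zpow_natCast, pow_one, ← map_pow, ← map_mul, conc_geom]
    exact hi
  obtain ⟨h1, h2⟩ := index_eq_count (dim_geom A hg) hHP hy hne hidx
  rw [Rat.cast_natCast] at h1 hne
  exact ⟨hne, h1, by rwa [natDegree_map] at h2⟩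

/-- **The index of a positive power.** -/
theorem conc_pow {g : ℕ} (hg : topologicalKrullDim A.left = g) {x : Pic A.left} {i : ℕ} (h : Conc x i)
    {m : ℕ} (hm : 0 < m) : Conc (x ^ m) i := by
  rw [← conc_geom] at h ⊢
  rw [map_pow]
  set B := geomFib A
  set z := pull (geomProj A) x
  obtain ⟨H, hH⟩ := Cube.exists_isAmple B
  have hy := isAmple_rep (hasCls_clsMod hH.1) hH
  obtain ⟨Φ, -, hΦ⟩ := exists_chi_poly (dim_geom A hg) z (clsMod hH.1)
  have hHP : IsHP z (clsMod hH.1) Φ := fun n => (hΦ n).symm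
  set P := Φ.map (algebraMap ℚ ℝ)
  have h0 : P.eval 0 ≠ 0 := by
    have e : P.eval (0 : ℝ) = ((Φ.eval (0 : ℚ) : ℚ) : ℝ) := by
      simp only [P]; rw [← eval_cast, Rat.cast_zero]
    have h2 := hHP 0
    rw [Nat.cast_zero, pow_zero, _root_.mul_one] at h2
    rw [e, h2]
    letI : B.left.Over (Spec (CommRingCat.of (AlgebraicClosure k))) := ⟨B.hom⟩
    haveI : IsProper (B.left ↘ Spec (CommRingCat.of (AlgebraicClosure k))) :=
      inferInstanceAs (IsProper B.hom)
    exact_mod_cast (h.euler (AlgebraicClosure k)).2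
  obtain ⟨q, hq, hqP⟩ : ∃ q : ℚ, 0 < q ∧ ∀ t ∈ Set.Icc ((-q : ℚ) : ℝ) (q : ℝ), P.eval t ≠ 0 := by
    obtain ⟨δ, hδ, hball⟩ := Metric.eventually_nhds_iff.1
      (P.continuous.continuousAt.eventually_ne (x := (0 : ℝ)) h0)
    obtain ⟨q, hq, hq'⟩ := exists_rat_btwn hδ
    refine ⟨q, by exact_mod_cast hq, fun t ht => hball ?_⟩
    push_cast at ht
    rw [Real.dist_eq, sub_zero, abs_lt]
    constructor <;> linarith [ht.1, ht.2]
  obtain ⟨j, -, hj⟩ := exists_const (dim_geom A hg) hHP hy (show -q < q by linarith) hqP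
  have hq' : (0 : ℝ) < q := by exact_mod_cast hq
  have h1 := hj 1 one_pos 0 (by push_cast; linarith) (by push_cast; linarith)
  have hm' := hj m hm 0 (by push_cast; nlinarith [Nat.cast_nonneg (α := ℝ) m])
    (by push_cast; nlinarith [Nat.cast_nonneg (α := ℝ) m])
  simp only [Nat.cast_one, zpow_one, zpow_zero, zpow_natCast, _root_.mul_one] at h1 hm'
  rwa [h.unique h1]

variable {B : Over (Spec (CommRingCat.of k))} [GrpObj B] [IsProper B.hom] [GeometricallyIntegral B.hom]

/-- An isogeny has a constant positive degree. -/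
theorem exists_degree (f : A ⟶ B) [IsFinite f.left] [Flat f.left] [Surjective f.left] :
    ∃ d : ℕ, 0 < d ∧ ∀ y : B.left, f.left.finrank y = d := by
  haveI : IsIntegral A.left := GeometricallyIntegral.isIntegral_of_subsingleton A.hom
  haveI : IsIntegral B.left := GeometricallyIntegral.isIntegral_of_subsingleton B.hom
  haveI : IsLocallyNoetherian B.left := LocallyOfFiniteType.isLocallyNoetherian B.hom
  haveI : LocallyOfFinitePresentation f.left := inferInstance
  obtain ⟨z, hz⟩ := f.left.surjective (genericPoint B.left)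
  have h1 : f.left (genericPoint A.left) ⤳ genericPoint B.left :=
    hz ▸ ((genericPoint_spec A.left).specializes trivial).map f.left.continuous
  have hξ := (h1.antisymm ((genericPoint_spec B.left).specializes trivial)).eq
  have hd := (CurveMult.generic_finite_flat f.left hξ).1
  refine ⟨_, ?_, hd⟩
  exact Nat.lt_of_lt_of_le Nat.one_pos
    ((Scheme.Hom.one_le_finrank_map f.left (genericPoint A.left)).trans_eq (hd _))

/-- **The index is invariant under isogenies.** -/
theorem conc_pullback (f : A ⟶ B) [IsFinite f.left] [Flat f.left] [Surjective f.left] {g g' : ℕ}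
    (hg : topologicalKrullDim A.left = g) (hg' : topologicalKrullDim B.left = g') {z : Pic B.left} {i : ℕ}
    (h : Conc z i) : Conc (pull f.left z) i := by
  obtain ⟨d, hd0, hd⟩ := exists_degree f
  haveI : IsLocallyNoetherian B.left := LocallyOfFiniteType.isLocallyNoetherian B.hom
  have he : ∀ {M : B.left.Modules}, PicF.IsInvertible M →
      @Curv2.euler k _ A.left ⟨A.hom⟩ ((Scheme.Modules.pullback f.left).obj M) =
        (d : ℤ) * @Curv2.euler k _ B.left ⟨B.hom⟩ M :=
    fun hM => EulerPull.euler_pullback f d hd _ (Euler.isCoh_of_isInvertible hM)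
  have hz := hasCls_rep z
  obtain ⟨i', -, hi'⟩ := exists_conc_of_euler hg (hz.pullback f.left) (by
    rw [he hz.choose]
    exact mul_ne_zero (by exact_mod_cast hd0.ne') (euler_ne_zero hz h))
  obtain ⟨H, hH⟩ := Cube.exists_isAmple B
  have hH' : CohB1.IsAmple ((Scheme.Modules.pullback f.left).obj H) :=
    Ample.isAmple_pullback_of_isAffineHom f.left hH
  letI : B.left.Over (Spec (CommRingCat.of k)) := ⟨B.hom⟩
  letI : A.left.Over (Spec (CommRingCat.of k)) := ⟨A.hom⟩
  haveI : IsProper (B.left ↘ Spec (CommRingCat.of k)) := ‹IsProper B.hom›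
  obtain ⟨Φ, hΦ, -⟩ := Hilb20.exists_isHilbPoly_of_dimLT (k := k) (L := H) (E := rep z) hH.1
    (Euler.isCoh_of_isInvertible hz.choose) (d := g' + 1)
    ((Snapper.dimLT_of_dim_le ((IsHomeomorph.topologicalKrullDim_eq _
      (Homeomorph.Set.univ B.left).isHomeomorph).trans hg').le).mono (Set.subset_univ _))
  have hB := index_roots hg' hH hz (Φ := Φ) (fun n => (hΦ n).symm) 0 (i := i)
    (by rwa [pow_zero, _root_.mul_one])
  have hA := index_roots hg hH' (hz.pullback f.left) (Φ := Polynomial.C (d : ℚ) * Φ)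
    (fun n => by
      rw [eval_mul, eval_C, ← hΦ n]
      have e := he (hz.tensor ((hasCls_clsMod hH.1).tensorPow n)).choose
      rw [EulerPull.euler_eq_of_hasCls ((hz.tensor ((hasCls_clsMod hH.1).tensorPow n)).pullback f.left)
        (by rw [map_mul, map_pow]
            exact (hz.pullback f.left).tensor (((hasCls_clsMod hH.1).pullback f.left).tensorPow n))] at e
      rw [e]
      push_cast
      rfl) 0 (i := i') (by rwa [pow_zero, _root_.mul_one])
  suffices e : i = i' by rwa [e]
  rw [hB.2.1, hA.2.1, Polynomial.map_mul, Polynomial.map_C,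
    Polynomial.roots_C_mul _ (by simpa using hd0.ne')]

end GrothLib.Index
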