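import Groth.Agent.Lib.Poincare.MumfordPoincare
import Groth.Agent.Lib.Poincare.FibVanish
import Groth.Agent.Lib.Poincare.SkyscraperCor
import Groth.Agent.Lib.Poincare.IndexMain
import Groth.Agent.Lib.Poincare.TensorInv
import Groth.Agent.Lib.Poincare.FstPush
import Groth.Agent.Lib.EulerPull.Abelian
import Groth.Agent.Lib.CurveMult.RelNef
import Groth.Agent.Lib.CurveMult.EtaleEuler
import Groth.Agent.Lib.K0Sub.RankNilp
import Groth.Agent.Lib.GrTilde.Mul

/-!
# `χ(L)² = deg φ_L`
-/

set_option autoImplicit false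
set_option linter.all false
set_option backward.isDefEq.respectTransparency false
set_option maxHeartbeats 1000000

universe u

open CategoryTheory CategoryTheory.Limits AlgebraicGeometry Opposite TopologicalSpace
open MonoidalCategory CartesianMonoidalCategory
open GrothLib.Ample GrothLib.Cube
open scoped MonObj

noncomputable section

namespace GrothLib.MumfordEuler

variable {k : Type u} [Field k]

/-- The Euler characteristic of a class. -/
def E (X : Over (Spec (CommRingCat.of k))) (z : Pic X.left) : ℤ :=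
  letI : X.left.Over (Spec (CommRingCat.of k)) := ⟨X.hom⟩
  Curv2.euler k X.left (Dual.rep z)

theorem E_eq {X : Over (Spec (CommRingCat.of k))} {L : X.left.Modules} {z : Pic X.left} (h : HasCls L z) :
    @Curv2.euler k _ X.left ⟨X.hom⟩ L = E X z :=
  @EulerPull.euler_eq_of_hasCls k _ _ ⟨X.hom⟩ _ _ _ h (Dual.hasCls_rep z)

theorem euler_point :
    @Curv2.euler k _ (Spec (CommRingCat.of k)) ⟨𝟙 _⟩ (Coh.structureModule (Spec (CommRingCat.of k))) = 1 := by
  letI : (Spec (CommRingCat.of k)).Over (Spec (CommRingCat.of k)) := ⟨𝟙 _⟩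
  haveI : Subsingleton ↥(Spec (CommRingCat.of k)) := inferInstanceAs (Subsingleton (PrimeSpectrum k))
  rw [Euler.euler_eq_of_finite_support k _ (Set.toFinite _) (fun x _ => isClosed_discrete _)]
  let O := Coh.structureModule (Spec (CommRingCat.of k))
  have h := Skyscraper.finrank_HH_push_point (k := k) (X := Over.mk (𝟙 (Spec (CommRingCat.of k))))
    (𝟙 _) (Category.id_comp _)
  exact_mod_cast (Euler.hhEquiv (A := k) ((Scheme.Modules.pushforwardId _).app O) 0).finrank_eq.symm.trans h

section Product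

variable {X : Over (Spec (CommRingCat.of k))} [IsProper X.hom] [GeometricallyIntegral X.hom]

/-- `χ(pr₁^* x ⊗ pr₂^* y) = χ(x) χ(y)`. -/
theorem E_ext (x y : Pic X.left) :
    E (X ⊗ X) (pull (fst X X).left x * pull (snd X X).left y) = E X x * E X y := by
  haveI : IsLocallyNoetherian X.left := LocallyOfFiniteType.isLocallyNoetherian X.hom
  haveI : IsIntegral X.left := GeometricallyIntegral.isIntegral_of_subsingleton X.hom
  letI : X.left.Over (Spec (CommRingCat.of k)) := ⟨X.hom⟩
  letI : (X ⊗ X).left.Over (Spec (CommRingCat.of k)) := ⟨(X ⊗ X).hom⟩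
  letI : (Spec (CommRingCat.of k)).Over (Spec (CommRingCat.of k)) := ⟨𝟙 _⟩
  haveI : IsProper (X.left ↘ Spec (CommRingCat.of k)) := ‹IsProper X.hom›
  haveI : IsProper ((X ⊗ X).left ↘ Spec (CommRingCat.of k)) :=
    inferInstanceAs (IsProper (pullback.fst X.hom X.hom ≫ X.hom))
  haveI : IsProper ((Spec (CommRingCat.of k)) ↘ Spec (CommRingCat.of k)) := inferInstanceAs (IsProper (𝟙 _))
  let L := Dual.rep y
  let M := Dual.rep x
  have hL := (Dual.hasCls_rep y).choose
  have hM := (Dual.hasCls_rep x).choose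
  have hsq : IsPullback (snd X X).left (fst X X).left X.hom X.hom :=
    (IsPullback.of_hasPullback X.hom X.hom).flip
  have hLc : Coh.IsCoh L := Euler.isCoh_of_isInvertible hL
  haveI : L.IsQuasicoherent := hLc.1
  have hq : ∀ q, ∃ n : ℕ, Curv2.euler k (Spec (CommRingCat.of k)) ((Coh.Rpush X.hom q).obj L) = (n : ℤ) ∧
      Curv2.euler k X.left ((Coh.Rpush (fst X X).left q).obj (CohB1.tensorMod
        ((Scheme.Modules.pullback (fst X X).left).obj M) ((Scheme.Modules.pullback (snd X X).left).obj L))) =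
        (n : ℤ) * Curv2.euler k X.left M := by
    intro q
    obtain ⟨eE⟩ := FlatBCRpush.nonempty_iso X.hom X.hom (snd X X).left (fst X X).left hsq q L hLc.1
    let V := (Coh.Rpush X.hom q).obj L
    obtain ⟨N, hNfin, ⟨eV⟩⟩ := FFormal7.exists_tilde_of_isCoh (F := V) (Cohom.isCoh_Rpush X.hom L hLc q)
    haveI := hNfin
    let n := Module.finrank k N
    let eN : N ≅ ModuleCat.of (CommRingCat.of k) (ULift.{u} (Fin n) →₀ k) :=
      (((Module.finBasis k N).reindex Equiv.ulift.symm).repr).toModuleIso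
    let eV' : V ≅ FlatMod.freeMod (Spec (CommRingCat.of k)) n :=
      eV.symm ≪≫ (tilde.functor (CommRingCat.of k)).mapIso eN ≪≫ OX.tildeFreeIso (CommRingCat.of k) n
    let eE' : (Coh.Rpush (fst X X).left q).obj ((Scheme.Modules.pullback (snd X X).left).obj L) ≅
        FlatMod.freeMod X.left n :=
      eE.symm ≪≫ (Scheme.Modules.pullback X.hom).mapIso eV' ≪≫ OX.pullFreeModIso X.hom n
    refine ⟨n, ?_, ?_⟩
    · rw [Euler.euler_of_iso k eV', CurveMult.euler_freeMod_structure, euler_point, _root_.mul_one]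
    · obtain ⟨eP⟩ := Groth.Agent.S0927.result (fst X X).left ((Scheme.Modules.pullback (snd X X).left).obj L) M
        (Euler.isFinLocFree_of_isInvertible hM) q
      rw [Euler.euler_of_iso k (eP.symm ≪≫ ((DCoh.tensorBi (X := X.left)).obj M).mapIso eE' ≪≫
        GrTilde.tensorModComm M _)]
      have h := Euler.euler_freeMod k (Euler.isFinLocFreeOfRank_one_of_invertible hM) n
      simp only [Curv2.deg, Nat.cast_one, _root_.one_mul, CurveMult.euler_freeMod_structure] at h
      show Curv2.euler k X.left ((Euler.tF M).obj (FlatMod.freeMod X.left n)) = _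
      linear_combination h
  choose n h1 h2 using hq
  have hG : HasCls (CohB1.tensorMod ((Scheme.Modules.pullback (fst X X).left).obj M)
      ((Scheme.Modules.pullback (snd X X).left).obj L)) (pull (fst X X).left x * pull (snd X X).left y) :=
    ((Dual.hasCls_rep x).pullback _).tensor ((Dual.hasCls_rep y).pullback _)
  rw [← E_eq hG, Snapper.euler_eq_finsum_Rpush k (f := (fst X X).left) (Over.w (fst X X)) _
      (Euler.isCoh_of_isInvertible hG.choose), ← E_eq (Dual.hasCls_rep x), ← E_eq (Dual.hasCls_rep y),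
    Snapper.euler_eq_finsum_Rpush k (X := Spec (CommRingCat.of k)) (f := X.hom) (Category.comp_id _) L hLc,
    ← smul_eq_mul, smul_finsum]
  exact finsum_congr fun q => by rw [h1, h2, smul_eq_mul]; ring

end Product

variable [IsAlgClosed k] {A At : Over (Spec (CommRingCat.of k))} [GrpObj A] [GrpObj At]
  [IsProper A.hom] [GeometricallyIntegral A.hom] [Smooth A.hom]
  [IsProper At.hom] [GeometricallyIntegral At.hom] [Smooth At.hom]
  {φ : ∀ T : Over (Spec (CommRingCat.of k)), PicF.Cl (PicF.XT A.hom T) → (T ⟶ At)}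
  (hφ : AbDual.IsDualAV Scheme.fppfPrecoverage A At φ)

/-- `χ` changes by `(-1)^g` under inversion. -/
theorem E_inv {g : ℕ} (hg : topologicalKrullDim A.left = g) (x : Pic A.left) :
    E A x⁻¹ = (-1) ^ g * E A x := by
  have hE : ∀ z : Pic A.left, Index.chiA z = E A z := fun z => E_eq ⟨HodgeIndex.isInv_rep z, HodgeIndex.cls_rep z⟩
  obtain ⟨Q, -, hQ⟩ := Index.exists_chi_poly hg x x⁻¹
  have hQ' : Q = (Polynomial.X - 1) ^ g * Polynomial.C (E A x⁻¹ : ℚ) := by
    refine Polynomial.eq_of_infinite_eval_eq _ _ (Set.infinite_of_injective_forall_mem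
      (f := fun t : ℕ => ((t + 1 : ℕ) : ℚ)) (fun s t h => by exact_mod_cast (by simpa using h : (s : ℚ) = t)) fun t => ?_)
    show Q.eval _ = _
    rw [← hQ, show x * x⁻¹ ^ (t + 1) = x⁻¹ ^ t by rw [pow_succ]; group, Index.chi_pow hg, hE]
    simp
  have h := hQ 0
  rw [pow_zero, _root_.mul_one, hE, hQ'] at h
  simp at h
  have h2 : E A x = (-1) ^ g * E A x⁻¹ := by exact_mod_cast h
  rw [h2, ← _root_.mul_assoc, ← mul_pow]
  norm_num

include hφ in
/-- **`χ(x)² = deg ψ`.** -/
theorem E_sq (x : Pic A.left) [IsFinite (MumfordPoincare.psi φ x).left] [Flat (MumfordPoincare.psi φ x).left]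
    (d : ℕ) (hd : ∀ y : At.left, (MumfordPoincare.psi φ x).left.finrank y = d) :
    E A x ^ 2 = (d : ℤ) := by
  haveI : GeometricallyConnected A.hom := Rigidity.geometricallyConnected_of_geometricallyIrreducible A.hom
  haveI : IsCommMonObj A := Cube.isCommMonObj_abScheme A
  obtain ⟨g, hg⟩ := AbTors.exists_dim A
  let ψ := MumfordPoincare.psi φ x
  let lam := MumfordPoincare.lam x
  haveI := EulerPull.surjective_of_finite_flat ψ
  haveI : IsLocallyNoetherian A.left := LocallyOfFiniteType.isLocallyNoetherian A.hom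
  haveI : IsLocallyNoetherian At.left := LocallyOfFiniteType.isLocallyNoetherian At.hom
  obtain ⟨p, hξ, hpψ⟩ := MumfordPoincare.exists_poincare hφ x
  -- `χ(λ) = d χ(p)`
  obtain ⟨hvan, hone⟩ := Skyscraper.cohomology hφ hg (Dual.hasCls_rep p) hξ
  have hp : E (A ⊗ At) p = (-1) ^ g := by
    letI : (A ⊗ At).left.Over (Spec (CommRingCat.of k)) := ⟨(A ⊗ At).hom⟩
    show Curv2.euler k (A ⊗ At).left (Dual.rep p) = _
    unfold Curv2.euler
    rw [finsum_eq_single _ g fun j hj => by
      haveI := hvan j hj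
      rw [Module.finrank_zero_of_subsingleton, Nat.cast_zero, mul_zero]]
    rw [hone]
    simp
  haveI : IsProper (A ⊗ A).hom := inferInstanceAs (IsProper (pullback.fst A.hom A.hom ≫ A.hom))
  haveI : IsProper (A ⊗ At).hom := inferInstanceAs (IsProper (pullback.fst A.hom At.hom ≫ A.hom))
  haveI : GeometricallyIntegral (A ⊗ A).hom :=
    CubeRel26.geometricallyIntegral_comp (pullback.fst A.hom A.hom) A.hom
  haveI : GeometricallyIntegral (A ⊗ At).hom :=
    CubeRel26.geometricallyIntegral_comp (pullback.fst A.hom At.hom) A.hom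
  haveI : IsIntegral A.left := GeometricallyIntegral.isIntegral_of_subsingleton A.hom
  have H : IsPullback (A ◁ ψ).left (snd A A).left (snd A At).left ψ.left := by
    have := PicSep26.isPullback_XTmap A.hom ψ
    rwa [Dual.XTmap_eq] at this
  haveI : IsFinite (A ◁ ψ).left := MorphismProperty.of_isPullback H.flip ‹_›
  haveI : Flat (A ◁ ψ).left := MorphismProperty.of_isPullback H.flip ‹_›
  have hlamd : E (A ⊗ A) lam = (d : ℤ) * (-1) ^ g := by
    have hdeg : ∀ y, (A ◁ ψ).left.finrank y = d := fun y => by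
      rw [Scheme.Hom.finrank_of_isPullback _ _ _ _ H.flip]; exact hd _
    have h := EulerPull.euler_pullback (A ◁ ψ) d hdeg (Dual.rep p)
      (Euler.isCoh_of_isInvertible (Dual.hasCls_rep p).choose)
    have hc := (Dual.hasCls_rep p).pullback (A ◁ ψ).left
    rw [hpψ] at hc
    rw [E_eq hc] at h
    rw [h, E_eq (Dual.hasCls_rep p), hp]
  -- twisting by a class from the second factor
  have htw : E (A ⊗ A) (pull (snd A A).left x * lam) = E (A ⊗ A) lam := by
    letI : A.left.Over (Spec (CommRingCat.of k)) := ⟨A.hom⟩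
    letI : (A ⊗ A).left.Over (Spec (CommRingCat.of k)) := ⟨(A ⊗ A).hom⟩
    haveI : IsProper (A.left ↘ Spec (CommRingCat.of k)) := ‹IsProper A.hom›
    haveI : IsProper ((A ⊗ A).left ↘ Spec (CommRingCat.of k)) := ‹IsProper (A ⊗ A).hom›
    haveI : JacobsonSpace A.left := LocallyOfFiniteType.jacobsonSpace A.hom
    haveI : IsProper (snd A A).left := inferInstanceAs (IsProper (pullback.snd A.hom A.hom))
    haveI : Flat (snd A A).left := inferInstanceAs (Flat (pullback.snd A.hom A.hom))
    haveI : IsClosedImmersion η[At].left := isClosedImmersion_of_comp_eq_id At.hom η[At].left (Over.w η[At])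
    let F := Dual.rep lam
    have hF := Euler.isCoh_of_isInvertible (Dual.hasCls_rep lam).choose
    let e₀ := η[At].left (IsLocalRing.closedPoint k)
    have he₀ : IsClosed ({e₀} : Set At.left) := by
      rw [show ({e₀} : Set At.left) = η[At].left '' {IsLocalRing.closedPoint k} from Set.image_singleton.symm]
      exact η[At].left.isClosedEmbedding.isClosedMap _ (isClosed_singleton (x := IsLocalRing.closedPoint k))
    let S : Set A.left := ψ.left ⁻¹' {e₀}
    have hS : S.Finite := IsFinite.finite_preimage_singleton ψ.left e₀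
    have hSc : IsClosed S := he₀.preimage ψ.left.continuous
    have hScl : ∀ w ∈ S, IsClosed ({w} : Set A.left) := by
      intro w hw
      have hcl : IsClosed (S ∩ closedPoints A.left) := by
        rw [← Set.biUnion_of_singleton (S ∩ closedPoints A.left)]
        exact (hS.subset Set.inter_subset_left).isClosed_biUnion fun y hy => hy.2
      have := closure_inter_closedPoints hSc
      rw [hcl.closure_eq] at this
      exact (this.ge hw).2
    have hsub : ∀ q, CohB1.support ((Coh.Rpush (snd A A).left q).obj F) ⊆ S := fun q w hw => by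
      by_contra hne
      exact RpushSupport.notMem_support (snd A A).left F hF
        (Seesaw26.isFlatOver_of_isInvertible _ (Dual.hasCls_rep lam).choose) q ⟨Sᶜ, hSc.isOpen_compl⟩
        (fun y hy _ => Dual.subsingleton_fiberH_of_dphi hφ (Dual.hasCls_rep lam)
          (MumfordPoincare.pz_lam x) (KL.pull_sec_mc x (𝟙 A)) y hy q) hne hw
    have hM := (Dual.hasCls_rep x).choose
    have hG : HasCls (CohB1.tensorMod ((Scheme.Modules.pullback (snd A A).left).obj (Dual.rep x)) F)
        (pull (snd A A).left x * lam) := ((Dual.hasCls_rep x).pullback _).tensor (Dual.hasCls_rep lam)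
    rw [← E_eq hG, ← E_eq (Dual.hasCls_rep lam)]
    rw [Snapper.euler_eq_finsum_Rpush k (f := (snd A A).left) (Over.w (snd A A)) _
        (Euler.isCoh_of_isInvertible hG.choose),
      Snapper.euler_eq_finsum_Rpush k (f := (snd A A).left) (Over.w (snd A A)) _ hF]
    refine finsum_congr fun q => ?_
    obtain ⟨eP⟩ := Groth.Agent.S0927.result (snd A A).left F (Dual.rep x) (Euler.isFinLocFree_of_isInvertible hM) q
    rw [Euler.euler_of_iso k (eP.symm ≪≫ GrTilde.tensorModComm (Dual.rep x) _)]
    congr 1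
    refine (Euler.euler_tF_of_finite_support k (Euler.isFinLocFreeOfRank_one_of_invertible hM)
      (Cohom.isCoh_Rpush _ F hF q) (hS.subset (hsub q)) fun w hw => hScl w (hsub q hw)).trans ?_
    exact (congrArg (· * _) Nat.cast_one).trans (_root_.one_mul _)
  -- the automorphism `(a, b) ↦ (a, b - a)`
  have haut : E (A ⊗ A) (pull (snd A A).left x * lam) =
      E (A ⊗ A) (pull (fst A A).left x⁻¹ * pull (snd A A).left x) := by
    letI : (A ⊗ A).left.Over (Spec (CommRingCat.of k)) := ⟨(A ⊗ A).hom⟩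
    haveI : IsProper ((A ⊗ A).left ↘ Spec (CommRingCat.of k)) := ‹IsProper (A ⊗ A).hom›
    let j : A ⊗ A ⟶ A ⊗ A := lift (fst A A) ((fst A A)⁻¹ * snd A A)
    let j' : A ⊗ A ⟶ A ⊗ A := lift (fst A A) (fst A A * snd A A)
    haveI : IsIso j := ⟨j', by
      constructor <;> apply CartesianMonoidalCategory.hom_ext <;>
        simp [j, j', MonObj.comp_mul, GrpObj.comp_inv]⟩
    haveI : IsIso j.left := inferInstanceAs (IsIso ((Over.forget _).map j))
    have hc := (Dual.hasCls_rep (pull (snd A A).left x * lam)).pullback j.left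
    have he : pull j.left (pull (snd A A).left x * lam) = pull (fst A A).left x⁻¹ * pull (snd A A).left x := by
      show pull j.left (pull (snd A A).left x * KL.mc x (𝟙 A)) = _
      rw [KL.mc_eq, Category.comp_id]
      have e0 : ∀ a b c : Pic (A ⊗ A).left, b * (a * (c * b)⁻¹) = c⁻¹ * a := fun a b c => by
        rw [mul_inv_rev, mul_left_comm, mul_inv_cancel_left, mul_comm]
      rw [e0, map_mul, map_inv, pull_pull_over, pull_pull_over, map_inv, MonObj.comp_mul]
      simp only [j, lift_fst, lift_snd, mul_inv_cancel_left]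
    rw [he] at hc
    rw [← E_eq hc, ← E_eq (Dual.hasCls_rep (pull (snd A A).left x * lam))]
    haveI := (Euler.isCoh_of_isInvertible (Dual.hasCls_rep (pull (snd A A).left x * lam)).choose).1
    exact (CurveMult.RelNef.euler_pullback_iso j.left (Over.w j) _).symm
  rw [E_ext, E_inv hg, htw, hlamd] at haut
  have h1 : ((-1 : ℤ) ^ g) ≠ 0 := pow_ne_zero _ (by norm_num)
  refine mul_left_cancel₀ h1 ?_
  linear_combination -haut

variable {L L' : A.left.Modules} {Λ : (PicF.XT A.hom A).Modules}

omit [IsAlgClosed k] [IsProper A.hom] [GeometricallyIntegral A.hom] [Smooth A.hom] in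
/-- The Mumford module has the Mumford class. -/
theorem hasCls_mumford (hL : PicF.IsInvertible L)
    (hL' : Nonempty (CohB1.tensorMod L L' ≅ Coh.structureModule A.left))
    (hΛ : Nonempty (Λ ≅ CohB1.tensorMod (CohB1.tensorMod ((Scheme.Modules.pullback μ[A].left).obj L)
      ((Scheme.Modules.pullback (fst A A).left).obj L')) ((Scheme.Modules.pullback (snd A A).left).obj L'))) :
    HasCls Λ (MumfordPoincare.lam (clsMod hL)) := by
  obtain ⟨e⟩ := hL'
  have hi := KL.isInvertible_of_tensor_iso e hL Euler.isInvertible_structure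
  have hx := hasCls_clsMod hL
  have h1 := (hx.tensor (hasCls_clsMod hi)).eq (hasCls_structureModule A.left) ⟨e⟩
  have hy : clsMod hi = (clsMod hL)⁻¹ := (inv_eq_of_mul_eq_one_right h1).symm
  have hx' : HasCls L' (clsMod hL)⁻¹ := hy ▸ hasCls_clsMod hi
  have h := ((hx.pullback μ[A].left).tensor (hx'.pullback (fst A A).left)).tensor (hx'.pullback (snd A A).left)
  obtain ⟨i⟩ := hΛ
  refine ⟨RelProjK.isInvertible_of_iso i h.choose, ?_⟩
  refine ((hasCls_clsMod _).eq h ⟨i⟩).trans ?_
  rw [MumfordPoincare.lam, KL.mc_eq, Category.comp_id, map_inv, map_inv, mul_inv, ← _root_.mul_assoc,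
    show μ[A] = fst A A * snd A A by rw [Hom.mul_def, lift_fst_snd, Category.id_comp]]

include hφ in
/-- **`χ(L)² = deg φ_L`.** -/
theorem euler_sq (hL : PicF.IsInvertible L)
    (hL' : Nonempty (CohB1.tensorMod L L' ≅ Coh.structureModule A.left))
    (hΛ : Nonempty (Λ ≅ CohB1.tensorMod (CohB1.tensorMod ((Scheme.Modules.pullback μ[A].left).obj L)
      ((Scheme.Modules.pullback (fst A A).left).obj L')) ((Scheme.Modules.pullback (snd A A).left).obj L')))
    [IsFinite (φ A (PicF.cl Λ)).left] [Flat (φ A (PicF.cl Λ)).left]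
    (d : ℕ) (hd : ∀ y : At.left, (φ A (PicF.cl Λ)).left.finrank y = d) :
    @Curv2.euler k _ A.left ⟨A.hom⟩ L ^ 2 = (d : ℤ) := by
  have e : φ A (PicF.cl Λ) = MumfordPoincare.psi φ (clsMod hL) := Dual.dphi_eq (hasCls_mumford hL hL' hΛ)
  haveI : IsFinite (MumfordPoincare.psi φ (clsMod hL)).left := e ▸ ‹IsFinite (φ A (PicF.cl Λ)).left›
  haveI : Flat (MumfordPoincare.psi φ (clsMod hL)).left := e ▸ ‹Flat (φ A (PicF.cl Λ)).left›
  rw [E_eq (hasCls_clsMod hL)]
  exact E_sq hφ _ d (by rw [← e]; exact hd)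

include hφ in
/-- **A nondegenerate class has an index, and `h^i = sqrt(deg φ_L)`.** -/
theorem exists_index {g : ℕ} (hg : topologicalKrullDim A.left = g) (hL : PicF.IsInvertible L)
    (hL' : Nonempty (CohB1.tensorMod L L' ≅ Coh.structureModule A.left))
    (hΛ : Nonempty (Λ ≅ CohB1.tensorMod (CohB1.tensorMod ((Scheme.Modules.pullback μ[A].left).obj L)
      ((Scheme.Modules.pullback (fst A A).left).obj L')) ((Scheme.Modules.pullback (snd A A).left).obj L')))
    [IsFinite (φ A (PicF.cl Λ)).left] [Flat (φ A (PicF.cl Λ)).left]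
    (d : ℕ) (hd : ∀ y : At.left, (φ A (PicF.cl Λ)).left.finrank y = d) :
    ∃ i : ℕ, i ≤ g ∧ (∀ j : ℕ, j ≠ i → Subsingleton (Coh.HH A.left L j)) ∧
      @Module.finrank k (Coh.HH A.left L i) _ _ (@Coh.moduleOver k _ A.left ⟨A.hom⟩ L i) ^ 2 = d := by
  have hsq := euler_sq hφ hL hL' hΛ d hd
  have hd1 : 1 ≤ d := by
    rw [← hd ((φ A (PicF.cl Λ)).left (η[A].left (IsLocalRing.closedPoint k)))]
    exact Scheme.Hom.one_le_finrank_map _ _
  have hne : @Curv2.euler k _ A.left ⟨A.hom⟩ L ≠ 0 := fun h => by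
    rw [h] at hsq
    simp at hsq
    omega
  obtain ⟨i, hi, hc⟩ := Index.exists_conc_of_euler hg (hasCls_clsMod hL) hne
  letI : A.left.Over (Spec (CommRingCat.of k)) := ⟨A.hom⟩
  haveI : IsProper (A.left ↘ Spec (CommRingCat.of k)) := ‹IsProper A.hom›
  obtain ⟨j⟩ := (hasCls_clsMod hL).iso ⟨HodgeIndex.isInv_rep _, HodgeIndex.cls_rep _⟩ rfl
  refine ⟨i, hi, fun m hm => ?_, ?_⟩
  · haveI := hc.1 m hm
    exact (Euler.hhEquiv (A := k) j m).toEquiv.subsingleton
  · have h := (hc.euler k).1
    rw [← Euler.euler_of_iso k j, ← (Euler.hhEquiv (A := k) j i).finrank_eq] at h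
    rw [h, mul_pow, ← pow_mul, mul_comm i 2, pow_mul, neg_one_sq, one_pow, _root_.one_mul] at hsq
    exact_mod_cast hsq

end GrothLib.MumfordEuler
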