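import Groth.Agent.Lib.Poincare.DualRel
import Groth.Agent.Lib.Poincare.IndexBC
import Groth.Agent.Lib.Poincare.PicZeroVanish
import Groth.Agent.Lib.DegPoly.BaseChange
import Groth.Agent.Lib.Cube.AffineComplement
import Groth.Agent.Lib.Equidim6.RelDim
import Groth.Agent.Lib.Ample.RelAmple
import Groth.Agent.Lib.AlgSp.FieldFibreDim
import Groth.Agent.Lib.GrpSchField.GrpDim

/-!
# The fibres of a Poincaré bundle and the dimension of the dual
-/

set_option autoImplicit false
set_option linter.all false
set_option backward.isDefEq.respectTransparency false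
set_option maxHeartbeats 1000000

universe u

open CategoryTheory CategoryTheory.Limits AlgebraicGeometry Opposite TopologicalSpace
open MonoidalCategory CartesianMonoidalCategory
open GrothLib.Ample GrothLib.Cube
open scoped MonObj

noncomputable section

namespace GrothLib.Dual

section Down

variable {K : Type u} [Field K] {Ω : Type u} [Field Ω]
  (σ : Spec (CommRingCat.of Ω) ⟶ Spec (CommRingCat.of K)) {A : Over (Spec (CommRingCat.of K))}

/-- A morphism to a base change, composed with the projection. -/
def down {Z : Over (Spec (CommRingCat.of Ω))} (f : Z ⟶ DegPoly.bc σ A) : Over.mk (Z.hom ≫ σ) ⟶ A :=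
  Over.homMk (f.left ≫ pullback.fst A.hom σ) (by
    rw [Category.assoc, pullback.condition, ← Category.assoc]
    exact congrArg (· ≫ σ) (Over.w f))

/-- The adjoint of a morphism out of a scheme over the big field. -/
def up {Z : Over (Spec (CommRingCat.of Ω))} (u : Over.mk (Z.hom ≫ σ) ⟶ A) : Z ⟶ DegPoly.bc σ A :=
  (Over.homMk (pullback.lift (𝟙 Z.left) Z.hom (Category.id_comp _)) (pullback.lift_snd _ _ _) :
    Z ⟶ DegPoly.bc σ (Over.mk (Z.hom ≫ σ))) ≫ DegPoly.bcMap σ u

theorem down_up {Z : Over (Spec (CommRingCat.of Ω))} (u : Over.mk (Z.hom ≫ σ) ⟶ A) : down σ (up σ u) = u := by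
  refine Over.OverMorphism.ext ?_
  show (pullback.lift (𝟙 Z.left) Z.hom _ ≫ (DegPoly.bcMap σ u).left) ≫ pullback.fst A.hom σ = u.left
  rw [Category.assoc, DegPoly.bcMap_left_fst, ← Category.assoc]
  show (pullback.lift (𝟙 Z.left) Z.hom _ ≫ pullback.fst (Z.hom ≫ σ) σ) ≫ u.left = u.left
  rw [pullback.lift_fst]
  exact Category.id_comp _

theorem up_down {Z : Over (Spec (CommRingCat.of Ω))} (f : Z ⟶ DegPoly.bc σ A) : up σ (down σ f) = f := by
  refine Over.OverMorphism.ext (pullback.hom_ext ?_ ?_)
  · exact congrArg CategoryTheory.Over.Hom.left (down_up σ (down σ f))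
  · exact (Over.w (up σ (down σ f))).trans (Over.w f).symm

variable [GrpObj A]

theorem down_mul {Z : Over (Spec (CommRingCat.of Ω))} (f g : Z ⟶ DegPoly.bc σ A) :
    down σ (f * g) = down σ f * down σ g := by
  have h : ∀ u v : Over.mk (Z.hom ≫ σ) ⟶ A, up σ (u * v) = up σ u * up σ v := fun u v => by
    unfold up
    rw [show DegPoly.bcMap σ (u * v) = DegPoly.bcMap σ u * DegPoly.bcMap σ v from
      map_mul (Functor.homMonoidHom (Over.pullback σ)) u v, MonObj.comp_mul]
  conv_lhs => rw [← up_down σ f, ← up_down σ g, ← h, down_up]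

end Down

/-- Translates differ by classes algebraically equivalent to zero. -/
theorem isAlgEquivZero_translate {K : Type u} [Field K] [IsAlgClosed K] {X : Over (Spec (CommRingCat.of K))} [GrpObj X]
    [IsProper X.hom] [GeometricallyIntegral X.hom] (w : Pic X.left)
    (a : 𝟙_ (Over (Spec (CommRingCat.of K))) ⟶ X) {L : X.left.Modules}
    (hL : HasCls L (pull (transl a).left w * w⁻¹)) :
    @Pic13.IsAlgEquivZero K _ X.left ⟨X.hom⟩ L := by
  letI : X.left.Over (Spec (CommRingCat.of K)) := ⟨X.hom⟩
  haveI : IsIntegral X.left := GeometricallyIntegral.isIntegral_of_subsingleton X.hom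
  let M : (Pic13.prodK K X.left X.hom).Modules := rep (addClass (fst X X) (snd X X) w)
  have hM : HasCls M (addClass (fst X X) (snd X X) w) := hasCls_rep _
  have hs : ∀ (b : 𝟙_ (Over (Spec (CommRingCat.of K))) ⟶ X) (hb : b.left ≫ X.hom = 𝟙 _),
      Pic13.sliceAt K X.left X.hom b.left hb = (lift (𝟙 X) (toUnit X ≫ b)).left := fun b hb => by
    refine pullback.hom_ext ?_ ?_
    · refine (pullback.lift_fst _ _ _).trans ?_
      exact (congrArg CategoryTheory.Over.Hom.left (lift_fst (𝟙 X) (toUnit X ≫ b))).symm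
    · refine (pullback.lift_snd _ _ _).trans ?_
      refine Eq.trans ?_ (congrArg CategoryTheory.Over.Hom.left (lift_snd (𝟙 X) (toUnit X ≫ b))).symm
      rfl
  have hf : ∀ (b : 𝟙_ (Over (Spec (CommRingCat.of K))) ⟶ X) (hb : b.left ≫ X.hom = 𝟙 _),
      HasCls (Pic13.fibreMod K X.left X.hom b.left hb M) (pull (transl b).left w * w⁻¹) := fun b hb => by
    have h := hM.pullback (lift (𝟙 X) (toUnit X ≫ b)).left
    rw [pull_addClass, lift_fst, lift_snd] at h
    have h0 : pull (toUnit X ≫ b).left w = 1 := by
      rw [Over.comp_left, ← pull_comp]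
      exact (congrArg (pull (toUnit X).left) (pic_spec_field_eq_one (F := K) (pull b.left w))).trans (map_one _)
    rw [addClass, pull_over_id, h0, mul_one] at h
    rw [Pic13.fibreMod, hs b hb]
    exact h
  refine ⟨X.left, X.hom, inferInstance, inferInstance, inferInstance, M, hM.choose, a.left,
    (1 : 𝟙_ (Over (Spec (CommRingCat.of K))) ⟶ X).left, Over.w a, Over.w _, (hf a (Over.w a)).iso hL rfl,
    (hf 1 (Over.w _)).iso (hasCls_structureModule X.left) ?_⟩
  rw [transl_one, pull_over_id, mul_inv_cancel]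

variable {k : Type u} [Field k] {A At : Over (Spec (CommRingCat.of k))} [GrpObj A]
  [IsProper A.hom] [GeometricallyIntegral A.hom]

/-- The class pulled back to a field extension. -/
def geomCls {Ω : Type u} [Field Ω] (σ' : Spec (CommRingCat.of Ω) ⟶ Spec (CommRingCat.of k)) (x : Pic A.left) :
    Pic (DegPoly.bc σ' A).left := pull (pullback.fst A.hom σ') x

/-- The translated difference at a point. -/
def diffCls {Ω : Type u} [Field Ω] (σ' : Spec (CommRingCat.of Ω) ⟶ Spec (CommRingCat.of k)) (x : Pic A.left)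
    (z : Over.mk σ' ⟶ A) : Pic (DegPoly.bc σ' A).left :=
  letI : GrpObj (DegPoly.bc σ' A) := Functor.grpObjObj
  pull (transl (DegPoly.ptsEquiv σ' z : 𝟙_ (Over (Spec (CommRingCat.of Ω))) ⟶ DegPoly.bc σ' A)).left
    (geomCls σ' x) * (geomCls σ' x)⁻¹

/-- The Mumford class at a geometric point is the difference with the translate. -/
theorem mc_point {Ω : Type u} [Field Ω] (σ' : Spec (CommRingCat.of Ω) ⟶ Spec (CommRingCat.of k)) (x : Pic A.left)
    (z : Over.mk σ' ⟶ A) : (KL.mc x z : Pic (A ⊗ Over.mk σ').left) = diffCls σ' x z := by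
  let X := DegPoly.bc σ' A
  letI : GrpObj X := Functor.grpObjObj
  let P : Over (Spec (CommRingCat.of k)) := Over.mk σ'
  let a : 𝟙_ (Over (Spec (CommRingCat.of Ω))) ⟶ X := DegPoly.ptsEquiv σ' z
  let e : Over.mk (X.hom ≫ σ') ⟶ A ⊗ P := lift (down σ' (𝟙 X)) (Over.homMk X.hom rfl)
  have he : e.left = 𝟙 X.left := by
    refine pullback.hom_ext ?_ ?_
    · refine (congrArg CategoryTheory.Over.Hom.left (lift_fst (down σ' (𝟙 X)) _)).trans ?_
      rfl
    · refine (congrArg CategoryTheory.Over.Hom.left (lift_snd (down σ' (𝟙 X)) _)).trans ?_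
      exact (Category.id_comp _).symm
  have hdt : down σ' (transl a) = e ≫ (fst A P * (snd A P ≫ z)) := by
    rw [transl, down_mul, MonObj.comp_mul, lift_fst, lift_snd_assoc]
    congr 1
    refine Over.OverMorphism.ext ?_
    show ((toUnit X).left ≫ a.left) ≫ pullback.fst A.hom σ' = X.hom ≫ z.left
    have ha : a.left ≫ pullback.fst A.hom σ' = z.left :=
      congrArg CategoryTheory.Over.Hom.left ((DegPoly.ptsEquiv σ' (A := A)).symm_apply_apply z)
    rw [Category.assoc, ha]
    rfl
  have h0 : pull (snd A P ≫ z).left x = 1 := by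
    rw [Over.comp_left, ← pull_comp]
    exact (congrArg (pull (snd A P).left) (pic_spec_field_eq_one (F := Ω) (pull z.left x))).trans (map_one _)
  have h1 : pull (transl a).left (pull (pullback.fst A.hom σ') x) = pull (fst A P * (snd A P ≫ z)).left x := by
    refine (pull_comp (transl a).left (pullback.fst A.hom σ') x).trans ?_
    rw [show (transl a).left ≫ pullback.fst A.hom σ' = (down σ' (transl a)).left from rfl, hdt, Over.comp_left, he]
    exact congrArg (fun f => pull f x) (Category.id_comp _)
  show KL.mc x z = pull (transl a).left (geomCls σ' x) * (geomCls σ' x)⁻¹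
  rw [KL.mc_eq, h0, mul_one, show pull (transl a).left (geomCls σ' x) = _ from h1]
  rfl

/-- Mumford classes are in `Pic⁰`. -/
theorem pz_mc {T : Over (Spec (CommRingCat.of k))} (x : Pic A.left) (z : T ⟶ A) : PZ A T (KL.mc x z) := by
  intro t Ω _ _ σ hσ
  let σ' : Spec (CommRingCat.of Ω) ⟶ Spec (CommRingCat.of k) := σ ≫ T.hom
  let P : Over (Spec (CommRingCat.of k)) := Over.mk σ'
  let s : P ⟶ T := Over.homMk σ rfl
  let X := DegPoly.bc σ' A
  letI : GrpObj X := Functor.grpObjObj
  haveI : IsProper X.hom := inferInstanceAs (IsProper (pullback.snd A.hom σ'))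
  haveI : GeometricallyIntegral X.hom := inferInstanceAs (GeometricallyIntegral (pullback.snd A.hom σ'))
  let a : 𝟙_ (Over (Spec (CommRingCat.of Ω))) ⟶ X := DegPoly.ptsEquiv σ' (s ≫ z)
  let w : Pic X.left := geomCls σ' x
  have hy : pull (A ◁ s).left (KL.mc x z) = pull (transl a).left w * w⁻¹ := by
    rw [KL.pull_mc]; exact mc_point σ' x (s ≫ z)
  have hσ' : (A ◁ s).left ≫ PicF.XTproj A.hom T = pullback.snd A.hom σ' ≫ σ :=
    congrArg CategoryTheory.Over.Hom.left (whiskerLeft_snd A s)
  haveI hiso : IsIso (pullback.lift (A ◁ s).left (pullback.snd A.hom σ') hσ' :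
      X.left ⟶ pullback (PicF.XTproj A.hom T) σ) := by
    have H : IsPullback (A ◁ s).left (pullback.snd A.hom σ') (PicF.XTproj A.hom T) σ := by
      refine IsPullback.of_right ?_ hσ' (IsPullback.of_hasPullback A.hom T.hom)
      rw [show (A ◁ s).left ≫ pullback.fst A.hom T.hom = pullback.fst A.hom σ' from
        congrArg CategoryTheory.Over.Hom.left (whiskerLeft_fst A s)]
      exact IsPullback.of_hasPullback A.hom σ'
    rw [show pullback.lift (A ◁ s).left (pullback.snd A.hom σ') hσ' = H.isoPullback.hom from rfl]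
    infer_instance
  let e' : X.left ⟶ pullback (PicF.XTproj A.hom T) σ := pullback.lift (A ◁ s).left (pullback.snd A.hom σ') hσ'
  have h1 : inv e' ≫ X.hom = pullback.snd (PicF.XTproj A.hom T) σ := by
    rw [IsIso.inv_comp_eq]; exact (pullback.lift_snd _ _ _).symm
  refine isAlgEquivZero_of_isIso (pullback.snd (PicF.XTproj A.hom T) σ) X.hom (inv e') h1
    (hasCls_rep (pull (transl a).left w * w⁻¹)) ?_ (isAlgEquivZero_translate w a (hasCls_rep _))
  rw [← hy]
  erw [pull_comp]
  rw [show inv e' ≫ (A ◁ s).left = pullback.fst (PicF.XTproj A.hom T) σ by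
    rw [IsIso.inv_comp_eq]; exact (pullback.lift_fst _ _ _).symm]
  exact (hasCls_rep (KL.mc x z)).pullback _

section Unit

variable [GrpObj At] [LocallyOfFiniteType At.hom]

omit [GrpObj A] [IsProper A.hom] [GeometricallyIntegral A.hom] in
/-- The identity point is rational. -/
theorem fromSpecResidueField_unit :
    At.left.fromSpecResidueField (η[At].left (IsLocalRing.closedPoint k)) ≫ At.hom ≫ η[At].left =
      At.left.fromSpecResidueField (η[At].left (IsLocalRing.closedPoint k)) := by
  obtain ⟨⟨y', ψ⟩, hψ⟩ := (Scheme.SpecToEquivOfField k At.left).symm.surjective η[At].left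
  have hψ' : Spec.map ψ ≫ At.left.fromSpecResidueField y' = η[At].left := hψ
  obtain rfl : y' = η[At].left (IsLocalRing.closedPoint k) := by
    rw [← hψ']; exact (Scheme.fromSpecResidueField_apply _ _).symm
  generalize η[At].left (IsLocalRing.closedPoint k) = y' at ψ hψ' ⊢
  obtain ⟨χ, hχ⟩ := Spec.map_surjective (At.left.fromSpecResidueField y' ≫ At.hom)
  have hid : χ ≫ ψ = 𝟙 _ := Spec.map_injective (by
    rw [Spec.map_comp, hχ, ← Category.assoc, hψ', Spec.map_id]
    exact Over.w η[At])
  haveI : IsIso ψ := (ConcreteCategory.isIso_iff_bijective ψ).2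
    ⟨ψ.hom.injective, fun t => ⟨χ t, congrArg (fun F => F.hom t) hid⟩⟩
  rw [← cancel_epi (Spec.map ψ), ← Category.assoc, hψ', ← Category.assoc η[At].left]
  exact (congrArg (· ≫ η[At].left) (Over.w η[At])).trans (Category.id_comp _)

omit [GrpObj A] [IsProper A.hom] [GeometricallyIntegral A.hom] in
/-- A field valued point at the identity is the identity. -/
theorem eq_one_of_apply_eq {Ω : Type u} [Field Ω] (σ : Spec (CommRingCat.of Ω) ⟶ Spec (CommRingCat.of k))
    (u : Over.mk σ ⟶ At)
    (h : u.left (IsLocalRing.closedPoint Ω) = η[At].left (IsLocalRing.closedPoint k)) : u = 1 := by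
  refine Over.OverMorphism.ext ?_
  obtain ⟨⟨y', ψ⟩, hψ⟩ := (Scheme.SpecToEquivOfField Ω At.left).symm.surjective u.left
  have hψ' : Spec.map ψ ≫ At.left.fromSpecResidueField y' = u.left := hψ
  obtain rfl : y' = η[At].left (IsLocalRing.closedPoint k) := by
    rw [← h, ← hψ']; exact (Scheme.fromSpecResidueField_apply _ _).symm
  rw [Hom.one_def, Over.comp_left, ← hψ', ← fromSpecResidueField_unit, ← Category.assoc (Spec.map ψ), hψ',
    ← Category.assoc]
  exact congrArg (· ≫ η[At].left) (Over.w u)

end Unit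

variable [GrpObj At] [Smooth A.hom]
  {φ : ∀ T : Over (Spec (CommRingCat.of k)), PicF.Cl (PicF.XT A.hom T) → (T ⟶ At)}
  (hφ : AbDual.IsDualAV Scheme.fppfPrecoverage A At φ)

include hφ

/-- **Fibres of a Poincaré bundle away from the origin have no cohomology.** -/
theorem subsingleton_fiberH {P : (A ⊗ At).left.Modules} {x : Pic (A ⊗ At).left} (hP : HasCls P x)
    (hξ : AbDual.IsPoincareCl A At φ (PicF.cl P)) (y : At.left)
    (hy : y ≠ η[At].left (IsLocalRing.closedPoint k)) (n : ℕ) :
    Subsingleton (CohIII.fiberH (snd A At).left P y n) := by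
  have hz : PZ A At x := (pz_iff hP).1 hξ.1
  have hd : dphi φ At x = 𝟙 At := (dphi_eq hP).symm.trans hξ.2.1
  have hr : pull (lift (1 : At ⟶ A) (𝟙 At)).left x = 1 := (isBirigid_of_isPoincareCl hφ hP hξ).1
  have hdef : defect x = 1 := defect_eq_one x (hasCls_rep x) hz hr
  let p := (snd A At).left
  haveI : IsProper p := inferInstanceAs (IsProper (pullback.snd A.hom At.hom))
  let κ := At.left.residueField y
  let Ω := AlgebraicClosure κ
  let b : Spec (CommRingCat.of Ω) ⟶ Spec (CommRingCat.of κ) := Spec.map (CommRingCat.ofHom (algebraMap κ Ω))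
  let σ : Spec (CommRingCat.of Ω) ⟶ At.left := b ≫ At.left.fromSpecResidueField y
  let T' : Over (Spec (CommRingCat.of k)) := Over.mk (σ ≫ At.hom)
  let s : T' ⟶ At := Over.homMk σ rfl
  let F := Over.pullback (σ ≫ At.hom)
  let X := F.obj A
  letI : GrpObj X := Functor.grpObjObj
  haveI : IsProper X.hom := inferInstanceAs (IsProper (pullback.snd A.hom (σ ≫ At.hom)))
  haveI : GeometricallyIntegral X.hom := inferInstanceAs (GeometricallyIntegral (pullback.snd A.hom (σ ≫ At.hom)))
  let z : Pic X.left := pull (A ◁ s).left x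
  have hmap : ∀ h : A ⊗ A ⟶ A, (F.map h).left = (h ▷ T').left := fun h => by
    refine pullback.hom_ext ?_ ?_
    · exact (pullback.lift_fst _ _ _).trans
        (congrArg (fun q : (A ⊗ A) ⊗ T' ⟶ A => q.left) (whiskerRight_fst h T')).symm
    · exact (pullback.lift_snd _ _ _).trans
        (congrArg (fun q : (A ⊗ A) ⊗ T' ⟶ T' => q.left) (whiskerRight_snd h T')).symm
  have key : ∀ h : A ⊗ A ⟶ A, pull ((A ⊗ A) ◁ s).left (pull (h ▷ At).left x) = pull (F.map h).left z := fun h => by
    rw [hmap h]
    show _ = pull (h ▷ T').left (pull (A ◁ s).left x)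
    rw [CubeRel26.pull_pull_over, CubeRel26.pull_pull_over, whisker_exchange]
  have hadd0 : addClass (F.map (fst A A)) (F.map (snd A A)) z = 1 := by
    have h := congrArg (pull ((A ⊗ A) ◁ s).left) hdef
    rw [map_one, defect, map_mul, map_inv, map_mul, key, key, key] at h
    rw [addClass, show F.map (fst A A) * F.map (snd A A) = F.map μ[A] by
      rw [← Functor.map_mul, Hom.mul_def, lift_fst_snd, Category.id_comp]]
    exact h
  have hadd : addClass (fst X X) (snd X X) z = 1 := by
    have h := congrArg (pull (Functor.LaxMonoidal.μ F A A).left) hadd0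
    rwa [pull_addClass, Functor.Monoidal.μ_fst, Functor.Monoidal.μ_snd, map_one] at h
  have hne : z ≠ 1 := fun h => hy (by
    have hp : dphi φ T' (pull (A ◁ s).left x) = s := (dphi_pull hφ hz s).trans (by rw [hd, Category.comp_id])
    rw [show pull (A ◁ s).left x = 1 from h, dphi_one hφ, Hom.one_def] at hp
    have h2 := congrArg (fun q : T' ⟶ At => q.left (IsLocalRing.closedPoint Ω)) hp
    refine Eq.trans ?_ (h2.symm.trans ?_)
    · exact (Scheme.fromSpecResidueField_apply y (b (IsLocalRing.closedPoint Ω))).symm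
    · exact congrArg η[At].left (Subsingleton.elim (α := PrimeSpectrum k) _ _))
  let g : X.left ⟶ p.fiber y :=
    pullback.lift (A ◁ s).left (pullback.snd A.hom (σ ≫ At.hom) ≫ b) (by
      rw [show (A ◁ s).left ≫ p = pullback.snd A.hom (σ ≫ At.hom) ≫ σ from
        congrArg CategoryTheory.Over.Hom.left (whiskerLeft_snd A s)]
      exact (Category.assoc _ _ _).symm)
  have H : IsPullback g X.hom (p.fiberToSpecResidueField y) b := by
    refine IsPullback.of_right ?_ (pullback.lift_snd _ _ _)
      (IsPullback.of_hasPullback p (At.left.fromSpecResidueField y))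
    rw [pullback.lift_fst]
    refine IsPullback.of_right ?_ (congrArg CategoryTheory.Over.Hom.left (whiskerLeft_snd A s))
      (IsPullback.of_hasPullback A.hom At.hom)
    rw [show (A ◁ s).left ≫ pullback.fst A.hom At.hom = pullback.fst A.hom (σ ≫ At.hom) from
      congrArg CategoryTheory.Over.Hom.left (whiskerLeft_fst A s)]
    exact IsPullback.of_hasPullback A.hom (σ ≫ At.hom)
  have hL : HasCls ((Scheme.Modules.pullback g).obj (CohIII.fiberMod p P y)) z := by
    have := (hP.pullback (p.fiberι y)).pullback g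
    rwa [pull_comp, show g ≫ p.fiberι y = (A ◁ s).left from pullback.lift_fst _ _ _] at this
  obtain ⟨hLi, hLc⟩ := id hL
  have hvan : Subsingleton (Coh.HH X.left ((Scheme.Modules.pullback g).obj (CohIII.fiberMod p P y)) n) := by
    refine PicZeroVanish.subsingleton_HH hLi (by rw [hLc]; exact hadd) (fun ⟨e⟩ => hne ?_) n
    exact hLc.symm.trans ((clsMod_eq_one_iff hLi).2 ⟨e⟩)
  letI : (p.fiber y).Over (Spec (CommRingCat.of κ)) := ⟨p.fiberToSpecResidueField y⟩
  letI : X.left.Over (Spec (CommRingCat.of Ω)) := ⟨X.hom⟩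
  haveI : IsProper ((p.fiber y) ↘ Spec (CommRingCat.of κ)) :=
    show IsProper (p.fiberToSpecResidueField y) from MorphismProperty.pullback_snd p _ ‹IsProper p›
  exact (Index.subsingleton_HH_pullback_iff (algebraMap κ Ω) g H (Ample.isInvertible_pullback _ hP.choose) n).1 hvan

/-- **The dual is at least as large as the variety.** -/
theorem dim_le_dual [LocallyOfFiniteType At.hom] {g : ℕ} (hg : topologicalKrullDim A.left = g) :
    (g : WithBot ℕ∞) ≤ ringKrullDim (At.left.presheaf.stalk (η[At].left (IsLocalRing.closedPoint k))) := by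
  obtain ⟨L, hL⟩ := exists_isAmple A
  let x := clsMod hL.1
  let l : A ⟶ At := dphi φ A (KL.mc x (𝟙 A))
  have hker : ∀ {P : Over (Spec (CommRingCat.of k))} (w : P ⟶ A), w ≫ l = 1 → KL.mc x w = 1 := fun {P} w hw => by
    refine eq_one_of_dphi hφ (pz_mc x w) (KL.pull_sec_mc x w) ?_
    have := dphi_pull hφ (pz_mc x (𝟙 A)) w
    rw [KL.pull_mc, Category.comp_id] at this
    exact this.trans hw
  let σ := Spec.map (CommRingCat.ofHom (algebraMap k (AlgebraicClosure k)))
  let X := Index.geomFib A
  let π := Index.geomProj A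
  haveI : IsAffineHom π := MorphismProperty.pullback_fst A.hom σ inferInstance
  haveI : Surjective π := MorphismProperty.pullback_fst A.hom σ
    ⟨fun q => ⟨IsLocalRing.closedPoint _, Subsingleton.elim (α := PrimeSpectrum k) _ _⟩⟩
  have hnd := Index.nondeg_of_isAmple ((hasCls_clsMod hL.1).pullback π) (isAmple_pullback_of_isAffineHom π hL)
  let e₀ := η[At].left (IsLocalRing.closedPoint k)
  let S : Set X.left := π ⁻¹' (l.left ⁻¹' {e₀})
  haveI : IsClosedImmersion η[At].left := isClosedImmersion_of_comp_eq_id At.hom η[At].left (Over.w η[At])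
  have he₀ : IsClosed ({e₀} : Set At.left) := by
    rw [show ({e₀} : Set At.left) = η[At].left '' {IsLocalRing.closedPoint k} from Set.image_singleton.symm]
    exact η[At].left.isClosedEmbedding.isClosedMap _ (isClosed_singleton (x := IsLocalRing.closedPoint k))
  have hSc : IsClosed S := (he₀.preimage l.left.continuous).preimage π.continuous
  haveI : JacobsonSpace X.left := LocallyOfFiniteType.jacobsonSpace X.hom
  have hSfin : S.Finite := by
    have hsub : (S ∩ closedPoints X.left) ⊆ (fun a : 𝟙_ (Over (Spec (CommRingCat.of (AlgebraicClosure k)))) ⟶ X =>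
        a.left (IsLocalRing.closedPoint _)) '' {a | pull (transl a).left (pull π x) = pull π x} := by
      rintro q ⟨hqS, hq⟩
      obtain ⟨a, ha, -⟩ := exists_point_factor q hq
      refine ⟨a, ?_, ha⟩
      let P : Over (Spec (CommRingCat.of k)) := Over.mk σ
      let w : P ⟶ A := Over.homMk (a.left ≫ π) (by
        show (a.left ≫ π) ≫ A.hom = σ
        rw [Category.assoc, show π ≫ A.hom = X.hom ≫ σ from pullback.condition, ← Category.assoc]
        exact (congrArg (· ≫ σ) (Over.w a)).trans (Category.id_comp σ))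
      have hw : w ≫ l = 1 := by
        refine eq_one_of_apply_eq (Ω := AlgebraicClosure k) σ (w ≫ l) ?_
        show l.left (π (a.left (IsLocalRing.closedPoint _))) = _
        rw [ha]
        exact hqS
      have h2 := (mc_point σ x w).symm.trans (hker w hw)
      have hwa : DegPoly.ptsEquiv σ w = a := (DegPoly.ptsEquiv σ (A := A)).apply_symm_apply a
      unfold diffCls at h2
      rw [hwa] at h2
      exact mul_inv_eq_one.1 h2
    have hfin := (hnd.image _).subset hsub
    have : S = S ∩ closedPoints X.left := by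
      refine Set.Subset.antisymm (fun q hq => ⟨hq, ?_⟩) Set.inter_subset_left
      have hcl : IsClosed (S ∩ closedPoints X.left) := by
        rw [← Set.biUnion_of_singleton (S ∩ closedPoints X.left)]
        exact hfin.isClosed_biUnion fun y hy => hy.2
      have := closure_inter_closedPoints hSc
      rw [hcl.closure_eq] at this
      exact (this.ge hq).2
    rw [this]; exact hfin
  let a₀ := η[A].left (IsLocalRing.closedPoint k)
  have ha₀ : IsClosed ({a₀} : Set A.left) := by
    haveI : IsClosedImmersion η[A].left := isClosedImmersion_of_comp_eq_id A.hom η[A].left (Over.w η[A])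
    rw [show ({a₀} : Set A.left) = η[A].left '' {IsLocalRing.closedPoint k} from Set.image_singleton.symm]
    exact η[A].left.isClosedEmbedding.isClosedMap _ (isClosed_singleton (x := IsLocalRing.closedPoint k))
  have hla₀ : l.left a₀ = e₀ := by
    have h : η[A] ≫ l = η[At] := by
      have h2 := dphi_pull hφ (pz_mc x (𝟙 A)) η[A]
      have hA : (η[A] : 𝟙_ _ ⟶ A) = 1 := by rw [Hom.one_def, toUnit_unit, Category.id_comp]
      have hAt : (η[At] : 𝟙_ _ ⟶ At) = 1 := by rw [Hom.one_def, toUnit_unit, Category.id_comp]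
      rw [KL.pull_mc, Category.comp_id, hA, KL.mc_one, dphi_one hφ] at h2
      rw [hA, hAt]
      exact h2.symm
    exact congrArg (fun q : 𝟙_ (Over (Spec (CommRingCat.of k))) ⟶ At => q.left (IsLocalRing.closedPoint k)) h
  haveI : IsLocallyNoetherian A.left := LocallyOfFiniteType.isLocallyNoetherian A.hom
  haveI : IsLocallyNoetherian At.left := LocallyOfFiniteType.isLocallyNoetherian At.hom
  haveI : LocallyOfFiniteType l.left := by
    haveI : LocallyOfFiniteType (l.left ≫ At.hom) := by rw [Over.w]; infer_instance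
    exact locallyOfFiniteType_of_comp l.left At.hom
  haveI : Finite ↥(l.left.fiber (l.left a₀)) := by
    have hfin : (l.left ⁻¹' {l.left a₀}).Finite := by
      rw [hla₀]
      refine (hSfin.image π).subset fun q hq => ?_
      obtain ⟨q', rfl⟩ := π.surjective q
      exact ⟨q', hq, rfl⟩
    haveI := hfin.to_subtype
    exact Finite.of_equiv _ (l.left.fiberHomeo (l.left a₀)).symm.toEquiv
  haveI : LocallyOfFiniteType (l.left.fiberToSpecResidueField (l.left a₀)) :=
    MorphismProperty.pullback_snd _ _ inferInstance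
  haveI : JacobsonSpace ↥(l.left.fiber (l.left a₀)) :=
    LocallyOfFiniteType.jacobsonSpace (l.left.fiberToSpecResidueField (l.left a₀))
  have h0 : topologicalKrullDim ↥(l.left.fiber (l.left a₀)) ≤ 0 :=
    topologicalKrullDim_zero_of_discreteTopology _
  have h1 := Equidim6.ringKrullDim_stalk_le_add l.left a₀
  have h2 := (AlgSp.ringKrullDim_stalk_le_localDim (l.left.asFiber a₀)).trans
    ((AlgSp.localDim_le_topologicalKrullDim (l.left.asFiber a₀)).trans h0)
  rw [GrpSchField.ringKrullDim_stalk_eq A ha₀, hg] at h1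
  rw [show ringKrullDim (At.left.presheaf.stalk (l.left a₀)) = ringKrullDim (At.left.presheaf.stalk e₀) from
    congrArg (fun q => ringKrullDim (At.left.presheaf.stalk q)) hla₀] at h1
  exact h1.trans ((add_le_add le_rfl h2).trans (add_zero _).le)

end GrothLib.Dual
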