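import Groth.Agent.Lib.Poincare.PicDescent
import Groth.Agent.Lib.Poincare.DualFib

/-!
# A Poincaré class from a finite flat Mumford map

If the map `ψ : A ⟶ At` attached to the Mumford class of `x` is finite, flat and surjective, the Mumford
class descends along `A × A ⟶ A × At` to a Poincaré class.
-/

set_option autoImplicit false
set_option linter.all false
set_option backward.isDefEq.respectTransparency false
set_option maxHeartbeats 1000000

universe u

open CategoryTheory CategoryTheory.Limits AlgebraicGeometry Opposite TopologicalSpace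
open MonoidalCategory CartesianMonoidalCategory
open GrothLib.Ample GrothLib.Cube
open scoped MonObj

noncomputable section

namespace GrothLib.MumfordPoincare

/-- Geometric points lift along surjective morphisms locally of finite type. -/
theorem exists_lift_geomPoint {Y Z : Scheme.{u}} (f : Y ⟶ Z) [Surjective f] [LocallyOfFiniteType f]
    {Ω : Type u} [Field Ω] [IsAlgClosed Ω] (σ : Spec (CommRingCat.of Ω) ⟶ Z) :
    ∃ σ' : Spec (CommRingCat.of Ω) ⟶ Y, σ' ≫ f = σ := by
  let P := Over.mk (pullback.snd f σ)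
  haveI : LocallyOfFiniteType P.hom := MorphismProperty.pullback_snd f σ inferInstance
  haveI : JacobsonSpace P.left := LocallyOfFiniteType.jacobsonSpace P.hom
  obtain ⟨z, -, hz⟩ : ∃ z : P.left, z ∈ Set.univ ∧ z ∈ closedPoints P.left := by
    have hne : (Set.univ : Set P.left).Nonempty := by
      haveI : Surjective (pullback.snd f σ) := MorphismProperty.pullback_snd f σ inferInstance
      obtain ⟨q, -⟩ := (pullback.snd f σ).surjective (IsLocalRing.closedPoint Ω)
      exact ⟨q, trivial⟩
    exact nonempty_inter_closedPoints hne isClosed_univ.isLocallyClosed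
  obtain ⟨t, -, -⟩ := exists_point_factor (T := P) z hz
  refine ⟨t.left ≫ pullback.fst f σ, ?_⟩
  rw [Category.assoc, pullback.condition, ← Category.assoc]
  exact (congrArg (· ≫ σ) (Over.w t)).trans (Category.id_comp σ)

variable {k : Type u} [Field k] {A At : Over (Spec (CommRingCat.of k))} [GrpObj A] [GrpObj At]
  [IsProper A.hom] [GeometricallyIntegral A.hom] [Smooth A.hom] [IsProper At.hom]
  {φ : ∀ T : Over (Spec (CommRingCat.of k)), PicF.Cl (PicF.XT A.hom T) → (T ⟶ At)}
  (hφ : AbDual.IsDualAV Scheme.fppfPrecoverage A At φ)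

/-- The Mumford class of `x` on `A × A`. -/
def lam (x : Pic A.left) : Pic (A ⊗ A).left := KL.mc x (𝟙 A)

/-- The attached map to the dual. -/
def psi (φ : ∀ T : Over (Spec (CommRingCat.of k)), PicF.Cl (PicF.XT A.hom T) → (T ⟶ At)) (x : Pic A.left) :
    A ⟶ At :=
  Dual.dphi φ A (lam x)

theorem pz_lam (x : Pic A.left) : Dual.PZ A A (lam x) := Dual.pz_mc x (𝟙 A)

include hφ in
/-- Points with the same image give the same pullback of the Mumford class. -/
theorem pull_lam_congr (x : Pic A.left) {T : Over (Spec (CommRingCat.of k))} (a b : T ⟶ A)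
    (h : a ≫ psi φ x = b ≫ psi φ x) : pull (A ◁ a).left (lam x) = pull (A ◁ b).left (lam x) := by
  refine Dual.eq_of_dphi hφ ((pz_lam x).pullT a) ((pz_lam x).pullT b) ?_ ?_
  · rw [lam, KL.pull_mc, KL.pull_mc, KL.pull_sec_mc, KL.pull_sec_mc]
  · exact (Dual.dphi_pull hφ (pz_lam x) a).trans (h.trans (Dual.dphi_pull hφ (pz_lam x) b).symm)

include hφ in
/-- **The Mumford class descends to a Poincaré class.** -/
theorem exists_poincare (x : Pic A.left) [IsFinite (psi φ x).left] [Flat (psi φ x).left]
    [Surjective (psi φ x).left] :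
    ∃ p : Pic (A ⊗ At).left, AbDual.IsPoincareCl A At φ (PicF.cl (Dual.rep p)) ∧
      pull (A ◁ psi φ x).left p = lam x := by
  let ψ := psi φ x
  haveI : IsLocallyNoetherian A.left := LocallyOfFiniteType.isLocallyNoetherian A.hom
  haveI : IsLocallyNoetherian At.left := LocallyOfFiniteType.isLocallyNoetherian At.hom
  haveI : LocallyOfFinitePresentation ψ.left := inferInstance
  haveI : IsProper (snd A At).left := inferInstanceAs (IsProper (pullback.snd A.hom At.hom))
  haveI : Flat (snd A At).left := inferInstanceAs (Flat (pullback.snd A.hom At.hom))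
  haveI : GeometricallyIntegral (snd A At).left :=
    inferInstanceAs (GeometricallyIntegral (pullback.snd A.hom At.hom))
  haveI : LocallyOfFinitePresentation (snd A At).left := inferInstance
  let σ : At ⟶ A ⊗ At := lift (1 : At ⟶ A) (𝟙 At)
  let σA : A ⟶ A ⊗ A := lift (1 : A ⟶ A) (𝟙 A)
  let f := (snd A At).left
  have hm : σ.left ≫ f = 𝟙 At.left := congrArg CategoryTheory.Over.Hom.left (lift_snd (1 : At ⟶ A) (𝟙 At))
  have H : IsPullback (A ◁ ψ).left (snd A A).left f ψ.left := by
    have := PicSep26.isPullback_XTmap A.hom ψ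
    rwa [Dual.XTmap_eq] at this
  have hf : ∀ {T : Scheme.{u}} (g : T ⟶ At.left),
      Function.Surjective (pullback.snd f g).appTop := fun g =>
    (Seesaw26.bijective_app_baseChange f (Seesaw26.h0_of_geometricallyIntegral f) g ⊤).2
  let e := H.isoPullback
  have he1 : e.inv ≫ (A ◁ ψ).left = pullback.fst f ψ.left := H.isoPullback_inv_fst
  have he2 : e.inv ≫ (snd A A).left = pullback.snd f ψ.left := H.isoPullback_inv_snd
  have hσA : PicDescent.sec f σ.left hm ψ.left ≫ e.inv = σA.left := by
    refine H.hom_ext ?_ ?_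
    · rw [Category.assoc, he1]
      refine (pullback.lift_fst _ _ _).trans ?_
      show (ψ ≫ σ).left = (σA ≫ A ◁ ψ).left
      congr 1
      apply CartesianMonoidalCategory.hom_ext <;> simp [σ, σA, MonObj.comp_one]
    · rw [Category.assoc, he2]
      exact (pullback.lift_snd _ _ _).trans
        (congrArg CategoryTheory.Over.Hom.left (lift_snd (1 : A ⟶ A) (𝟙 A))).symm
  have hx : pull (PicDescent.sec f σ.left hm ψ.left) (pull e.inv (lam x)) = 1 := by
    rw [pull_comp, hσA]
    exact KL.pull_sec_mc x (𝟙 A)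
  let r := pullback.fst ψ.left ψ.left ≫ ψ.left
  let T : Over (Spec (CommRingCat.of k)) := Over.mk (r ≫ At.hom)
  let a : T ⟶ A := Over.homMk (pullback.fst ψ.left ψ.left) (by
    show _ = (_ ≫ _) ≫ _
    rw [Category.assoc, Over.w ψ])
  let b : T ⟶ A := Over.homMk (pullback.snd ψ.left ψ.left) (by
    show _ = (_ ≫ _) ≫ _
    rw [pullback.condition, Category.assoc, Over.w ψ])
  have hab : a ≫ ψ = b ≫ ψ := Over.OverMorphism.ext pullback.condition
  let jT : pullback f r ⟶ (A ⊗ T).left :=
    pullback.lift (f := A.hom) (g := T.hom) (pullback.fst f r ≫ (fst A At).left) (pullback.snd f r) (by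
      rw [Category.assoc, Over.w (fst A At), ← Over.w (snd A At), ← Category.assoc, pullback.condition]
      exact Category.assoc _ _ _)
  have hjT1 : jT ≫ (fst A T).left = pullback.fst f r ≫ (fst A At).left := pullback.lift_fst _ _ _
  have hjT2 : jT ≫ (snd A T).left = pullback.snd f r := pullback.lift_snd _ _ _
  have key : ∀ (c : T ⟶ A) (q : pullback f r ⟶ pullback f ψ.left),
      q ≫ pullback.fst f ψ.left = pullback.fst f r → q ≫ pullback.snd f ψ.left = pullback.snd f r ≫ c.left →
      q ≫ e.inv = jT ≫ (A ◁ c).left := by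
    intro c q hq1 hq2
    refine H.hom_ext ?_ ?_
    · rw [Category.assoc, he1, hq1, Category.assoc]
      show pullback.fst f r = jT ≫ (A ◁ c ≫ A ◁ ψ).left
      refine pullback.hom_ext (f := A.hom) (g := At.hom) ?_ ?_
      · rw [Category.assoc]
        show pullback.fst f r ≫ (fst A At).left = jT ≫ ((A ◁ c ≫ A ◁ ψ) ≫ fst A At).left
        rw [Category.assoc, whiskerLeft_fst, whiskerLeft_fst, hjT1]
      · rw [Category.assoc]
        show pullback.fst f r ≫ (snd A At).left = jT ≫ ((A ◁ c ≫ A ◁ ψ) ≫ snd A At).left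
        rw [Category.assoc, whiskerLeft_snd, ← Category.assoc (A ◁ c), whiskerLeft_snd, Over.comp_left,
          Over.comp_left, ← Category.assoc, ← Category.assoc, hjT2, ← hq1, Category.assoc q]
        exact (congrArg (q ≫ ·) pullback.condition).trans
          ((Category.assoc _ _ _).symm.trans (congrArg (· ≫ ψ.left) hq2))
    · rw [Category.assoc, he2, hq2, Category.assoc]
      show _ = jT ≫ (A ◁ c ≫ snd A A).left
      rw [whiskerLeft_snd, Over.comp_left, ← Category.assoc, hjT2]
  have heq : pull (PicDescent.q₁ f ψ.left) (pull e.inv (lam x)) = pull (PicDescent.q₂ f ψ.left) (pull e.inv (lam x)) := by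
    rw [pull_comp, pull_comp, key a _ (PicDescent.q₁_fst _ _) (pullback.lift_snd _ _ _),
      key b _ (PicDescent.q₂_fst _ _) (pullback.lift_snd _ _ _), ← pull_comp, ← pull_comp,
      pull_lam_congr hφ x a b hab]
  obtain ⟨n, hn⟩ := PicDescent.exists_descend f σ.left hm ψ.left hf _ hx heq
  have hn' : pull (A ◁ ψ).left n = lam x := by
    have h := congrArg (pull e.hom) hn
    rwa [pull_comp, pull_comp, H.isoPullback_hom_fst, Iso.hom_inv_id, pull_id] at h
  -- normalise along the unit section
  let m := pull σ.left n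
  have hm1 : pull ψ.left m = 1 := by
    rw [show pull ψ.left m = pull (ψ ≫ σ).left n from pull_comp _ _ _,
      show ψ ≫ σ = σA ≫ A ◁ ψ by apply CartesianMonoidalCategory.hom_ext <;> simp [σ, σA, MonObj.comp_one],
      ← pull_pull_over, hn']
    exact KL.pull_sec_mc x (𝟙 A)
  let p := n * (pull (snd A At).left m)⁻¹
  have hpσ : pull σ.left p = 1 := by
    rw [map_mul, map_inv, pull_pull_over, lift_snd, pull_over_id, mul_inv_cancel]
  have hpψ : pull (A ◁ ψ).left p = lam x := by
    rw [map_mul, map_inv, hn', pull_pull_over, whiskerLeft_snd, ← pull_pull_over, hm1, map_one, inv_one,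
      _root_.mul_one]
  have hz : Dual.PZ A At p := by
    intro t Ω _ _ s hs
    obtain ⟨s', hs'⟩ := exists_lift_geomPoint ψ.left s
    have hsi : Set.range s'.base = {s' (IsLocalRing.closedPoint Ω)} := by
      ext w
      exact ⟨fun ⟨q, hq⟩ => hq.symm.trans (congrArg s' (Subsingleton.elim (α := PrimeSpectrum Ω) q _)),
        fun hw => ⟨_, hw.symm⟩⟩
    let l : pullback (PicF.XTproj A.hom At) s ⟶ (A ⊗ A).left :=
      H.lift (pullback.fst (PicF.XTproj A.hom At) s) (pullback.snd (PicF.XTproj A.hom At) s ≫ s')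
        (by rw [Category.assoc, hs']; exact pullback.condition)
    let e' : pullback (PicF.XTproj A.hom At) s ⟶ pullback (PicF.XTproj A.hom A) s' :=
      pullback.lift l (pullback.snd (PicF.XTproj A.hom At) s) (H.lift_snd _ _ _)
    refine Dual.isAlgEquivZero_of_isIso _ (pullback.snd _ s') e' (pullback.lift_snd _ _ _)
      ((Dual.hasCls_rep (lam x)).pullback _) ?_ ((pz_lam x) _ Ω s' hsi)
    rw [← hpψ, pull_comp, pull_comp, show (e' ≫ pullback.fst (PicF.XTproj A.hom A) s') ≫ (A ◁ ψ).left =
      pullback.fst (PicF.XTproj A.hom At) s from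
        (congrArg (· ≫ (A ◁ ψ).left) (pullback.lift_fst _ _ _)).trans (H.lift_fst _ _ _)]
    exact (Dual.hasCls_rep p).pullback _
  have hd : Dual.dphi φ At p = 𝟙 At := by
    have h : ψ ≫ Dual.dphi φ At p = ψ ≫ 𝟙 At := by
      rw [Category.comp_id, ← Dual.dphi_pull hφ hz ψ, hpψ]
      rfl
    haveI : Epi ψ.left := Flat.epi_of_flat_of_surjective ψ.left
    exact Over.OverMorphism.ext ((cancel_epi ψ.left).1 (congrArg CategoryTheory.Over.Hom.left h))
  refine ⟨p, ⟨(Dual.pz_iff (Dual.hasCls_rep p)).2 hz, hd, ?_⟩, hpψ⟩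
  rw [Dual.secT_eq]
  have h := (Dual.hasCls_rep p).pullback σ.left
  rw [hpσ] at h
  exact Dual.cl_eq h (hasCls_structureModule _)

end GrothLib.MumfordPoincare
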