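import Groth.Agent.Lib.Poincare.PosCone
import Groth.Agent.Lib.Poincare.PicZeroSurjCor
import Groth.Agent.Lib.Poincare.MumfordPoincare
import Groth.Agent.Lib.AlgSp.DimZero

/-!
# Automorphisms preserving a polarization
-/

set_option autoImplicit false
set_option linter.all false
set_option backward.isDefEq.respectTransparency false
set_option maxHeartbeats 1000000

universe u

open CategoryTheory CategoryTheory.Limits AlgebraicGeometry Opposite TopologicalSpace
open MonoidalCategory CartesianMonoidalCategory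
open GrothLib.Ample GrothLib.Cube
open scoped MonObj

noncomputable section

namespace GrothLib.AutFinite

open GrothLib.PosCone
open MumfordPoincare (lam)
open TraceForm (tr)
open MumfordEuler (E E_eq)

variable {K : Type u} [Field K] [IsAlgClosed K] {A : Over (Spec (CommRingCat.of K))} [GrpObj A] [IsCommMonObj A]
  [IsProper A.hom] [GeometricallyIntegral A.hom]

theorem exists_pow_preimage {n : ℕ} (hn : n ≠ 0) (a : 𝟙_ (Over (Spec (CommRingCat.of K))) ⟶ A) :
    ∃ b : 𝟙_ (Over (Spec (CommRingCat.of K))) ⟶ A, b ^ n = a := by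
  haveI : IsIntegral A.left := GeometricallyIntegral.isIntegral_of_subsingleton A.hom
  haveI : IsFinite ((𝟙 A : A ⟶ A) ^ n).left := Cube.isFinite_pow A hn
  haveI : IsMonHom ((𝟙 A : A ⟶ A) ^ n) := GrpDeligne.isMonHom_pow _ n
  obtain ⟨g, hg⟩ := AbTors.exists_dim A
  haveI := Bidual.surjective_of_finite_of_dim_eq ((𝟙 A : A ⟶ A) ^ n) hg hg
  obtain ⟨σ', hσ'⟩ := MumfordPoincare.exists_lift_geomPoint ((𝟙 A : A ⟶ A) ^ n).left a.left
  refine ⟨Over.homMk σ' ?_, ?_⟩
  · rw [← Over.w ((𝟙 A : A ⟶ A) ^ n), ← Category.assoc, hσ']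
    exact Over.w a
  · rw [← Category.comp_id (Over.homMk σ' _ : 𝟙_ _ ⟶ A), ← MonObj.comp_pow]
    exact Over.OverMorphism.ext hσ'

/-- Mumford classes of morphisms have no torsion. -/
theorem mc_eq_one_of_pow {w : Pic A.left} {n : ℕ} (hn : n ≠ 0) (h : KL.mc w (𝟙 A) ^ n = 1) :
    ∀ a : 𝟙_ (Over (Spec (CommRingCat.of K))) ⟶ A, pull (transl a).left w = w := by
  intro a
  obtain ⟨b, rfl⟩ := exists_pow_preimage hn a
  have h1 := TraceForm.points_of_mc (1 : Pic A.left) w ((𝟙 A : A ⟶ A) ^ n)
    (by rw [mc_pow, h, KL.mc, KL.addClass_class_one]) b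
  rw [map_one, _root_.one_mul, _root_.one_mul, MonObj.comp_pow, Category.comp_id] at h1
  exact h1.symm

/-- The endomorphisms with an adjoint. -/
def adjDom (z : Pic A.left) : AddSubgroup (EndAV.End A) where
  carrier := {u | ∃ ρ : EndAV.End A, KL.mc z ρ.toHom = addClass (snd A A) (fst A A ≫ u.toHom) z}
  zero_mem' := ⟨0, by
    rw [EndAV.End.toHom_zero, KL.mc_one, MonObj.comp_one, KL.addClass_one_right]⟩
  add_mem' := by
    rintro u v ⟨ρ, hρ⟩ ⟨ρ', hρ'⟩
    exact ⟨ρ + ρ', by
      rw [EndAV.End.toHom_add, EndAV.End.toHom_add, KL.mc_mul, hρ, hρ', MonObj.comp_mul, KL.addClass_mul_right]⟩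
  neg_mem' := by
    rintro u ⟨ρ, hρ⟩
    exact ⟨-ρ, by
      rw [EndAV.End.toHom_neg, EndAV.End.toHom_neg, KL.mc_inv, hρ, GrpObj.comp_inv, KL.addClass_inv_right]⟩

/-- The adjoint. -/
def dag {z : Pic A.left} (u : adjDom z) : EndAV.End A := u.2.choose

theorem mc_dag {z : Pic A.left} (u : adjDom z) :
    KL.mc z (dag u).toHom = addClass (snd A A) (fst A A ≫ (u : EndAV.End A).toHom) z := u.2.choose_spec

variable {z : Pic A.left} {N : A.left.Modules} (hN : HasCls N z) (hamp : CohB1.IsAmple N)

include hN hamp in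
theorem dag_unique {u : adjDom z} {ρ : EndAV.End A}
    (h : KL.mc z ρ.toHom = addClass (snd A A) (fst A A ≫ (u : EndAV.End A).toHom) z) : dag u = ρ := by
  rw [← sub_eq_zero]
  refine EndAV.End.ext (eq_one_of_mc (Index.nondeg_of_isAmple hN hamp) _ ?_)
  rw [sub_eq_add_neg, EndAV.End.toHom_add, EndAV.End.toHom_neg, KL.mc_mul, KL.mc_inv, mc_dag, h, mul_inv_cancel]

include hN hamp in
theorem dag_add (u v : adjDom z) : dag (u + v) = dag u + dag v := by
  refine dag_unique hN hamp ?_
  rw [EndAV.End.toHom_add, KL.mc_mul, mc_dag, mc_dag, AddSubgroup.coe_add, EndAV.End.toHom_add, MonObj.comp_mul,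
    KL.addClass_mul_right]

include hN hamp in
/-- The form `tr(u'u)` is positive definite. -/
theorem q_pos (u : adjDom z) (hu : u ≠ 0) : 0 < tr (dag u * (u : EndAV.End A)) := by
  have hu' : (u : EndAV.End A) ≠ 0 := fun h => hu (Subtype.ext h)
  have hρ := points_of_adjoint z z (dag u).toHom (u : EndAV.End A).toHom (by rw [mc_dag, pull_lam])
  obtain ⟨m, M, y, s, hm, hM, hs, hs', e⟩ :=
    TraceAdj.exists_eff hamp (u : EndAV.End A) (dag u) le_rfl hN (fun a => by rw [pow_one]; exact hρ a) hu'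
  have heff := eff_of_section hM s hs e
  refine heff.tr_pos hN hamp hm fun h0 => ?_
  rw [h0] at heff
  obtain ⟨P, hP, -⟩ := TraceForm.exists_spec (AbTors.exists_dim A).choose_spec (dag u * (u : EndAV.End A))
  have hpos := TracePos.trace_pos (AbTors.exists_dim A).choose_spec (hN.tensorPow m)
    ((isAmple_tensorPow_iff hN.choose hm).1 hamp) hM s hs hs' (dag u * (u : EndAV.End A)) e hP
  haveI : IsIntegral A.left := GeometricallyIntegral.isIntegral_of_subsingleton A.hom
  letI : A.left.Over (Spec (CommRingCat.of K)) := ⟨A.hom⟩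
  haveI : IsProper (A.left ↘ Spec (CommRingCat.of K)) := ‹IsProper A.hom›
  obtain ⟨-, -, e₀, he₀, -⟩ := TracePos.dimLT_cokernel K (AbTors.exists_dim A).choose_spec hM.choose s hs hs'
  rw [TraceForm.coeff_eq_tr (AbTors.exists_dim A).choose_spec (by omega) hP, h0, TraceForm.tr_zero] at hpos
  simp at hpos

include hN hamp in
/-- Bounded elements are finite in number. -/
theorem finite_bounded (c : ℤ) : {u : adjDom z | tr (dag u * (u : EndAV.End A)) = c}.Finite := by
  haveI : Module.Finite ℤ (EndAV.End A) := HomFG.finite_hom (A := A) (B := A)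
  haveI : IsNoetherian ℤ (EndAV.End A) := isNoetherian_of_isNoetherianRing_of_finite ℤ (EndAV.End A)
  obtain ⟨G, hG⟩ : (AddSubgroup.toIntSubmodule (adjDom z)).FG := IsNoetherian.noetherian _
  let S : adjDom z → adjDom z → ℤ := fun u v =>
    tr (dag u * (v : EndAV.End A)) + tr (dag v * (u : EndAV.End A))
  have hSl : ∀ u u' v, S (u + u') v = S u v + S u' v := fun u u' v => by
    simp only [S, dag_add hN hamp, AddSubgroup.coe_add, add_mul, mul_add, TraceForm.tr_add]
    ring
  have hSc : ∀ u v, S u v = S v u := fun u v => by simp only [S]; ring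
  let Φ : adjDom z → (adjDom z →+ ℤ) := fun u => AddMonoidHom.mk' (fun v => S u v) fun v v' => by
    rw [hSc, hSl, hSc v, hSc v']
  have hpos : ∀ u, u ≠ 0 → 0 < S u u := fun u hu => by
    have := q_pos hN hamp u hu
    simp only [S]; omega
  have hnn : ∀ u, 0 ≤ S u u := fun u => by
    by_cases hu : u = 0
    · subst hu; exact (map_zero (Φ 0)).ge
    · exact (hpos u hu).le
  have hsm : ∀ (a : ℤ) u v, S (a • u) v = a * S u v := fun a u v => by
    rw [hSc, show S v (a • u) = Φ v (a • u) from rfl, map_zsmul, smul_eq_mul, hSc u v]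
    rfl
  have hCS : ∀ u v, S u v ^ 2 ≤ S u u * S v v := fun u v => by
    by_cases hv : v = 0
    · subst hv
      rw [show S u 0 = 0 from map_zero (Φ u), show S (0 : adjDom z) 0 = 0 from map_zero (Φ 0)]
      simp
    have h := hnn (S v v • u + (-S u v) • v)
    rw [hSl, hSc (S v v • u), hSc ((-S u v) • v), hSl, hSl, hsm, hsm, hsm, hsm, hSc u (S v v • u),
      hSc v (S v v • u), hSc u ((-S u v) • v), hSc v ((-S u v) • v), hsm, hsm, hsm, hsm, hSc v u] at h
    nlinarith [hpos v hv]
  classical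
  let G' : Finset (adjDom z) := G.subtype (· ∈ adjDom z)
  let F : adjDom z → (G' → ℤ) := fun u g => S u g.1
  refine Set.Finite.of_finite_image (f := F) ?_ ?_
  · refine Set.Finite.subset (Set.Finite.pi' fun g : G' => Set.finite_Icc (-(2 * |c| * S g.1 g.1)) (2 * |c| * S g.1 g.1)) ?_
    rintro _ ⟨u, hu, rfl⟩ g
    have hu2 : S u u = 2 * c := by simp only [S]; rw [hu]; ring
    have hc : S u u * S g.1 g.1 ≤ 2 * |c| * S g.1 g.1 :=
      mul_le_mul_of_nonneg_right (by rw [hu2]; linarith [le_abs_self c]) (hnn g.1)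
    have h1 := hCS u g.1
    have h2 : |S u g.1| ≤ S u g.1 ^ 2 := by
      rw [← sq_abs]; exact Int.le_self_sq _
    rw [Set.mem_Icc, ← abs_le]
    exact (h2.trans h1).trans hc
  · intro u _ v _ huv
    by_contra hne
    have hne' : u - v ≠ 0 := sub_ne_zero.2 hne
    refine (hpos _ hne').ne' ?_
    have hgen : ∀ g ∈ G', Φ (u - v) g = 0 := fun g hg => by
      have h1 : S u g = S v g := congrFun huv ⟨g, hg⟩
      show S (u - v) g = 0
      have h2 := hSl (u - v) v g
      rw [sub_add_cancel] at h2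
      omega
    have hall : ∀ w : EndAV.End A, w ∈ Submodule.span ℤ (G : Set (EndAV.End A)) →
        ∀ hw : w ∈ adjDom z, Φ (u - v) ⟨w, hw⟩ = 0 := fun w hw => by
      induction hw using Submodule.span_induction with
      | mem x hx => exact fun h => hgen ⟨x, h⟩ (Finset.mem_subtype.2 hx)
      | zero => exact fun h => map_zero (Φ (u - v))
      | add x y hx hy ihx ihy =>
        intro h
        have hxm : x ∈ adjDom z := by rw [hG] at hx; exact hx
        have hym : y ∈ adjDom z := by rw [hG] at hy; exact hy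
        rw [show (⟨x + y, h⟩ : adjDom z) = ⟨x, hxm⟩ + ⟨y, hym⟩ from rfl, map_add, ihx hxm, ihy hym, add_zero]
      | smul a x hx ih =>
        intro h
        have hxm : x ∈ adjDom z := by rw [hG] at hx; exact hx
        rw [show (⟨a • x, h⟩ : adjDom z) = a • ⟨x, hxm⟩ from rfl, map_zsmul, ih hxm, smul_zero]
    exact hall _ (by rw [hG]; exact (u - v).2) (u - v).2

include hN hamp in
/-- **A polarization has only finitely many automorphisms.** -/
theorem finite_aut (hN' : PicF.IsInvertible N) :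
    Set.Finite {α : A ⟶ A | IsMonHom α ∧ IsIso α ∧
      ∃ (m m' : ℕ) (P : A.left.Modules), 0 < m ∧ 0 < m' ∧ PicF.IsInvertible P ∧ Pic13.IsAlgEquivZero K A.left P ∧
        Nonempty (CohB1.tensorMod (CohB1.tensorPow ((Scheme.Modules.pullback α.left).obj N) m') P ≅
          CohB1.tensorPow N m)} := by
  obtain ⟨r, hr⟩ := AbTors.exists_dim A
  haveI : IsIntegral A.left := GeometricallyIntegral.isIntegral_of_subsingleton A.hom
  rcases Nat.eq_zero_or_pos r with h0 | h0
  · refine (Set.finite_singleton (1 : A ⟶ A)).subset fun α _ => ?_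
    refine Rigidity.ext_of_points _ _ fun a => eq_of_ptOf_eq ?_
    have hz0 : topologicalKrullDim A.left = 0 := by rw [hr, h0]; rfl
    exact (AlgSp.eq_of_specializes_dim_zero hz0 ((genericPoint_spec A.left).specializes trivial)).symm.trans
      (AlgSp.eq_of_specializes_dim_zero hz0 ((genericPoint_spec A.left).specializes trivial))
  refine ((finite_bounded hN hamp (tr (1 : EndAV.End A))).image fun u : adjDom z => EndAV.End.toHom (u : EndAV.End A)).subset ?_
  rintro α ⟨hα, hiso, m, m', P, hm, hm', hPi, hP0, hiso'⟩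
  haveI := hα; haveI := hiso
  haveI : IsMonHom (asIso α).hom := hα
  haveI : IsMonHom (inv α) := by rw [show inv α = (asIso α).inv from rfl]; infer_instance
  haveI : IsIso α.left := inferInstanceAs (IsIso ((Over.forget _).map α))
  have hp := hasCls_clsMod hPi
  set x := pull α.left z with hx
  have e : x ^ m' * clsMod hPi = z ^ m := (((hN.pullback α.left).tensorPow m').tensor hp).eq (hN.tensorPow m) hiso'
  have hlam : lam x ^ m' = lam z ^ m := by
    show KL.mc x (𝟙 A) ^ m' = KL.mc z (𝟙 A) ^ m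
    rw [← mc_pow_class, ← mc_pow_class, ← e, KL.mc, KL.mc, KL.addClass_mul_class,
      Dual.addClass_eq_one_of_algEquivZero _ _ hp hP0, _root_.mul_one]
  have hmm : m = m' := by
    have hEz := TracePos.E_pos hr hN hamp
    have hEx : E A x = E A z := by
      letI : A.left.Over (Spec (CommRingCat.of K)) := ⟨A.hom⟩
      haveI := (Euler.isCoh_of_isInvertible hN.choose).1
      rw [hx, ← E_eq (hN.pullback α.left), ← E_eq hN]
      exact CurveMult.RelNef.euler_pullback_iso (K := K) α.left (Over.w α) _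
    have h1 := congrArg (E (A ⊗ A)) hlam
    rw [show lam x ^ m' = lam (x ^ m') from (mc_pow_class _ _ _).symm,
      show lam z ^ m = lam (z ^ m) from (mc_pow_class _ _ _).symm, LamEuler.E_lam hr, LamEuler.E_lam hr,
      TracePos.E_pow hr, TracePos.E_pow hr, hEx] at h1
    have h2 : ((m' : ℤ) ^ r * E A z) ^ 2 = ((m : ℤ) ^ r * E A z) ^ 2 :=
      mul_left_cancel₀ (pow_ne_zero _ (by norm_num)) h1
    have h3 : ((m' : ℤ) ^ r * E A z) = ((m : ℤ) ^ r * E A z) :=
      (pow_left_inj₀ (by positivity) (by positivity) (by norm_num)).1 h2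
    have h4 : (m' : ℤ) ^ r = (m : ℤ) ^ r := mul_right_cancel₀ hEz.ne' h3
    exact (Nat.pow_left_injective h0.ne' (by exact_mod_cast h4)).symm
  have hinv : ∀ a : 𝟙_ (Over (Spec (CommRingCat.of K))) ⟶ A,
      pull (transl a).left x * z = x * pull (transl a).left z := fun a => by
    have h1 := mc_eq_one_of_pow (w := x * z⁻¹) hm.ne' (by
      have hd : ∀ y : Pic A.left, KL.mc y (𝟙 A) = lam y := fun _ => rfl
      have e2 : KL.mc (x * z⁻¹) (𝟙 A) * KL.mc z (𝟙 A) = KL.mc x (𝟙 A) := by
        rw [KL.mc, KL.mc, KL.mc, ← KL.addClass_mul_class, inv_mul_cancel_right]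
      have e3 := congrArg (· ^ m) e2
      simp only [mul_pow] at e3
      rw [hd x, hd z] at e3
      rw [← hmm] at hlam
      rw [hlam] at e3
      exact mul_eq_right.1 e3) a
    rw [map_mul, map_inv, ← div_eq_mul_inv, ← div_eq_mul_inv, div_eq_div_iff_mul_eq_mul] at h1
    rw [h1, mul_comm]
  let ρ : EndAV.End A := EndAV.End.of (inv α)
  have hρ : ∀ a : 𝟙_ (Over (Spec (CommRingCat.of K))) ⟶ A,
      pull (transl (a ≫ inv α)).left z * pull α.left z = z * pull α.left (pull (transl a).left z) := fun a => by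
    have h := hinv (a ≫ inv α)
    have hc : transl (a ≫ inv α) ≫ α = α ≫ transl a := by
      show (𝟙 A * (toUnit A ≫ a ≫ inv α)) ≫ α = α ≫ (𝟙 A * (toUnit A ≫ a))
      rw [MonObj.mul_comp, MonObj.comp_mul, Category.id_comp, Category.comp_id, Category.assoc, Category.assoc,
        IsIso.inv_hom_id, Category.comp_id, ← Category.assoc α (toUnit A), toUnit_unique (α ≫ toUnit A) (toUnit A)]
    rw [hx, pull_pull_over, hc, ← pull_pull_over] at h
    rw [mul_comm, ← h, mul_comm]
  have hmem : KL.mc z ρ.toHom = addClass (snd A A) (fst A A ≫ α) z := by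
    rw [← pull_lam]
    have h1 := TraceForm.adjoint_of_points z (inv α) α 1 (by simpa only [pow_one] using hρ)
    rwa [pow_one] at h1
  let u : adjDom z := ⟨EndAV.End.of α, ρ, hmem⟩
  refine ⟨u, ?_, rfl⟩
  show tr (dag u * EndAV.End.of α) = tr 1
  rw [dag_unique hN hamp (u := u) hmem]
  congr 1
  exact EndAV.End.ext (IsIso.hom_inv_id α)

end GrothLib.AutFinite
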