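import Groth.Agent.Lib.Poincare.TransposeIsog
import Groth.Agent.Lib.CurveMult.RelNef
import Groth.Agent.Lib.Dim.QuasiFinite

/-!
# Biduality over a field
-/

set_option autoImplicit false
set_option linter.all false
set_option backward.isDefEq.respectTransparency false
set_option maxHeartbeats 1000000

universe u

open CategoryTheory CategoryTheory.Limits AlgebraicGeometry Opposite TopologicalSpace
open MonoidalCategory CartesianMonoidalCategory
open GrothLib.Ample GrothLib.Cube
open scoped MonObj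

noncomputable section

namespace GrothLib.Bidual

variable {k : Type u} [Field k]

/-- A finite map between irreducible varieties of the same dimension is surjective. -/
theorem surjective_of_finite_of_dim_eq {A B : Over (Spec (CommRingCat.of k))} [IsIntegral A.left]
    [IsIntegral B.left] (f : A ⟶ B) [IsFinite f.left] {g : ℕ} (hA : topologicalKrullDim A.left = g)
    (hB : topologicalKrullDim B.left = g) : Surjective f.left := by
  let C : Closeds B.left := ⟨Set.range f.left, f.left.isClosedMap.isClosed_range⟩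
  let I := Scheme.IdealSheafData.vanishingIdeal C
  have hr : Set.range I.subschemeι = Set.range f.left := RedSub.range_subschemeι_vanishingIdeal C
  haveI : IsReduced I.subscheme := RedSub.isReduced_subscheme_vanishingIdeal C
  obtain ⟨ψ, hψ⟩ := RedSub.exists_lift f.left I.subschemeι hr.ge
  haveI : IsFinite ψ := by
    have : IsFinite (ψ ≫ I.subschemeι) := by rw [hψ]; infer_instance
    exact IsFinite.of_comp ψ I.subschemeι
  have hle : topologicalKrullDim I.subscheme = g :=
    le_antisymm ((AlgSp.topologicalKrullDim_le_of_isIntegralHom (f := I.subschemeι)).trans hB.le)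
      (hA.ge.trans (AlgSp.topologicalKrullDim_le_of_isIntegralHom (f := ψ)))
  refine ⟨Set.range_eq_univ.1 ?_⟩
  show Set.range f.left = Set.univ
  rw [← hr]
  refine Dim.eq_univ_of_dim_le I.subschemeι.isClosedEmbedding.isClosed_range ?_ (m := g) ?_
  · rw [← Dim.IsEmbedding.topologicalKrullDim_eq I.subschemeι.isClosedEmbedding.isEmbedding rfl, hle, hB]
  · rw [← Dim.IsEmbedding.topologicalKrullDim_eq I.subschemeι.isClosedEmbedding.isEmbedding rfl, hle]

variable {X Xt Xtt : Over (Spec (CommRingCat.of k))}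
  [GrpObj X] [IsProper X.hom] [GeometricallyIntegral X.hom] [Smooth X.hom]
  [GrpObj Xt] [IsProper Xt.hom] [GeometricallyIntegral Xt.hom] [Smooth Xt.hom]
  [GrpObj Xtt] [IsProper Xtt.hom] [GeometricallyIntegral Xtt.hom] [Smooth Xtt.hom]
  {φX : ∀ T : Over (Spec (CommRingCat.of k)), PicF.Cl (PicF.XT X.hom T) → (T ⟶ Xt)}
  (hX : AbDual.IsDualAV Scheme.fppfPrecoverage X Xt φX)
  {φXt : ∀ T : Over (Spec (CommRingCat.of k)), PicF.Cl (PicF.XT Xt.hom T) → (T ⟶ Xtt)}
  (hXt : AbDual.IsDualAV Scheme.fppfPrecoverage Xt Xtt φXt)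

/-- The swap. -/
def swap (A B : Over (Spec (CommRingCat.of k))) : A ⊗ B ⟶ B ⊗ A := lift (snd A B) (fst A B)

include hX hXt in
/-- **The biduality map is an isomorphism.** -/
theorem isIso_toBidual {p : Pic (X ⊗ Xt).left} (hp : AbDual.IsPoincareCl X Xt φX (PicF.cl (Dual.rep p)))
    (hz : Dual.PZ Xt X (pull (swap Xt X).left p)) :
    IsMonHom (Dual.dphi φXt X (pull (swap Xt X).left p)) ∧ IsIso (Dual.dphi φXt X (pull (swap Xt X).left p)) := by
  set x' := pull (swap Xt X).left p with hx'
  set w := Dual.dphi φXt X x' with hw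
  haveI : IsCommMonObj X := isCommMonObj_abVar
  obtain ⟨g, hg⟩ := AbTors.exists_dim X
  have hgt := DualIsog.dim_dual hX hg
  have hgtt := DualIsog.dim_dual hXt hgt
  haveI : IsIntegral X.left := GeometricallyIntegral.isIntegral_of_subsingleton X.hom
  haveI : IsIntegral Xtt.left := GeometricallyIntegral.isIntegral_of_subsingleton Xtt.hom
  obtain ⟨hr1, hr2⟩ := Dual.isBirigid_of_isPoincareCl hX (Dual.hasCls_rep p) hp
  -- homomorphism
  haveI : GeometricallyConnected X.hom := Rigidity.geometricallyConnected_of_geometricallyIrreducible X.hom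
  haveI : GeometricallyReduced X.hom := inferInstance
  have hA : (η[X] : 𝟙_ _ ⟶ X) = 1 := by rw [Hom.one_def, toUnit_unit, Category.id_comp]
  have hAt : (η[Xtt] : 𝟙_ _ ⟶ Xtt) = 1 := by rw [Hom.one_def, toUnit_unit, Category.id_comp]
  haveI hmon : IsMonHom w := Rigidity.isMonHom_of_one_comp' w (by
    have h := Dual.dphi_pull hXt hz η[X]
    rw [hx', pull_pull_over, show Xt ◁ η[X] ≫ swap Xt X =
      fst Xt (𝟙_ _) ≫ lift (1 : Xt ⟶ X) (𝟙 Xt) by
        rw [hA]
        apply CartesianMonoidalCategory.hom_ext <;> simp [swap, MonObj.comp_one],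
      ← pull_pull_over, hr1, map_one, Dual.dphi_one hXt] at h
    rw [hAt]
    exact h.symm)
  -- comparison with a Poincare class of the dual
  obtain ⟨p', hp'⟩ := DualIsog.exists_poincare hXt
  have hz' : Dual.PZ Xt Xtt p' := (Dual.pz_iff (Dual.hasCls_rep p')).1 hp'.1
  have hd' : Dual.dphi φXt Xtt p' = 𝟙 Xtt := hp'.2.1
  have hr' := (Dual.isBirigid_of_isPoincareCl hXt (Dual.hasCls_rep p') hp').1
  have key : pull (Xt ◁ w).left p' = x' := by
    refine Dual.eq_of_dphi hXt (hz'.pullT w) hz ?_ ?_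
    · have e1 : lift (1 : X ⟶ Xt) (𝟙 X) ≫ Xt ◁ w = w ≫ lift (1 : Xtt ⟶ Xt) (𝟙 Xtt) := by
        apply CartesianMonoidalCategory.hom_ext <;> simp [MonObj.comp_one]
      have e2 : lift (1 : X ⟶ Xt) (𝟙 X) ≫ swap Xt X = lift (𝟙 X) (1 : X ⟶ Xt) := by
        apply CartesianMonoidalCategory.hom_ext <;> simp [swap]
      rw [hx', pull_pull_over, pull_pull_over, e1, e2, ← pull_pull_over, hr', map_one]
      exact hr2.symm
    · rw [Dual.dphi_pull hXt hz' w, hd', Category.comp_id]
  -- finiteness: an isogeny factors through `w`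
  obtain ⟨H, hH⟩ := exists_isAmple X
  let x := clsMod hH.1
  obtain ⟨hf1, hf2, hf3⟩ := DualIsog.isogeny_psi hX (hasCls_clsMod hH.1) hH
  let ψ := MumfordPoincare.psi φX x
  haveI : IsFinite ψ.left := hf1
  have hzX : Dual.PZ X Xt p := (Dual.pz_iff (Dual.hasCls_rep p)).1 hp.1
  have hdX : Dual.dphi φX Xt p = 𝟙 Xt := hp.2.1
  have hlam : pull (X ◁ ψ).left p = MumfordPoincare.lam x := by
    refine Dual.eq_of_dphi hX (hzX.pullT ψ) (MumfordPoincare.pz_lam x) ?_ ?_
    · have e1 : lift (1 : X ⟶ X) (𝟙 X) ≫ X ◁ ψ = ψ ≫ lift (1 : Xt ⟶ X) (𝟙 Xt) := by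
        apply CartesianMonoidalCategory.hom_ext <;> simp [MonObj.comp_one]
      rw [pull_pull_over, e1, ← pull_pull_over, hr1, map_one]
      exact (KL.pull_sec_mc x (𝟙 X)).symm
    · rw [Dual.dphi_pull hX hzX ψ, hdX, Category.comp_id]
      rfl
  let gt : Xtt ⟶ Xt := Dual.dphi φX Xtt (pull (ψ ▷ Xtt).left p')
  have hgtw : w ≫ gt = ψ := by
    refine (Dual.dphi_pull hX (hz'.pullHom ψ) w).symm.trans ?_
    rw [pull_pull_over, whisker_exchange, ← pull_pull_over, key, hx', pull_pull_over,
      show (ψ ▷ X) ≫ swap Xt X = swap X X ≫ X ◁ ψ by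
        apply CartesianMonoidalCategory.hom_ext <;> simp [swap],
      ← pull_pull_over, hlam]
    show Dual.dphi φX X (pull (swap X X).left (KL.mc x (𝟙 X))) = Dual.dphi φX X (KL.mc x (𝟙 X))
    congr 1
    rw [KL.mc, pull_addClass]
    simp only [swap, Category.comp_id, lift_fst, lift_snd]
    rw [addClass, addClass, hom_mul_comm (snd X X) (fst X X), mul_comm (pull (snd X X).left x)]
  haveI : IsFinite w.left := by
    haveI : IsFinite (w.left ≫ gt.left) := by rw [← Over.comp_left, hgtw]; infer_instance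
    haveI : IsSeparated gt.left := by
      haveI : IsSeparated (gt.left ≫ Xt.hom) := by rw [Over.w]; infer_instance
      exact IsSeparated.of_comp gt.left Xt.hom
    exact IsFinite.of_comp w.left gt.left
  haveI := surjective_of_finite_of_dim_eq w hg hgtt
  haveI : Flat w.left := Rigidity.flat_of_isFinite X Xtt w
  -- the degree
  haveI : IsLocallyNoetherian Xtt.left := LocallyOfFiniteType.isLocallyNoetherian Xtt.hom
  haveI : LocallyOfFinitePresentation w.left := inferInstance
  obtain ⟨x₀⟩ : Nonempty Xtt.left := inferInstance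
  have he : ∀ y : Xtt.left, w.left.finrank y = w.left.finrank x₀ := fun y =>
    (w.left.isLocallyConstant_finrank).apply_eq_of_preconnectedSpace y x₀
  haveI : IsProper (Xt ⊗ X).hom := inferInstanceAs (IsProper (pullback.fst Xt.hom X.hom ≫ Xt.hom))
  haveI : IsProper (Xt ⊗ Xtt).hom := inferInstanceAs (IsProper (pullback.fst Xt.hom Xtt.hom ≫ Xt.hom))
  haveI : GeometricallyIntegral (Xt ⊗ X).hom :=
    CubeRel26.geometricallyIntegral_comp (pullback.fst Xt.hom X.hom) Xt.hom
  haveI : GeometricallyIntegral (Xt ⊗ Xtt).hom :=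
    CubeRel26.geometricallyIntegral_comp (pullback.fst Xt.hom Xtt.hom) Xt.hom
  have H1 : IsPullback (Xt ◁ w).left (snd Xt X).left (snd Xt Xtt).left w.left := by
    have := PicSep26.isPullback_XTmap Xt.hom w
    rwa [Dual.XTmap_eq] at this
  haveI : IsFinite (Xt ◁ w).left := MorphismProperty.of_isPullback H1.flip ‹IsFinite w.left›
  haveI : Flat (Xt ◁ w).left := MorphismProperty.of_isPullback H1.flip ‹Flat w.left›
  have d1 : ∀ y, (Xt ◁ w).left.finrank y = w.left.finrank x₀ := fun y => by
    rw [Scheme.Hom.finrank_of_isPullback _ _ _ _ H1.flip]; exact he _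
  have h1 := EulerPull.euler_pullback (Xt ◁ w) _ d1 (Dual.rep p')
    (Euler.isCoh_of_isInvertible (Dual.hasCls_rep p').choose)
  rw [TransposeIsog.euler_poincare hXt hgt (Dual.hasCls_rep p') hp'] at h1
  letI : (Xt ⊗ X).left.Over (Spec (CommRingCat.of k)) := ⟨(Xt ⊗ X).hom⟩
  letI : (X ⊗ Xt).left.Over (Spec (CommRingCat.of k)) := ⟨(X ⊗ Xt).hom⟩
  haveI : IsIso (swap Xt X).left := ⟨(swap X Xt).left, by
    constructor <;> rw [← Over.comp_left, ← Over.id_left] <;> congr 1 <;>
      apply CartesianMonoidalCategory.hom_ext <;> simp [swap]⟩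
  haveI := (Euler.isCoh_of_isInvertible (Dual.hasCls_rep p).choose).1
  have h2 := CurveMult.RelNef.euler_pullback_iso (K := k) (swap Xt X).left (Over.w (swap Xt X)) (Dual.rep p)
  rw [TransposeIsog.euler_poincare hX hg (Dual.hasCls_rep p) hp] at h2
  have hc := (Dual.hasCls_rep p').pullback (Xt ◁ w).left
  rw [key] at hc
  have h3 := EulerPull.euler_eq_of_hasCls (k := k) hc ((Dual.hasCls_rep p).pullback (swap Xt X).left)
  have h4 : (w.left.finrank x₀ : ℤ) * (-1) ^ g = 1 * (-1) ^ g := by
    rw [_root_.one_mul]; exact h1.symm.trans (h3.trans h2)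
  have h5 : w.left.finrank x₀ = 1 := by
    exact_mod_cast mul_right_cancel₀ (pow_ne_zero g (by norm_num : (-1 : ℤ) ≠ 0)) h4
  haveI : IsIso w.left := (Scheme.Hom.isIso_iff_finrank_eq w.left).2 (funext fun y => (he y).trans h5)
  haveI : IsIso ((Over.forget _).map w) := inferInstanceAs (IsIso w.left)
  exact ⟨hmon, isIso_of_reflects_iso w (Over.forget _)⟩

end GrothLib.Bidual
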