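import Groth.Agent.Lib.Cube.Square

/-!
# A birigidified class on a product of abelian varieties is bilinear
-/

universe u

open CategoryTheory CategoryTheory.Limits AlgebraicGeometry
open MonoidalCategory CartesianMonoidalCategory MonObj
open GrothLib.Ample GrothLib.Cube

set_option backward.isDefEq.respectTransparency false

noncomputable section

namespace GrothLib.KL

variable {K : Type u} [Field K] {A B S P : Over (Spec (CommRingCat.of K))}

/-- The value of a class on a product at a pair of points. -/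
def pairing (ξ : Pic (A ⊗ B).left) (f : S ⟶ A) (g : S ⟶ B) : Pic S.left := pull (lift f g).left ξ

theorem pull_pairing (ξ : Pic (A ⊗ B).left) (σ : P ⟶ S) (f : S ⟶ A) (g : S ⟶ B) :
    pull σ.left (pairing ξ f g) = pairing ξ (σ ≫ f) (σ ≫ g) := by
  rw [pairing, pairing, pull_pull_over, comp_lift]

theorem pairing_id (ξ : Pic (A ⊗ B).left) : pairing ξ (fst A B) (snd A B) = ξ := by
  rw [pairing, lift_fst_snd, pull_over_id]

/-- Trivial on both axes. -/
def IsBirigid [GrpObj A] [GrpObj B] (ξ : Pic (A ⊗ B).left) : Prop :=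
  pull (lift (1 : B ⟶ A) (𝟙 B)).left ξ = 1 ∧ pull (lift (𝟙 A) (1 : A ⟶ B)).left ξ = 1

variable [GrpObj A] [GrpObj B] {ξ : Pic (A ⊗ B).left} (h : IsBirigid ξ)

include h in
theorem pairing_one_left (g : S ⟶ B) : pairing ξ (1 : S ⟶ A) g = 1 := by
  rw [pairing, show lift (1 : S ⟶ A) g = g ≫ lift (1 : B ⟶ A) (𝟙 B) by
    rw [comp_lift, MonObj.comp_one, Category.comp_id], ← pull_pull_over, h.1, map_one]

include h in
theorem pairing_one_right (f : S ⟶ A) : pairing ξ f (1 : S ⟶ B) = 1 := by
  rw [pairing, show lift f (1 : S ⟶ B) = f ≫ lift (𝟙 A) (1 : A ⟶ B) by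
    rw [comp_lift, MonObj.comp_one, Category.comp_id], ← pull_pull_over, h.2, map_one]

variable [IsProper A.hom] [GeometricallyIntegral A.hom] [IsProper B.hom] [GeometricallyIntegral B.hom]

include h in
theorem pairing_mul_right (f : S ⟶ A) (g₁ g₂ : S ⟶ B) :
    pairing ξ f (g₁ * g₂) = pairing ξ f g₁ * pairing ξ f g₂ := by
  let p1 : (A ⊗ B) ⊗ B ⟶ A := fst (A ⊗ B) B ≫ fst A B
  let p2 : (A ⊗ B) ⊗ B ⟶ B := fst (A ⊗ B) B ≫ snd A B
  let p3 : (A ⊗ B) ⊗ B ⟶ B := snd (A ⊗ B) B
  suffices huniv : pairing ξ p1 (p2 * p3) * (pairing ξ p1 p2 * pairing ξ p1 p3)⁻¹ = 1 by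
    have := congrArg (pull (lift (lift f g₁) g₂).left) huniv
    rw [map_one, map_mul, map_inv, map_mul, pull_pairing, pull_pairing, pull_pairing, MonObj.comp_mul,
      mul_inv_eq_one] at this
    simpa [p1, p2, p3] using this
  obtain ⟨c, hc⟩ := Quotient.exists_rep (pairing ξ p1 (p2 * p3) * (pairing ξ p1 p2 * pairing ξ p1 p3)⁻¹)
  change cls c = _ at hc
  rw [← hc, cls_eq_one_iff]
  haveI : IsIntegral B.left := GeometricallyIntegral.isIntegral_of_subsingleton B.hom
  refine triv_cube (normal_abVar B) η[A] η[B] η[B] c ?_ ?_ ?_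
  · rw [← cls_eq_one_iff, ← pull_cls, hc, map_mul, map_inv, map_mul, pull_pairing, pull_pairing, pull_pairing,
      MonObj.comp_mul, show (lift (𝟙 A) (toUnit A ≫ η[B]) ▷ B) ≫ p2 = 1 by
        simp only [p2, whiskerRight_fst_assoc, lift_snd, comp_toUnit_assoc, Category.assoc]
        rw [Hom.one_def],
      _root_.one_mul, pairing_one_right h, _root_.one_mul, mul_inv_cancel]
  · rw [← cls_eq_one_iff, ← pull_cls, hc, map_mul, map_inv, map_mul, pull_pairing, pull_pairing, pull_pairing,
      show (lift (toUnit B ≫ η[A]) (𝟙 B) ▷ B) ≫ p1 = 1 by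
        simp only [p1, whiskerRight_fst_assoc, lift_fst, comp_toUnit_assoc, Category.assoc]
        rw [Hom.one_def],
      pairing_one_left h, pairing_one_left h, pairing_one_left h, _root_.one_mul, _root_.one_mul, inv_one]
  · rw [← cls_eq_one_iff, ← pull_cls, hc, map_mul, map_inv, map_mul, pull_pairing, pull_pairing, pull_pairing,
      MonObj.comp_mul, show lift (𝟙 (A ⊗ B)) (toUnit (A ⊗ B) ≫ η[B]) ≫ p3 = 1 by
        simp only [p3, lift_snd]
        rw [Hom.one_def],
      _root_.mul_one, pairing_one_right h, _root_.mul_one, mul_inv_cancel]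

omit [IsProper A.hom] [GeometricallyIntegral A.hom] [IsProper B.hom] [GeometricallyIntegral B.hom] in
include h in
theorem isBirigid_swap : IsBirigid (pull (lift (snd B A) (fst B A)).left ξ) := by
  refine ⟨?_, ?_⟩
  · rw [pull_pull_over, comp_lift, lift_fst, lift_snd]; exact h.2
  · rw [pull_pull_over, comp_lift, lift_fst, lift_snd]; exact h.1

include h in
theorem pairing_mul_left (f₁ f₂ : S ⟶ A) (g : S ⟶ B) :
    pairing ξ (f₁ * f₂) g = pairing ξ f₁ g * pairing ξ f₂ g := by
  have e : ∀ f : S ⟶ A, pairing (pull (lift (snd B A) (fst B A)).left ξ) g f = pairing ξ f g := fun f => by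
    rw [pairing, pairing, pull_pull_over, comp_lift, lift_snd, lift_fst]
  rw [← e, ← e, ← e]
  exact pairing_mul_right (isBirigid_swap h) g f₁ f₂

/-- The pairing in the second variable, as a homomorphism. -/
def rightHom (f : S ⟶ A) : (S ⟶ B) →* Pic S.left where
  toFun g := pairing ξ f g
  map_one' := pairing_one_right h f
  map_mul' := pairing_mul_right h f

/-- The pairing in the first variable, as a homomorphism. -/
def leftHom (g : S ⟶ B) : (S ⟶ A) →* Pic S.left where
  toFun f := pairing ξ f g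
  map_one' := pairing_one_left h g
  map_mul' f₁ f₂ := pairing_mul_left h f₁ f₂ g

include h in
theorem pull_powers (n : ℕ) :
    pull (A ◁ ((𝟙 B : B ⟶ B) ^ n)).left ξ = ξ ^ n ∧ pull (((𝟙 A : A ⟶ A) ^ n) ▷ B).left ξ = ξ ^ n := by
  constructor
  · calc pull (A ◁ ((𝟙 B : B ⟶ B) ^ n)).left ξ = rightHom h (fst A B) (snd A B ^ n) := by
          show _ = pairing ξ _ _
          rw [pairing]
          congr 3
          apply CartesianMonoidalCategory.hom_ext <;> simp [MonObj.comp_pow]
      _ = ξ ^ n := by rw [map_pow]; exact congrArg (· ^ n) (pairing_id ξ)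
  · calc pull (((𝟙 A : A ⟶ A) ^ n) ▷ B).left ξ = leftHom h (snd A B) (fst A B ^ n) := by
          show _ = pairing ξ _ _
          rw [pairing]
          congr 3
          apply CartesianMonoidalCategory.hom_ext <;> simp [MonObj.comp_pow]
      _ = ξ ^ n := by rw [map_pow]; exact congrArg (· ^ n) (pairing_id ξ)

include h in
theorem pull_inv : pull (A ◁ (𝟙 B : B ⟶ B)⁻¹).left ξ = ξ⁻¹ ∧ pull ((𝟙 A : A ⟶ A)⁻¹ ▷ B).left ξ = ξ⁻¹ := by
  constructor
  · calc pull (A ◁ (𝟙 B : B ⟶ B)⁻¹).left ξ = rightHom h (fst A B) (snd A B)⁻¹ := by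
          show _ = pairing ξ _ _
          rw [pairing]
          congr 3
      _ = ξ⁻¹ := by rw [map_inv]; exact congrArg (·⁻¹) (pairing_id ξ)
  · calc pull ((𝟙 A : A ⟶ A)⁻¹ ▷ B).left ξ = leftHom h (snd A B) (fst A B)⁻¹ := by
          show _ = pairing ξ _ _
          rw [pairing]
          congr 3
      _ = ξ⁻¹ := by rw [map_inv]; exact congrArg (·⁻¹) (pairing_id ξ)

end GrothLib.KL
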