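import Groth.Agent.Lib.Poincare.PicZeroSurj
import Groth.Agent.Lib.DepthVanish.Basic
import Groth.Agent.Lib.GrpSchField.GrpDim
import Groth.Agent.Lib.CotTangent.Scheme

/-!
# The Mumford bundle of a nondegenerate class has cohomology in degree `g` only
-/

set_option autoImplicit false
set_option linter.all false
set_option backward.isDefEq.respectTransparency false
set_option maxHeartbeats 1000000

universe u

open CategoryTheory CategoryTheory.Limits AlgebraicGeometry Opposite TopologicalSpace
open MonoidalCategory CartesianMonoidalCategory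
open GrothLib.Ample GrothLib.Cube
open scoped MonObj

noncomputable section

namespace GrothLib.Concentrated

variable {K : Type u} [Field K] [IsAlgClosed K] {A : Over (Spec (CommRingCat.of K))} [GrpObj A]
  [IsProper A.hom] [GeometricallyIntegral A.hom]

/-- The inclusion of a fibre factors through the slice. -/
theorem fiberι_eq (y : A.left) (a : 𝟙_ (Over (Spec (CommRingCat.of K))) ⟶ A)
    (hfac : A.left.fromSpecResidueField y ≫ A.hom ≫ a.left = A.left.fromSpecResidueField y) :
    (snd A A).left.fiberι y =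
      ((snd A A).left.fiberι y ≫ (fst A A).left) ≫ (lift (𝟙 A) (toUnit A ≫ a)).left := by
  let p := (snd A A).left
  apply pullback.hom_ext
  · show p.fiberι y ≫ (fst A A).left =
      ((p.fiberι y ≫ (fst A A).left) ≫ (lift (𝟙 A) (toUnit A ≫ a)).left) ≫ (fst A A).left
    rw [Category.assoc, Category.assoc, ← Over.comp_left, lift_fst, Over.id_left]
    exact congrArg _ (Category.comp_id _).symm
  · show p.fiberι y ≫ (snd A A).left =
      ((p.fiberι y ≫ (fst A A).left) ≫ (lift (𝟙 A) (toUnit A ≫ a)).left) ≫ (snd A A).left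
    rw [Category.assoc, Category.assoc, ← Over.comp_left, lift_snd, Over.comp_left, Scheme.Hom.fiber_fac]
    show _ = p.fiberι y ≫ (fst A A).left ≫ A.hom ≫ a.left
    rw [← Category.assoc (fst A A).left, Over.w (fst A A), ← Over.w (snd A A),
      ← Category.assoc, ← Category.assoc]
    erw [Scheme.Hom.fiber_fac]
    simp only [Category.assoc, hfac]

/-- The fibres over closed points have dimension at most `dim A`. -/
theorem dim_fiber_le (y : A.left) (hy : IsClosed ({y} : Set A.left)) :
    topologicalKrullDim ↥((snd A A).left.fiber y) ≤ topologicalKrullDim A.left := by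
  obtain ⟨a, -, hfac⟩ := exists_point_factor y hy
  let p := (snd A A).left
  let j : p.fiber y ⟶ A.left := p.fiberι y ≫ (fst A A).left
  refine (show Topology.IsInducing j from ?_).topologicalKrullDim_le
  have h : Topology.IsInducing (p.fiberι y) := (p.fiberι y).isEmbedding.isInducing
  rw [fiberι_eq y a hfac] at h
  exact Topology.IsInducing.of_comp j.continuous (lift (𝟙 A) (toUnit A ≫ a)).left.continuous h

/-- **Concentration.** If only finitely many fibres have cohomology, the higher direct images live in degree `g`. -/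
theorem notMem_support (g : ℕ) (hg : topologicalKrullDim A.left = g)
    (F : (A ⊗ A).left.Modules) (hF : PicF.IsInvertible F) {D : Set A.left} (hDfin : D.Finite)
    (hDc : ∀ y ∈ D, IsClosed ({y} : Set A.left))
    [HasInjectiveResolutions (A ⊗ A).left.Modules]
    (h : ∀ y ∉ D, IsClosed ({y} : Set A.left) → ∀ n, Subsingleton (CohIII.fiberH (snd A A).left F y n))
    {q : ℕ} (hq : q ≠ g) (x : A.left) : x ∉ CohB1.support ((Coh.Rpush (snd A A).left q).obj F) := by
  haveI : IsLocallyNoetherian A.left := LocallyOfFiniteType.isLocallyNoetherian A.hom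
  haveI : JacobsonSpace A.left := LocallyOfFiniteType.jacobsonSpace A.hom
  let p := (snd A A).left
  haveI : IsProper p := isProper_snd_left A A
  haveI : Flat p := flat_snd_left A A
  haveI : IsLocallyNoetherian (A ⊗ A).left := by
    haveI : IsProper (A ⊗ A).hom := isProper_prod
    exact LocallyOfFiniteType.isLocallyNoetherian (A ⊗ A).hom
  haveI : F.IsQuasicoherent := InvExt.isQuasicoherent_of_isInvertible hF
  have hFc := Euler.isCoh_of_isInvertible hF
  have hfl : FlatMod.IsFlatOver p F := Seesaw26.isFlatOver_of_isInvertible _ hF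
  by_cases hx : x ∈ D
  swap
  · let U : A.left.Opens := ⟨Dᶜ, (isOpen_compl_iff.2 (by
      rw [← Set.biUnion_of_singleton D]; exact hDfin.isClosed_biUnion hDc))⟩
    exact RpushSupport.notMem_support p F hFc hfl q U (fun y hy hyc => h y hy hyc q) (show x ∈ U from hx)
  rcases lt_or_gt_of_ne hq with hlt | hgt
  swap
  · refine RpushSupport.notMem_support p F hFc hfl q ⊤ (fun y _ hyc => ?_) (show x ∈ (⊤ : A.left.Opens) from trivial)
    haveI : Coh.IsQCoh F := ‹F.IsQuasicoherent›
    exact BCCrit.subsingleton_fiberH_of_dim_lt y g q ((dim_fiber_le y hyc).trans hg.le) hgt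
  -- an affine neighbourhood missing the rest of `D`
  let U : A.left.Opens := ⟨(D \ {x})ᶜ, (isOpen_compl_iff.2 (by
    rw [← Set.biUnion_of_singleton (D \ {x})]
    exact (hDfin.subset Set.diff_subset).isClosed_biUnion fun y hy => hDc y hy.1))⟩
  obtain ⟨V, hV, hxV, hVU⟩ := exists_isAffineOpen_mem_and_subset (show x ∈ U from fun hh => hh.2 rfl)
  haveI : IsNoetherianRing Γ(A.left, V) := IsLocallyNoetherian.component_noetherian ⟨V, hV⟩
  haveI : IsAffine V.toScheme := hV
  haveI : JacobsonSpace (Spec Γ(A.left, V)) :=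
    JacobsonSpace.of_isOpenEmbedding hV.fromSpec.isOpenEmbedding
  haveI : IsJacobsonRing Γ(A.left, V) := PrimeSpectrum.isJacobsonRing_iff_jacobsonSpace.2 ‹_›
  haveI : IsProper (BCCoh.affBase p hV) := inferInstance
  obtain ⟨m⟩ := BCCoh.nonempty_model (BCCoh.affBase p hV) (F.restrict (p ⁻¹ᵁ V).ι) (Cohom.isCoh_restrict F hFc _)
    (BCCoh.isFlatOver_affBase p hV F hfl)
  haveI := m.flatL
  let P := hV.primeIdealOf ⟨x, hxV⟩
  have hPx : hV.fromSpec P = x := hV.fromSpec_primeIdealOf _
  haveI hPmax : P.asIdeal.IsMaximal := by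
    refine (PrimeSpectrum.isClosed_singleton_iff_isMaximal P).1 ?_
    show IsClosed ({P} : Set (Spec Γ(A.left, V)))
    rw [show ({P} : Set (Spec Γ(A.left, V))) = hV.fromSpec ⁻¹' {x} from ?_]
    · exact (hDc x hx).preimage hV.fromSpec.continuous
    refine Set.ext fun w => ⟨fun hw => ?_, fun hw => hV.fromSpec.isOpenEmbedding.injective ?_⟩
    · rw [Set.mem_singleton_iff] at hw
      rw [hw]; exact hPx
    · exact (show hV.fromSpec w = x from hw).trans hPx.symm
  -- a regular system of parameters
  let R := Localization.AtPrime P.asIdeal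
  letI := A.left.presheaf.algebra_section_stalk ⟨x, hxV⟩
  haveI := hV.isLocalization_stalk ⟨x, hxV⟩
  let e : A.left.presheaf.stalk x ≃ₐ[Γ(A.left, V)] R :=
    IsLocalization.algEquiv P.asIdeal.primeCompl _ _
  haveI : Smooth A.hom := smooth_abVar A
  haveI : IsRegularLocalRing (A.left.presheaf.stalk x) := CotTangent.isRegularLocalRing_stalk A.hom x
  haveI : IsRegularLocalRing R := IsRegularLocalRing.of_ringEquiv e.toRingEquiv
  have hdim : ringKrullDim R = (g : WithBot ℕ∞) := by
    rw [← ringKrullDim_eq_of_ringEquiv e.toRingEquiv, GrpSchField.ringKrullDim_stalk_eq A (hDc x hx), hg]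
  have hrank : (IsLocalRing.maximalIdeal R).spanFinrank = g := by
    have := IsRegularLocalRing.spanFinrank_maximalIdeal (R := R)
    rw [hdim] at this
    exact_mod_cast this
  obtain ⟨f, hf⟩ : ∃ f : Fin g → R, Ideal.span (Set.range f) = IsLocalRing.maximalIdeal R := by
    obtain ⟨f, hf⟩ := Submodule.FG.exists_span_set_encard_eq_spanFinrank
      (IsNoetherian.noetherian (IsLocalRing.maximalIdeal R))
    have hfin : f.Finite := Set.finite_of_encard_eq_coe hf.1
    have hcard : hfin.toFinset.card = g := by
      rw [← hrank]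
      have := hf.1
      rw [hfin.encard_eq_coe_toFinset_card] at this
      exact_mod_cast this
    refine ⟨fun i => (hfin.toFinset.equivFinOfCardEq hcard).symm i, ?_⟩
    rw [show (Set.range fun i => ((hfin.toFinset.equivFinOfCardEq hcard).symm i : R)) = f from ?_]
    · exact hf.2
    ext r
    constructor
    · rintro ⟨i, rfl⟩
      exact hfin.mem_toFinset.1 ((hfin.toFinset.equivFinOfCardEq hcard).symm i).2
    · intro hr
      exact ⟨hfin.toFinset.equivFinOfCardEq hcard ⟨r, hfin.mem_toFinset.2 hr⟩, by simp⟩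
  choose as hs using fun i => IsLocalization.surj P.asIdeal.primeCompl (f i)
  let b : Fin g → Γ(A.left, V) := fun i => (as i).1
  have hspan : Ideal.span (Set.range fun i => algebraMap Γ(A.left, V) R (b i)) = IsLocalRing.maximalIdeal R := by
    rw [← hf]
    apply le_antisymm <;> rw [Ideal.span_le] <;> rintro _ ⟨i, rfl⟩
    · show algebraMap _ R (as i).1 ∈ _
      rw [← hs i]
      exact Ideal.mul_mem_right _ _ (Ideal.subset_span ⟨i, rfl⟩)
    · obtain ⟨w, hw⟩ := IsLocalization.map_units R (as i).2
      have hw' : f i = algebraMap _ R (as i).1 * (↑w⁻¹ : R) := by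
        rw [← hs i, ← hw, mul_assoc, Units.mul_inv, mul_one]
      rw [SetLike.mem_coe, hw']
      exact Ideal.mul_mem_right _ _ (Ideal.subset_span ⟨i, rfl⟩)
  have hreg : RingTheory.Sequence.IsWeaklyRegular R (List.ofFn b) := by
    have := RegLoc.isWeaklyRegular_ofFn g R hrank _ hspan
    rw [← RingTheory.Sequence.isWeaklyRegular_map_algebraMap_iff R R, List.map_ofFn]
    exact this
  have hmem : ∀ r ∈ List.ofFn b, r ∈ P.asIdeal := by
    intro r hr
    obtain ⟨i, rfl⟩ := List.mem_ofFn.1 hr
    have : algebraMap Γ(A.left, V) R (b i) ∈ IsLocalRing.maximalIdeal R :=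
      hspan ▸ Ideal.subset_span ⟨i, rfl⟩
    exact (IsLocalization.AtPrime.to_map_mem_maximal_iff R P.asIdeal (b i)).1 this
  have hz := DepthVanish.isZero_T_self m.L (fun i => (m.finFree i).1) P.asIdeal
    (fun i hi N => m.isZero_T_neg hi N) (fun w hw i hne => by
      rw [m.dRank_eq_fiberRank p hV F i ⟨w, hw.isPrime⟩]
      refine BCCoh.fiberRank_eq_zero_of_subsingleton p F i _ (h _ ?_ ?_ i)
      · intro hD
        have h1 := hVU (BCCoh.fromSpec_mem hV (⟨w, hw.isPrime⟩ : PrimeSpectrum Γ(A.left, V)))
        have h2 : hV.fromSpec ⟨w, hw.isPrime⟩ = x := by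
          by_contra hne'
          exact h1 ⟨hD, hne'⟩
        exact hne (congrArg PrimeSpectrum.asIdeal (hV.fromSpec.isOpenEmbedding.injective (h2.trans hPx.symm)))
      · refine isClosed_singleton_of_isLocallyClosed_singleton ?_
        rw [← Set.image_singleton]
        exact ((PrimeSpectrum.isClosed_singleton_iff_isMaximal ⟨w, hw.isPrime⟩).2 hw).isLocallyClosed.image
          hV.fromSpec.isOpenEmbedding.isInducing hV.fromSpec.isOpenEmbedding.isOpen_range.isLocallyClosed)
    (List.ofFn b) hmem hreg q (by rw [List.length_ofFn]; exact hlt)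
  obtain ⟨ψ⟩ := m.nonempty_T_equiv_Rpush p hV F q
  haveI : Subsingleton (CohIII.T m.L (q : ℤ) (ModuleCat.of Γ(A.left, V) Γ(A.left, V))) :=
    ModuleCat.subsingleton_of_isZero hz
  haveI : Subsingleton Γ((Coh.Rpush p q).obj F, V) := ψ.symm.toEquiv.subsingleton
  rw [QCoh.notMem_support_iff]
  intro W hxW z
  obtain ⟨T, hT, hxT, hTWV⟩ := exists_isAffineOpen_mem_and_subset (show x ∈ W ⊓ V from ⟨hxW, hxV⟩)
  haveI : ((Coh.Rpush p q).obj F).IsQuasicoherent := Cohom.isQuasicoherent_Rpush p F q
  let O := A.left.presheaf.stalk x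
  let R' := (Coh.Rpush p q).obj F
  haveI : R'.IsQuasicoherent := Cohom.isQuasicoherent_Rpush p F q
  have h0 : ∀ s : R'.presheaf.stalk x, s = 0 := by
    letI := A.left.presheaf.algebra_section_stalk ⟨x, hxV⟩
    letI : Module Γ(A.left, V) (R'.presheaf.stalk x) := Module.compHom _ (A.left.presheaf.germ V x hxV).hom
    obtain ⟨φ, hφ, -⟩ := FlatFP.isLocalizedModule_germ R' hV hxV
    intro s
    haveI := hφ
    obtain ⟨⟨s', u⟩, hs'⟩ := IsLocalizedModule.surj (WeakAss.primeAt x hxV).primeCompl φ s
    have hu : (u : Γ(A.left, V)) • s = 0 := by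
      refine (hs'.trans ?_ : _)
      rw [Subsingleton.elim (show Γ((Coh.Rpush p q).obj F, V) from s') 0]
      exact map_zero φ
    exact ((Module.End.isUnit_iff _).1 (IsLocalizedModule.map_units φ u)).1 (hu.trans (map_zero _).symm)
  exact h0 _

end GrothLib.Concentrated
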