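import Groth.Agent.Lib.Cube.Square
import Groth.Agent.Lib.Cube.FieldSections
import Groth.Agent.Lib.Cube.Seesaw
import Mathlib.AlgebraicGeometry.Morphisms.Proper

/-!
# Triviality of invertible sheaves descends along field extensions
-/

universe u

open CategoryTheory CategoryTheory.Limits AlgebraicGeometry
open GrothLib.Ample GrothLib.Cube

set_option backward.isDefEq.respectTransparency false

noncomputable section

namespace GrothLib.KL

/-- Pullback along a field extension is injective on the Picard group of a complete variety. -/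
theorem eq_one_of_pull_field {K K' : Type u} [Field K] [Field K'] [Algebra K K'] {V V' : Scheme.{u}}
    {p : V ⟶ Spec (CommRingCat.of K)} [IsProper p] [GeometricallyIntegral p]
    {g : V' ⟶ V} {p' : V' ⟶ Spec (CommRingCat.of K')}
    (H : IsPullback g p' p (Spec.map (CommRingCat.ofHom (algebraMap K K')))) (x : Pic V) (h : pull g x = 1) :
    x = 1 := by
  haveI : IsIntegral V := GeometricallyIntegral.isIntegral_of_subsingleton p
  haveI : IsLocallyNoetherian V := LocallyOfFiniteType.isLocallyNoetherian p
  haveI : CompactSpace V := QuasiCompact.compactSpace_of_compactSpace p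
  haveI : IsNoetherian V := {}
  haveI : Surjective (Spec.map (CommRingCat.ofHom (algebraMap K K'))) := inferInstance
  haveI : Surjective g := MorphismProperty.of_isPullback (P := @Surjective) H.flip inferInstance
  obtain ⟨q⟩ : Nonempty V' := ⟨(g.surjective (genericPoint V)).choose⟩
  obtain ⟨c, rfl⟩ := Quotient.exists_rep x
  change pull g (cls c) = 1 at h
  show cls c = 1
  have key : ∀ d : Cocycle V, pull g (cls d) = 1 → ∃ a : d.sect 1 ⊤, a ≠ 0 := by
    intro d hd
    rw [pull_cls, cls_eq_one_iff] at hd
    obtain ⟨s, hs⟩ := hd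
    obtain ⟨a, ha⟩ := exists_sect_of_mem_locus H d s (q := q) (hs ▸ trivial)
    refine ⟨a, fun h0 => ?_⟩
    obtain ⟨i, hi⟩ := d.exists_mem (g q)
    rw [d.mem_locus_iff _ hi, h0, show ((0 : d.sect 1 ⊤).1 i) = 0 from rfl, Scheme.basicOpen_zero] at ha
    exact ha
  have hprod : cls (inv c) * cls c = 1 := by
    rw [← cls_prod]; exact Quotient.sound (eqv_prod_inv c)
  refine cls_eq_one_iff.2 (triv_of_sections (isField_of_universallyClosed K p) c (inv c) hprod (key c h) (key _ ?_))
  rw [eq_inv_of_mul_eq_one_left hprod, map_inv, h, inv_one]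

end GrothLib.KL
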