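import Groth.Agent.Lib.Poincare.Biext
import Groth.Agent.Lib.Poincare.TrivField
import Groth.Prelude.Def_AbDual

/-!
# Elementary properties of the dual abelian variety as characterised in the prelude
-/

universe u

open CategoryTheory CategoryTheory.Limits AlgebraicGeometry
open MonoidalCategory CartesianMonoidalCategory MonObj
open GrothLib.Ample GrothLib.Cube

set_option backward.isDefEq.respectTransparency false

noncomputable section

namespace GrothLib.Dual

theorem isAlgEquivZero_of_iso_structure (K : Type u) [Field K] (X : Scheme.{u})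
    [X.Over (Spec (CommRingCat.of K))] (L : X.Modules) (h : HasCls L (1 : Pic X)) :
    Pic13.IsAlgEquivZero K X L := by
  haveI : ConnectedSpace ↥(Spec (CommRingCat.of K)) :=
    inferInstanceAs (ConnectedSpace (PrimeSpectrum K))
  have hf : ∀ (t : Spec (CommRingCat.of K) ⟶ Spec (CommRingCat.of K)) (ht : t ≫ 𝟙 _ = 𝟙 _),
      HasCls (Pic13.fibreMod K X (𝟙 _) t ht (Coh.structureModule _)) (1 : Pic X) := fun t ht => by
    have := (hasCls_structureModule (Pic13.prodK K X (𝟙 (Spec (CommRingCat.of K))))).pullback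
      (Pic13.sliceAt K X (𝟙 _) t ht)
    rwa [map_one] at this
  exact ⟨Spec (CommRingCat.of K), 𝟙 _, inferInstance, inferInstance, inferInstance,
    Coh.structureModule _, Euler.isInvertible_structure, 𝟙 _, 𝟙 _, Category.comp_id _, Category.comp_id _,
    (hf _ _).iso h rfl, (hf _ _).iso (hasCls_structureModule X) rfl⟩

/-- Algebraic equivalence to zero moves along an isomorphism over the field. -/
theorem isAlgEquivZero_of_isIso {K : Type u} [Field K] {X Y : Scheme.{u}} (pX : X ⟶ Spec (CommRingCat.of K))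
    (pY : Y ⟶ Spec (CommRingCat.of K)) (e : X ⟶ Y) (he : e ≫ pY = pX) {L : Y.Modules} {L' : X.Modules}
    {x : Pic Y} (hx : HasCls L x) (hx' : HasCls L' (pull e x))
    (h : @Pic13.IsAlgEquivZero K _ Y ⟨pY⟩ L) : @Pic13.IsAlgEquivZero K _ X ⟨pX⟩ L' := by
  letI : X.Over (Spec (CommRingCat.of K)) := ⟨pX⟩
  letI : Y.Over (Spec (CommRingCat.of K)) := ⟨pY⟩
  obtain ⟨T, q, hc, hft, hqc, M, hM, t, t₀, ht, ht₀, ⟨et⟩, ⟨et₀⟩⟩ := h
  let E : Pic13.prodK K X q ⟶ Pic13.prodK K Y q :=
    pullback.map (X ↘ Spec (CommRingCat.of K)) q (Y ↘ Spec (CommRingCat.of K)) q e (𝟙 T) (𝟙 _)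
      (by rw [Category.comp_id]; exact he.symm) (by rw [Category.comp_id, Category.id_comp])
  have hE : ∀ w hw, Pic13.sliceAt K X q w hw ≫ E = e ≫ Pic13.sliceAt K Y q w hw := fun w hw => by
    refine pullback.hom_ext ?_ ?_
    · simp [E, Pic13.sliceAt]
      exact Category.id_comp e
    · simp [E, Pic13.sliceAt]
      show pX ≫ w = e ≫ pY ≫ w
      rw [← Category.assoc, he]
  have hm := hasCls_clsMod hM
  have hf : ∀ w hw, HasCls (Pic13.fibreMod K X q w hw ((Scheme.Modules.pullback E).obj M))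
      (pull e (pull (Pic13.sliceAt K Y q w hw) (clsMod hM))) := fun w hw => by
    have := (hm.pullback E).pullback (Pic13.sliceAt K X q w hw)
    rw [pull_comp, hE w hw, ← pull_comp] at this
    exact this
  refine ⟨T, q, hc, hft, hqc, (Scheme.Modules.pullback E).obj M, (hm.pullback E).choose, t, t₀, ht, ht₀, ?_, ?_⟩
  · refine (hf t ht).iso hx' ?_
    rw [(hm.pullback (Pic13.sliceAt K Y q t ht)).eq hx ⟨et⟩]
  · refine (hf t₀ ht₀).iso (hasCls_structureModule X) ?_
    rw [(hm.pullback (Pic13.sliceAt K Y q t₀ ht₀)).eq (hasCls_structureModule Y) ⟨et₀⟩, map_one]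

variable {S : Scheme.{u}} {A T T' : Over S}

theorem XTmap_eq (g : T' ⟶ T) : PicF.XTmap A.hom g = (A ◁ g).left := by
  refine pullback.hom_ext ?_ ?_
  · exact (pullback.lift_fst _ _ _).trans ((Category.comp_id _).trans
      (congrArg (fun h : A ⊗ T' ⟶ A => h.left) (whiskerLeft_fst A g)).symm)
  · exact (pullback.lift_snd _ _ _).trans
      (congrArg (fun h : A ⊗ T' ⟶ T => h.left) (whiskerLeft_snd A g)).symm

theorem bcMap_eq {B : Over S} (f : A ⟶ B) : AbDual.bcMap f T = (f ▷ T).left := by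
  refine pullback.hom_ext ?_ ?_
  · exact (pullback.lift_fst _ _ _).trans
      (congrArg (fun h : A ⊗ T ⟶ B => h.left) (whiskerRight_fst f T)).symm
  · exact (pullback.lift_snd _ _ _).trans ((Category.comp_id _).trans
      (congrArg (fun h : A ⊗ T ⟶ T => h.left) (whiskerRight_snd f T)).symm)

theorem secT_eq [GrpObj A] : PicF.secT A.hom η[A].left (Over.w η[A]) T = (lift (1 : T ⟶ A) (𝟙 T)).left := by
  refine pullback.hom_ext ?_ ?_
  · refine (pullback.lift_fst _ _ _).trans ?_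
    refine Eq.trans ?_ (congrArg (fun h : T ⟶ A => h.left) (lift_fst (1 : T ⟶ A) (𝟙 T))).symm
    rw [Hom.one_def, Over.comp_left]
    congr 1
  · exact (pullback.lift_snd _ _ _).trans
      (congrArg (fun h : T ⟶ T => h.left) (lift_snd (1 : T ⟶ A) (𝟙 T))).symm

theorem isPicZeroCl_one {X : Scheme.{u}} (f : X ⟶ S) (T : Over S) {L : (PicF.XT f T).Modules}
    (h : HasCls L (1 : Pic (PicF.XT f T))) : AbDual.IsPicZeroCl f T (PicF.cl L) := by
  refine ⟨L, rfl, h.choose, fun t Ω _ _ σ _ => ?_⟩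
  letI : (pullback (PicF.XTproj f T) σ).Over (Spec (CommRingCat.of Ω)) := ⟨pullback.snd _ σ⟩
  have := h.pullback (pullback.fst (PicF.XTproj f T) σ)
  rw [map_one] at this
  exact isAlgEquivZero_of_iso_structure Ω _ _ this

/-- Pic⁰ classes pull back to Pic⁰ classes. -/
theorem isPicZeroCl_pull {X : Scheme.{u}} (f : X ⟶ S) {T T' : Over S} (g : T' ⟶ T)
    {c : PicF.Cl (PicF.XT f T)} (h : AbDual.IsPicZeroCl f T c) :
    AbDual.IsPicZeroCl f T' (PicF.pullCl (PicF.XTmap f g) c) := by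
  obtain ⟨L, rfl, hL, h⟩ := h
  refine ⟨(Scheme.Modules.pullback (PicF.XTmap f g)).obj L, rfl, Ample.isInvertible_pullback _ hL,
    fun t Ω _ _ σ hσ => ?_⟩
  have hs : Set.range (σ ≫ g.left).base = {g.left t} := by
    rw [← Set.image_singleton (f := ⇑g.left), ← hσ, ← Set.range_comp]
    rfl
  have hσ' : PicF.XTmap f g ≫ PicF.XTproj f T = PicF.XTproj f T' ≫ g.left := pullback.lift_snd _ _ _
  let e : pullback (PicF.XTproj f T') σ ⟶ pullback (PicF.XTproj f T) (σ ≫ g.left) :=
    pullback.map _ _ _ _ (PicF.XTmap f g) (𝟙 _) g.left hσ'.symm (by rw [Category.id_comp])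
  have hx := (hasCls_clsMod hL).pullback (pullback.fst (PicF.XTproj f T) (σ ≫ g.left))
  refine isAlgEquivZero_of_isIso _ (pullback.snd _ _) e
    ((pullback.lift_snd _ _ _).trans (Category.comp_id _)) hx ?_ (h (g.left t) Ω (σ ≫ g.left) hs)
  have h2 := ((hasCls_clsMod hL).pullback (PicF.XTmap f g)).pullback (pullback.fst (PicF.XTproj f T') σ)
  have e2 : pullback.fst (PicF.XTproj f T') σ ≫ PicF.XTmap f g = e ≫ pullback.fst (PicF.XTproj f T) (σ ≫ g.left) :=
    (pullback.lift_fst _ _ _).symm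
  rw [pull_comp, e2, ← pull_comp] at h2
  exact h2

theorem cl_eq {X : Scheme.{u}} {L L' : X.Modules} {x : Pic X} (h : HasCls L x) (h' : HasCls L' x) :
    PicF.cl L = PicF.cl L' := Quot.sound (h.iso h' rfl)

theorem cls_eq_of_cl_eq {X : Scheme.{u}} {L L' : X.Modules} {x y : Pic X} (h : HasCls L x) (h' : HasCls L' y)
    (e : PicF.cl L = PicF.cl L') : x = y := by
  refine h.eq h' ?_
  have heqv : Equivalence fun L L' : X.Modules => Nonempty (L ≅ L') :=
    ⟨fun L => ⟨Iso.refl L⟩, fun ⟨i⟩ => ⟨i.symm⟩, fun ⟨i⟩ ⟨j⟩ => ⟨i ≪≫ j⟩⟩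
  exact heqv.eqvGen_iff.1 (Quot.eqvGen_exact e)

/-- The dual map sends the trivial class to the unit. -/
theorem phi_one {At : Over S} [GrpObj At] {φ : ∀ T : Over S, PicF.Cl (PicF.XT A.hom T) → (T ⟶ At)}
    (hφ : AbDual.IsDualAV Scheme.fppfPrecoverage A At φ) (T : Over S) {L : (PicF.XT A.hom T).Modules}
    (h : HasCls L (1 : Pic (PicF.XT A.hom T))) : φ T (PicF.cl L) = 1 := by
  have hz := isPicZeroCl_one A.hom T h
  have h2 := h.tensor h
  rw [_root_.one_mul] at h2
  have e := hφ.mul T L L hz hz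
  rw [cl_eq h2 h] at e
  exact left_eq_mul.1 e

section Field

variable {k : Type u} [Field k] {A At : Over (Spec (CommRingCat.of k))} [GrpObj A] [GrpObj At]
  [IsProper A.hom] [GeometricallyIntegral A.hom]
  {φ : ∀ T : Over (Spec (CommRingCat.of k)), PicF.Cl (PicF.XT A.hom T) → (T ⟶ At)}

/-- Over the base field the dual map is injective. -/
theorem eq_one_of_phi_point (hφ : AbDual.IsDualAV Scheme.fppfPrecoverage A At φ)
    {L : (PicF.XT A.hom (𝟙_ (Over (Spec (CommRingCat.of k))))).Modules}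
    {x : Pic (A ⊗ 𝟙_ (Over (Spec (CommRingCat.of k)))).left} (hL : HasCls L x)
    (hz : AbDual.IsPicZeroCl A.hom _ (PicF.cl L))
    (h : φ _ (PicF.cl L) = 1) : x = 1 := by
  let T₀ : Over (Spec (CommRingCat.of k)) := 𝟙_ _
  have h1 := hasCls_structureModule (A ⊗ T₀).left
  obtain ⟨R, hR, hloc⟩ := hφ.relPic.locallyInjective T₀ (PicF.cl L) (PicF.cl (Coh.structureModule (A ⊗ T₀).left))
    hz (isPicZeroCl_one A.hom T₀ h1) (h.trans (phi_one hφ T₀ h1).symm)
  obtain ⟨U, u, hu, ⟨z⟩⟩ : ∃ (U : Scheme.{u}) (u : U ⟶ T₀.left), R u ∧ Nonempty U := by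
    obtain ⟨hs, -⟩ := hR
    obtain ⟨Y, g, ⟨hu⟩, z, -⟩ := hs (IsLocalRing.closedPoint k)
    exact ⟨_, _, hu, ⟨z⟩⟩
  have e := hloc u hu
  rw [XTmap_eq] at e
  have e1 := cls_eq_of_cl_eq (hL.pullback _) (h1.pullback _) e
  rw [map_one] at e1
  obtain ⟨ψ, hψ⟩ := Spec.map_surjective (U.fromSpecResidueField z ≫ (AbDual.ovr T₀ u).hom)
  letI : Algebra k (U.residueField z) := ψ.hom.toAlgebra
  let P : Over (Spec (CommRingCat.of k)) := Over.mk (U.fromSpecResidueField z ≫ (AbDual.ovr T₀ u).hom)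
  let j : P ⟶ AbDual.ovr T₀ u := Over.homMk (U.fromSpecResidueField z) rfl
  have e2 := congrArg (pull (A ◁ j).left) e1
  rw [map_one] at e2
  replace e2 : pull ((A ◁ j) ≫ (A ◁ AbDual.ovrHom T₀ u)).left x = 1 := (pull_pull_over _ _ _).symm.trans e2
  have H : IsPullback (fst A P).left (snd A P).left A.hom
      (Spec.map (CommRingCat.ofHom (algebraMap k (U.residueField z)))) := by
    have hb : Spec.map (CommRingCat.ofHom (algebraMap k (U.residueField z))) = P.hom := hψ
    rw [hb]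
    exact IsPullback.of_hasPullback A.hom P.hom
  have e3 : pull (fst A P).left (pull (lift (𝟙 A) (toUnit A)).left x) = 1 := by
    rw [pull_pull_over]
    refine Eq.trans ?_ e2
    congr 3
    apply CartesianMonoidalCategory.hom_ext
    · simp only [Category.assoc, lift_fst, Category.comp_id]
      exact (((A ◁ j) ≫= whiskerLeft_fst A (AbDual.ovrHom T₀ u)).trans (whiskerLeft_fst A j)).symm
    · exact toUnit_unique _ _
  have e4 := KL.eq_one_of_pull_field (K := k) (K' := ↑(U.residueField z)) H _ e3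
  have e5 : pull (fst A T₀).left (pull (lift (𝟙 A) (toUnit A)).left x) = x := by
    rw [pull_pull_over]
    conv_rhs => rw [← pull_over_id x]
    congr 3
    apply CartesianMonoidalCategory.hom_ext
    · simp only [Category.assoc, lift_fst, Category.comp_id]
      exact (Category.id_comp _).symm
    · exact toUnit_unique _ _
  rw [← e5, e4, map_one]

/-- A Poincaré class is trivial on both axes. -/
theorem isBirigid_of_isPoincareCl (hφ : AbDual.IsDualAV Scheme.fppfPrecoverage A At φ)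
    {P : (PicF.XT A.hom At).Modules} {x : Pic (A ⊗ At).left} (hP : HasCls P x)
    (hξ : AbDual.IsPoincareCl A At φ (PicF.cl P)) : KL.IsBirigid x := by
  obtain ⟨hz, hid, hrig⟩ := hξ
  refine ⟨?_, ?_⟩
  · rw [secT_eq] at hrig
    exact cls_eq_of_cl_eq (hP.pullback _) (hasCls_structureModule _) hrig
  let T₀ : Over (Spec (CommRingCat.of k)) := 𝟙_ _
  have hz' := isPicZeroCl_pull A.hom (1 : T₀ ⟶ At) hz
  have hn := hφ.relPic.natural At T₀ (1 : T₀ ⟶ At) (PicF.cl P) hz
  rw [hid, Category.comp_id] at hn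
  rw [XTmap_eq] at hn hz'
  have h1 := eq_one_of_phi_point hφ (hP.pullback (A ◁ (1 : T₀ ⟶ At)).left) hz' hn
  have e : lift (𝟙 A) (1 : A ⟶ At) = lift (𝟙 A) (toUnit A) ≫ (A ◁ (1 : T₀ ⟶ At)) := by
    apply CartesianMonoidalCategory.hom_ext <;> simp [MonObj.comp_one]
  rw [e, ← pull_pull_over, h1, map_one]

end Field

end GrothLib.Dual
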