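import Groth.Agent.Lib.Poincare.TransposeRel
import Groth.Agent.Lib.Poincare.IndexPow
import Groth.Agent.Lib.Poincare.Products
import Groth.Agent.Lib.AbTors.FiniteKer
import Groth.Agent.Lib.EtSite.FpqcDescent
import Groth.Agent.Lib.Hilb20.FieldExt
import Groth.Agent.Lib.CurveMult.RelNef

/-!
# Classes pulled back along a non-finite homomorphism have Euler characteristic zero
-/

set_option autoImplicit false
set_option linter.all false
set_option backward.isDefEq.respectTransparency false
set_option maxHeartbeats 1000000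

universe u

open CategoryTheory CategoryTheory.Limits AlgebraicGeometry Opposite TopologicalSpace
open MonoidalCategory CartesianMonoidalCategory
open GrothLib.Ample GrothLib.Cube GrothLib.Poincare
open scoped MonObj

noncomputable section

namespace GrothLib.EulerWhisker

section Closed

variable {K : Type u} [Field K] [IsAlgClosed K] {A B : Over (Spec (CommRingCat.of K))}
  [GrpObj A] [IsProper A.hom] [GeometricallyIntegral A.hom] [GrpObj B] [IsProper B.hom]

/-- A homomorphism with finitely many rational points in its kernel is finite. -/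
theorem isFinite_of_finite_ker (f : A ⟶ B) [IsMonHom f]
    (h : {a : 𝟙_ (Over (Spec (CommRingCat.of K))) ⟶ A | a ≫ f = 1}.Finite) : IsFinite f.left := by
  refine AbTors.isFinite_of_forall_subgroup f fun C _ _ _ i _ _ hif => ?_
  haveI : Mono i := by
    haveI : Mono ((Over.forget _).map i) := inferInstanceAs (Mono i.left)
    exact (Over.forget _).mono_of_mono_map inferInstance
  haveI := h.to_subtype
  haveI : Finite (𝟙_ (Over (Spec (CommRingCat.of K))) ⟶ C) :=
    Finite.of_injective (β := {a : 𝟙_ (Over (Spec (CommRingCat.of K))) ⟶ A | a ≫ f = 1})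
      (fun z => ⟨z ≫ i, by show (z ≫ i) ≫ f = 1; rw [Category.assoc, hif, MonObj.comp_one]⟩)
      fun z z' e => (cancel_mono i).1 (congrArg Subtype.val e)
  exact subsingleton_of_finite_pts C

theorem euler_eq_zero_closed {C : Over (Spec (CommRingCat.of K))} [GrpObj C] [IsProper C.hom]
    [GeometricallyIntegral B.hom] (w : A ⟶ C) [IsMonHom w]
    (hw : ¬ IsFinite w.left) {y : Pic (B ⊗ C).left} {N : (B ⊗ A).left.Modules}
    (hN : HasCls N (pull (B ◁ w).left y)) : @Curv2.euler K _ (B ⊗ A).left ⟨(B ⊗ A).hom⟩ N = 0 := by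
  haveI : IsProper (B ⊗ A).hom := inferInstanceAs (IsProper (pullback.fst B.hom A.hom ≫ B.hom))
  haveI : GeometricallyIntegral (B ⊗ A).hom :=
    CubeRel26.geometricallyIntegral_comp (pullback.fst B.hom A.hom) B.hom
  by_contra hne
  refine hw (isFinite_of_finite_ker w ?_)
  have hfin := Index.nondeg_of_euler (A := B ⊗ A) hN hne
  refine Set.Finite.of_finite_image (f := fun a => lift (1 : 𝟙_ _ ⟶ B) a) (hfin.subset ?_) fun a _ a' _ e => ?_
  · rintro _ ⟨a, ha : a ≫ w = 1, rfl⟩
    show pull (transl (lift (1 : 𝟙_ _ ⟶ B) a)).left (pull (B ◁ w).left y) = pull (B ◁ w).left y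
    rw [pull_pull_over]
    congr 3
    apply CartesianMonoidalCategory.hom_ext
    · rw [Category.assoc, whiskerLeft_fst, transl, MonObj.mul_comp, Category.assoc, lift_fst, MonObj.comp_one,
        _root_.mul_one, Category.id_comp]
    · rw [Category.assoc, whiskerLeft_snd, ← Category.assoc, transl, MonObj.mul_comp, Category.assoc, lift_snd,
        Category.id_comp, MonObj.mul_comp, Category.assoc, ha, MonObj.comp_one, _root_.mul_one]
  · simpa using congrArg (· ≫ snd B A) e

end Closed

variable {k : Type u} [Field k] {A B C : Over (Spec (CommRingCat.of k))}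
  [GrpObj A] [IsProper A.hom] [GeometricallyIntegral A.hom]
  [GrpObj B] [IsProper B.hom] [GeometricallyIntegral B.hom] [GrpObj C] [IsProper C.hom]

/-- **A class pulled back along a non-finite homomorphism has Euler characteristic zero.** -/
theorem euler_eq_zero (w : A ⟶ C) [IsMonHom w] (hw : ¬ IsFinite w.left) {L : (B ⊗ C).left.Modules}
    (hL : PicF.IsInvertible L) :
    @Curv2.euler k _ (B ⊗ A).left ⟨(B ⊗ A).hom⟩ ((Scheme.Modules.pullback (B ◁ w).left).obj L) = 0 := by
  let K := AlgebraicClosure k
  let b : Spec (CommRingCat.of K) ⟶ Spec (CommRingCat.of k) := Spec.map (CommRingCat.ofHom (algebraMap k K))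
  let P := Over.pullback b
  letI : GrpObj (P.obj A) := Functor.grpObjObj
  letI : GrpObj (P.obj B) := Functor.grpObjObj
  letI : GrpObj (P.obj C) := Functor.grpObjObj
  haveI : IsProper (P.obj A).hom := inferInstanceAs (IsProper (pullback.snd A.hom b))
  haveI : IsProper (P.obj B).hom := inferInstanceAs (IsProper (pullback.snd B.hom b))
  haveI : IsProper (P.obj C).hom := inferInstanceAs (IsProper (pullback.snd C.hom b))
  haveI : GeometricallyIntegral (P.obj A).hom := inferInstanceAs (GeometricallyIntegral (pullback.snd A.hom b))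
  haveI : GeometricallyIntegral (P.obj B).hom := inferInstanceAs (GeometricallyIntegral (pullback.snd B.hom b))
  haveI : IsProper (B ⊗ A).hom := inferInstanceAs (IsProper (pullback.fst B.hom A.hom ≫ B.hom))
  letI : (B ⊗ A).left.Over (Spec (CommRingCat.of k)) := ⟨(B ⊗ A).hom⟩
  haveI : IsProper ((B ⊗ A).left ↘ Spec (CommRingCat.of k)) := ‹IsProper (B ⊗ A).hom›
  have hc := (hasCls_clsMod hL).pullback (B ◁ w).left
  haveI : ((Scheme.Modules.pullback (B ◁ w).left).obj L).IsQuasicoherent :=
    (Euler.isCoh_of_isInvertible hc.choose).1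
  rw [← Hilb20.euler_bc k K]
  let M := (Scheme.Modules.pullback (pullback.fst (B ⊗ A).hom b)).obj ((Scheme.Modules.pullback (B ◁ w).left).obj L)
  have hM : HasCls M (pull (pullback.fst (B ⊗ A).hom b) (pull (B ◁ w).left (clsMod hL))) := hc.pullback _
  show @Curv2.euler K _ (P.obj (B ⊗ A)).left ⟨(P.obj (B ⊗ A)).hom⟩ M = 0
  let e : P.obj B ⊗ P.obj A ⟶ P.obj (B ⊗ A) := Functor.LaxMonoidal.μ P B A
  haveI : IsIso e := (Functor.Monoidal.μIso P B A).isIso_hom
  haveI : IsIso e.left := Functor.map_isIso (Over.forget _) e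
  letI : (P.obj (B ⊗ A)).left.Over (Spec (CommRingCat.of K)) := ⟨(P.obj (B ⊗ A)).hom⟩
  letI : (P.obj B ⊗ P.obj A).left.Over (Spec (CommRingCat.of K)) := ⟨(P.obj B ⊗ P.obj A).hom⟩
  haveI : M.IsQuasicoherent := (Euler.isCoh_of_isInvertible hM.choose).1
  rw [← CurveMult.RelNef.euler_pullback_iso (K := K) e.left (Over.w e) M]
  haveI : IsMonHom (P.map w) := inferInstance
  refine euler_eq_zero_closed (P.map w) (fun h => hw ?_) (y := pull ((Functor.LaxMonoidal.μ P B C).left ≫
    pullback.fst (B ⊗ C).hom b) (clsMod hL)) ?_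
  · refine MorphismProperty.of_isPullback_of_descendsAlong (P := @IsFinite) (Q := EtSite.fpqcCov)
      (DualBC.isPullback_map_left (b := b) w).flip ?_ h
    haveI : Flat b := by
      rw [HasRingHomProperty.Spec_iff (P := @Flat)]
      exact RingHom.flat_algebraMap_iff.2 inferInstance
    haveI : Surjective b := ⟨fun x =>
      ⟨⟨⊥, Ideal.isPrime_bot⟩, Subsingleton.elim (α := PrimeSpectrum k) _ _⟩⟩
    exact ⟨⟨inferInstance, inferInstance⟩, inferInstance⟩
  · have h := hM.pullback e.left
    have hq : (P.obj B ◁ P.map w).left ≫ (Functor.LaxMonoidal.μ P B C).left ≫ pullback.fst (B ⊗ C).hom b =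
        e.left ≫ pullback.fst (B ⊗ A).hom b ≫ (B ◁ w).left := by
      rw [← DualBC.map_left_fst, ← Category.assoc, ← Category.assoc, ← Over.comp_left, ← Over.comp_left]
      congr 2
      exact Functor.LaxMonoidal.μ_natural_right P B w
    rw [pull_comp, hq, ← pull_comp, ← pull_comp]
    exact h

end GrothLib.EulerWhisker
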