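import Groth.Agent.Lib.Poincare.SimpleFrob
import Groth.Agent.Lib.DegPoly.TangentKer
import Groth.Agent.Lib.Zeta.Frobenius
import Groth.Agent.Lib.DegPoly.BaseChange

/-!
# The kernel of `π ^ m - 1` is reduced
-/

universe u

open CategoryTheory CategoryTheory.Limits MonoidalCategory CartesianMonoidalCategory MonObj GrpObj AlgebraicGeometry
open GrothLib.DegPoly (bcMap bcMap_left_fst isPullback_bcMap isFinite_bcMap_iff ptsEquiv_comp algHomEquivPts)
open IsLocalRing
open scoped CategoryTheory.Obj

set_option backward.isDefEq.respectTransparency false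

noncomputable section

namespace GrothLib.Poincare

variable {k : Type u} [Field k]

/-- The iterates of an endomorphism as morphisms of schemes. -/
theorem toHom_pow_left {A : Over (Spec (CommRingCat.of k))} [GrpObj A] [IsCommMonObj A] (φ : EndAV.End A) :
    ∀ m : ℕ, (φ ^ m).toHom.left = Zeta.iterHom φ.toHom.left m
  | 0 => by rw [pow_zero, EndAV.End.toHom_one]; rfl
  | m + 1 => by
    rw [EndAV.End.toHom_pow_succ, Over.comp_left, toHom_pow_left φ m]
    rfl

/-- Functions on a finite scheme of Frobenius-fixed points are locally constant. -/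
theorem isReduced_of_fixed [Finite k] {Ω : Type u} [Field Ω] [IsAlgClosed Ω] [Algebra k Ω] {X₀ : Scheme.{u}}
    (FX : X₀ ⟶ X₀) {hle : ∀ U : X₀.Opens, U ≤ FX ⁻¹ᵁ U}
    (happ : ∀ (U : X₀.Opens) (s : Γ(X₀, U)), (FX.appLE U U (hle U)).hom s = s ^ Nat.card k)
    {X : Scheme.{u}} {p : X ⟶ X₀} {g : X ⟶ Spec (CommRingCat.of Ω)} {f : X₀ ⟶ Spec (CommRingCat.of k)}
    (hp : IsPullback p g f (Spec.map (CommRingCat.ofHom (algebraMap k Ω))))
    {H : Type u} [CommRing H] [Algebra Ω H] [Module.Finite Ω H]
    (e : Spec (CommRingCat.of H) ⟶ X) [Mono e] (he : e ≫ g = Spec.map (CommRingCat.ofHom (algebraMap Ω H)))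
    {m : ℕ} (hm : 1 ≤ m) (hfix : (e ≫ p) ≫ Zeta.iterHom FX m = e ≫ p) :
    _root_.IsReduced H := by
  refine ⟨fun x hx => ?_⟩
  haveI : IsArtinianRing H := IsArtinianRing.of_finite Ω H
  refine eq_zero_of_localization _ fun M hM => ?_
  let R := Localization.AtPrime M
  haveI : IsArtinianRing R := IsArtinianRing.localization_surjective M.primeCompl R |>.isArtinianRing
  haveI : Module.Finite Ω R := Module.Finite.of_surjective
    (Algebra.ofId H R |>.restrictScalars Ω).toLinearMap (IsArtinianRing.localization_surjective M.primeCompl R)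
  haveI : Module.Finite Ω (ResidueField R) := Module.Finite.of_surjective
    (IsScalarTower.toAlgHom Ω R (ResidueField R)).toLinearMap residue_surjective
  have hbij : Function.Bijective (algebraMap Ω (ResidueField R)) :=
    IsAlgClosed.algebraMap_bijective_of_isIntegral
  obtain ⟨c, hc, hsub⟩ : ∃ c : R →+* Ω, (∀ a : Ω, c (algebraMap Ω R a) = a) ∧
      ∀ a : R, a - algebraMap Ω R (c a) ∈ maximalIdeal R := by
    refine ⟨(RingEquiv.ofBijective _ hbij).symm.toRingHom.comp (residue R), fun a => ?_, fun a => ?_⟩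
    · show (RingEquiv.ofBijective _ hbij).symm (residue R (algebraMap Ω R a)) = a
      rw [RingEquiv.symm_apply_eq]
      rfl
    · rw [← residue_eq_zero_iff, map_sub, sub_eq_zero]
      exact ((RingEquiv.ofBijective _ hbij).apply_symm_apply (residue R a)).symm
  obtain ⟨N, hN⟩ : IsNilpotent (maximalIdeal R) := by
    have := IsArtinianRing.isNilpotent_jacobson_bot (R := R)
    rwa [IsLocalRing.jacobson_eq_maximalIdeal ⊥ bot_ne_top] at this
  letI : Algebra k R := ((algebraMap Ω R).comp (algebraMap k Ω)).toAlgebra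
  let loc : H →+* R := algebraMap H R
  let t : Spec (CommRingCat.of R) ⟶ X := Spec.map (CommRingCat.ofHom loc) ≫ e
  let u := t ≫ p
  -- the point is fixed by every multiple of `m`
  have hu : ∀ j, Spec.map (CommRingCat.ofHom (Zeta.fr k R (m * j))) ≫ u = u := by
    intro j
    induction j with
    | zero =>
      rw [Nat.mul_zero, show Zeta.fr k R 0 = RingHom.id R from RingHom.ext fun a => by simp [Zeta.fr_apply],
        CommRingCat.ofHom_id, Spec.map_id, Category.id_comp]
    | succ j ih =>
      have h1 : Zeta.fr k R (m * (j + 1)) = (Zeta.fr k R m).comp (Zeta.fr k R (m * j)) := RingHom.ext fun a => by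
        simp only [RingHom.comp_apply, Zeta.fr_apply, ← pow_mul, ← pow_add]
        congr 2
      rw [h1, CommRingCat.ofHom_comp, Spec.map_comp, Category.assoc, ih, ← Zeta.comp_iterFrobenius FX hle happ u m]
      show ((Spec.map (CommRingCat.ofHom loc) ≫ e) ≫ p) ≫ _ = (Spec.map (CommRingCat.ofHom loc) ≫ e) ≫ p
      simp only [Category.assoc] at hfix ⊢
      rw [hfix]
  -- a high power of Frobenius factors through the residue field
  have hQ : N ≤ Nat.card k ^ (m * N) :=
    (Nat.le_mul_of_pos_left N hm).trans (Nat.lt_pow_self Finite.one_lt_card).le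
  have hfr : Zeta.fr k R (m * N) = ((algebraMap Ω R).comp (Zeta.fr k Ω (m * N))).comp c := RingHom.ext fun a => by
    have h0 : Zeta.fr k R (m * N) (a - algebraMap Ω R (c a)) = 0 := by
      rw [Zeta.fr_apply]
      have := Ideal.pow_le_pow_right hQ (Ideal.pow_mem_pow (hsub a) _)
      rwa [hN] at this
    rw [map_sub, sub_eq_zero] at h0
    rw [h0, RingHom.comp_apply, RingHom.comp_apply, Zeta.fr_apply, Zeta.fr_apply, map_pow]
  let aB : Spec (CommRingCat.of R) ⟶ Spec (CommRingCat.of Ω) := Spec.map (CommRingCat.ofHom (algebraMap Ω R))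
  let sc : Spec (CommRingCat.of Ω) ⟶ Spec (CommRingCat.of R) := Spec.map (CommRingCat.ofHom c)
  have hsec : sc ≫ aB = 𝟙 _ := by
    rw [← Spec.map_comp, ← CommRingCat.ofHom_comp, ← Spec.map_id]
    exact congrArg Spec.map (CommRingCat.hom_ext (RingHom.ext hc))
  have hu' : u = aB ≫ sc ≫ u := by
    have h2 := hu N
    rw [hfr, CommRingCat.ofHom_comp, CommRingCat.ofHom_comp, Spec.map_comp, Spec.map_comp] at h2
    simp only [Category.assoc] at h2
    conv_lhs => rw [← h2]
    conv_rhs => rw [← h2]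
    rw [reassoc_of% hsec]
  have htg : t ≫ g = aB := by
    show (Spec.map (CommRingCat.ofHom loc) ≫ e) ≫ g = _
    rw [Category.assoc, he, ← Spec.map_comp]
    exact congrArg Spec.map (CommRingCat.hom_ext (IsScalarTower.algebraMap_eq Ω H R).symm)
  have ht : t = aB ≫ sc ≫ t := by
    refine hp.hom_ext ?_ ?_
    · simp only [Category.assoc]
      exact hu'
    · simp only [Category.assoc, htg, hsec, Category.comp_id]
  simp only [t, ← Category.assoc, cancel_mono] at ht
  have h3 := DFunLike.congr_fun (congrArg CommRingCat.Hom.hom (Spec.map_injective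
    (ht.trans ((congrArg (· ≫ _) (Spec.map_comp _ _).symm).trans (Spec.map_comp _ _).symm)))) x
  have h0 : c (loc x) = 0 := ((hx.map loc).map c).eq_zero
  show loc x = 0
  rw [show loc x = algebraMap Ω R (c (loc x)) from h3, h0, map_zero]

variable [Finite k] {Ω : Type u} [Field Ω] [IsAlgClosed Ω] [Algebra k Ω] {A : Over (Spec (CommRingCat.of k))}
  [GrpObj A] [IsCommMonObj A] [IsProper A.hom] [GeometricallyIntegral A.hom]

/-- The degree of `π ^ m - 1` counts the fixed geometric points. -/
theorem card_ker_eq_finrank (πA : A ⟶ A) [IsMonHom πA] (hle : ∀ U : A.left.Opens, U ≤ πA.left ⁻¹ᵁ U)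
    (happ : ∀ (U : A.left.Opens) (s : Γ(A.left, U)), (πA.left.appLE U U (hle U)).hom s = s ^ Nat.card k)
    {m : ℕ} (hm : 1 ≤ m) [IsFinite (EndAV.End.of πA ^ m - 1).toHom.left] :
    ∃ x : A.left, Nat.card {a : Over.mk (Spec.map (CommRingCat.ofHom (algebraMap k Ω))) ⟶ A //
        a ≫ (EndAV.End.of πA ^ m - 1).toHom = 1} = (EndAV.End.of πA ^ m - 1).toHom.left.finrank x := by
  set σ := Spec.map (CommRingCat.ofHom (algebraMap k Ω))
  set φ := (EndAV.End.of πA ^ m - 1).toHom with hφdef
  haveI : IsProper (DegPoly.bc σ A).hom := inferInstanceAs (IsProper (pullback.snd A.hom σ))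
  haveI : GeometricallyIntegral (DegPoly.bc σ A).hom := inferInstanceAs (GeometricallyIntegral (pullback.snd A.hom σ))
  haveI := GrothLib.Cube.isCommMonObj_abVar (A := DegPoly.bc σ A)
  set A' := DegPoly.bc σ A
  set f := bcMap σ φ
  haveI : IsMonHom f := inferInstance
  haveI : IsFinite f.left := (isFinite_bcMap_iff σ φ).2 inferInstance
  obtain ⟨g, hg⟩ := AbTors.exists_dim A'
  haveI := DegPoly.surjective_of_finite hg hg f
  haveI : IsIntegral A'.left := GeometricallyIntegral.isIntegral_of_subsingleton A'.hom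
  obtain ⟨g₀, hg₀⟩ := AbTors.exists_dim A
  haveI := DegPoly.surjective_of_finite hg₀ hg₀ φ
  haveI : IsIntegral A.left := GeometricallyIntegral.isIntegral_of_subsingleton A.hom
  haveI : Flat φ.left := GrothLib.GrpSchField.flat_hom φ
  let N : Over (Spec (CommRingCat.of Ω)) := pullback f η[A']
  let i : N ⟶ A' := pullback.fst f η[A']
  have hi : AlgGrp.IsKernel i f := by
    have := IsPullback.of_hasPullback f η[A']
    rwa [toUnit_unique (pullback.snd f η[A']) (toUnit _)] at this
  obtain ⟨_, hmon⟩ := GrpDeligne.exists_grpObj_kernel f i hi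
  haveI := GrpDeligne.mono_of_isKernel hi
  have hpb : IsPullback i.left N.hom f.left η[A'].left := hi.map (Over.forget _)
  haveI : IsFinite N.hom := MorphismProperty.of_isPullback hpb ‹_›
  have haff : IsAffine N.left := isAffine_of_isAffineHom N.hom
  obtain ⟨H', ⟨eH⟩⟩ := (essImage_hopfSpec (R := CommRingCat.of Ω) (G := Grp.mk N)).2 haff
  obtain ⟨H, rfl⟩ : ∃ H, Opposite.op H = H' := ⟨H'.unop, rfl⟩
  let P : Over (Spec (CommRingCat.of Ω)) :=
    (Spec (CommRingCat.of (H : Type u))).asOver (Spec (CommRingCat.of Ω))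
  let w : P ≅ N := (Grp.forget _).mapIso eH
  haveI : IsFinite (Spec.map (CommRingCat.ofHom (algebraMap Ω H))) := by
    have : IsFinite P.hom := by rw [← Over.w w.hom]; infer_instance
    exact this
  haveI : Module.Finite Ω H := RingHom.finite_algebraMap.1 ((IsFinite.SpecMap_iff _).1 ‹_›)
  refine ⟨pullback.fst A.hom σ (η[A'].left (closedPoint Ω)), ?_⟩
  have hrk : φ.left.finrank (pullback.fst A.hom σ (η[A'].left (closedPoint Ω))) = Module.finrank Ω (H : Type u) := by
    refine (Scheme.Hom.finrank_of_isPullback _ _ _ _ (isPullback_bcMap σ φ) (η[A'].left (closedPoint Ω))).symm.trans ?_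
    haveI : Flat f.left := GrothLib.GrpSchField.flat_hom f
    refine (Scheme.Hom.finrank_of_isPullback _ _ _ _ hpb (closedPoint Ω)).symm.trans ?_
    rw [← Scheme.Hom.finrank_comp_left_of_isIso w.hom.left N.hom, Over.w w.hom]
    show Scheme.Hom.finrank (Spec.map (CommRingCat.ofHom (algebraMap Ω H))) (closedPoint Ω) = _
    rw [Scheme.Hom.finrank_SpecMap_algebraMap, Module.rankAtStalk_eq_finrank_of_free]
    rfl
  have hcard : Nat.card {a : Over.mk σ ⟶ A // a ≫ φ = 1} = Nat.card ((H : Type u) →ₐ[Ω] Ω) := by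
    refine Nat.card_congr (Equiv.symm (((algHomEquivPts (K := Ω) (H : Type u)).trans
      (Equiv.ofBijective (fun b => (⟨b ≫ w.hom ≫ i, by
          rw [Category.assoc, Category.assoc, GrpDeligne.ker_comp_eq_one hi, MonObj.comp_one, MonObj.comp_one]⟩ :
          {a : Over.mk (𝟙 (Spec (CommRingCat.of Ω))) ⟶ A' // a ≫ f = 1}))
        ⟨fun b c h => (cancel_mono (w.hom ≫ i)).1 (congrArg Subtype.val h), fun a => ?_⟩)).trans
      ((DegPoly.ptsEquiv σ (A := A)).toEquiv.subtypeEquiv fun a => ?_).symm))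
    · obtain ⟨b, hb⟩ := GrpDeligne.exists_lift_ker hi a.1 a.2
      exact ⟨b ≫ w.inv, Subtype.ext (by simp [hb])⟩
    · show a ≫ φ = 1 ↔ DegPoly.ptsEquiv σ a ≫ bcMap σ φ = 1
      rw [← ptsEquiv_comp, map_eq_one_iff _ (DegPoly.ptsEquiv σ (A := A)).injective]
  rw [hcard, hrk]
  let ψ := (EndAV.End.of πA ^ m).toHom
  have hf : f = bcMap σ ψ / 𝟙 A' := by
    show (Functor.homMonoidHom (Over.pullback σ)) φ = _
    rw [hφdef, EndAV.End.toHom_sub, EndAV.End.toHom_one, map_div]
    exact congrArg (_ / ·) ((Over.pullback σ).map_id A)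
  have hfix : i ≫ bcMap σ ψ = i := by
    have h1 := GrpDeligne.ker_comp_eq_one hi
    rw [hf, GrpObj.comp_div, Category.comp_id] at h1
    exact div_eq_one.1 h1
  haveI : _root_.IsReduced (H : Type u) := by
    haveI : Mono (w.hom ≫ i).left := inferInstance
    refine isReduced_of_fixed (Ω := Ω) πA.left happ (IsPullback.of_hasPullback A.hom σ) (w.hom ≫ i).left
      (Over.w (w.hom ≫ i)) hm ?_
    rw [Category.assoc, ← EndAV.End.toHom_of πA, ← toHom_pow_left, ← bcMap_left_fst, ← Category.assoc,
      ← Over.comp_left, Category.assoc, hfix]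
  rw [DegPoly.finrank_eq_card_mul (K := Ω) (H := (H : Type u)) (N := 1)
    (by rw [pow_one]; exact nilradical_eq_zero _), pow_one]
  change _ = _ * Module.finrank Ω ((H : Type u) ⧸ RingHom.ker (Bialgebra.counitAlgHom Ω (H : Type u)))
  rw [(Ideal.quotientKerAlgEquivOfSurjective (f := Bialgebra.counitAlgHom Ω (H : Type u))
    fun a => ⟨algebraMap Ω _ a, AlgHom.commutes _ a⟩).toLinearEquiv.finrank_eq, Module.finrank_self, _root_.mul_one]

end GrothLib.Poincare
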