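import Groth.Agent.Lib.Poincare.IndexPow
import Groth.Agent.Lib.Snapper.ZGrowth
import Groth.Agent.Lib.EulerPull.RR
import Groth.Agent.Lib.Hilb20.Poly
import Mathlib.Topology.Order.Compact

/-!
# The index is the number of positive roots of the Hilbert polynomial

For a class `x` and an ample class `y` on an abelian variety let `P(t) = chiA (x y^t)`. The class `x^a y^b` has
Euler characteristic `a^g P(b/a)`; its index is locally constant off the roots of `P` and drops by at most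
the multiplicity across a root. As it is `g` for `b/a ≪ 0` and `0` for `b/a ≫ 0`, all roots are real and
the index counts the roots above `b/a`.
-/

set_option autoImplicit false
set_option linter.all false
set_option backward.isDefEq.respectTransparency false
set_option maxHeartbeats 1000000

universe u

open CategoryTheory CategoryTheory.Limits AlgebraicGeometry TopologicalSpace
open MonoidalCategory CartesianMonoidalCategory
open GrothLib.HodgeIndex (rep isInv_rep cls_rep chi)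
open GrothLib.Cube (Pic clsMod HasCls hasCls_clsMod hasCls_structureModule)
open GrothLib.Snapper (hf wt DimLT)
open Polynomial

noncomputable section

namespace GrothLib.Index

variable {K : Type u} [Field K] {A : Over (Spec (CommRingCat.of K))} [GrpObj A]
  [IsProper A.hom] [GeometricallyIntegral A.hom]

/-- The Euler characteristic of a class on `A`. -/
def chiA (z : Pic A.left) : ℤ :=
  letI : A.left.Over (Spec (CommRingCat.of K)) := ⟨A.hom⟩
  chi K z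

/-- The dimensions of the cohomology of a class on `A`. -/
def etaA (z : Pic A.left) (j : ℕ) : ℕ :=
  letI : A.left.Over (Spec (CommRingCat.of K)) := ⟨A.hom⟩
  hf K (Coh.structureModule A.left) z j

theorem isCoh_structure : Coh.IsCoh (Coh.structureModule A.left) :=
  haveI : IsLocallyNoetherian A.left := LocallyOfFiniteType.isLocallyNoetherian A.hom
  Euler.isCoh_of_isInvertible Euler.isInvertible_structure

theorem dimLT_structure {g : ℕ} (hg : topologicalKrullDim A.left = g) :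
    DimLT (CohB1.support (Coh.structureModule A.left)) (g + 1) :=
  (Snapper.dimLT_of_dim_le ((IsHomeomorph.topologicalKrullDim_eq _
    (Homeomorph.Set.univ A.left).isHomeomorph).trans hg).le).mono (Set.subset_univ _)

/-- `chiA (z^n) = n^g chiA (z)`. -/
theorem chi_pow {g : ℕ} (hg : topologicalKrullDim A.left = g) (z : Pic A.left) (n : ℕ) :
    chiA (z ^ n) = (n : ℤ) ^ g * chiA z := by
  letI : A.left.Over (Spec (CommRingCat.of K)) := ⟨A.hom⟩
  show Curv2.euler K A.left (rep (z ^ n)) = _ * Curv2.euler K A.left (rep z)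
  rw [← EulerPull.euler_eq_of_hasCls ((hasCls_rep z).tensorPow n) (hasCls_rep (z ^ n))]
  exact EulerPull.euler_tensorPow A hg (isInv_rep z) n

/-- Along a line the Euler characteristic is polynomial of degree at most `g`. -/
theorem exists_chi_poly {g : ℕ} (hg : topologicalKrullDim A.left = g) (w y : Pic A.left) :
    ∃ Q : ℚ[X], Q.natDegree ≤ g ∧ ∀ n : ℕ, (chiA (w * y ^ n) : ℚ) = Q.eval (n : ℚ) := by
  letI : A.left.Over (Spec (CommRingCat.of K)) := ⟨A.hom⟩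
  haveI : IsProper (A.left ↘ Spec (CommRingCat.of K)) := ‹IsProper A.hom›
  haveI : IsLocallyNoetherian A.left := LocallyOfFiniteType.isLocallyNoetherian A.hom
  obtain ⟨Q, hQ, hdeg⟩ := Hilb20.exists_isHilbPoly_of_dimLT (k := K) (L := rep y) (E := rep w) (isInv_rep y)
    (Euler.isCoh_of_isInvertible (isInv_rep w)) (d := g + 1)
    ((Snapper.dimLT_of_dim_le ((IsHomeomorph.topologicalKrullDim_eq _
      (Homeomorph.Set.univ A.left).isHomeomorph).trans hg).le).mono (Set.subset_univ _))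
  refine ⟨Q, ?_, fun n => ?_⟩
  · rcases eq_or_ne Q 0 with rfl | h0
    · simp
    · rw [degree_eq_natDegree h0] at hdeg
      have : Q.natDegree < g + 1 := by exact_mod_cast hdeg
      omega
  · rw [← hQ n]
    exact congrArg Int.cast
      (EulerPull.euler_eq_of_hasCls (hasCls_rep (w * y ^ n)) ((hasCls_rep w).tensor ((hasCls_rep y).tensorPow n)))

/-- `Φ` is the Hilbert polynomial of `x` along `y`. -/
def IsHP (x y : Pic A.left) (Φ : ℚ[X]) : Prop := ∀ n : ℕ, Φ.eval (n : ℚ) = (chiA (x * y ^ n) : ℚ)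

theorem IsHP.natDegree_le {g : ℕ} (hg : topologicalKrullDim A.left = g) {x y : Pic A.left} {Φ : ℚ[X]}
    (hΦ : IsHP x y Φ) : Φ.natDegree ≤ g := by
  obtain ⟨Q, hQ, hQe⟩ := exists_chi_poly hg x y
  rwa [Hilb20.eq_of_forall_nat_eval (P := Φ) (Q := Q) fun n => (hΦ n).trans (hQe n)]

/-- `chiA (x^a y^b) = a^g Φ(b/a)`. -/
theorem IsHP.chi_eq {g : ℕ} (hg : topologicalKrullDim A.left = g) {x y : Pic A.left} {Φ : ℚ[X]}
    (hΦ : IsHP x y Φ) {a : ℕ} (ha : 0 < a) (b : ℤ) :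
    (chiA (x ^ (a : ℤ) * y ^ b) : ℚ) = (a : ℚ) ^ g * Φ.eval ((b : ℚ) / a) := by
  set M := b.natAbs
  obtain ⟨Q, -, hQ⟩ := exists_chi_poly hg (x ^ (a : ℤ) * y ^ (-((a * M : ℕ) : ℤ))) y
  have hQe : Q = C ((a : ℚ) ^ g) * Φ.comp (C ((a : ℚ)⁻¹) * (X - C (((a * M : ℕ) : ℚ)))) := by
    refine Polynomial.eq_of_infinite_eval_eq _ _ (Set.infinite_of_injective_forall_mem
      (f := fun t : ℕ => ((a * M + a * t : ℕ) : ℚ)) (fun s t h => ?_) fun t => ?_)
    · have h' : a * M + a * s = a * M + a * t := by exact_mod_cast (show ((a * M + a * s : ℕ) : ℚ) = ((a * M + a * t : ℕ) : ℚ) from h)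
      exact Nat.eq_of_mul_eq_mul_left ha (by omega)
    show Q.eval _ = _
    rw [← hQ, eval_mul, eval_C, eval_comp, eval_mul, eval_C, eval_sub, eval_X, eval_C,
      show (a : ℚ)⁻¹ * (((a * M + a * t : ℕ) : ℚ) - ((a * M : ℕ) : ℚ)) = (t : ℚ) by
        have : (a : ℚ) ≠ 0 := by exact_mod_cast ha.ne'
        push_cast; field_simp; ring, hΦ t,
      show x ^ (a : ℤ) * y ^ (-((a * M : ℕ) : ℤ)) * y ^ (a * M + a * t) = (x * y ^ t) ^ a by
        rw [mul_assoc, ← zpow_natCast y (a * M + a * t), ← zpow_add, mul_pow, ← pow_mul, ← zpow_natCast x a,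
          ← zpow_natCast y (t * a)]
        congr 2
        push_cast; ring,
      chi_pow hg]
    push_cast
    ring
  obtain ⟨n, hn⟩ : ∃ n : ℕ, b = (n : ℤ) - ((a * M : ℕ) : ℤ) := by
    refine ⟨(b + ((a * M : ℕ) : ℤ)).toNat, ?_⟩
    have : M ≤ a * M := Nat.le_mul_of_pos_left M ha
    have hM : -(M : ℤ) ≤ b := by simp only [M, Int.natCast_natAbs]; exact neg_abs_le b
    omega
  have h := hQ n
  rw [hQe, mul_assoc (x ^ (a : ℤ)), ← zpow_natCast y n, ← zpow_add, neg_add_eq_sub, ← hn, eval_mul, eval_C, eval_comp,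
    eval_mul, eval_C, eval_sub, eval_X, eval_C] at h
  rw [h, div_eq_inv_mul, hn]
  push_cast
  ring

/-- The dimensions of the cohomology of a concentrated class. -/
theorem Conc.hf_eq {z : Pic A.left} {i : ℕ} (h : Conc z i) :
    (∀ j, j ≠ i → etaA z j = 0) ∧ ((etaA z i : ℤ)) = |chiA z| := by
  letI : A.left.Over (Spec (CommRingCat.of K)) := ⟨A.hom⟩
  haveI : IsProper (A.left ↘ Spec (CommRingCat.of K)) := ‹IsProper A.hom›
  have hc : HasCls ((Euler.tF (rep z)).obj (Coh.structureModule A.left)) z := by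
    have := (hasCls_structureModule A.left).tensor (hasCls_rep z)
    rwa [_root_.one_mul] at this
  obtain ⟨e⟩ := hc.iso (hasCls_rep z) rfl
  have he : ∀ j, etaA z j = Module.finrank K (Coh.HH A.left (rep z) j) := fun j =>
    (Euler.hhEquiv (A := K) e j).finrank_eq
  refine ⟨fun j hj => ?_, ?_⟩
  · haveI := h.1 j hj
    rw [he, Module.finrank_zero_of_subsingleton]
  · rw [he]
    show _ = |Curv2.euler K A.left (rep z)|
    rw [(h.euler K).1, abs_mul, abs_pow, abs_neg, abs_one, one_pow, _root_.one_mul, Nat.abs_cast]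

variable [IsAlgClosed K]

theorem exists_conc_of_chi {g : ℕ} (hg : topologicalKrullDim A.left = g) {z : Pic A.left} (h : chiA z ≠ 0) :
    ∃ i, i ≤ g ∧ Conc z i := by
  obtain ⟨i, hi, hc, -⟩ := exists_conc hg (nondeg_of_euler (hasCls_rep z) h)
  exact ⟨i, hi, hc⟩

variable {g : ℕ} (hg : topologicalKrullDim A.left = g) {x y : Pic A.left} {Φ : ℚ[X]} (hΦ : IsHP x y Φ)
  (hy : CohB1.IsAmple (rep y))

local notation "𝔓" => Polynomial.map (algebraMap ℚ ℝ) Φ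

theorem eval_cast (q : ℚ) : (Polynomial.map (algebraMap ℚ ℝ) Φ).eval (q : ℝ) = ((Φ.eval q : ℚ) : ℝ) := by
  rw [Polynomial.eval_map, ← eq_ratCast (algebraMap ℚ ℝ) q, Polynomial.eval₂_at_apply]
  exact eq_ratCast _ _

include hg hΦ in
/-- Pairs off the roots have an index. -/
theorem exists_index_pair {a : ℕ} (ha : 0 < a) {b : ℤ} (h : (𝔓).eval ((b : ℝ) / a) ≠ 0) :
    ∃ i, i ≤ g ∧ Conc (x ^ (a : ℤ) * y ^ b) i ∧
      ((etaA (x ^ (a : ℤ) * y ^ b) i : ℝ)) = (a : ℝ) ^ g * |(𝔓).eval ((b : ℝ) / a)| := by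
  have e : (𝔓).eval ((b : ℝ) / a) = ((Φ.eval ((b : ℚ) / a) : ℚ) : ℝ) := by
    rw [← eval_cast]; push_cast; rfl
  have hq := hΦ.chi_eq hg ha b
  have hchi : chiA (x ^ (a : ℤ) * y ^ b) ≠ 0 := by
    intro h0
    rw [h0, Int.cast_zero] at hq
    rcases mul_eq_zero.1 hq.symm with h1 | h1
    · exact absurd h1 (pow_ne_zero _ (by exact_mod_cast ha.ne'))
    · exact h (by rw [e, h1, Rat.cast_zero])
  obtain ⟨i, hi, hc⟩ := exists_conc_of_chi hg hchi
  refine ⟨i, hi, hc, ?_⟩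
  have h2 : ((etaA (x ^ (a : ℤ) * y ^ b) i : ℤ) : ℝ) = ((|chiA (x ^ (a : ℤ) * y ^ b)| : ℤ) : ℝ) := by rw [(Conc.hf_eq hc).2]
  rw [Int.cast_natCast, Int.cast_abs] at h2
  rw [h2, ← Rat.cast_intCast (α := ℝ), hq, e]
  push_cast
  rw [abs_mul, abs_pow, Nat.abs_cast]

theorem exists_forall_le_abs_eval (R : ℝ[X]) {s₀ s₁ : ℝ} (h : s₀ ≤ s₁) (h0 : ∀ t ∈ Set.Icc s₀ s₁, R.eval t ≠ 0) :
    ∃ δ : ℝ, 0 < δ ∧ ∀ t ∈ Set.Icc s₀ s₁, δ ≤ |R.eval t| := by
  obtain ⟨t₀, ht₀, hmin⟩ := isCompact_Icc.exists_isMinOn (Set.nonempty_Icc.2 h)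
    (R.continuous.abs.continuousOn (s := Set.Icc s₀ s₁))
  exact ⟨|R.eval t₀|, abs_pos.2 (h0 t₀ ht₀), fun t ht => hmin ht⟩

include hy in
/-- A uniform Lipschitz constant. -/
theorem exists_lip (hg : topologicalKrullDim A.left = g) (x z : Pic A.left) :
    ∃ C : ℕ, (g = 0 → C = 0) ∧ ∀ j, j ≤ g → ∀ a b : ℤ,
      etaA (x ^ a * y ^ b * z) j ≤ etaA (x ^ a * y ^ b) j + C * wt a b ^ (g - 1) ∧
      etaA (x ^ a * y ^ b) j ≤ etaA (x ^ a * y ^ b * z) j + C * wt a b ^ (g - 1) := by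
  letI : A.left.Over (Spec (CommRingCat.of K)) := ⟨A.hom⟩
  haveI : IsProper (A.left ↘ Spec (CommRingCat.of K)) := ‹IsProper A.hom›
  choose C hC0 hC using fun j => Snapper.exists_lipschitz (k := K) hy isCoh_structure (dimLT_structure hg) x y z j
  refine ⟨∑ j ∈ Finset.range (g + 1), C j, fun h => Finset.sum_eq_zero fun j _ => hC0 j h, fun j hj a b => ?_⟩
  have : C j * wt a b ^ (g - 1) ≤ (∑ l ∈ Finset.range (g + 1), C l) * wt a b ^ (g - 1) :=
    Nat.mul_le_mul_right _ (Finset.single_le_sum (fun l _ => Nat.zero_le _) (Finset.mem_range.2 (by omega)))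
  obtain ⟨h1, h2⟩ := hC j a b
  exact ⟨h1.trans (Nat.add_le_add_left this _), h2.trans (Nat.add_le_add_left this _)⟩

theorem lt_of_big {δ : ℝ} {C : ℕ} {R a : ℝ} (hC : g = 0 → C = 0) (hδ : 0 < δ) (hR : 0 ≤ R) (ha : 0 < a)
    (h : δ * a ^ g ≤ C * (R * a) ^ (g - 1)) : δ * a ≤ C * R ^ (g - 1) := by
  rcases Nat.eq_zero_or_pos g with h0 | h0
  · rw [hC h0, h0] at h
    simp at h
    exact absurd h (not_le.2 hδ)
  · rw [mul_pow, ← Nat.sub_add_cancel h0, pow_succ, Nat.add_sub_cancel] at h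
    refine le_of_mul_le_mul_right (a := a ^ (g - 1)) ?_ (pow_pos ha _)
    calc δ * a * a ^ (g - 1) = δ * (a ^ (g - 1) * a) := by ring
      _ ≤ _ := h
      _ = _ := by ring

include hg hΦ hy in
/-- **The index is constant between roots.** -/
theorem exists_const {s₀ s₁ : ℚ} (h : s₀ < s₁) (h0 : ∀ t ∈ Set.Icc (s₀ : ℝ) s₁, (𝔓).eval t ≠ 0) :
    ∃ i, i ≤ g ∧ ∀ a : ℕ, 0 < a → ∀ b : ℤ, (s₀ : ℝ) * a ≤ b → (b : ℝ) ≤ s₁ * a →
      Conc (x ^ (a : ℤ) * y ^ b) i := by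
  have h' : (s₀ : ℝ) < s₁ := by exact_mod_cast h
  obtain ⟨δ, hδ, hδP⟩ := exists_forall_le_abs_eval (𝔓) h'.le h0
  obtain ⟨Cx, hCx0, hCx⟩ := exists_lip hy hg x x
  obtain ⟨Cy, hCy0, hCy⟩ := exists_lip hy hg x y
  set R : ℝ := |(s₀ : ℝ)| + |(s₁ : ℝ)| + 3
  obtain ⟨N₁, hN₁⟩ := exists_nat_gt (((Cx + Cy : ℕ) : ℝ) * R ^ (g - 1) / δ)
  obtain ⟨N₂, hN₂⟩ := exists_nat_gt ((|(s₀ : ℝ)| + |(s₁ : ℝ)| + 2) / ((s₁ : ℝ) - s₀))
  set N₀ := N₁ + N₂ + 1
  have hR0 : (0 : ℝ) ≤ R := by positivity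
  have hmem : ∀ {a : ℕ}, 0 < a → ∀ {b : ℤ}, (s₀ : ℝ) * a ≤ b → (b : ℝ) ≤ s₁ * a →
      (b : ℝ) / a ∈ Set.Icc (s₀ : ℝ) s₁ := fun {a} ha {b} hb hb' => by
    have ha' : (0 : ℝ) < a := by exact_mod_cast ha
    exact ⟨(le_div_iff₀ ha').2 hb, (div_le_iff₀ ha').2 hb'⟩
  have hidx : ∀ (a : ℕ) (b : ℤ), 0 < a → (s₀ : ℝ) * a ≤ b → (b : ℝ) ≤ s₁ * a →
      ∃ i, i ≤ g ∧ Conc (x ^ (a : ℤ) * y ^ b) i ∧ δ * (a : ℝ) ^ g ≤ (etaA (x ^ (a : ℤ) * y ^ b) i : ℝ) := by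
    intro a b ha hb hb'
    obtain ⟨i, hi, hc, he⟩ := exists_index_pair hg hΦ ha (h0 _ (hmem ha hb hb'))
    exact ⟨i, hi, hc, by rw [he, mul_comm δ]; exact mul_le_mul_of_nonneg_left (hδP _ (hmem ha hb hb')) (by positivity)⟩
  -- neighbours have the same index
  have hnb : ∀ {a : ℕ}, N₀ ≤ a → ∀ {b : ℤ}, (s₀ : ℝ) * a ≤ b → (b : ℝ) ≤ s₁ * a →
      ∀ {a' : ℕ}, N₀ ≤ a' → ∀ {b' : ℤ}, (s₀ : ℝ) * a' ≤ b' → (b' : ℝ) ≤ s₁ * a' →
      (∀ j, j ≤ g → etaA (x ^ (a : ℤ) * y ^ b) j ≤ etaA (x ^ (a' : ℤ) * y ^ b') j + (Cx + Cy) * wt a b ^ (g - 1)) →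
      ∀ {i}, Conc (x ^ (a : ℤ) * y ^ b) i → Conc (x ^ (a' : ℤ) * y ^ b') i := by
    intro a ha b hb hb' a' ha' b' hc hc' hle i hi
    obtain ⟨i₁, hi₁g, hi₁, hbig⟩ := hidx a b (by omega) hb hb'
    obtain rfl := hi.unique hi₁
    obtain ⟨i', -, hi', -⟩ := hidx a' b' (by omega) hc hc'
    suffices e : i = i' by rwa [e]
    by_contra hne
    have h1 := hle i hi₁g
    rw [hi'.hf_eq.1 i hne, zero_add] at h1
    have h2 : (etaA (x ^ (a : ℤ) * y ^ b) i : ℝ) ≤ ((Cx + Cy : ℕ) : ℝ) * ((wt a b : ℕ) : ℝ) ^ (g - 1) := by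
      exact_mod_cast h1
    have ha0 : (1 : ℝ) ≤ a := by exact_mod_cast (show 1 ≤ a by omega)
    have hwt : ((wt a b : ℕ) : ℝ) ≤ R * a := by
      simp only [Snapper.wt, Int.natAbs_natCast]
      push_cast
      rw [Nat.cast_natAbs, Int.cast_abs]
      have h3 : |(b : ℝ)| ≤ (|(s₀ : ℝ)| + |(s₁ : ℝ)|) * a := by
        rw [abs_le]
        constructor <;> nlinarith [abs_nonneg (s₀ : ℝ), abs_nonneg (s₁ : ℝ), neg_abs_le (s₀ : ℝ), le_abs_self (s₁ : ℝ)]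
      simp only [R]
      nlinarith
    have h4 : δ * (a : ℝ) ^ g ≤ ((Cx + Cy : ℕ) : ℝ) * (R * a) ^ (g - 1) :=
      hbig.trans (h2.trans (mul_le_mul_of_nonneg_left (pow_le_pow_left₀ (Nat.cast_nonneg _) hwt _) (Nat.cast_nonneg _)))
    have h5 := lt_of_big (fun h => by rw [hCx0 h, hCy0 h]) hδ hR0 (by linarith) h4
    rw [div_lt_iff₀ hδ] at hN₁
    have h6 : (N₁ : ℝ) ≤ a := by exact_mod_cast (show N₁ ≤ a by omega)
    nlinarith
  -- steps in `b`
  have hcol : ∀ {a : ℕ}, N₀ ≤ a → ∀ {b b' : ℤ}, b ≤ b' → (s₀ : ℝ) * a ≤ b → (b' : ℝ) ≤ s₁ * a →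
      ∀ {i}, Conc (x ^ (a : ℤ) * y ^ b) i → Conc (x ^ (a : ℤ) * y ^ b') i := by
    intro a ha b b' hbb
    induction b', hbb using Int.le_induction with
    | base => exact fun _ _ i hi => hi
    | succ c hc ih =>
      intro hb hb' i hi
      have e : (c : ℝ) + 1 ≤ s₁ * a := by exact_mod_cast hb'
      have ec : (b : ℝ) ≤ c := by exact_mod_cast hc
      refine hnb ha (hb.trans ec) (by linarith) ha (by push_cast; linarith) hb' (fun j hj => ?_) (ih hb (by linarith) hi)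
      obtain ⟨-, h2⟩ := hCy j hj a c
      rw [mul_assoc, ← zpow_add_one] at h2
      exact h2.trans (Nat.add_le_add_left (Nat.mul_le_mul_right _ (Nat.le_add_left _ _)) _)
  have hcol' : ∀ {a : ℕ}, N₀ ≤ a → ∀ {b b' : ℤ}, (s₀ : ℝ) * a ≤ b → (b : ℝ) ≤ s₁ * a → (s₀ : ℝ) * a ≤ b' →
      (b' : ℝ) ≤ s₁ * a → ∀ {i}, Conc (x ^ (a : ℤ) * y ^ b) i → Conc (x ^ (a : ℤ) * y ^ b') i := by
    intro a ha b b' h1 h2 h3 h4 i hi
    rcases le_total b b' with hbb | hbb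
    · exact hcol ha hbb h1 h4 hi
    · obtain ⟨i', -, hi', -⟩ := hidx a b' (by omega) h3 h4
      rwa [hi.unique (hcol ha hbb h3 h2 hi')]
  -- steps in `a`
  have hrow : ∀ a, N₀ ≤ a → ∃ b : ℤ, (s₀ : ℝ) * a ≤ b ∧ (b : ℝ) ≤ s₁ * a ∧
      (s₀ : ℝ) * (a + 1 : ℕ) ≤ b ∧ (b : ℝ) ≤ s₁ * (a + 1 : ℕ) := by
    intro a ha
    have h6 : (N₂ : ℝ) ≤ a := by exact_mod_cast (show N₂ ≤ a by omega)
    rw [div_lt_iff₀ (by linarith)] at hN₂
    have hl := Int.le_ceil ((s₀ : ℝ) * a + |(s₀ : ℝ)|)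
    have hu := Int.ceil_lt_add_one ((s₀ : ℝ) * a + |(s₀ : ℝ)|)
    refine ⟨⌈(s₀ : ℝ) * a + |(s₀ : ℝ)|⌉, ?_, ?_, ?_, ?_⟩ <;> push_cast <;>
      nlinarith [abs_nonneg (s₀ : ℝ), abs_nonneg (s₁ : ℝ), le_abs_self (s₀ : ℝ), neg_abs_le (s₁ : ℝ)]
  obtain ⟨b₀, hb₀, hb₀', -, -⟩ := hrow N₀ le_rfl
  obtain ⟨i, hig, hi, -⟩ := hidx N₀ b₀ (by omega) hb₀ hb₀'
  have hall : ∀ a, N₀ ≤ a → ∀ b : ℤ, (s₀ : ℝ) * a ≤ b → (b : ℝ) ≤ s₁ * a → Conc (x ^ (a : ℤ) * y ^ b) i := by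
    intro a ha
    induction a, ha using Nat.le_induction with
    | base => exact fun b hb hb' => hcol' le_rfl hb₀ hb₀' hb hb' hi
    | succ a ha ih =>
      intro b hb hb'
      obtain ⟨c, hc1, hc2, hc3, hc4⟩ := hrow a ha
      refine hcol' (by omega) hc3 hc4 hb hb' (hnb ha hc1 hc2 (by omega) hc3 hc4 (fun j hj => ?_) (ih c hc1 hc2))
      obtain ⟨-, h2⟩ := hCx j hj a c
      rw [mul_right_comm, ← zpow_add_one] at h2
      rw [Nat.cast_succ]
      exact h2.trans (Nat.add_le_add_left (Nat.mul_le_mul_right _ (Nat.le_add_right _ _)) _)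
  -- down to all pairs by squares prime to the characteristic
  refine ⟨i, hig, fun a ha b hb hb' => ?_⟩
  obtain ⟨j, -, hj, -⟩ := hidx a b ha hb hb'
  obtain ⟨n, hn, hnK⟩ := exists_large K N₀
  have hn1 : 0 < n := by omega
  have hsq := conc_sq hg hj hnK
  rw [mul_pow, ← zpow_natCast, ← zpow_mul, ← zpow_natCast (y ^ b), ← zpow_mul] at hsq
  have ha' : N₀ ≤ n ^ 2 * a :=
    hn.trans ((Nat.le_self_pow two_ne_zero n).trans (Nat.le_mul_of_pos_right _ ha))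
  have hb1 : (0 : ℝ) ≤ (n : ℝ) ^ 2 := by positivity
  have := hall (n ^ 2 * a) ha' (b * ((n ^ 2 : ℕ) : ℤ))
    (by push_cast; nlinarith [mul_le_mul_of_nonneg_left hb hb1])
    (by push_cast; nlinarith [mul_le_mul_of_nonneg_left hb' hb1])
  rw [show ((n ^ 2 * a : ℕ) : ℤ) = (a : ℤ) * ((n ^ 2 : ℕ) : ℤ) by push_cast; ring] at this
  rwa [hsq.unique this] at hj

/-- The index at a rational slope. -/
def Idx (x y : Pic A.left) (s : ℚ) (i : ℕ) : Prop := Conc (x ^ ((s.den : ℕ) : ℤ) * y ^ s.num) i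

theorem num_eq (s : ℚ) : (s.num : ℝ) = (s : ℝ) * s.den := by
  rw [Rat.cast_def, div_mul_cancel₀]
  exact_mod_cast s.den_nz

theorem idx_of_forall {s₀ s₁ s : ℚ} {i : ℕ} (h0 : s₀ ≤ s) (h1 : s ≤ s₁)
    (h : ∀ a : ℕ, 0 < a → ∀ b : ℤ, (s₀ : ℝ) * a ≤ b → (b : ℝ) ≤ s₁ * a → Conc (x ^ (a : ℤ) * y ^ b) i) :
    Idx x y s i :=
  h s.den s.pos s.num (by rw [num_eq]; exact mul_le_mul_of_nonneg_right (by exact_mod_cast h0) (Nat.cast_nonneg _))
    (by rw [num_eq]; exact mul_le_mul_of_nonneg_right (by exact_mod_cast h1) (Nat.cast_nonneg _))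

include hg hΦ hy in
/-- **Across a single root the index drops by at most the multiplicity.** -/
theorem jump {τ : ℝ} {s₀ s₁ : ℚ} (h0 : (s₀ : ℝ) < τ) (h1 : τ < s₁) (hne : Φ ≠ 0)
    (honly : ∀ t ∈ Set.Icc (s₀ : ℝ) s₁, (𝔓).eval t = 0 → t = τ) {i₀ i₁ : ℕ}
    (hi₀ : Idx x y s₀ i₀) (hi₁ : Idx x y s₁ i₁) : i₀ ≤ i₁ + (𝔓).rootMultiplicity τ := by
  letI : A.left.Over (Spec (CommRingCat.of K)) := ⟨A.hom⟩
  haveI : IsProper (A.left ↘ Spec (CommRingCat.of K)) := ‹IsProper A.hom›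
  set μ := (𝔓).rootMultiplicity τ
  by_contra hlt
  push Not at hlt
  obtain ⟨k, rfl⟩ : ∃ k, i₀ = i₁ + k := ⟨i₀ - i₁, by omega⟩
  have hk : μ < k := by omega
  have hkg : i₁ + k ≤ g := (Conc.le_dim hg hi₀).1
  obtain ⟨R, hR, hRτ⟩ := exists_eq_pow_rootMultiplicity_mul_and_not_dvd (𝔓)
    ((Polynomial.map_ne_zero_iff (algebraMap ℚ ℝ).injective).2 hne) τ
  rw [dvd_iff_isRoot] at hRτ
  obtain ⟨c, hc, hcR⟩ := exists_forall_le_abs_eval R (h0.trans h1).le fun t ht hRt => by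
    refine hRτ ?_
    have : (𝔓).eval t = 0 := by rw [hR, eval_mul, hRt, mul_zero]
    rw [← honly t ht this]
    exact hRt
  obtain ⟨S, C, hwin⟩ := Snapper.exists_window (k := K) hy x k g _ isCoh_structure (dimLT_structure hg) i₁
  rw [cls_rep] at hwin
  set B : ℝ := 3 * (|(s₀ : ℝ)| + |(s₁ : ℝ)|) + 4
  set C' : ℝ := (C : ℝ) * 6 ^ k * B ^ (g - k)
  -- choose the width
  obtain ⟨ε, hε, hε1, hε0, hε1', hεC⟩ : ∃ ε : ℝ, 0 < ε ∧ ε ≤ 1 ∧ ε ≤ τ - s₀ ∧ ε ≤ (s₁ : ℝ) - τ ∧ C' * ε < c := by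
    refine ⟨min (min 1 (c / (C' + 1))) (min (τ - s₀) ((s₁ : ℝ) - τ)) / 2, ?_, ?_, ?_, ?_, ?_⟩
    all_goals
      have hC' : 0 ≤ C' := by positivity
      have := min_le_left (min 1 (c / (C' + 1))) (min (τ - (s₀ : ℝ)) ((s₁ : ℝ) - τ))
      have := min_le_right (min 1 (c / (C' + 1))) (min (τ - (s₀ : ℝ)) ((s₁ : ℝ) - τ))
      have := min_le_left (1 : ℝ) (c / (C' + 1))
      have := min_le_right (1 : ℝ) (c / (C' + 1))
      have := min_le_left (τ - (s₀ : ℝ)) ((s₁ : ℝ) - τ)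
      have := min_le_right (τ - (s₀ : ℝ)) ((s₁ : ℝ) - τ)
      have hpos : 0 < min (min 1 (c / (C' + 1))) (min (τ - (s₀ : ℝ)) ((s₁ : ℝ) - τ)) :=
        lt_min (lt_min one_pos (by positivity)) (lt_min (by linarith) (by linarith))
    · linarith
    · linarith
    · linarith
    · linarith
    · have h5 : (C' + 1) * (c / (C' + 1)) = c := mul_div_cancel₀ _ (by positivity)
      nlinarith
  obtain ⟨σ₀, hσ₀, hσ₀'⟩ := exists_rat_btwn (show τ - ε < τ by linarith)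
  obtain ⟨σ₁, hσ₁, hσ₁'⟩ := exists_rat_btwn (show τ < τ + ε by linarith)
  have hs0 : s₀ < σ₀ := by exact_mod_cast (show (s₀ : ℝ) < σ₀ by linarith)
  have hs1 : σ₁ < s₁ := by exact_mod_cast (show (σ₁ : ℝ) < s₁ by linarith)
  obtain ⟨j₀, -, hj₀⟩ := exists_const hg hΦ hy hs0 fun t ht h =>
    absurd (honly t ⟨ht.1, ht.2.trans (by linarith)⟩ h) (by linarith [ht.2])
  obtain ⟨j₁, -, hj₁⟩ := exists_const hg hΦ hy hs1 fun t ht h =>
    absurd (honly t ⟨le_trans (by linarith) ht.1, ht.2⟩ h) (by linarith [ht.1])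
  obtain rfl : i₁ + k = j₀ := hi₀.unique (idx_of_forall le_rfl hs0.le hj₀)
  obtain rfl : i₁ = j₁ := hi₁.unique (idx_of_forall hs1.le le_rfl hj₁)
  have hs0' : (s₀ : ℝ) < τ - ε ∨ (s₀ : ℝ) = τ - ε := lt_or_eq_of_le (by linarith)
  -- a large denominator
  obtain ⟨N, hN⟩ := exists_nat_gt ((S + 3 : ℝ) / ε + (S + 3 : ℝ) / ((σ₀ : ℝ) - (τ - ε)) +
    (S + 3 : ℝ) / ((τ + ε) - σ₁))
  have hp1 : (0 : ℝ) ≤ (S + 3 : ℝ) / ε := by positivity
  have hp2 : (0 : ℝ) ≤ (S + 3 : ℝ) / ((σ₀ : ℝ) - (τ - ε)) := div_nonneg (by positivity) (by linarith)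
  have hp3 : (0 : ℝ) ≤ (S + 3 : ℝ) / ((τ + ε) - σ₁) := div_nonneg (by positivity) (by linarith)
  have hNε : (S + 3 : ℝ) < N * ε := (div_lt_iff₀ hε).1 (by linarith)
  have hNσ₀ : (S + 3 : ℝ) < N * ((σ₀ : ℝ) - (τ - ε)) := (div_lt_iff₀ (by linarith)).1 (by linarith)
  have hNσ₁ : (S + 3 : ℝ) < N * ((τ + ε) - σ₁) := (div_lt_iff₀ (by linarith)).1 (by linarith)
  have hN0 : (1 : ℝ) ≤ N := by
    have : (S + 3 : ℝ) < N * 1 := hNε.trans_le (mul_le_mul_of_nonneg_left hε1 (Nat.cast_nonneg N))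
    linarith [Nat.cast_nonneg (α := ℝ) S]
  have hNnat : 0 < N := by exact_mod_cast (show (0 : ℝ) < N by linarith)
  set b₀ : ℤ := ⌈((σ₀ : ℝ)) * N⌉ - 1
  set b₁ : ℤ := ⌊(τ + ε) * N⌋
  have hb₀u : (b₀ : ℝ) ≤ σ₀ * N := by
    simp only [b₀]; push_cast; linarith [Int.ceil_lt_add_one ((σ₀ : ℝ) * N)]
  have hb₀l : (σ₀ : ℝ) * N - 1 ≤ b₀ := by
    simp only [b₀]; push_cast; linarith [Int.le_ceil ((σ₀ : ℝ) * N)]
  have hb₁u : (b₁ : ℝ) ≤ (τ + ε) * N := Int.floor_le _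
  have hb₁l : (τ + ε) * N - 1 ≤ b₁ := by linarith [Int.lt_floor_add_one ((τ + ε) * (N : ℝ))]
  have hbb : b₀ ≤ b₁ := by
    have : (b₀ : ℝ) ≤ b₁ := by nlinarith
    exact_mod_cast this
  -- vanishing on the window
  have hv : ∀ l, i₁ ≤ l → l < i₁ + k → ∀ s : ℕ, s ≤ S →
      etaA (x ^ ((N : ℕ) : ℤ) * y ^ (b₀ - s)) l = 0 := by
    intro l hl hl' s hs
    have hs' : (s : ℝ) ≤ S := by exact_mod_cast hs
    exact (hj₀ N hNnat (b₀ - s) (by push_cast; nlinarith) (by push_cast; nlinarith)).hf_eq.1 l (by omega)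
  obtain ⟨t, ht⟩ : ∃ t : ℕ, b₁ = b₀ + t := ⟨(b₁ - b₀).toNat, by omega⟩
  have hup := hwin N b₀ hv t
  rw [← ht] at hup
  -- the lower bound
  have hb₁mem : (σ₁ : ℝ) * N ≤ b₁ ∧ (b₁ : ℝ) ≤ s₁ * N := ⟨by nlinarith, by nlinarith⟩
  set q : ℝ := (b₁ : ℝ) / N
  have hq : τ + ε / 2 ≤ q ∧ q ≤ τ + ε := by
    constructor
    · rw [le_div_iff₀ (by linarith)]; nlinarith
    · rw [div_le_iff₀ (by linarith)]; linarith
  have hlow : c * (ε / 2) ^ μ ≤ |(𝔓).eval q| := by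
    rw [hR, eval_mul, abs_mul, eval_pow, abs_pow, eval_sub, eval_X, eval_C, mul_comm c]
    exact mul_le_mul (pow_le_pow_left₀ (by positivity) (le_trans (by linarith [hq.1]) (le_abs_self _)) _)
      (hcR q ⟨by linarith, by linarith⟩) hc.le (by positivity)
  have hne' : (𝔓).eval q ≠ 0 := fun h0' => by
    rw [h0', abs_zero] at hlow
    exact absurd hlow (not_le.2 (by positivity))
  obtain ⟨i', -, hi', he⟩ := exists_index_pair hg hΦ hNnat (b := b₁) hne'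
  obtain rfl : i₁ = i' := (hj₁ N hNnat b₁ hb₁mem.1 hb₁mem.2).unique hi'
  have hmain : (N : ℝ) ^ g * (c * (ε / 2) ^ μ) ≤
      (C : ℝ) * ((t : ℝ) + 1) ^ k * (((wt N b₀ : ℕ) : ℝ) + t) ^ (g - k) := by
    calc (N : ℝ) ^ g * (c * (ε / 2) ^ μ) ≤ (N : ℝ) ^ g * |(𝔓).eval q| :=
          mul_le_mul_of_nonneg_left hlow (by positivity)
      _ = (etaA (x ^ ((N : ℕ) : ℤ) * y ^ b₁) i₁ : ℝ) := he.symm
      _ ≤ _ := by exact_mod_cast hup
  have htR : (t : ℝ) = (b₁ : ℝ) - b₀ := by rw [ht]; push_cast; ring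
  have ht1 : (t : ℝ) + 1 ≤ 3 * ε * N := by nlinarith
  have hwt : ((wt N b₀ : ℕ) : ℝ) + t ≤ B * N := by
    simp only [Snapper.wt, Int.natAbs_natCast]
    push_cast
    rw [Nat.cast_natAbs, Int.cast_abs, htR]
    have hM : (0 : ℝ) ≤ |(s₀ : ℝ)| + |(s₁ : ℝ)| := by positivity
    have e0 : |(b₀ : ℝ)| ≤ (|(s₀ : ℝ)| + |(s₁ : ℝ)| + 1) * N := by
      rw [abs_le]
      constructor <;> nlinarith [neg_abs_le (s₀ : ℝ), le_abs_self (s₁ : ℝ), abs_nonneg (s₀ : ℝ), abs_nonneg (s₁ : ℝ)]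
    have e1 : (b₁ : ℝ) ≤ |(s₁ : ℝ)| * N := hb₁mem.2.trans (by nlinarith [le_abs_self (s₁ : ℝ)])
    simp only [B]
    nlinarith [neg_abs_le (b₀ : ℝ)]
  have hpow : (C : ℝ) * ((t : ℝ) + 1) ^ k * (((wt N b₀ : ℕ) : ℝ) + t) ^ (g - k) ≤
      C' * (ε / 2) ^ μ * ε * (N : ℝ) ^ g := by
    calc (C : ℝ) * ((t : ℝ) + 1) ^ k * (((wt N b₀ : ℕ) : ℝ) + t) ^ (g - k)
        ≤ (C : ℝ) * (3 * ε * N) ^ k * (B * N) ^ (g - k) := by
          refine mul_le_mul (mul_le_mul_of_nonneg_left (pow_le_pow_left₀ (by positivity) ht1 _) (by positivity))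
            (pow_le_pow_left₀ (by positivity) hwt _) (by positivity) (by positivity)
      _ = (C : ℝ) * B ^ (g - k) * (N : ℝ) ^ g * (3 * ε) ^ k := by
          rw [mul_pow, mul_pow B, mul_pow]
          rw [show (N : ℝ) ^ g = (N : ℝ) ^ k * (N : ℝ) ^ (g - k) by rw [← pow_add]; congr 1; omega]
          ring
      _ ≤ (C : ℝ) * B ^ (g - k) * (N : ℝ) ^ g * (6 ^ k * ((ε / 2) ^ μ * ε)) := by
          refine mul_le_mul_of_nonneg_left ?_ (by positivity)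
          have e1 : ε ^ k ≤ ε ^ (μ + 1) := pow_le_pow_of_le_one hε.le hε1 (by omega)
          have e2 : ε ^ (μ + 1) = 2 ^ μ * ((ε / 2) ^ μ * ε) := by
            rw [← mul_assoc, ← mul_pow, pow_succ]
            congr 2
            ring
          have e3 : (2 : ℝ) ^ μ ≤ 2 ^ k := pow_le_pow_right₀ (by norm_num) (by omega)
          calc (3 * ε) ^ k = 3 ^ k * ε ^ k := mul_pow _ _ _
            _ ≤ 3 ^ k * (2 ^ k * ((ε / 2) ^ μ * ε)) :=
                mul_le_mul_of_nonneg_left ((e1.trans e2.le).trans (mul_le_mul_of_nonneg_right e3 (by positivity)))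
                  (by positivity)
            _ = _ := by rw [← mul_assoc, ← mul_pow]; norm_num
      _ = _ := by ring
  have hfin : c ≤ C' * ε := by
    have h := hmain.trans hpow
    have h' : (N : ℝ) ^ g * (ε / 2) ^ μ * c ≤ (N : ℝ) ^ g * (ε / 2) ^ μ * (C' * ε) := by linarith
    exact le_of_mul_le_mul_left h' (by positivity)
  linarith

include hg hy in
/-- At the ends the index is `0` and `g`. -/
theorem exists_ends (T₀ : ℝ) : ∃ T : ℕ, T₀ < (T : ℝ) ∧ Idx x y (T : ℚ) 0 ∧ Idx x y (-(T : ℚ)) g := by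
  obtain ⟨j₁, hj₁⟩ := Kodaira.exists_isAmple_pow_tensor hy (isInv_rep x)
  obtain ⟨j₂, hj₂⟩ := Kodaira.exists_isAmple_pow_tensor hy (isInv_rep x⁻¹)
  obtain ⟨j₀, hj₀⟩ := exists_nat_gt T₀
  set T := j₀ + j₁ + j₂ + 1
  have hlt : T₀ < (T : ℝ) := hj₀.trans_le (by exact_mod_cast (show j₀ ≤ T by omega))
  refine ⟨T, hlt, ?_, ?_⟩
  · have h := conc_zero_of_isAmple hg (((hasCls_rep y).tensorPow T).tensor (hasCls_rep x)) (hj₁ T (by omega))
    simpa [Idx, mul_comm] using h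
  · have h := (Conc.le_dim hg
      (conc_zero_of_isAmple hg (((hasCls_rep y).tensorPow T).tensor (hasCls_rep x⁻¹)) (hj₂ T (by omega)))).2
    simpa [Idx, mul_comm] using h

/-- The roots in an interval, with multiplicity. -/
def rootsIn (P : ℝ[X]) (s₀ s₁ : ℝ) : Multiset ℝ := P.roots.filter fun t => s₀ < t ∧ t < s₁

theorem card_rootsIn_split (P : ℝ[X]) {s₀ q s₁ : ℝ} (h0 : s₀ ≤ q) (h1 : q ≤ s₁) (hq : q ∉ P.roots) :
    Multiset.card (rootsIn P s₀ s₁) = Multiset.card (rootsIn P s₀ q) + Multiset.card (rootsIn P q s₁) := by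
  unfold rootsIn
  rw [← Multiset.countP_eq_card_filter, ← Multiset.countP_eq_card_filter, ← Multiset.countP_eq_card_filter]
  generalize P.roots = R at hq ⊢
  induction R using Multiset.induction_on with
  | empty => simp
  | cons t m ih =>
    rw [Multiset.mem_cons, not_or] at hq
    simp only [Multiset.countP_cons, ih hq.2]
    rcases lt_or_gt_of_ne hq.1 with h | h
    · simp only [show ¬ t < q from not_lt.2 h.le, and_false, if_false, show q < t from h, true_and,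
        show s₀ < t from h0.trans_lt h]
      ring
    · simp only [show t < q from h, and_true, show ¬ q < t from not_lt.2 h.le, false_and, if_false,
        show t < s₁ from h.trans_le h1]
      ring

include hg hΦ hy in
/-- The index drops by at most the number of roots passed. -/
theorem count_le (hne : Φ ≠ 0) : ∀ (n : ℕ) (s₀ s₁ : ℚ), (rootsIn (𝔓) s₀ s₁).toFinset.card = n → s₀ < s₁ →
    (𝔓).eval (s₀ : ℝ) ≠ 0 → (𝔓).eval (s₁ : ℝ) ≠ 0 → ∀ {i₀ i₁}, Idx x y s₀ i₀ → Idx x y s₁ i₁ →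
      i₀ ≤ i₁ + Multiset.card (rootsIn (𝔓) s₀ s₁) := by
  intro n
  induction n using Nat.strong_induction_on with
  | _ n ih =>
    intro s₀ s₁ hn hlt h0 h1 i₀ i₁ hi₀ hi₁
    have hP : (𝔓) ≠ 0 := (Polynomial.map_ne_zero_iff (algebraMap ℚ ℝ).injective).2 hne
    have hlt' : (s₀ : ℝ) < s₁ := by exact_mod_cast hlt
    have hmem : ∀ t : ℝ, t ∈ (rootsIn (𝔓) s₀ s₁).toFinset ↔ (𝔓).eval t = 0 ∧ (s₀ : ℝ) < t ∧ t < s₁ := fun t => by
      rw [Multiset.mem_toFinset, rootsIn, Multiset.mem_filter, Polynomial.mem_roots hP]; rfl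
    rcases (rootsIn (𝔓) s₀ s₁).toFinset.eq_empty_or_nonempty with he | hne'
    · obtain ⟨i, -, hi⟩ := exists_const hg hΦ hy hlt fun t ht ht0 => by
        rcases eq_or_lt_of_le ht.1 with e | h
        · exact h0 (e ▸ ht0)
        rcases eq_or_lt_of_le ht.2 with e | h'
        · exact h1 (e ▸ ht0)
        exact Finset.notMem_empty t (he ▸ (hmem t).2 ⟨ht0, h, h'⟩)
      rw [hi₀.unique (idx_of_forall le_rfl hlt.le hi), hi₁.unique (idx_of_forall hlt.le le_rfl hi)]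
      exact Nat.le_add_right _ _
    set τ := (rootsIn (𝔓) s₀ s₁).toFinset.min' hne'
    obtain ⟨hτ0, hτl, hτr⟩ := (hmem τ).1 (Finset.min'_mem _ hne')
    have hτmult : (𝔓).rootMultiplicity τ ≤ Multiset.card (rootsIn (𝔓) s₀ s₁) := by
      rw [← Polynomial.count_roots]
      refine le_trans (le_of_eq ?_) (Multiset.count_le_card τ _)
      rw [rootsIn, Multiset.count_filter_of_pos ⟨hτl, hτr⟩]
    rcases ((rootsIn (𝔓) s₀ s₁).toFinset.erase τ).eq_empty_or_nonempty with he | he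
    · refine (jump hg hΦ hy hτl hτr hne (fun t ht ht0 => ?_) hi₀ hi₁).trans (Nat.add_le_add_left hτmult _)
      rcases eq_or_lt_of_le ht.1 with e | h
      · exact absurd (e ▸ ht0) h0
      rcases eq_or_lt_of_le ht.2 with e | h'
      · exact absurd (e ▸ ht0) h1
      by_contra hne''
      exact Finset.notMem_empty t (he ▸ Finset.mem_erase.2 ⟨hne'', (hmem t).2 ⟨ht0, h, h'⟩⟩)
    set τ' := ((rootsIn (𝔓) s₀ s₁).toFinset.erase τ).min' he
    obtain ⟨hττ, hτ'⟩ := Finset.mem_erase.1 (Finset.min'_mem _ he)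
    have hlt2 : τ < τ' := lt_of_le_of_ne (Finset.min'_le _ _ hτ') hττ.symm
    obtain ⟨-, hτ'l, hτ'r⟩ := (hmem τ').1 hτ'
    obtain ⟨q, hq, hq'⟩ := exists_rat_btwn hlt2
    have hqe : (𝔓).eval (q : ℝ) ≠ 0 := fun h => by
      have := Finset.min'_le _ _ (Finset.mem_erase.2 ⟨hq.ne', (hmem q).2 ⟨h, hτl.trans hq, hq'.trans hτ'r⟩⟩)
      linarith
    have hq0 : s₀ < q := by exact_mod_cast hτl.trans hq
    have hq1 : q < s₁ := by exact_mod_cast hq'.trans hτ'r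
    obtain ⟨iq, -, hiq, -⟩ := exists_index_pair hg hΦ q.pos (b := q.num) (by rw [← Rat.cast_def]; exact hqe)
    have hsub : ∀ {u v : ℚ}, s₀ ≤ u → v ≤ s₁ → (∃ t, t ∈ (rootsIn (𝔓) s₀ s₁).toFinset ∧ ¬((u : ℝ) < t ∧ t < v)) →
        (rootsIn (𝔓) u v).toFinset.card < n := by
      intro u v hu hv ⟨t, ht, ht'⟩
      rw [← hn]
      refine Finset.card_lt_card ⟨fun r hr => ?_, fun h => ht' ?_⟩
      · rw [Multiset.mem_toFinset, rootsIn, Multiset.mem_filter] at hr ⊢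
        exact ⟨hr.1, lt_of_le_of_lt (by exact_mod_cast hu) hr.2.1, lt_of_lt_of_le hr.2.2 (by exact_mod_cast hv)⟩
      · have := h ht
        rw [Multiset.mem_toFinset, rootsIn, Multiset.mem_filter] at this
        exact this.2
    have hA := ih _ (hsub le_rfl hq1.le ⟨τ', hτ', fun h => absurd h.2 (not_lt.2 hq'.le)⟩) s₀ q rfl hq0 h0 hqe hi₀ hiq
    have hB := ih _ (hsub hq0.le le_rfl ⟨τ, Finset.min'_mem _ hne', fun h => absurd h.1 (not_lt.2 hq.le)⟩) q s₁ rfl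
      hq1 hqe h1 hiq hi₁
    rw [card_rootsIn_split (𝔓) (by exact_mod_cast hq0.le) (by exact_mod_cast hq1.le)
      (fun h => hqe (Polynomial.isRoot_of_mem_roots h))]
    omega

include hg hΦ hy in
/-- **The index at slope `s` is the number of roots above `s`; all roots are real.** -/
theorem index_eq_count {s : ℚ} (hs : (𝔓).eval (s : ℝ) ≠ 0) {i : ℕ} (hi : Idx x y s i) :
    i = Multiset.card ((𝔓).roots.filter fun t => (s : ℝ) < t) ∧
      Multiset.card (𝔓).roots = (𝔓).natDegree := by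
  have hne : Φ ≠ 0 := by rintro rfl; simp at hs
  obtain ⟨M, hM⟩ : ∃ M : ℝ, ∀ t ∈ (𝔓).roots, |t| ≤ M :=
    ⟨∑ t ∈ (𝔓).roots.toFinset, |t|, fun t ht =>
      Finset.single_le_sum (fun r _ => abs_nonneg r) (Multiset.mem_toFinset.2 ht)⟩
  obtain ⟨T, hT, hTi, hTi'⟩ := exists_ends (x := x) hg hy (max M |(s : ℝ)|)
  have hTM := (le_max_left M |(s : ℝ)|).trans_lt hT
  have hTs := abs_lt.1 ((le_max_right M |(s : ℝ)|).trans_lt hT)
  have hroot : ∀ t : ℝ, M < |t| → (𝔓).eval t ≠ 0 := fun t ht h =>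
    absurd (hM t ((Polynomial.mem_roots ((Polynomial.map_ne_zero_iff (algebraMap ℚ ℝ).injective).2 hne)).2 h))
      (not_le.2 ht)
  have hT0 : (0 : ℝ) ≤ T := Nat.cast_nonneg T
  have hup : i ≤ 0 + Multiset.card ((𝔓).roots.filter fun t => (s : ℝ) < t) := by
    refine (count_le hg hΦ hy hne _ s (T : ℚ) rfl (by exact_mod_cast hTs.2) hs
      (hroot _ (by push_cast; rwa [abs_of_nonneg hT0])) hi hTi).trans (le_of_eq ?_)
    rw [rootsIn]
    congr 2
    refine Multiset.filter_congr fun t ht => ⟨fun h => h.1, fun h => ⟨h, ?_⟩⟩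
    push_cast
    linarith [(abs_le.1 (hM t ht)).2]
  have hdown : g ≤ i + Multiset.card ((𝔓).roots.filter fun t => ¬ (s : ℝ) < t) := by
    refine (count_le hg hΦ hy hne _ (-(T : ℚ)) s rfl ?_
      (hroot _ (by push_cast; rwa [abs_neg, abs_of_nonneg hT0])) hs hTi' hi).trans (le_of_eq ?_)
    · exact_mod_cast (show ((-(T : ℚ) : ℚ) : ℝ) < s by push_cast; exact hTs.1)
    rw [rootsIn]
    congr 2
    refine Multiset.filter_congr fun t ht => ⟨fun h => not_lt.2 h.2.le, fun h => ⟨?_, lt_of_le_of_ne (not_lt.1 h) ?_⟩⟩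
    · push_cast
      linarith [(abs_le.1 (hM t ht)).1]
    · rintro rfl
      exact hs (Polynomial.isRoot_of_mem_roots ht)
  have htot : Multiset.card ((𝔓).roots.filter fun t => (s : ℝ) < t) +
      Multiset.card ((𝔓).roots.filter fun t => ¬ (s : ℝ) < t) = Multiset.card (𝔓).roots := by
    rw [← Multiset.card_add, Multiset.filter_add_not]
  have hdeg : (𝔓).natDegree ≤ g := by
    rw [Polynomial.natDegree_map]; exact hΦ.natDegree_le hg
  have hle := Polynomial.card_roots' (𝔓)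
  omega

end GrothLib.Index
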