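import Groth.Agent.Lib.Poincare.KL
import Groth.Agent.Lib.Poincare.TrivField
import Groth.Agent.Lib.Cube.MulFinite
import Groth.Agent.Lib.Cube.Torsion
import Groth.Agent.Lib.Seesaw26.Main
import Groth.Agent.Lib.Seesaw26.FieldFunctions
import Groth.Agent.Lib.Rigidity.Relative.Hom

/-!
# The Mumford class is torsion free
-/

universe u

open CategoryTheory CategoryTheory.Limits MonoidalCategory CartesianMonoidalCategory AlgebraicGeometry
open scoped MonObj
open GrothLib.Cube

set_option backward.isDefEq.respectTransparency false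

noncomputable section

namespace GrothLib.KL

variable {k : Type u} [Field k] {A T : Over (Spec (CommRingCat.of k))} [GrpObj A]
  [IsProper A.hom] [GeometricallyIntegral A.hom]

theorem addClass_mul_right (x : Pic A.left) (g f₁ f₂ : T ⟶ A) :
    addClass g (f₁ * f₂) x = addClass g f₁ x * addClass g f₂ x := by
  have h := congrArg (pull (lift g (𝟙 T)).left) (mc_mul x f₁ f₂)
  simp only [map_mul, mc, pull_addClass, lift_fst, lift_snd_assoc, Category.id_comp] at h
  exact h

theorem addClass_one_right (x : Pic A.left) (g : T ⟶ A) : addClass g 1 x = 1 := by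
  have h := addClass_mul_right x g 1 1
  rw [_root_.one_mul] at h
  exact left_eq_mul.1 h

theorem addClass_comm (x : Pic A.left) (f g : T ⟶ A) : addClass f g x = addClass g f x := by
  simp only [addClass, hom_mul_comm f g, mul_comm (pull f.left x)]

theorem addClass_pow_right (x : Pic A.left) (g f : T ⟶ A) (n : ℕ) : addClass g (f ^ n) x = addClass g f x ^ n := by
  induction n with
  | zero => rw [pow_zero, pow_zero, addClass_one_right]
  | succ n ih => rw [pow_succ, pow_succ, addClass_mul_right, ih]

theorem addClass_inv_right (x : Pic A.left) (g f : T ⟶ A) : addClass g f⁻¹ x = (addClass g f x)⁻¹ := by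
  refine eq_inv_of_mul_eq_one_left ?_
  rw [← addClass_mul_right, inv_mul_cancel, addClass_one_right]

/-- The Mumford class of `x` and of its pullback by inversion agree. -/
theorem addClass_pull_inv (x : Pic A.left) (f g : T ⟶ A) :
    addClass f g (pull ((𝟙 A)⁻¹ : A ⟶ A).left x) = addClass f g x := by
  have hi : ∀ h : T ⟶ A, pull h.left (pull ((𝟙 A)⁻¹ : A ⟶ A).left x) = pull h⁻¹.left x := fun h => by
    rw [pull_pull_over, GrpObj.comp_inv, Category.comp_id]
  have h1 : addClass f g (pull ((𝟙 A)⁻¹ : A ⟶ A).left x) = addClass f⁻¹ g⁻¹ x := by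
    simp only [addClass, hi, mul_inv_rev, hom_mul_comm g⁻¹ f⁻¹]
  rw [h1, addClass_inv_right, addClass_comm, addClass_inv_right, inv_inv, addClass_comm]

theorem addClass_mul_class (x y : Pic A.left) (f g : T ⟶ A) :
    addClass f g (x * y) = addClass f g x * addClass f g y := by
  simp only [addClass, map_mul, mul_inv]
  ac_rfl

theorem addClass_class_one (f g : T ⟶ A) : addClass f g (1 : Pic A.left) = 1 := by
  simp [addClass]

theorem addClass_pow_class (x : Pic A.left) (f g : T ⟶ A) (n : ℕ) : addClass f g (x ^ n) = addClass f g x ^ n := by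
  induction n with
  | zero => rw [pow_zero, pow_zero, addClass_class_one]
  | succ n ih => rw [pow_succ, pow_succ, addClass_mul_class, ih]

/-- A torsion Mumford class is trivial. -/
theorem mc_eq_one_of_pow (x : Pic A.left) {N : ℕ} (hN : N ≠ 0) (h : mc x (𝟙 A) ^ N = 1) : mc x (𝟙 A) = 1 := by
  haveI : IsIntegral A.left := GeometricallyIntegral.isIntegral_of_subsingleton A.hom
  haveI : IsLocallyNoetherian A.left := LocallyOfFiniteType.isLocallyNoetherian A.hom
  let p := (snd A A).left
  haveI : IsProper p := isProper_snd_left A A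
  haveI : Flat p := flat_snd_left A A
  haveI : GeometricallyIntegral p := inferInstanceAs (GeometricallyIntegral (pullback.snd A.hom A.hom))
  haveI : GeometricallyConnected p := Rigidity.geometricallyConnected_of_geometricallyIrreducible _
  haveI := surjective_pow A hN
  have hfib : ∀ y : A.left, pull (p.fiberι y) (mc x (𝟙 A)) = 1 := by
    intro y
    let m := ((𝟙 A : A ⟶ A) ^ N).left
    obtain ⟨y', rfl⟩ := m.surjective y
    let T : Over (Spec (CommRingCat.of k)) := Over.mk (A.left.fromSpecResidueField (m y') ≫ A.hom)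
    let z : T ⟶ A := Over.homMk (A.left.fromSpecResidueField (m y')) rfl
    let T' : Over (Spec (CommRingCat.of k)) := Over.mk (A.left.fromSpecResidueField y' ≫ A.hom)
    let z' : T' ⟶ A := Over.homMk (A.left.fromSpecResidueField y') rfl
    let σ : T' ⟶ T := Over.homMk (Spec.map (m.residueFieldMap y')) (by
      show Spec.map (m.residueFieldMap y') ≫ A.left.fromSpecResidueField (m y') ≫ A.hom = A.left.fromSpecResidueField y' ≫ A.hom
      rw [← Category.assoc, Scheme.Hom.SpecMap_residueFieldMap_fromSpecResidueField, Category.assoc]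
      exact congrArg (A.left.fromSpecResidueField y' ≫ ·) (Over.w ((𝟙 A : A ⟶ A) ^ N)))
    have hσ : σ ≫ z = z' ^ N := by
      apply Over.OverMorphism.ext
      rw [show (z' ^ N : T' ⟶ A) = z' ≫ (𝟙 A : A ⟶ A) ^ N by rw [MonObj.comp_pow, Category.comp_id]]
      exact Scheme.Hom.SpecMap_residueFieldMap_fromSpecResidueField _ _
    have h' : mc x z' ^ N = 1 := by
      have := congrArg (pull (A ◁ z').left) h
      rwa [map_pow, map_one, pull_mc, Category.comp_id] at this
    have hz : mc x z = 1 := by
      letI : Algebra (A.left.residueField (m y')) (A.left.residueField y') := (m.residueFieldMap y').hom.toAlgebra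
      haveI : IsProper (snd A T).left := isProper_snd_left A T
      haveI : GeometricallyIntegral (snd A T).left := inferInstanceAs (GeometricallyIntegral (pullback.snd A.hom T.hom))
      refine eq_one_of_pull_field (K := A.left.residueField (m y')) (K' := A.left.residueField y')
        (p := (snd A T).left) (g := (A ◁ σ).left) (p' := (snd A T').left) (isPullback_whiskerLeft_left A σ) _ ?_
      rw [pull_mc, hσ, show mc x (z' ^ N) = mc x z' ^ N from map_pow (mcHom x) z' N, h']
    let j : p.fiber (m y') ⟶ (A ⊗ T).left := pullback.lift (p.fiberι (m y') ≫ (fst A A).left)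
      (p.fiberToSpecResidueField (m y')) (by
        show (p.fiberι (m y') ≫ (fst A A).left) ≫ A.hom =
          p.fiberToSpecResidueField (m y') ≫ A.left.fromSpecResidueField (m y') ≫ A.hom
        rw [← Category.assoc (p.fiberToSpecResidueField _), ← p.fiber_fac, Category.assoc, Category.assoc,
          Over.w (fst A A), Over.w (snd A A)])
    have hj : p.fiberι (m y') = j ≫ (A ◁ z).left := by
      apply pullback.hom_ext
      · show p.fiberι (m y') ≫ (fst A A).left = (j ≫ (A ◁ z).left) ≫ (fst A A).left
        rw [Category.assoc, ← Over.comp_left, whiskerLeft_fst]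
        exact (pullback.lift_fst _ _ _).symm
      · show p.fiberι (m y') ≫ (snd A A).left = (j ≫ (A ◁ z).left) ≫ (snd A A).left
        rw [Category.assoc, ← Over.comp_left, whiskerLeft_snd, Over.comp_left, ← Category.assoc]
        erw [pullback.lift_snd]
        exact p.fiber_fac _
    rw [hj, ← pull_comp, show pull (A ◁ z).left (mc x (𝟙 A)) = 1 by rw [pull_mc, Category.comp_id, hz], map_one]
  obtain ⟨c, hc⟩ := Quotient.exists_rep (mc x (𝟙 A))
  have hc' : mc x (𝟙 A) = cls c := hc.symm
  obtain ⟨M, hM, ⟨i⟩⟩ := Seesaw26.exists_base p (Seesaw26.finrank_fiber_functions_eq_one p) (c.twist 1)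
    (c.isInvertible_twist 1) fun y => by
      obtain ⟨g⟩ := c.nonempty_pullback_twist (p.fiberι y) 1
      have h1 := hfib y
      rw [hc', pull_cls, cls_eq_one_iff] at h1
      obtain ⟨t⟩ := (triv_iff _).1 h1
      exact ⟨g ≪≫ t⟩
  have h2 : mc x (𝟙 A) = pull (snd A A).left (clsMod hM) := by
    rw [hc', ← clsMod_eq (c.isInvertible_twist 1) (Iso.refl _), ← clsMod_pullback (snd A A).left hM]
    exact ((clsMod_eq_iff _ _).2 ⟨i⟩).symm
  have h3 := pull_sec_mc x (𝟙 A)
  rw [h2, pull_sec_snd (𝟙 A)] at h3
  rw [h2, h3, map_one]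

/-- If `[n]^* x = x ^ n` for some `n ≥ 2` then the Mumford class of `x` is trivial. -/
theorem mc_eq_one_of_pull_pow (x : Pic A.left) {n : ℕ} (hn : 2 ≤ n)
    (h : pull ((𝟙 A : A ⟶ A) ^ n).left x = x ^ n) : mc x (𝟙 A) = 1 := by
  let x' := pull ((𝟙 A)⁻¹ : A ⟶ A).left x
  haveI := isMonHom_inv (A := A)
  have hy : pull ((𝟙 A)⁻¹ : A ⟶ A).left (x * x') = x * x' := by
    rw [map_mul]
    show x' * pull _ (pull _ x) = _
    rw [pull_pull_over, GrpObj.comp_inv, Category.comp_id, inv_inv, pull_over_id, mul_comm]
  have h' : pull ((𝟙 A : A ⟶ A) ^ n).left x' = x' ^ n := by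
    show pull _ (pull _ x) = (pull _ x) ^ n
    rw [pull_pull_over, GrpObj.comp_inv, Category.comp_id,
      show (((𝟙 A : A ⟶ A) ^ n)⁻¹ : A ⟶ A) = (𝟙 A)⁻¹ ≫ (𝟙 A : A ⟶ A) ^ n by
        rw [MonObj.comp_pow, Category.comp_id, inv_pow],
      ← pull_pull_over, h, map_pow]
  have hq := pull_pow_of_symmetric hy n
  rw [map_mul, h, h', ← mul_pow] at hq
  have hne : n ^ 2 - n ≠ 0 := by
    have : 2 * n ≤ n ^ 2 := by nlinarith
    omega
  refine mc_eq_one_of_pow x (mul_ne_zero two_ne_zero hne) ?_
  have h4 : (x * x') ^ (n ^ 2 - n) = 1 := by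
    apply mul_left_cancel (a := (x * x') ^ n)
    rw [← pow_add, Nat.add_sub_cancel' (Nat.le_self_pow two_ne_zero n), ← hq, _root_.mul_one]
  have h5 := addClass_pow_class (x * x') (fst A A) (snd A A ≫ 𝟙 A) (n ^ 2 - n)
  rw [h4, addClass_class_one, addClass_mul_class, addClass_pull_inv, ← pow_two, ← pow_mul] at h5
  exact h5.symm

end GrothLib.KL
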