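import Groth.Agent.Lib.Poincare.MumfordEuler
import Groth.Agent.Lib.Poincare.PicZeroSurj
import Groth.Agent.Lib.Poincare.IndexPow
import Groth.Agent.Lib.Cube.AbVar

/-!
# `χ(λ_x) = (-1)^g χ(x)²` without a dual
-/

set_option autoImplicit false
set_option linter.all false
set_option backward.isDefEq.respectTransparency false
set_option maxHeartbeats 1000000

universe u

open CategoryTheory CategoryTheory.Limits AlgebraicGeometry Opposite TopologicalSpace
open MonoidalCategory CartesianMonoidalCategory
open GrothLib.Ample GrothLib.Cube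
open scoped MonObj

noncomputable section

namespace GrothLib.LamEuler

variable {k : Type u} [Field k] [IsAlgClosed k] {A : Over (Spec (CommRingCat.of k))} [GrpObj A]
  [IsProper A.hom] [GeometricallyIntegral A.hom]

/-- The slice of the Mumford class at a point. -/
theorem slice_lam (x : Pic A.left) (a : 𝟙_ (Over (Spec (CommRingCat.of k))) ⟶ A) :
    pull (lift (𝟙 A) (toUnit A ≫ a)).left (MumfordPoincare.lam x) = pull (transl a).left x * x⁻¹ := by
  have h0 : pull (toUnit A ≫ a).left x = 1 := by
    rw [Over.comp_left, ← pull_comp]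
    exact (congrArg (pull (toUnit A).left) (pic_spec_field_eq_one (F := k) (pull a.left x))).trans (map_one _)
  rw [MumfordPoincare.lam, KL.mc, pull_addClass, lift_fst, Category.comp_id, lift_snd, addClass, pull_over_id, h0,
    _root_.mul_one]

/-- A point fixing the class fixes the Mumford class. -/
theorem lam_translate (x : Pic A.left) {a : 𝟙_ (Over (Spec (CommRingCat.of k))) ⟶ A}
    (ha : pull (transl a).left x = x) :
    pull (transl (lift (1 : 𝟙_ _ ⟶ A) a)).left (MumfordPoincare.lam x) = MumfordPoincare.lam x := by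
  have hmc : KL.mc x a = 1 := (KL.eq_of_translate x a 1 (by
    rw [map_one, _root_.mul_one, show fst A (𝟙_ _) * (snd A (𝟙_ _) ≫ a) = fst A (𝟙_ _) ≫ transl a by
      rw [transl, MonObj.comp_mul, Category.comp_id, ← Category.assoc, toUnit_unique (fst A (𝟙_ _) ≫ toUnit A) (snd A _)],
      ← pull_pull_over, ha])).2
  have hta : KL.mc x (toUnit A ≫ a) = 1 := by rw [← KL.pull_mc, hmc, map_one]
  have e : transl (lift (1 : 𝟙_ _ ⟶ A) a) = A ◁ transl a := by
    apply CartesianMonoidalCategory.hom_ext
    · rw [transl, MonObj.mul_comp, Category.assoc, lift_fst, MonObj.comp_one, whiskerLeft_fst, _root_.mul_one,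
        Category.id_comp]
    · rw [transl, MonObj.mul_comp, Category.assoc, lift_snd, whiskerLeft_snd, transl, MonObj.comp_mul,
        Category.comp_id, Category.id_comp, ← Category.assoc,
        toUnit_unique (snd A A ≫ toUnit A) (toUnit (A ⊗ A))]
  rw [e, MumfordPoincare.lam, KL.pull_mc, Category.comp_id, transl, KL.mc_mul, hta, _root_.mul_one]

open MumfordEuler (E E_eq E_ext E_inv)

/-- The Mumford class of a degenerate class has Euler characteristic zero. -/
theorem E_lam_degenerate (x : Pic A.left) (h : ¬ Index.Nondeg x) : E (A ⊗ A) (MumfordPoincare.lam x) = 0 := by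
  haveI : IsProper (A ⊗ A).hom := inferInstanceAs (IsProper (pullback.fst A.hom A.hom ≫ A.hom))
  haveI : GeometricallyIntegral (A ⊗ A).hom :=
    CubeRel26.geometricallyIntegral_comp (pullback.fst A.hom A.hom) A.hom
  by_contra hne
  refine h ((Index.nondeg_of_euler (A := A ⊗ A) (Dual.hasCls_rep (MumfordPoincare.lam x)) hne).subset ?_ |>
    Set.Finite.of_finite_image (f := fun a => lift (1 : 𝟙_ _ ⟶ A) a) <| fun a _ a' _ e => ?_)
  · rintro _ ⟨a, ha, rfl⟩
    exact lam_translate x ha
  · simpa using congrArg (· ≫ snd A A) e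

/-- **`χ(λ_x) = (-1)^g χ(x)²`.** -/
theorem E_lam {g : ℕ} (hg : topologicalKrullDim A.left = g) (x : Pic A.left) :
    E (A ⊗ A) (MumfordPoincare.lam x) = (-1) ^ g * E A x ^ 2 := by
  by_cases hnd : Index.Nondeg x
  swap
  · rw [E_lam_degenerate x hnd]
    have : E A x = 0 := by
      by_contra hne
      exact hnd (Index.nondeg_of_euler (Dual.hasCls_rep x) hne)
    rw [this]; simp
  haveI : Smooth A.hom := smooth_abVar A
  haveI : IsCommMonObj A := isCommMonObj_abVar (A := A)
  haveI : IsLocallyNoetherian A.left := LocallyOfFiniteType.isLocallyNoetherian A.hom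
  haveI : IsIntegral A.left := GeometricallyIntegral.isIntegral_of_subsingleton A.hom
  haveI : IsProper (A ⊗ A).hom := inferInstanceAs (IsProper (pullback.fst A.hom A.hom ≫ A.hom))
  let lam := MumfordPoincare.lam x
  -- twisting by a class from the second factor
  have htw : E (A ⊗ A) (pull (snd A A).left x * lam) = E (A ⊗ A) lam := by
    letI : A.left.Over (Spec (CommRingCat.of k)) := ⟨A.hom⟩
    letI : (A ⊗ A).left.Over (Spec (CommRingCat.of k)) := ⟨(A ⊗ A).hom⟩
    haveI : IsProper (A.left ↘ Spec (CommRingCat.of k)) := ‹IsProper A.hom›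
    haveI : IsProper ((A ⊗ A).left ↘ Spec (CommRingCat.of k)) := ‹IsProper (A ⊗ A).hom›
    haveI : IsProper (snd A A).left := inferInstanceAs (IsProper (pullback.snd A.hom A.hom))
    haveI : Flat (snd A A).left := inferInstanceAs (Flat (pullback.snd A.hom A.hom))
    let F := Dual.rep lam
    have hF := Euler.isCoh_of_isInvertible (Dual.hasCls_rep lam).choose
    let S : Set A.left := (fun a : 𝟙_ (Over (Spec (CommRingCat.of k))) ⟶ A => a.left (IsLocalRing.closedPoint k)) ''
      {a | pull (transl a).left x = x}
    have hS : S.Finite := Set.Finite.image _ hnd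
    have hScl : ∀ w ∈ S, IsClosed ({w} : Set A.left) := by
      rintro _ ⟨a, -, rfl⟩
      haveI : IsClosedImmersion a.left := isClosedImmersion_of_comp_eq_id A.hom a.left (Over.w a)
      rw [show ({a.left (IsLocalRing.closedPoint k)} : Set A.left) = a.left '' {IsLocalRing.closedPoint k} from
        Set.image_singleton.symm]
      exact a.left.isClosedEmbedding.isClosedMap _ (isClosed_singleton (x := IsLocalRing.closedPoint k))
    have hsub : ∀ q, CohB1.support ((Coh.Rpush (snd A A).left q).obj F) ⊆ S := fun q w hw => by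
      by_contra hne
      refine (PicZeroSurj.finrank_HH_eq F (Dual.hasCls_rep lam).choose hS hScl (fun y hy hyc n => ?_) q).2 w hne hw
      refine PicZeroSurj.subsingleton_fiberH (Dual.hasCls_rep lam) y hyc (fun a ha => ?_) n
      rw [slice_lam]
      exact ⟨fun h => hy ⟨a, mul_inv_eq_one.1 h, ha⟩, fun b => PicZeroSurj.invariant_translate_div x a b⟩
    have hM := (Dual.hasCls_rep x).choose
    have hG : HasCls (CohB1.tensorMod ((Scheme.Modules.pullback (snd A A).left).obj (Dual.rep x)) F)
        (pull (snd A A).left x * lam) := ((Dual.hasCls_rep x).pullback _).tensor (Dual.hasCls_rep lam)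
    rw [← E_eq hG, ← E_eq (Dual.hasCls_rep lam)]
    rw [Snapper.euler_eq_finsum_Rpush k (f := (snd A A).left) (Over.w (snd A A)) _
        (Euler.isCoh_of_isInvertible hG.choose),
      Snapper.euler_eq_finsum_Rpush k (f := (snd A A).left) (Over.w (snd A A)) _ hF]
    refine finsum_congr fun q => ?_
    obtain ⟨eP⟩ := Groth.Agent.S0927.result (snd A A).left F (Dual.rep x) (Euler.isFinLocFree_of_isInvertible hM) q
    rw [Euler.euler_of_iso k (eP.symm ≪≫ GrTilde.tensorModComm (Dual.rep x) _)]
    congr 1
    refine (Euler.euler_tF_of_finite_support k (Euler.isFinLocFreeOfRank_one_of_invertible hM)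
      (Cohom.isCoh_Rpush _ F hF q) (hS.subset (hsub q)) fun w hw => hScl w (hsub q hw)).trans ?_
    exact (congrArg (· * _) Nat.cast_one).trans (_root_.one_mul _)
  -- the automorphism `(a, b) ↦ (a, b - a)`
  have haut : E (A ⊗ A) (pull (snd A A).left x * lam) =
      E (A ⊗ A) (pull (fst A A).left x⁻¹ * pull (snd A A).left x) := by
    letI : (A ⊗ A).left.Over (Spec (CommRingCat.of k)) := ⟨(A ⊗ A).hom⟩
    haveI : IsProper ((A ⊗ A).left ↘ Spec (CommRingCat.of k)) := ‹IsProper (A ⊗ A).hom›
    let j : A ⊗ A ⟶ A ⊗ A := lift (fst A A) ((fst A A)⁻¹ * snd A A)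
    let j' : A ⊗ A ⟶ A ⊗ A := lift (fst A A) (fst A A * snd A A)
    haveI : IsIso j := ⟨j', by
      constructor <;> apply CartesianMonoidalCategory.hom_ext <;>
        simp [j, j', MonObj.comp_mul, GrpObj.comp_inv]⟩
    haveI : IsIso j.left := inferInstanceAs (IsIso ((Over.forget _).map j))
    have hc := (Dual.hasCls_rep (pull (snd A A).left x * lam)).pullback j.left
    have he : pull j.left (pull (snd A A).left x * lam) = pull (fst A A).left x⁻¹ * pull (snd A A).left x := by
      show pull j.left (pull (snd A A).left x * KL.mc x (𝟙 A)) = _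
      rw [KL.mc_eq, Category.comp_id]
      have e0 : ∀ a b c : Pic (A ⊗ A).left, b * (a * (c * b)⁻¹) = c⁻¹ * a := fun a b c => by
        rw [mul_inv_rev, mul_left_comm, mul_inv_cancel_left, mul_comm]
      rw [e0, map_mul, map_inv, pull_pull_over, pull_pull_over, map_inv, MonObj.comp_mul]
      simp only [j, lift_fst, lift_snd, mul_inv_cancel_left]
    rw [he] at hc
    rw [← E_eq hc, ← E_eq (Dual.hasCls_rep (pull (snd A A).left x * lam))]
    haveI := (Euler.isCoh_of_isInvertible (Dual.hasCls_rep (pull (snd A A).left x * lam)).choose).1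
    exact (CurveMult.RelNef.euler_pullback_iso j.left (Over.w j) _).symm
  rw [E_ext, E_inv hg, htw] at haut
  rw [haut]; ring

end GrothLib.LamEuler
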