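import Groth.Agent.Lib.Poincare.Products
import Groth.Agent.Lib.AbTors.Degree
import Groth.Agent.Lib.CycBasic.Push
import Mathlib.LinearAlgebra.FreeModule.PID
import Mathlib.LinearAlgebra.Determinant

/-!
# Endomorphisms of powers of an abelian variety given by integer matrices
-/

universe u

open CategoryTheory CategoryTheory.Limits MonoidalCategory CartesianMonoidalCategory AlgebraicGeometry
open scoped MonObj

noncomputable section

namespace GrothLib.Poincare

variable {C : Type*} [Category C] [CartesianMonoidalCategory C] [BraidedCategory C] {X : C} [GrpObj X] [IsCommMonObj X]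
  {r : ℕ} [HasProduct fun _ : Fin r => X]

/-- The endomorphism of `X^r` given by an integer matrix. -/
def matEndo (α : Matrix (Fin r) (Fin r) ℤ) : (∏ᶜ fun _ : Fin r => X) ⟶ (∏ᶜ fun _ : Fin r => X) :=
  Pi.lift fun i => ∏ j : Fin r, (Pi.π (fun _ : Fin r => X) j) ^ (α i j)

theorem matEndo_π (α : Matrix (Fin r) (Fin r) ℤ) (i : Fin r) :
    matEndo α ≫ Pi.π (fun _ : Fin r => X) i = ∏ j : Fin r, (Pi.π (fun _ : Fin r => X) j) ^ (α i j) :=
  limit.lift_π _ _

theorem zpow_sum' {G I : Type*} [CommGroup G] (x : G) (s : Finset I) (f : I → ℤ) :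
    ∏ i ∈ s, x ^ f i = x ^ ∑ i ∈ s, f i := by
  classical
  induction s using Finset.induction_on with
  | empty => simp
  | insert a s ha ih => rw [Finset.prod_insert ha, Finset.sum_insert ha, zpow_add, ih]

theorem matEndo_mul (α β : Matrix (Fin r) (Fin r) ℤ) :
    (matEndo (X := X) (α * β)) = matEndo β ≫ matEndo α := by
  refine limit.hom_ext fun ⟨i⟩ => ?_
  show matEndo (α * β) ≫ Pi.π (fun _ : Fin r => X) i = (matEndo β ≫ matEndo α) ≫ Pi.π (fun _ : Fin r => X) i
  rw [Category.assoc, matEndo_π, matEndo_π]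
  let F : ((∏ᶜ fun _ : Fin r => X) ⟶ X) →* ((∏ᶜ fun _ : Fin r => X) ⟶ X) :=
    { toFun := fun f => matEndo β ≫ f
      map_one' := MonObj.comp_one _
      map_mul' := fun f g => MonObj.comp_mul _ f g }
  show _ = F _
  rw [map_prod]
  simp_rw [map_zpow]
  have hF : ∀ j, F (Pi.π (fun _ : Fin r => X) j) = ∏ k, Pi.π (fun _ : Fin r => X) k ^ β j k := fun j => matEndo_π β j
  simp_rw [hF, ← Finset.prod_zpow, ← zpow_mul]
  rw [Finset.prod_comm]
  refine Finset.prod_congr rfl fun k _ => ?_
  rw [zpow_sum', Matrix.mul_apply]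
  exact congrArg _ (Finset.sum_congr rfl fun j _ => mul_comm _ _)

theorem matEndo_one : matEndo (X := X) (1 : Matrix (Fin r) (Fin r) ℤ) = 𝟙 _ := by
  refine limit.hom_ext fun ⟨i⟩ => ?_
  show matEndo (X := X) 1 ≫ Pi.π (fun _ : Fin r => X) i = 𝟙 _ ≫ Pi.π (fun _ : Fin r => X) i
  rw [matEndo_π, Category.id_comp, Finset.prod_eq_single i, Matrix.one_apply_eq, zpow_one]
  · intro j _ hj
    rw [Matrix.one_apply_ne hj.symm, zpow_zero]
  · intro h; exact absurd (Finset.mem_univ i) h

theorem isIso_matEndo {α : Matrix (Fin r) (Fin r) ℤ} (h : IsUnit α.det) : IsIso (matEndo (X := X) α) :=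
  ⟨⟨matEndo α⁻¹, by rw [← matEndo_mul, Matrix.nonsing_inv_mul _ h, matEndo_one],
    by rw [← matEndo_mul, Matrix.mul_nonsing_inv _ h, matEndo_one]⟩⟩

/-- A diagonal matrix with one entry `d` is the base change of `x ↦ x ^ d`. -/
theorem isPullback_matEndo_single (i : Fin r) (d : ℤ) :
    IsPullback (Pi.π (fun _ : Fin r => X) i) (matEndo (X := X) (Matrix.diagonal (Function.update 1 i d)))
      ((𝟙 X : X ⟶ X) ^ d) (Pi.π (fun _ : Fin r => X) i) := by
  set φ := matEndo (X := X) (Matrix.diagonal (Function.update 1 i d))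
  have hi : φ ≫ Pi.π (fun _ : Fin r => X) i = Pi.π (fun _ : Fin r => X) i ^ d := by
    rw [matEndo_π, Finset.prod_eq_single i, Matrix.diagonal_apply_eq, Function.update_self]
    · intro j _ hj
      rw [Matrix.diagonal_apply_ne _ hj.symm, zpow_zero]
    · intro h; exact absurd (Finset.mem_univ i) h
  have hne : ∀ j, j ≠ i → φ ≫ Pi.π (fun _ : Fin r => X) j = Pi.π (fun _ : Fin r => X) j := fun j hj => by
    rw [matEndo_π, Finset.prod_eq_single j, Matrix.diagonal_apply_eq, Function.update_of_ne hj, Pi.one_apply, zpow_one]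
    · intro k _ hk
      rw [Matrix.diagonal_apply_ne _ hk.symm, zpow_zero]
    · intro h; exact absurd (Finset.mem_univ j) h
  refine ⟨⟨by rw [hi, GrpObj.comp_zpow, Category.comp_id]⟩, ⟨PullbackCone.IsLimit.mk _
    (fun s => Pi.lift fun j => if j = i then s.fst else s.snd ≫ Pi.π (fun _ : Fin r => X) j) ?_ ?_ ?_⟩⟩
  · intro s
    rw [limit.lift_π]
    simp
  · intro s
    refine limit.hom_ext fun ⟨j⟩ => ?_
    show (_ ≫ φ) ≫ Pi.π (fun _ : Fin r => X) j = s.snd ≫ Pi.π (fun _ : Fin r => X) j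
    rcases eq_or_ne j i with rfl | hj
    · rw [Category.assoc, hi, GrpObj.comp_zpow, limit.lift_π, Fan.mk_π_app, if_pos rfl,
        ← s.condition, GrpObj.comp_zpow, Category.comp_id]
    · rw [Category.assoc, hne j hj, limit.lift_π, Fan.mk_π_app, if_neg hj]
  · intro s m h1 h2
    refine limit.hom_ext fun ⟨j⟩ => ?_
    show m ≫ Pi.π (fun _ : Fin r => X) j = _ ≫ Pi.π (fun _ : Fin r => X) j
    rw [limit.lift_π, Fan.mk_π_app]
    rcases eq_or_ne j i with rfl | hj
    · rw [if_pos rfl, h1]
    · rw [if_neg hj, ← h2, Category.assoc, hne j hj]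

variable {K : Type u} [Field K] {A : Over (Spec (CommRingCat.of K))} [GrpObj A] [IsCommMonObj A]
  [IsProper A.hom] [GeometricallyIntegral A.hom] {r : ℕ}

/-- A finite flat map of a given degree with generic point over generic point. -/
def IsDeg {X Y : Scheme.{u}} (f : X ⟶ Y) (n : ℕ) : Prop :=
  IsFinite f ∧ Flat f ∧ Surjective f ∧ ∀ y : Y, f.finrank y = n

theorem IsDeg.comp {X Y Z : Scheme.{u}} [IsIntegral X] [IsIntegral Y] [IsIntegral Z]
    [IsLocallyNoetherian Y] [IsLocallyNoetherian Z] {f : X ⟶ Y} {g : Y ⟶ Z} {m n : ℕ}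
    (hf : IsDeg f m) (hg : IsDeg g n) : IsDeg (f ≫ g) (m * n) := by
  obtain ⟨_, _, _, hf⟩ := hf
  obtain ⟨_, _, _, hg⟩ := hg
  haveI : IsFinite (f ≫ g) := inferInstance
  haveI : Flat (f ≫ g) := inferInstance
  haveI : Surjective (f ≫ g) := inferInstance
  refine ⟨inferInstance, inferInstance, inferInstance, fun z => ?_⟩
  have hgen : ∀ {X Y : Scheme.{u}} [IsIntegral X] [IsIntegral Y] (f : X ⟶ Y) [Surjective f],
      f (genericPoint X) = genericPoint Y := by
    intro X Y _ _ f _
    obtain ⟨w, hw⟩ := f.surjective (genericPoint Y)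
    have h1 : f (genericPoint X) ⤳ genericPoint Y :=
      hw ▸ ((genericPoint_spec X).specializes trivial).map f.continuous
    exact (h1.antisymm ((genericPoint_spec Y).specializes trivial)).eq
  rw [(CurveMult.generic_finite_flat (f ≫ g) (hgen _)).1 z, CycBasic.residueDegree_comp, hgen f,
    ← (CurveMult.generic_finite_flat g (hgen _)).1 z, hg,
    ← (CurveMult.generic_finite_flat f (hgen _)).1 (genericPoint Y), hf, mul_comm]

theorem isDeg_of_isIso {X Y : Scheme.{u}} (f : X ⟶ Y) [IsIso f] : IsDeg f 1 := by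
  refine ⟨inferInstance, inferInstance, inferInstance, fun y => ?_⟩
  have := (Scheme.Hom.isIso_iff_finrank_eq f).1 inferInstance
  rw [this]; rfl

theorem isIntegral_power {g : ℕ} (hg : topologicalKrullDim A.left = (g : WithBot ℕ∞)) :
    IsIntegral (∏ᶜ fun _ : Fin r => A).left ∧ IsLocallyNoetherian (∏ᶜ fun _ : Fin r => A).left := by
  obtain ⟨P, _, pr, _, _, -, -, hex, huniq⟩ := exists_prod_fin (fun _ : Fin r => A) (fun _ => g) fun _ => hg
  obtain ⟨a, ha⟩ := hex _ (Pi.π fun _ : Fin r => A)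
  let b : P ⟶ ∏ᶜ fun _ : Fin r => A := Pi.lift pr
  have hab : a ≫ b = 𝟙 _ := limit.hom_ext fun ⟨i⟩ => by
    show (a ≫ b) ≫ Pi.π (fun _ : Fin r => A) i = _ ≫ Pi.π (fun _ : Fin r => A) i
    rw [Category.assoc, limit.lift_π, Fan.mk_π_app, ha, Category.id_comp]
  have hba : b ≫ a = 𝟙 P := huniq _ _ _ fun t => by
    rw [Category.assoc, ha, limit.lift_π, Fan.mk_π_app, Category.id_comp]
  haveI : IsIso a.left := ⟨b.left, by rw [← Over.comp_left, hab, Over.id_left], by
    rw [← Over.comp_left, hba, Over.id_left]⟩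
  haveI : IsIntegral P.left := GeometricallyIntegral.isIntegral_of_subsingleton P.hom
  haveI : IsLocallyNoetherian P.left := LocallyOfFiniteType.isLocallyNoetherian P.hom
  haveI : Nonempty (∏ᶜ fun _ : Fin r => A).left := ⟨(inv a.left) (genericPoint P.left)⟩
  refine ⟨isIntegral_of_isOpenImmersion a.left, ?_⟩
  exact LocallyOfFiniteType.isLocallyNoetherian a.left

theorem isDeg_single {g : ℕ} (hg : topologicalKrullDim A.left = (g : WithBot ℕ∞)) (i : Fin r) {d : ℤ} (hd : d ≠ 0) :
    IsDeg (matEndo (X := A) (Matrix.diagonal (Function.update 1 i d))).left (d.natAbs ^ (2 * g)) := by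
  obtain ⟨_, _, _⟩ := Cube.isogeny_zpow A hd
  have h : IsPullback (Pi.π (fun _ : Fin r => A) i).left (matEndo (X := A) (Matrix.diagonal (Function.update 1 i d))).left
      ((𝟙 A : A ⟶ A) ^ d).left (Pi.π (fun _ : Fin r => A) i).left :=
    (isPullback_matEndo_single (X := A) i d).map (Over.forget _)
  refine ⟨MorphismProperty.of_isPullback (P := @IsFinite) h inferInstance,
    MorphismProperty.of_isPullback (P := @Flat) h inferInstance,
    MorphismProperty.of_isPullback (P := @Surjective) h inferInstance, fun y => ?_⟩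
  rw [Scheme.Hom.finrank_of_isPullback _ _ _ _ h]
  obtain ⟨n, rfl | rfl⟩ := d.eq_nat_or_neg
  · have hn : n ≠ 0 := by simpa using hd
    simp only [zpow_natCast, Int.natAbs_natCast]
    exact AbTors.finrank_pow A hg hn _
  · have hn : n ≠ 0 := by simpa using hd
    haveI := Cube.isFinite_pow A hn
    haveI := Cube.flat_pow A hn
    haveI : IsIso ((𝟙 A)⁻¹ : A ⟶ A).left := by
      have e : ((𝟙 A)⁻¹ : A ⟶ A) ≫ (𝟙 A)⁻¹ = 𝟙 A := by rw [GrpObj.comp_inv, Category.comp_id, _root_.inv_inv]
      exact ⟨_, by rw [← Over.comp_left, e, Over.id_left], by rw [← Over.comp_left, e, Over.id_left]⟩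
    have e : (𝟙 A : A ⟶ A) ^ (-(n : ℤ)) = ((𝟙 A)⁻¹ : A ⟶ A) ≫ (𝟙 A) ^ n := by
      rw [zpow_neg, zpow_natCast, MonObj.comp_pow, Category.comp_id, inv_pow]
    simp only [e, Over.comp_left, Scheme.Hom.finrank_comp_left_of_isIso, Int.natAbs_neg,
      Int.natAbs_natCast]
    exact AbTors.finrank_pow A hg hn _

theorem isDeg_diagonal {g : ℕ} (hg : topologicalKrullDim A.left = (g : WithBot ℕ∞)) (a : Fin r → ℤ)
    (ha : ∀ i, a i ≠ 0) :
    IsDeg (matEndo (X := A) (Matrix.diagonal a)).left ((∏ i, (a i).natAbs) ^ (2 * g)) := by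
  obtain ⟨_, _⟩ := isIntegral_power (A := A) (r := r) hg
  classical
  have key : ∀ s : Finset (Fin r), IsDeg
      (matEndo (X := A) (Matrix.diagonal fun i => if i ∈ s then a i else 1)).left
      ((∏ i ∈ s, (a i).natAbs) ^ (2 * g)) := by
    intro s
    induction s using Finset.induction_on with
    | empty =>
      have e : (Matrix.diagonal fun i : Fin r => if i ∈ (∅ : Finset (Fin r)) then a i else (1 : ℤ)) = 1 := by
        simp
      rw [e, matEndo_one, Finset.prod_empty, one_pow, Over.id_left]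
      exact isDeg_of_isIso _
    | insert j s hj ih =>
      have e : (Matrix.diagonal fun i : Fin r => if i ∈ insert j s then a i else (1 : ℤ)) =
          Matrix.diagonal (Function.update 1 j (a j)) * Matrix.diagonal fun i => if i ∈ s then a i else 1 := by
        rw [Matrix.diagonal_mul_diagonal]
        congr 1
        funext i
        rcases eq_or_ne i j with rfl | hi
        · simp [hj]
        · simp [Function.update_of_ne hi, hi]
      rw [e, matEndo_mul, Over.comp_left, Finset.prod_insert hj, mul_pow, mul_comm]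
      exact ih.comp (isDeg_single hg j (ha j))
  have := key Finset.univ
  simpa using this

theorem exists_smith {r : ℕ} (α : Matrix (Fin r) (Fin r) ℤ) (hα : α.det ≠ 0) :
    ∃ (P Q : Matrix (Fin r) (Fin r) ℤ) (a : Fin r → ℤ), IsUnit P.det ∧ IsUnit Q.det ∧ α = P * Matrix.diagonal a * Q := by
  let b := Pi.basisFun ℤ (Fin r)
  let f : (Fin r → ℤ) →ₗ[ℤ] (Fin r → ℤ) := Matrix.toLin b b α
  have hf : Function.Injective f := by
    refine (injective_iff_map_eq_zero f).2 fun x hx => ?_
    have : α.mulVec x = 0 := by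
      simpa [f, b, Matrix.toLin_eq_toLin'] using hx
    exact Matrix.eq_zero_of_mulVec_eq_zero hα this
  let N := LinearMap.range f
  let e : (Fin r → ℤ) ≃ₗ[ℤ] N := LinearEquiv.ofInjective f hf
  have h : Module.finrank ℤ N = Module.finrank ℤ (Fin r → ℤ) := e.finrank_eq.symm
  let t := Submodule.smithNormalFormTopBasis b h
  let u := Submodule.smithNormalFormBotBasis b h
  let a := Submodule.smithNormalFormCoeffs b h
  refine ⟨LinearMap.toMatrix t b (LinearMap.id : (Fin r → ℤ) →ₗ[ℤ] _), LinearMap.toMatrix b u e.toLinearMap, a,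
    LinearEquiv.isUnit_det (LinearEquiv.refl ℤ (Fin r → ℤ)) t b, e.isUnit_det b u, ?_⟩
  have hsub : LinearMap.toMatrix u t N.subtype = Matrix.diagonal a := by
    ext i j
    rw [LinearMap.toMatrix_apply, Submodule.subtype_apply, Submodule.smithNormalFormBotBasis_def b h j,
      map_smul, Module.Basis.repr_self, Finsupp.smul_single, smul_eq_mul, mul_one]
    by_cases hij : i = j
    · subst hij; rw [Matrix.diagonal_apply_eq, Finsupp.single_eq_same]
    · rw [Matrix.diagonal_apply_ne _ hij, Finsupp.single_eq_of_ne hij]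
  rw [← hsub, Matrix.mul_assoc, ← LinearMap.toMatrix_comp b u t]
  rw [← LinearMap.toMatrix_comp b t b]
  exact (LinearMap.toMatrix_toLin b b α).symm

/-- The degree of a matrix endomorphism. -/
theorem isDeg_matEndo {g : ℕ} (hg : topologicalKrullDim A.left = (g : WithBot ℕ∞))
    (α : Matrix (Fin r) (Fin r) ℤ) (hα : α.det ≠ 0) :
    IsDeg (matEndo (X := A) α).left (α.det.natAbs ^ (2 * g)) := by
  obtain ⟨_, _⟩ := isIntegral_power (A := A) (r := r) hg
  obtain ⟨P, Q, a, hP, hQ, rfl⟩ := exists_smith α hα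
  have ha : ∀ i, a i ≠ 0 := fun i hi => hα (by
    rw [Matrix.det_mul, Matrix.det_mul, Matrix.det_diagonal, Finset.prod_eq_zero (Finset.mem_univ i) hi]
    ring)
  haveI := isIso_matEndo (X := A) hP
  haveI := isIso_matEndo (X := A) hQ
  haveI : IsIso (matEndo (X := A) P).left := inferInstanceAs (IsIso ((Over.forget _).map _))
  haveI : IsIso (matEndo (X := A) Q).left := inferInstanceAs (IsIso ((Over.forget _).map _))
  have := ((isDeg_of_isIso (matEndo (X := A) Q).left).comp (isDeg_diagonal hg a ha)).comp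
    (isDeg_of_isIso (matEndo (X := A) P).left)
  rw [one_mul, _root_.mul_one] at this
  rw [matEndo_mul, matEndo_mul, Over.comp_left, Over.comp_left]
  convert this using 1
  · rw [Category.assoc]
  · rw [Matrix.det_mul, Matrix.det_mul, Int.natAbs_mul, Int.natAbs_mul, Int.isUnit_iff_natAbs_eq.1 hP,
      Int.isUnit_iff_natAbs_eq.1 hQ, one_mul, _root_.mul_one, Matrix.det_diagonal, ← Int.natAbsHom_apply, map_prod]
    rfl

end GrothLib.Poincare
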