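import Groth.Agent.Lib.Poincare.DualRel

/-!
# Mumford classes lie in Pic⁰
-/

universe u

open CategoryTheory CategoryTheory.Limits AlgebraicGeometry
open MonoidalCategory CartesianMonoidalCategory MonObj
open GrothLib.Ample GrothLib.Cube

set_option backward.isDefEq.respectTransparency false

noncomputable section

namespace GrothLib.Dual

variable {S : Scheme.{u}} {A : Over S} [GrpObj A]

/-- A class on `A × A` trivial on `A × e` over geometric points is a family of Pic⁰ classes. -/
theorem pz_of_axis [IsProper A.hom] [GeometricallyConnected A.hom] (n : Pic (A ⊗ A).left)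
    (h : ∀ (Ω : Type u) [Field Ω] (σ : Spec (CommRingCat.of Ω) ⟶ S),
      pull (A ◁ (1 : Over.mk σ ⟶ A)).left n = 1) : PZ A A n := by
  intro t Ω _ _ σ _
  let σS : Spec (CommRingCat.of Ω) ⟶ S := σ ≫ A.hom
  let X : Scheme.{u} := pullback (PicF.XTproj A.hom A) σ
  let T : Scheme.{u} := pullback A.hom σS
  let q : T ⟶ Spec (CommRingCat.of Ω) := pullback.snd A.hom σS
  letI : X.Over (Spec (CommRingCat.of Ω)) := ⟨pullback.snd (PicF.XTproj A.hom A) σ⟩
  haveI : ConnectedSpace T := GeometricallyConnected.connectedSpace_of_subsingleton (f := q)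
  let e : S ⟶ A.left := (η[A] : 𝟙_ (Over S) ⟶ A).left
  have he : e ≫ A.hom = 𝟙 S := Over.w (η[A] : 𝟙_ (Over S) ⟶ A)
  let a : X ⟶ A.left := pullback.fst (PicF.XTproj A.hom A) σ ≫ pullback.fst A.hom A.hom
  have ha : a ≫ A.hom = pullback.snd (PicF.XTproj A.hom A) σ ≫ σS := by
    show (_ ≫ _) ≫ _ = _
    rw [Category.assoc, pullback.condition, ← Category.assoc, pullback.condition, Category.assoc]
  let G : Pic13.prodK Ω X q ⟶ (A ⊗ A).left :=
    pullback.lift (pullback.fst (X ↘ Spec (CommRingCat.of Ω)) q ≫ a)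
      (pullback.snd (X ↘ Spec (CommRingCat.of Ω)) q ≫ pullback.fst A.hom σS) (by
        rw [Category.assoc, ha, Category.assoc, pullback.condition (f := A.hom) (g := σS), ← Category.assoc,
          ← Category.assoc]
        exact congrArg (· ≫ σS) pullback.condition)
  let t₁ : Spec (CommRingCat.of Ω) ⟶ T := pullback.lift σ (𝟙 _) (Category.id_comp _).symm
  let t₀ : Spec (CommRingCat.of Ω) ⟶ T :=
    pullback.lift (σS ≫ e) (𝟙 _) (by rw [Category.assoc, he, Category.comp_id, Category.id_comp])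
  have h₁ : t₁ ≫ q = 𝟙 _ := pullback.lift_snd _ _ _
  have h₀ : t₀ ≫ q = 𝟙 _ := pullback.lift_snd _ _ _
  have hG : HasCls ((Scheme.Modules.pullback G).obj (rep n)) (pull G n) := (hasCls_rep n).pullback G
  have hs : ∀ (w : Spec (CommRingCat.of Ω) ⟶ T) (hw : w ≫ q = 𝟙 _) (b : Spec (CommRingCat.of Ω) ⟶ A.left)
      (_ : w ≫ pullback.fst A.hom σS = b),
      Pic13.sliceAt Ω X q w hw ≫ G ≫ pullback.fst A.hom A.hom = a ∧
        Pic13.sliceAt Ω X q w hw ≫ G ≫ pullback.snd A.hom A.hom =
          pullback.snd (PicF.XTproj A.hom A) σ ≫ b := by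
    intro w hw b hb
    constructor
    · simp [G, Pic13.sliceAt]
      exact Category.id_comp a
    · simp [G, Pic13.sliceAt]
      show pullback.snd (PicF.XTproj A.hom A) σ ≫ w ≫ pullback.fst A.hom σS = _
      rw [hb]
  have hfib : ∀ (w : Spec (CommRingCat.of Ω) ⟶ T) (hw : w ≫ q = 𝟙 _),
      HasCls (Pic13.fibreMod Ω X q w hw ((Scheme.Modules.pullback G).obj (rep n)))
        (pull (Pic13.sliceAt Ω X q w hw ≫ G) n) := fun w hw => by
    rw [← pull_comp]
    exact hG.pullback _
  refine ⟨T, q, inferInstance, inferInstance, inferInstance, _, hG.choose, t₁, t₀, h₁, h₀, ?_, ?_⟩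
  · refine (hfib t₁ h₁).iso ((hasCls_rep n).pullback _) ?_
    congr 2
    obtain ⟨e1, e2⟩ := hs t₁ h₁ σ (pullback.lift_fst _ _ _)
    refine pullback.hom_ext ((Category.assoc _ _ _).trans e1) ?_
    rw [Category.assoc]
    exact e2.trans pullback.condition.symm
  · refine (hfib t₀ h₀).iso (hasCls_structureModule X) ?_
    obtain ⟨e1, e2⟩ := hs t₀ h₀ (σS ≫ e) (pullback.lift_fst _ _ _)
    let P : Over S := Over.mk σS
    let r : X ⟶ (A ⊗ P).left := pullback.lift a (pullback.snd (PicF.XTproj A.hom A) σ) ha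
    have e3 : Pic13.sliceAt Ω X q t₀ h₀ ≫ G = r ≫ (A ◁ (1 : P ⟶ A)).left := by
      refine pullback.hom_ext ((Category.assoc _ _ _).trans (e1.trans ?_)) ?_
      · rw [Category.assoc, show (A ◁ (1 : P ⟶ A)).left ≫ pullback.fst A.hom A.hom = (fst A P).left from
          congrArg CategoryTheory.Over.Hom.left (whiskerLeft_fst A (1 : P ⟶ A))]
        exact (pullback.lift_fst _ _ _).symm
      · rw [Category.assoc, Category.assoc, e2,
          show (A ◁ (1 : P ⟶ A)).left ≫ pullback.snd A.hom A.hom = (snd A P).left ≫ (1 : P ⟶ A).left from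
          congrArg CategoryTheory.Over.Hom.left (whiskerLeft_snd A (1 : P ⟶ A))]
        refine Eq.trans ?_ ((congrArg (· ≫ (1 : P ⟶ A).left) (pullback.lift_snd _ _ _ :
          r ≫ (snd A P).left = pullback.snd (PicF.XTproj A.hom A) σ)).symm.trans (Category.assoc _ _ _))
        congr 1
    rw [e3, ← pull_comp, h Ω σS, map_one]

theorem pull_one_field {X : Over S} [GrpObj X] {Ω : Type u} [Field Ω] {σ : Spec (CommRingCat.of Ω) ⟶ S}
    {Y : Over S} (g : Y ⟶ Over.mk σ) (x : Pic X.left) : pull (g ≫ (1 : Over.mk σ ⟶ X)).left x = 1 := by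
  rw [← CubeRel26.pull_pull_over, show pull (1 : Over.mk σ ⟶ X).left x = 1 from pic_spec_field_eq_one (F := Ω) _,
    map_one]

/-- The Mumford class of a class on `A` is in Pic⁰. -/
theorem pz_mumford [IsProper A.hom] [GeometricallyConnected A.hom] {n : Pic (A ⊗ A).left} {x : Pic A.left}
    (hn : n * pull (fst A A).left x * pull (snd A A).left x = pull μ[A].left x) : PZ A A n := by
  refine pz_of_axis n fun Ω _ σ => ?_
  have e := congrArg (pull (A ◁ (1 : Over.mk σ ⟶ A)).left) hn
  rw [map_mul, map_mul, CubeRel26.pull_pull_over, CubeRel26.pull_pull_over, CubeRel26.pull_pull_over,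
    whiskerLeft_fst, whiskerLeft_snd, pull_one_field, _root_.mul_one,
    show (A ◁ (1 : Over.mk σ ⟶ A)) ≫ μ[A] = fst A (Over.mk σ) by
      rw [show (μ[A] : A ⊗ A ⟶ A) = fst A A * snd A A by rw [Hom.mul_def, lift_fst_snd, Category.id_comp],
        MonObj.comp_mul, whiskerLeft_fst, whiskerLeft_snd, MonObj.comp_one, _root_.mul_one]] at e
  exact mul_eq_right.1 e

end GrothLib.Dual
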