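import Groth.Agent.Lib.Poincare.H90
import Groth.Agent.Lib.Poincare.PicKer
import Groth.Agent.Lib.BCCrit.Local
import Groth.Agent.Lib.BCCoh.Grauert2
import Groth.Agent.Lib.PicDesc.Basic
import Groth.Agent.Lib.Cube.Pic
import Groth.Agent.Lib.GrpdQuot.FppfGeom

/-!
# Descent of rigidified classes along finite flat covers of the base
-/

set_option autoImplicit false
set_option linter.all false
set_option backward.isDefEq.respectTransparency false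
set_option maxHeartbeats 1000000

universe u

open CategoryTheory CategoryTheory.Limits AlgebraicGeometry Opposite TopologicalSpace
open GrothLib.Ample GrothLib.Cube

noncomputable section

namespace GrothLib.PicDescent

theorem toSpecΓ_appLE {X Z : Scheme.{u}} (a : Z ⟶ X) {O : X.Opens} (hO : IsAffineOpen O)
    (e : (⊤ : Z.Opens) ≤ a ⁻¹ᵁ O) : Z.toSpecΓ ≫ Spec.map (a.appLE O ⊤ e) ≫ hO.fromSpec = a := by
  let a' := IsOpenImmersion.lift O.ι a (by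
    rintro _ ⟨z, rfl⟩; rw [Scheme.Opens.range_ι]; exact e (Set.mem_univ z))
  have ha : a' ≫ O.ι = a := IsOpenImmersion.lift_fac _ _ _
  conv_rhs => rw [← ha, ← hO.toSpecΓ_fromSpec, ← Category.assoc]
  rw [← Category.assoc]
  congr 1
  rw [Scheme.Opens.toSpecΓ, ← Category.assoc, Scheme.toSpecΓ_naturality]
  rw [Category.assoc, ← Spec.map_comp]
  congr 2
  have e' : (⊤ : O.toScheme.Opens) ≤ O.ι ⁻¹ᵁ O := by rw [O.ι_preimage_self]
  have h2 : O.ι.appLE O ⊤ e' = O.topIso.inv := by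
    rw [Scheme.Opens.ι_appLE]; rfl
  refine Eq.trans ?_ (congrArg₂ (· ≫ ·) h2 (Scheme.Hom.app_eq_appLE (f := a') (U := ⊤)).symm)
  refine Eq.trans ?_ (Scheme.Hom.appLE_comp_appLE a' O.ι O ⊤ ⊤ e' _).symm
  have key : ∀ (b : Z ⟶ X) (eb : (⊤ : Z.Opens) ≤ b ⁻¹ᵁ O), b = a → b.appLE O ⊤ eb = a.appLE O ⊤ e := by
    rintro b eb rfl; rfl
  exact (key _ _ ha).symm

theorem appLE_congr {X Z : Scheme.{u}} {a b : Z ⟶ X} (h : a = b) {U : X.Opens} {W : Z.Opens}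
    (ea : W ≤ a ⁻¹ᵁ U) (eb : W ≤ b ⁻¹ᵁ U) (t : Γ(X, U)) : a.appLE U W ea t = b.appLE U W eb t := by
  subst h; rfl

theorem appLE_appLE {X Z Z' : Scheme.{u}} (j : Z' ⟶ Z) (a : Z ⟶ X) {U : X.Opens} {W : Z.Opens} {W' : Z'.Opens}
    (e : W ≤ a ⁻¹ᵁ U) (e' : W' ≤ j ⁻¹ᵁ W) (t : Γ(X, U)) :
    j.appLE W W' e' (a.appLE U W e t) = (j ≫ a).appLE U W' (e'.trans (j.preimage_mono e)) t := by
  rw [← CommRingCat.comp_apply, Scheme.Hom.appLE_comp_appLE]

theorem le_pre {X Y Z : Scheme.{u}} {a : Z ⟶ X} {p : X ⟶ Y} {c : Z ⟶ Y} (h : a ≫ p = c) {U : Y.Opens}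
    {W : Z.Opens} (e : W ≤ c ⁻¹ᵁ U) : W ≤ a ⁻¹ᵁ (p ⁻¹ᵁ U) := by
  subst h; exact e

theorem le_pre_inf {X Z : Scheme.{u}} {j : Z ⟶ X} {U U' : X.Opens} {W : Z.Opens} (h : W ≤ j ⁻¹ᵁ U)
    (h' : W ≤ j ⁻¹ᵁ U') : W ≤ j ⁻¹ᵁ (U ⊓ U') := fun _ hz => ⟨h hz, h' hz⟩

theorem appLE_res' {X Z : Scheme.{u}} (j : Z ⟶ X) {U U' : X.Opens} {W : Z.Opens} (h : U' ≤ U) (e : W ≤ j ⁻¹ᵁ U')
    (a : Γ(X, U)) : j.appLE U' W e (res h a) = j.appLE U W (e.trans (j.preimage_mono h)) a :=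
  appLE_res j h e a

theorem res_appLE' {X Z : Scheme.{u}} (j : Z ⟶ X) {U : X.Opens} {W W' : Z.Opens} (h : W' ≤ W) (e : W ≤ j ⁻¹ᵁ U)
    (a : Γ(X, U)) : res h (j.appLE U W e a) = j.appLE U W' (h.trans e) a :=
  res_appLE j h e a

theorem comap_G' {X Z : Scheme.{u}} (c : Cocycle X) (j : Z ⟶ X) (i k : c.ι) {W : Z.Opens} (hi : W ≤ j ⁻¹ᵁ c.D i)
    (hk : W ≤ j ⁻¹ᵁ c.D k) : (c.comap j).G i k hi hk = j.appLE (c.D i ⊓ c.D k) W (le_pre_inf hi hk) (c.g i k) :=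
  c.comap_G j i k hi hk

theorem appLE_G' {X Z : Scheme.{u}} (c : Cocycle X) (j : Z ⟶ X) (i k : c.ι) {V : X.Opens} (hi : V ≤ c.D i)
    (hk : V ≤ c.D k) {W : Z.Opens} (e : W ≤ j ⁻¹ᵁ V) :
    j.appLE V W e (c.G i k hi hk) = (c.comap j).G i k (e.trans (j.preimage_mono hi)) (e.trans (j.preimage_mono hk)) :=
  c.appLE_G j i k hi hk e

theorem isUnit_of_cover {X : Scheme.{u}} {ι : Type*} (W : ι → X.Opens) (hW : (⊤ : X.Opens) ≤ ⨆ i, W i)
    (a : Γ(X, ⊤)) (h : ∀ i, IsUnit (res (le_top : W i ≤ ⊤) a)) : IsUnit a := by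
  have hb : X.basicOpen a = ⊤ := top_le_iff.1 (hW.trans (iSup_le fun i => by
    have := Scheme.basicOpen_of_isUnit X (h i)
    rw [res, Scheme.basicOpen_res] at this
    exact this.ge.trans inf_le_right))
  have h1 := RingedSpace.isUnit_res_basicOpen X.toRingedSpace a
  obtain ⟨t, ht⟩ := h1.exists_right_inv
  refine IsUnit.of_mul_eq_one (res hb.ge t) ?_
  have := congrArg (res hb.ge) ht
  rw [map_mul, map_one] at this
  refine Eq.trans ?_ this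
  congr 1
  exact ((res_res _ _ _).trans (res_self _ _)).symm

theorem eq_one_of_cover {X : Scheme.{u}} {ι : Type*} (W : ι → X.Opens) (hW : (⊤ : X.Opens) ≤ ⨆ i, W i)
    (a : Γ(X, ⊤)) (h : ∀ i, res (le_top : W i ≤ ⊤) a = 1) : a = 1 :=
  X.sheaf.eq_of_locally_eq' W ⊤ (fun i => homOfLE le_top) hW a 1 fun i => (h i).trans (map_one _).symm

variable {Y B B' : Scheme.{u}} (f : Y ⟶ B) (m : B ⟶ Y) (hm : m ≫ f = 𝟙 B) (v : B' ⟶ B)

/-- The section over a base change. -/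
def sec {T : Scheme.{u}} (g : T ⟶ B) : T ⟶ pullback f g :=
  pullback.lift (g ≫ m) (𝟙 T) (by rw [Category.assoc, hm, Category.comp_id, Category.id_comp])

/-- The first projection from the square. -/
def q₁ : pullback f (pullback.fst v v ≫ v) ⟶ pullback f v :=
  pullback.lift (pullback.fst _ _) (pullback.snd _ _ ≫ pullback.fst v v) (by
    rw [Category.assoc, ← pullback.condition])

/-- The second projection from the square. -/
def q₂ : pullback f (pullback.fst v v ≫ v) ⟶ pullback f v :=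
  pullback.lift (pullback.fst _ _) (pullback.snd _ _ ≫ pullback.snd v v) (by
    rw [Category.assoc, ← pullback.condition (f := v) (g := v), ← pullback.condition])

theorem q₁_fst : q₁ f v ≫ pullback.fst f v = pullback.fst _ _ := pullback.lift_fst _ _ _
theorem q₂_fst : q₂ f v ≫ pullback.fst f v = pullback.fst _ _ := pullback.lift_fst _ _ _

variable {f v} in
/-- The map to the square of two points over the same point downstairs. -/
def pair {Z : Scheme.{u}} (a b : Z ⟶ pullback f v) (h : a ≫ pullback.fst f v = b ≫ pullback.fst f v) :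
    Z ⟶ pullback f (pullback.fst v v ≫ v) :=
  pullback.lift (a ≫ pullback.fst f v)
    (pullback.lift (a ≫ pullback.snd f v) (b ≫ pullback.snd f v) (by
      rw [Category.assoc, Category.assoc, ← pullback.condition, ← Category.assoc, ← Category.assoc, h]))
    (by rw [pullback.lift_fst_assoc, Category.assoc, Category.assoc, pullback.condition])

variable {f v} in
theorem pair_fst {Z : Scheme.{u}} (a b : Z ⟶ pullback f v) (h : a ≫ pullback.fst f v = b ≫ pullback.fst f v) :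
    pair a b h ≫ pullback.fst f (pullback.fst v v ≫ v) = a ≫ pullback.fst f v := pullback.lift_fst _ _ _

variable {f v} in
theorem pair_q₁ {Z : Scheme.{u}} (a b : Z ⟶ pullback f v) (h : a ≫ pullback.fst f v = b ≫ pullback.fst f v) :
    pair a b h ≫ q₁ f v = a := by
  refine pullback.hom_ext ?_ ?_
  · rw [Category.assoc, q₁_fst, pair_fst]
  · simp [pair, q₁]

variable {f v} in
theorem pair_q₂ {Z : Scheme.{u}} (a b : Z ⟶ pullback f v) (h : a ≫ pullback.fst f v = b ≫ pullback.fst f v) :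
    pair a b h ≫ q₂ f v = b := by
  refine pullback.hom_ext ?_ ?_
  · rw [Category.assoc, q₂_fst, pair_fst, h]
  · simp [pair, q₂]

variable {f v} in
theorem pair_comp {Z Z' : Scheme.{u}} (j : Z' ⟶ Z) (a b : Z ⟶ pullback f v)
    (h : a ≫ pullback.fst f v = b ≫ pullback.fst f v) :
    j ≫ pair a b h = pair (j ≫ a) (j ≫ b) (by rw [Category.assoc, Category.assoc, h]) := by
  refine pullback.hom_ext ?_ ?_
  · rw [Category.assoc, pair_fst, pair_fst, Category.assoc]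
  · refine pullback.hom_ext ?_ ?_ <;> simp [pair]

variable [IsFinite v] [Flat v] [LocallyOfFinitePresentation v] [Surjective v]

/-- **Descent**: a rigidified class with equal pullbacks to the square descends. -/
theorem exists_descend
    (hf : ∀ {T : Scheme.{u}} (g : T ⟶ B), Function.Surjective (pullback.snd f g).appTop)
    (x : Pic (pullback f v)) (hx : pull (sec f m hm v) x = 1) (heq : pull (q₁ f v) x = pull (q₂ f v) x) :
    ∃ n : Pic Y, pull (pullback.fst f v) n = x := by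
  classical
  let p : (pullback f v) ⟶ Y := pullback.fst f v
  haveI : IsFinite p := MorphismProperty.pullback_fst f v ‹_›
  haveI : Flat p := MorphismProperty.pullback_fst f v ‹_›
  haveI : LocallyOfFinitePresentation p := MorphismProperty.pullback_fst f v ‹_›
  haveI : Surjective p := MorphismProperty.pullback_fst f v ‹_›
  obtain ⟨c₀, rfl⟩ := Quotient.exists_rep x
  -- frames over affine opens downstairs
  let L := c₀.twist 1
  have hL : PicF.IsInvertible L := c₀.isInvertible_twist 1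
  choose D₀ e₀ hD₀ he₀ using PicDesc.exists_frame_over p hL
  choose D hD hyD hDle using fun y : Y =>
    exists_isAffineOpen_mem_and_subset (x := y) (U := D₀ y) (hD₀ y)
  have hex : ∀ y, ∃ e : Γ(L, p ⁻¹ᵁ D y), InvExt.IsGen L (p ⁻¹ᵁ D y) e := fun y =>
    ⟨_, (he₀ y).restrict (p.preimage_mono (hDle y))⟩
  choose e he using hex
  choose g hg using fun y z : Y => (he y).exists_smul_eq (inf_le_left : p ⁻¹ᵁ D y ⊓ p ⁻¹ᵁ D z ≤ p ⁻¹ᵁ D y)
    (InvExt.mres L inf_le_right (e z))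
  have hres : ∀ (y z : Y) (W : (pullback f v).Opens) (hy : W ≤ p ⁻¹ᵁ D y) (hz : W ≤ p ⁻¹ᵁ D z),
      InvExt.mres L hz (e z) = res (le_inf hy hz) (g y z) • InvExt.mres L hy (e y) := by
    intro y z W hy hz
    have := congrArg (InvExt.mres L (le_inf hy hz)) (hg y z)
    rwa [InvExt.mres_mres, mres_smul', InvExt.mres_mres] at this
  let c : Cocycle (pullback f v) :=
    { ι := Y
      D := fun y => p ⁻¹ᵁ D y
      g := g
      cover := eq_top_iff.mpr fun z _ => Opens.mem_iSup.mpr ⟨p z, hyD (p z)⟩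
      self := fun i W h => (he i).smul_left_injective h (by rw [← hres i i W h h, one_smul])
      change := fun i j k W hi hj hk => (he i).smul_left_injective hi (by
        rw [← hres i k W hi hk, hres j k W hj hk, hres i j W hi hj, smul_smul, mul_comm]) }
  have hc : cls c = cls c₀ := by
    have hfam : c.IsFamily 1 (M := L) e := fun i j W hi hj => by
      rw [pow_one]; exact hres i j W hi hj
    haveI := c.isIso_homOfFamily hfam he
    exact cls_eq_iff.2 ⟨asIso (c.homOfFamily hfam)⟩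
  change pull (sec f m hm v) (cls c₀) = 1 at hx
  change pull (q₁ f v) (cls c₀) = pull (q₂ f v) (cls c₀) at heq
  show ∃ n : Pic Y, pull p n = cls c₀
  rw [← hc] at hx heq ⊢
  -- a trivialisation of the difference on the square
  let r : (pullback f (pullback.fst v v ≫ v)) ⟶ Y := pullback.fst f (pullback.fst v v ≫ v)
  have hr₁ : q₁ f v ≫ p = r := q₁_fst f v
  have hr₂ : q₂ f v ≫ p = r := q₂_fst f v
  let d : Cocycle (pullback f (pullback.fst v v ≫ v)) :=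
    { ι := Y
      D := fun y => r ⁻¹ᵁ D y
      g := fun i k => (c.comap (q₁ f v)).G i k (le_pre hr₁ inf_le_left) (le_pre hr₁ inf_le_right) *
        (c.comap (q₂ f v)).G k i (le_pre hr₂ inf_le_right) (le_pre hr₂ inf_le_left)
      cover := eq_top_iff.mpr fun z _ => Opens.mem_iSup.mpr ⟨r z, hyD (r z)⟩
      self := fun i W h => by
        rw [map_mul, Cocycle.res_G, Cocycle.res_G, Cocycle.G_self, Cocycle.G_self, one_mul]
      change := fun i j k W hi hj hk => by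
        simp only [map_mul, Cocycle.res_G]
        rw [(c.comap (q₁ f v)).G_trans i j k (le_pre hr₁ hi) (le_pre hr₁ hj) (le_pre hr₁ hk),
          (c.comap (q₂ f v)).G_trans k j i (le_pre hr₂ hk) (le_pre hr₂ hj) (le_pre hr₂ hi)]
        ring }
  have hd : cls d = 1 := by
    have h1 : cls d = cls ((c.comap (q₁ f v)).prod (Cube.inv (c.comap (q₂ f v)))) :=
      Quotient.sound (eqv_of_map (fun i : d.ι => ((i, i) : ((c.comap (q₁ f v)).prod (Cube.inv (c.comap (q₂ f v)))).ι))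
        (fun i => le_inf (le_pre hr₁ le_rfl) (le_pre hr₂ le_rfl)) (fun _ => 1) (fun _ => isUnit_one)
        fun i k O hi hk => by
          rw [map_one, map_one, one_mul, mul_one, Cocycle.prod_G, Cube.inv_G]
          show _ = res _ (_ * _)
          rw [map_mul, Cocycle.res_G, Cocycle.res_G])
    rw [h1, cls_prod]
    show pull (q₁ f v) (cls c) * (pull (q₂ f v) (cls c))⁻¹ = 1
    rw [heq, mul_inv_cancel]
  obtain ⟨a, ha⟩ := cls_eq_one_iff.1 hd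
  let w₀ : ∀ i : Y, Γ((pullback f (pullback.fst v v ≫ v)), r ⁻¹ᵁ D i) := fun i => res (le_inf le_top le_rfl) (a.1 i)
  have hw₀u : ∀ i, IsUnit (w₀ i) := fun i => isUnit_component (c := d) ha i le_rfl
  have hw₀ : ∀ (i k : Y) (W : (pullback f (pullback.fst v v ≫ v)).Opens) (hi : W ≤ r ⁻¹ᵁ D i) (hk : W ≤ r ⁻¹ᵁ D k),
      res hi (w₀ i) = (c.comap (q₁ f v)).G i k (le_pre hr₁ hi) (le_pre hr₁ hk) *
        (c.comap (q₂ f v)).G k i (le_pre hr₂ hk) (le_pre hr₂ hi) * res hk (w₀ k) := by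
    intro i k W hi hk
    have h := d.sect_spec a i k (W := W) (le_inf le_top hi) (le_inf le_top hk)
    rw [pow_one] at h
    simp only [w₀, res_res]
    refine h.trans (congrArg (· * _) ?_)
    show res _ (_ * _) = _
    rw [map_mul, Cocycle.res_G, Cocycle.res_G]
  -- the trivialisation on the section, and normalisation
  let σ : B' ⟶ (pullback f v) := sec f m hm v
  obtain ⟨a', ha'⟩ := cls_eq_one_iff.1 ((pull_cls σ c).symm.trans hx)
  let ρ : ∀ i : Y, Γ(B', σ ⁻¹ᵁ (p ⁻¹ᵁ D i)) := fun i => res (le_inf le_top le_rfl) (a'.1 i)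
  have hρu : ∀ i, IsUnit (ρ i) := fun i => isUnit_component (c := c.comap σ) ha' i le_rfl
  have hρ : ∀ (i k : Y) (W : B'.Opens) (hi : W ≤ σ ⁻¹ᵁ (p ⁻¹ᵁ D i)) (hk : W ≤ σ ⁻¹ᵁ (p ⁻¹ᵁ D k)),
      res hi (ρ i) = (c.comap σ).G i k hi hk * res hk (ρ k) := by
    intro i k W hi hk
    have h := (c.comap σ).sect_spec a' i k (W := W) (le_inf le_top hi) (le_inf le_top hk)
    rw [pow_one] at h
    simp only [ρ, res_res]
    exact h
  let w₂ : (pullback v v) ⟶ B := pullback.fst v v ≫ v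
  let σ₂ : (pullback v v) ⟶ (pullback f (pullback.fst v v ≫ v)) := sec f m hm w₂
  have hσ₁ : σ₂ ≫ q₁ f v = pullback.fst v v ≫ σ := by
    refine pullback.hom_ext ?_ ?_ <;> simp [σ₂, σ, sec, q₁, w₂] <;> exact Category.id_comp _
  have hσ₂ : σ₂ ≫ q₂ f v = pullback.snd v v ≫ σ := by
    refine pullback.hom_ext ?_ ?_ <;> simp [σ₂, σ, sec, q₂, w₂, pullback.condition] <;> exact Category.id_comp _
  let O₂ : Y → (pullback v v).Opens := fun i => σ₂ ⁻¹ᵁ (r ⁻¹ᵁ D i)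
  have hO₁ : ∀ i, O₂ i ≤ pullback.fst v v ⁻¹ᵁ (σ ⁻¹ᵁ (p ⁻¹ᵁ D i)) := fun i => by
    rw [← Scheme.Hom.comp_preimage, ← hσ₁, Scheme.Hom.comp_preimage]
    exact σ₂.preimage_mono (le_pre hr₁ le_rfl)
  have hO₂ : ∀ i, O₂ i ≤ pullback.snd v v ⁻¹ᵁ (σ ⁻¹ᵁ (p ⁻¹ᵁ D i)) := fun i => by
    rw [← Scheme.Hom.comp_preimage, ← hσ₂, Scheme.Hom.comp_preimage]
    exact σ₂.preimage_mono (le_pre hr₂ le_rfl)
  let den : ∀ i, Γ((pullback v v), O₂ i) := fun i =>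
    (pullback.snd v v).appLE _ _ (hO₂ i) (ρ i) * σ₂.appLE (r ⁻¹ᵁ D i) (O₂ i) le_rfl (w₀ i)
  have hdenu : ∀ i, IsUnit (den i) := fun i => ((hρu i).map _).mul ((hw₀u i).map _)
  choose iden hiden using fun i => (hdenu i).exists_right_inv
  let ξ : ∀ i, Γ((pullback v v), O₂ i) := fun i => (pullback.fst v v).appLE _ _ (hO₁ i) (ρ i) * iden i
  have hξu : ∀ i, IsUnit (ξ i) := fun i =>
    ((hρu i).map _).mul (IsUnit.of_mul_eq_one _ ((mul_comm _ _).trans (hiden i)))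
  have hcov₂ : (⊤ : (pullback v v).Opens) ≤ ⨆ i, O₂ i := fun z _ => Opens.mem_iSup.mpr ⟨r (σ₂ z), hyD _⟩
  obtain ⟨γ, hγ⟩ := exists_glue O₂ (O := ⊤) (fun _ => le_top) hcov₂ ξ (fun i k => by
    let O := O₂ i ⊓ O₂ k
    have hi : O ≤ O₂ i := inf_le_left
    have hk : O ≤ O₂ k := inf_le_right
    have e₁₂ : O ≤ σ₂ ⁻¹ᵁ (r ⁻¹ᵁ D i ⊓ r ⁻¹ᵁ D k) := le_pre_inf hi hk
    have e₁ : O ≤ pullback.fst v v ⁻¹ᵁ (σ ⁻¹ᵁ (p ⁻¹ᵁ D i) ⊓ σ ⁻¹ᵁ (p ⁻¹ᵁ D k)) :=
      le_pre_inf (hi.trans (hO₁ i)) (hk.trans (hO₁ k))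
    have e₂ : O ≤ pullback.snd v v ⁻¹ᵁ (σ ⁻¹ᵁ (p ⁻¹ᵁ D i) ⊓ σ ⁻¹ᵁ (p ⁻¹ᵁ D k)) :=
      le_pre_inf (hi.trans (hO₂ i)) (hk.trans (hO₂ k))
    have e1 := congrArg ((pullback.fst v v).appLE (σ ⁻¹ᵁ (p ⁻¹ᵁ D i) ⊓ σ ⁻¹ᵁ (p ⁻¹ᵁ D k)) O e₁)
      (hρ i k (σ ⁻¹ᵁ (p ⁻¹ᵁ D i) ⊓ σ ⁻¹ᵁ (p ⁻¹ᵁ D k)) inf_le_left inf_le_right)
    have e2 := congrArg ((pullback.snd v v).appLE (σ ⁻¹ᵁ (p ⁻¹ᵁ D i) ⊓ σ ⁻¹ᵁ (p ⁻¹ᵁ D k)) O e₂)
      (hρ i k (σ ⁻¹ᵁ (p ⁻¹ᵁ D i) ⊓ σ ⁻¹ᵁ (p ⁻¹ᵁ D k)) inf_le_left inf_le_right)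
    have e3 := congrArg (σ₂.appLE (r ⁻¹ᵁ D i ⊓ r ⁻¹ᵁ D k) O e₁₂)
      (hw₀ i k (r ⁻¹ᵁ D i ⊓ r ⁻¹ᵁ D k) inf_le_left inf_le_right)
    simp only [map_mul, appLE_res', appLE_G', comap_G', appLE_appLE] at e1 e2 e3
    rw [appLE_congr hσ₁ _ (show O ≤ (pullback.fst v v ≫ σ) ⁻¹ᵁ (c.D i ⊓ c.D k) from
      le_pre_inf (hi.trans (hO₁ i)) (hk.trans (hO₁ k))),
      appLE_congr hσ₂ _ (show O ≤ (pullback.snd v v ≫ σ) ⁻¹ᵁ (c.D k ⊓ c.D i) from
        le_pre_inf (hk.trans (hO₂ k)) (hi.trans (hO₂ i)))] at e3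
    have fi := congrArg (res hi) (hiden i)
    have fk := congrArg (res hk) (hiden k)
    simp only [den, map_mul, map_one, res_appLE'] at fi fk
    have gg := congrArg ((pullback.snd v v ≫ σ).appLE (p ⁻¹ᵁ D i ⊓ p ⁻¹ᵁ D k) O
      (le_pre_inf (hi.trans (hO₂ i)) (hk.trans (hO₂ k))))
      (c.G_mul_G i k (W := p ⁻¹ᵁ D i ⊓ p ⁻¹ᵁ D k) inf_le_left inf_le_right)
    simp only [map_mul, map_one, appLE_G', comap_G'] at gg
    simp only [ξ, map_mul, res_appLE']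
    rw [e1]
    rw [e2, e3] at fi
    set a1 := (pullback.fst v v ≫ σ).appLE (p ⁻¹ᵁ D i ⊓ p ⁻¹ᵁ D k) O _ (g i k)
    set a2 := (pullback.snd v v ≫ σ).appLE (p ⁻¹ᵁ D i ⊓ p ⁻¹ᵁ D k) O _ (g i k)
    set a2' := (pullback.snd v v ≫ σ).appLE (p ⁻¹ᵁ D k ⊓ p ⁻¹ᵁ D i) O _ (g k i)
    set P1 := (pullback.fst v v).appLE (σ ⁻¹ᵁ (p ⁻¹ᵁ D k)) O _ (ρ k)
    set P2 := (pullback.snd v v).appLE (σ ⁻¹ᵁ (p ⁻¹ᵁ D k)) O _ (ρ k)
    set Wk := σ₂.appLE (r ⁻¹ᵁ D k) O _ (w₀ k)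
    set Ii := res hi (iden i)
    set Ik := res hk (iden k)
    linear_combination (-(a1 * P1 * Ii)) * fk + (P1 * Ik) * fi +
      (-(a1 * P1 * P2 * Wk * Ii * Ik)) * gg)
  have hγu : IsUnit γ := isUnit_of_cover O₂ hcov₂ γ fun i => (hγ i).symm ▸ hξu i
  let w : ∀ i : Y, Γ((pullback f (pullback.fst v v ≫ v)), r ⁻¹ᵁ D i) := fun i =>
    w₀ i * (pullback.snd f w₂).appLE ⊤ (r ⁻¹ᵁ D i) le_top γ
  have hwu : ∀ i, IsUnit (w i) := fun i => (hw₀u i).mul (hγu.map _)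
  have hw : ∀ (i k : Y) (W : (pullback f (pullback.fst v v ≫ v)).Opens) (hi : W ≤ r ⁻¹ᵁ D i) (hk : W ≤ r ⁻¹ᵁ D k),
      res hi (w i) = (c.comap (q₁ f v)).G i k (le_pre hr₁ hi) (le_pre hr₁ hk) *
        (c.comap (q₂ f v)).G k i (le_pre hr₂ hk) (le_pre hr₂ hi) * res hk (w k) := by
    intro i k W hi hk
    have ei : res hi ((pullback.snd f w₂).appLE ⊤ (r ⁻¹ᵁ D i) le_top γ) = (pullback.snd f w₂).appLE ⊤ W le_top γ :=
      res_appLE' _ hi _ γ
    have ek : res hk ((pullback.snd f w₂).appLE ⊤ (r ⁻¹ᵁ D k) le_top γ) = (pullback.snd f w₂).appLE ⊤ W le_top γ :=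
      res_appLE' _ hk _ γ
    simp only [w, map_mul]
    rw [ei, ek, hw₀ i k W hi hk]
    ring
  have hwσ : ∀ i, (pullback.fst v v).appLE _ _ (hO₁ i) (ρ i) =
      (pullback.snd v v).appLE _ _ (hO₂ i) (ρ i) * σ₂.appLE (r ⁻¹ᵁ D i) (O₂ i) le_rfl (w i) := fun i => by
    have h1 : σ₂ ≫ pullback.snd f w₂ = 𝟙 (pullback v v) := pullback.lift_snd _ _ _
    have h2 : σ₂.appLE (r ⁻¹ᵁ D i) (O₂ i) le_rfl ((pullback.snd f w₂).appLE ⊤ (r ⁻¹ᵁ D i) le_top γ) = ξ i := by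
      rw [appLE_appLE, appLE_congr h1 _ (le_top : O₂ i ≤ (𝟙 (pullback v v)) ⁻¹ᵁ ⊤), ← hγ i]
      simp [Scheme.Hom.appLE, res]
    have h3 := hiden i
    simp only [w, map_mul, h2, ξ, den] at h3 ⊢
    linear_combination (-((pullback.fst v v).appLE _ _ (hO₁ i) (ρ i))) * h3
  -- values on pairs of points
  let θ : ∀ {Z : Scheme.{u}} (a b : Z ⟶ (pullback f v)) (h : a ≫ p = b ≫ p) (i : Y) (W : Z.Opens)
      (eW : W ≤ (a ≫ p) ⁻¹ᵁ D i), Γ(Z, W) := fun {Z} a b h i W eW =>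
    (pair a b h).appLE (r ⁻¹ᵁ D i) W (le_pre (pair_fst a b h) eW) (w i)
  have hθ_comp : ∀ {Z Z' : Scheme.{u}} (j : Z' ⟶ Z) (a b : Z ⟶ (pullback f v)) (h : a ≫ p = b ≫ p) (i : Y) (W : Z.Opens)
      (eW : W ≤ (a ≫ p) ⁻¹ᵁ D i) (W' : Z'.Opens) (eW' : W' ≤ j ⁻¹ᵁ W) (h' : (j ≫ a) ≫ p = (j ≫ b) ≫ p)
      (eW'' : W' ≤ ((j ≫ a) ≫ p) ⁻¹ᵁ D i),
      j.appLE W W' eW' (θ a b h i W eW) = θ (j ≫ a) (j ≫ b) h' i W' eW'' := by
    intro Z Z' j a b h i W eW W' eW' h' eW''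
    exact (appLE_appLE _ _ _ _ _).trans (appLE_congr (pair_comp j a b h) _ _ _)
  have hθ_rel : ∀ {Z : Scheme.{u}} (a b : Z ⟶ (pullback f v)) (h : a ≫ p = b ≫ p) (i k : Y) (W : Z.Opens)
      (ei : W ≤ (a ≫ p) ⁻¹ᵁ D i) (ek : W ≤ (a ≫ p) ⁻¹ᵁ D k) (ei' : W ≤ (b ≫ p) ⁻¹ᵁ D i) (ek' : W ≤ (b ≫ p) ⁻¹ᵁ D k),
      θ a b h i W ei = (c.comap a).G i k ei ek * (c.comap b).G k i ek' ei' * θ a b h k W ek := by
    intro Z a b h i k W ei ek ei' ek'
    have eW : W ≤ pair a b h ⁻¹ᵁ (r ⁻¹ᵁ D i ⊓ r ⁻¹ᵁ D k) :=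
      le_pre_inf (le_pre (pair_fst a b h) ei) (le_pre (pair_fst a b h) ek)
    have e := congrArg ((pair a b h).appLE (r ⁻¹ᵁ D i ⊓ r ⁻¹ᵁ D k) W eW)
      (hw i k (r ⁻¹ᵁ D i ⊓ r ⁻¹ᵁ D k) inf_le_left inf_le_right)
    simp only [map_mul, appLE_res', comap_G', appLE_appLE] at e
    rw [appLE_congr (pair_q₁ a b h) _ (le_pre_inf ei ek), appLE_congr (pair_q₂ a b h) _ (le_pre_inf ek' ei')] at e
    rw [comap_G', comap_G']
    exact e
  -- the cocycle condition, first on the cube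
  let w₃ : (pullback (pullback.snd v v ≫ v) v) ⟶ B := pullback.fst _ _ ≫ w₂
  let b₁ : (pullback (pullback.snd v v ≫ v) v) ⟶ B' := pullback.fst _ _ ≫ pullback.fst v v
  let b₂ : (pullback (pullback.snd v v ≫ v) v) ⟶ B' := pullback.fst _ _ ≫ pullback.snd v v
  let b₃ : (pullback (pullback.snd v v ≫ v) v) ⟶ B' := pullback.snd _ _
  have hb₁ : b₁ ≫ v = w₃ := Category.assoc _ _ _
  have hb₂ : b₂ ≫ v = w₃ := by simp [b₂, w₃, w₂, pullback.condition (f := v) (g := v)]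
  have hb₃ : b₃ ≫ v = w₃ := by
    refine Eq.trans ?_ hb₂
    exact pullback.condition.symm.trans (Category.assoc _ _ _).symm
  let Q : ∀ (b : (pullback (pullback.snd v v ≫ v) v) ⟶ B') (hb : b ≫ v = w₃), (pullback f w₃) ⟶ (pullback f v) := fun b hb =>
    pullback.lift (pullback.fst f w₃) (pullback.snd f w₃ ≫ b) (by rw [Category.assoc, hb, pullback.condition])
  have hQ : ∀ (b : (pullback (pullback.snd v v ≫ v) v) ⟶ B') (hb : b ≫ v = w₃), Q b hb ≫ p = pullback.fst f w₃ := fun b hb => pullback.lift_fst _ _ _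
  let σ₃ : (pullback (pullback.snd v v ≫ v) v) ⟶ (pullback f w₃) := sec f m hm w₃
  have hσQ : ∀ (b : (pullback (pullback.snd v v ≫ v) v) ⟶ B') (hb : b ≫ v = w₃), σ₃ ≫ Q b hb = b ≫ σ := fun b hb => by
    refine pullback.hom_ext ?_ ?_
    · simp [σ₃, σ, sec, Q]; exact (congrArg (· ≫ m) hb).symm.trans (Category.assoc _ _ _)
    · simp [σ₃, σ, sec, Q]; exact Category.id_comp _
  have hσθ : ∀ (b b' : (pullback (pullback.snd v v ≫ v) v) ⟶ B') (hb : b ≫ v = w₃) (hb' : b' ≫ v = w₃) (i : Y) (O : (pullback (pullback.snd v v ≫ v) v).Opens) (eO : O ≤ ((σ₃ ≫ Q b hb) ≫ p) ⁻¹ᵁ D i)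
      (h' : (σ₃ ≫ Q b hb) ≫ p = (σ₃ ≫ Q b' hb') ≫ p) (e : O ≤ b ⁻¹ᵁ (σ ⁻¹ᵁ (p ⁻¹ᵁ D i))) (e' : O ≤ b' ⁻¹ᵁ (σ ⁻¹ᵁ (p ⁻¹ᵁ D i))),
      b.appLE _ O e (ρ i) = b'.appLE _ O e' (ρ i) * θ (σ₃ ≫ Q b hb) (σ₃ ≫ Q b' hb') h' i O eO := by
    intro b b' hb hb' i O eO h' e e'
    let l : (pullback (pullback.snd v v ≫ v) v) ⟶ (pullback v v) := pullback.lift b b' (hb.trans hb'.symm)
    have hl : l ≫ σ₂ = pair (σ₃ ≫ Q b hb) (σ₃ ≫ Q b' hb') h' := by
      refine pullback.hom_ext ?_ ?_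
      · rw [pair_fst, Category.assoc, Category.assoc,
          show σ₂ ≫ pullback.fst f (pullback.fst v v ≫ v) = (pullback.fst v v ≫ v) ≫ m from pullback.lift_fst _ _ _,
          hQ b hb, show σ₃ ≫ pullback.fst f w₃ = w₃ ≫ m from pullback.lift_fst _ _ _,
          ← Category.assoc l, ← Category.assoc l, show l ≫ pullback.fst v v = b from pullback.lift_fst _ _ _, hb]
      · rw [Category.assoc, show σ₂ ≫ pullback.snd f (pullback.fst v v ≫ v) = 𝟙 _ from pullback.lift_snd _ _ _,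
          Category.comp_id]
        refine pullback.hom_ext ?_ ?_ <;> simp [l, σ₃, sec, Q, pair] <;> exact (Category.id_comp _).symm
    have el : O ≤ l ⁻¹ᵁ O₂ i := by
      show O ≤ l ⁻¹ᵁ (σ₂ ⁻¹ᵁ _)
      rw [← Scheme.Hom.comp_preimage, hl]
      exact le_pre (pair_fst _ _ h') eO
    have h := congrArg (l.appLE _ O el) (hwσ i)
    rw [map_mul, appLE_appLE, appLE_appLE, appLE_appLE,
      appLE_congr (pullback.lift_fst b b' (hb.trans hb'.symm)) _ e,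
      appLE_congr (pullback.lift_snd b b' (hb.trans hb'.symm)) _ e', appLE_congr hl _ (le_pre (pair_fst _ _ h') eO)] at h
    exact h
  let O₃ : Y → (pullback f w₃).Opens := fun i => (pullback.fst f w₃) ⁻¹ᵁ D i
  have hcov₃ : (⊤ : (pullback f w₃).Opens) ≤ ⨆ i, O₃ i := fun z _ => Opens.mem_iSup.mpr ⟨pullback.fst f w₃ z, hyD _⟩
  have eQ : ∀ (b : (pullback (pullback.snd v v ≫ v) v) ⟶ B') (hb : b ≫ v = w₃) i (O : (pullback f w₃).Opens), O ≤ O₃ i → O ≤ (Q b hb ≫ p) ⁻¹ᵁ D i := fun b hb i O h => by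
    rw [hQ b hb]; exact h
  have hQQ : ∀ (b : (pullback (pullback.snd v v ≫ v) v) ⟶ B') (hb : b ≫ v = w₃) (b' : (pullback (pullback.snd v v ≫ v) v) ⟶ B') (hb' : b' ≫ v = w₃), Q b hb ≫ p = Q b' hb' ≫ p := fun b hb b' hb' => (hQ b hb).trans (hQ b' hb').symm
  let T : ∀ (b : (pullback (pullback.snd v v ≫ v) v) ⟶ B') (hb : b ≫ v = w₃) (b' : (pullback (pullback.snd v v ≫ v) v) ⟶ B') (hb' : b' ≫ v = w₃) (i : Y), Γ((pullback f w₃), O₃ i) := fun b hb b' hb' i =>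
    θ (Q b hb) (Q b' hb') (hQQ b hb b' hb') i (O₃ i) (eQ b hb i _ le_rfl)
  have hTu : ∀ (b : (pullback (pullback.snd v v ≫ v) v) ⟶ B') (hb : b ≫ v = w₃) (b' : (pullback (pullback.snd v v ≫ v) v) ⟶ B') (hb' : b' ≫ v = w₃) i, IsUnit (T b hb b' hb' i) := fun b hb b' hb' i => (hwu i).map _
  choose iT hiT using fun i => (hTu b₁ hb₁ b₃ hb₃ i).exists_right_inv
  let ζi : ∀ i, Γ((pullback f w₃), O₃ i) := fun i => T b₁ hb₁ b₂ hb₂ i * T b₂ hb₂ b₃ hb₃ i * iT i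
  obtain ⟨ζ, hζ⟩ := exists_glue O₃ (O := ⊤) (fun _ => le_top) hcov₃ ζi (fun i k => by
    let O := O₃ i ⊓ O₃ k
    have hres : ∀ (b : (pullback (pullback.snd v v ≫ v) v) ⟶ B') (hb : b ≫ v = w₃) (b' : (pullback (pullback.snd v v ≫ v) v) ⟶ B') (hb' : b' ≫ v = w₃) (j : Y) (hj : O ≤ O₃ j), res hj (T b hb b' hb' j) =
        θ (Q b hb) (Q b' hb') (hQQ b hb b' hb') j O (eQ b hb j _ hj) := fun b hb b' hb' j hj => res_appLE' _ _ _ _
    have r12 := hθ_rel (Q b₁ hb₁) (Q b₂ hb₂) (hQQ b₁ hb₁ b₂ hb₂) i k O (eQ b₁ hb₁ i _ inf_le_left) (eQ b₁ hb₁ k _ inf_le_right)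
      (eQ b₂ hb₂ i _ inf_le_left) (eQ b₂ hb₂ k _ inf_le_right)
    have r23 := hθ_rel (Q b₂ hb₂) (Q b₃ hb₃) (hQQ b₂ hb₂ b₃ hb₃) i k O (eQ b₂ hb₂ i _ inf_le_left) (eQ b₂ hb₂ k _ inf_le_right)
      (eQ b₃ hb₃ i _ inf_le_left) (eQ b₃ hb₃ k _ inf_le_right)
    have r13 := hθ_rel (Q b₁ hb₁) (Q b₃ hb₃) (hQQ b₁ hb₁ b₃ hb₃) i k O (eQ b₁ hb₁ i _ inf_le_left) (eQ b₁ hb₁ k _ inf_le_right)
      (eQ b₃ hb₃ i _ inf_le_left) (eQ b₃ hb₃ k _ inf_le_right)
    have g2 := (c.comap (Q b₂ hb₂)).G_mul_G i k (W := O) (eQ b₂ hb₂ i _ inf_le_left) (eQ b₂ hb₂ k _ inf_le_right)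
    have fi := congrArg (res (inf_le_left : O ≤ O₃ i)) (hiT i)
    have fk := congrArg (res (inf_le_right : O ≤ O₃ k)) (hiT k)
    replace fi : θ (Q b₁ hb₁) (Q b₃ hb₃) (hQQ b₁ hb₁ b₃ hb₃) i O (eQ b₁ hb₁ i _ inf_le_left) *
        res (inf_le_left : O ≤ O₃ i) (iT i) = 1 :=
      (congrArg (· * res (inf_le_left : O ≤ O₃ i) (iT i)) (hres b₁ hb₁ b₃ hb₃ i inf_le_left)).symm.trans
        ((map_mul _ _ _).symm.trans (fi.trans (map_one _)))
    replace fk : θ (Q b₁ hb₁) (Q b₃ hb₃) (hQQ b₁ hb₁ b₃ hb₃) k O (eQ b₁ hb₁ k _ inf_le_right) *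
        res (inf_le_right : O ≤ O₃ k) (iT k) = 1 :=
      (congrArg (· * res (inf_le_right : O ≤ O₃ k) (iT k)) (hres b₁ hb₁ b₃ hb₃ k inf_le_right)).symm.trans
        ((map_mul _ _ _).symm.trans (fk.trans (map_one _)))
    refine (map_mul (res (inf_le_left : O ≤ O₃ i)) _ _).trans (Eq.trans (congrArg (· * _) ((map_mul _ _ _).trans
      (congrArg₂ (· * ·) (hres b₁ hb₁ b₂ hb₂ i inf_le_left) (hres b₂ hb₂ b₃ hb₃ i inf_le_left)))) ?_)
    refine Eq.trans ?_ ((map_mul (res (inf_le_right : O ≤ O₃ k)) _ _).trans (congrArg (· * _) ((map_mul _ _ _).trans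
      (congrArg₂ (· * ·) (hres b₁ hb₁ b₂ hb₂ k inf_le_right) (hres b₂ hb₂ b₃ hb₃ k inf_le_right))))).symm
    beta_reduce
    rw [r13] at fi
    rw [r12, r23]
    set A1 := (c.comap (Q b₁ hb₁)).G i k (eQ b₁ hb₁ i _ (inf_le_left : O ≤ O₃ i)) (eQ b₁ hb₁ k _ inf_le_right)
    set A2' := (c.comap (Q b₂ hb₂)).G k i (eQ b₂ hb₂ k _ (inf_le_right : O ≤ O₃ k)) (eQ b₂ hb₂ i _ inf_le_left)
    set A2 := (c.comap (Q b₂ hb₂)).G i k (eQ b₂ hb₂ i _ (inf_le_left : O ≤ O₃ i)) (eQ b₂ hb₂ k _ inf_le_right)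
    set A3' := (c.comap (Q b₃ hb₃)).G k i (eQ b₃ hb₃ k _ (inf_le_right : O ≤ O₃ k)) (eQ b₃ hb₃ i _ inf_le_left)
    set t12 := θ (Q b₁ hb₁) (Q b₂ hb₂) (hQQ b₁ hb₁ b₂ hb₂) k O (eQ b₁ hb₁ k _ inf_le_right)
    set t23 := θ (Q b₂ hb₂) (Q b₃ hb₃) (hQQ b₂ hb₂ b₃ hb₃) k O (eQ b₂ hb₂ k _ inf_le_right)
    set t13 := θ (Q b₁ hb₁) (Q b₃ hb₃) (hQQ b₁ hb₁ b₃ hb₃) k O (eQ b₁ hb₁ k _ inf_le_right)
    set Ii := res (inf_le_left : O ≤ O₃ i) (iT i)
    set Ik := res (inf_le_right : O ≤ O₃ k) (iT k)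
    linear_combination (A1 * A3' * t12 * t23 * Ii) * g2 + (-(A1 * A3' * t12 * t23 * Ii)) * fk + (t12 * t23 * Ik) * fi)
  obtain ⟨z, hz⟩ := hf w₃ ζ
  have hζ1 : ζ = 1 := by
    have hz1 : z = 1 := by
      refine eq_one_of_cover (fun i => σ₃ ⁻¹ᵁ O₃ i) (fun q _ => Opens.mem_iSup.mpr
        ⟨pullback.fst f w₃ (σ₃ q), hyD _⟩) z fun i => ?_
      have hs : σ₃ ≫ pullback.snd f w₃ = 𝟙 (pullback (pullback.snd v v ≫ v) v) := pullback.lift_snd _ _ _
      have h1 : res (le_top : σ₃ ⁻¹ᵁ O₃ i ≤ ⊤) z = σ₃.appLE (O₃ i) _ le_rfl (ζi i) := by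
        rw [← hζ i, ← hz, appLE_res', show (pullback.snd f w₃).appTop = (pullback.snd f w₃).appLE ⊤ ⊤ le_top from
          Scheme.Hom.app_eq_appLE (f := pullback.snd f w₃) (U := ⊤), appLE_appLE,
          appLE_congr hs _ (le_top : σ₃ ⁻¹ᵁ O₃ i ≤ (𝟙 (pullback (pullback.snd v v ≫ v) v)) ⁻¹ᵁ ⊤)]
        simp [Scheme.Hom.appLE, res]
      rw [h1]
      simp only [ζi, map_mul]
      let O := σ₃ ⁻¹ᵁ O₃ i
      have hh : ∀ (b : (pullback (pullback.snd v v ≫ v) v) ⟶ B') (hb : b ≫ v = w₃) (b' : (pullback (pullback.snd v v ≫ v) v) ⟶ B') (hb' : b' ≫ v = w₃), (σ₃ ≫ Q b hb) ≫ p = (σ₃ ≫ Q b' hb') ≫ p := fun b hb b' hb' => by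
        rw [Category.assoc, Category.assoc, hQ b hb, hQ b' hb']
      have eO : ∀ (b : (pullback (pullback.snd v v ≫ v) v) ⟶ B') (hb : b ≫ v = w₃), O ≤ ((σ₃ ≫ Q b hb) ≫ p) ⁻¹ᵁ D i := fun b hb => by
        rw [Category.assoc, hQ b hb, Scheme.Hom.comp_preimage]
      have eb : ∀ (b : (pullback (pullback.snd v v ≫ v) v) ⟶ B') (hb : b ≫ v = w₃), O ≤ b ⁻¹ᵁ (σ ⁻¹ᵁ (p ⁻¹ᵁ D i)) := fun b hb => by
        rw [← Scheme.Hom.comp_preimage, ← hσQ b hb, ← Scheme.Hom.comp_preimage]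
        exact eO b hb
      have hT : ∀ (b : (pullback (pullback.snd v v ≫ v) v) ⟶ B') (hb : b ≫ v = w₃) (b' : (pullback (pullback.snd v v ≫ v) v) ⟶ B') (hb' : b' ≫ v = w₃), σ₃.appLE (O₃ i) O le_rfl (T b hb b' hb' i) =
          θ (σ₃ ≫ Q b hb) (σ₃ ≫ Q b' hb') (hh b hb b' hb') i O (eO b hb) := fun b hb b' hb' =>
        hθ_comp σ₃ (Q b hb) (Q b' hb') (hQQ b hb b' hb') i (O₃ i) (eQ b hb i _ le_rfl) O le_rfl (hh b hb b' hb') (eO b hb)
      have fi := congrArg (σ₃.appLE (O₃ i) O le_rfl) (hiT i)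
      rw [map_mul, map_one, hT b₁ hb₁ b₃ hb₃] at fi
      rw [hT b₁ hb₁ b₂ hb₂, hT b₂ hb₂ b₃ hb₃]
      have s12 := hσθ b₁ b₂ hb₁ hb₂ i O (eO b₁ hb₁) (hh b₁ hb₁ b₂ hb₂) (eb b₁ hb₁) (eb b₂ hb₂)
      have s23 := hσθ b₂ b₃ hb₂ hb₃ i O (eO b₂ hb₂) (hh b₂ hb₂ b₃ hb₃) (eb b₂ hb₂) (eb b₃ hb₃)
      have s13 := hσθ b₁ b₃ hb₁ hb₃ i O (eO b₁ hb₁) (hh b₁ hb₁ b₃ hb₃) (eb b₁ hb₁) (eb b₃ hb₃)
      refine ((hρu i).map (b₃.appLE _ O (eb b₃ hb₃)).hom).mul_left_cancel (?_ : _ * _ = _ * _)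
      rw [s12, s23] at s13
      linear_combination (σ₃.appLE (O₃ i) O le_rfl (iT i)) * s13 + b₃.appLE _ O (eb b₃ hb₃) (ρ i) * fi
    rw [← hz, hz1, map_one]
  have hθ_mul : ∀ {Z : Scheme.{u}} (a b d : Z ⟶ (pullback f v)) (hab : a ≫ p = b ≫ p) (hbd : b ≫ p = d ≫ p) (i : Y) (W : Z.Opens)
      (ea : W ≤ (a ≫ p) ⁻¹ᵁ D i) (eb : W ≤ (b ≫ p) ⁻¹ᵁ D i),
      θ a d (hab.trans hbd) i W ea = θ a b hab i W ea * θ b d hbd i W eb := by
    intro Z a b d hab hbd i W ea eb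
    have hs : ∀ c' : Z ⟶ pullback f v, c' ≫ pullback.snd f v ≫ v = (c' ≫ p) ≫ f := fun c' => by
      rw [Category.assoc]; exact congrArg (c' ≫ ·) pullback.condition.symm
    let l : Z ⟶ (pullback f w₃) := pullback.lift (a ≫ p)
      (pullback.lift (pullback.lift (a ≫ pullback.snd f v) (b ≫ pullback.snd f v) (by
        rw [Category.assoc, Category.assoc, ← pullback.condition, ← Category.assoc, ← Category.assoc, hab]))
        (d ≫ pullback.snd f v) (by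
        rw [pullback.lift_snd_assoc, Category.assoc, Category.assoc, ← pullback.condition, ← Category.assoc,
          ← Category.assoc, hbd]))
      (by
        simp [w₃, w₂, p, pullback.condition]
        exact (hs a).trans ((congrArg (· ≫ f) (hab.trans hbd)).trans (hs d).symm))
    have l1 : l ≫ Q b₁ hb₁ = a := by refine pullback.hom_ext ?_ ?_ <;> simp [l, Q, b₁, p]
    have l2 : l ≫ Q b₂ hb₂ = b := by
      refine pullback.hom_ext ?_ ?_
      · simp [l, Q, p]; exact hab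
      · simp [l, Q, b₂, p]
    have l3 : l ≫ Q b₃ hb₃ = d := by
      refine pullback.hom_ext ?_ ?_
      · simp [l, Q, p]; exact hab.trans hbd
      · simp [l, Q, b₃, p]
    have eW : W ≤ l ⁻¹ᵁ O₃ i := by
      show W ≤ l ⁻¹ᵁ (_ ⁻¹ᵁ _)
      rw [← Scheme.Hom.comp_preimage, pullback.lift_fst]
      exact ea
    have key : ∀ (b : (pullback (pullback.snd v v ≫ v) v) ⟶ B') (hb : b ≫ v = w₃) (b' : (pullback (pullback.snd v v ≫ v) v) ⟶ B') (hb' : b' ≫ v = w₃) (a₀ b₀ : Z ⟶ (pullback f v)) (h₀ : a₀ ≫ p = b₀ ≫ p) (e₀ : W ≤ (a₀ ≫ p) ⁻¹ᵁ D i),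
        l ≫ Q b hb = a₀ → l ≫ Q b' hb' = b₀ → l.appLE (O₃ i) W eW (T b hb b' hb' i) = θ a₀ b₀ h₀ i W e₀ := by
      rintro b hb b' hb' a₀ b₀ h₀ e₀ rfl rfl
      exact hθ_comp l (Q b hb) (Q b' hb') (hQQ b hb b' hb') i (O₃ i) (eQ b hb i _ le_rfl) W eW h₀ e₀
    have h1 : res (le_top : O₃ i ≤ ⊤) ζ = 1 := by rw [hζ1, map_one]
    rw [hζ i] at h1
    have h2 := congrArg (l.appLE (O₃ i) W eW) h1
    have h3 := congrArg (l.appLE (O₃ i) W eW) (hiT i)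
    simp only [ζi, map_mul, map_one, key b₁ hb₁ b₂ hb₂ a b hab ea l1 l2, key b₂ hb₂ b₃ hb₃ b d hbd eb l2 l3,
      key b₁ hb₁ b₃ hb₃ a d (hab.trans hbd) ea l1 l3] at h2 h3
    linear_combination (-θ a d (hab.trans hbd) i W ea) * h2 + θ a b hab i W ea * θ b d hbd i W eb * h3
  -- Hilbert 90 over each piece
  have hcob : ∀ y : Y, ∃ (E : Y.Opens) (hE : E ≤ D y) (t : Γ((pullback f v), p ⁻¹ᵁ E)), y ∈ E ∧ IsUnit t ∧
      ∀ {Z : Scheme.{u}} (a b : Z ⟶ (pullback f v)) (h : a ≫ p = b ≫ p) (ea : (⊤ : Z.Opens) ≤ a ⁻¹ᵁ (p ⁻¹ᵁ E))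
        (eb : (⊤ : Z.Opens) ≤ b ⁻¹ᵁ (p ⁻¹ᵁ E)),
        b.appLE _ ⊤ eb t = θ a b h y ⊤ (ea.trans (a.preimage_mono (p.preimage_mono hE))) * a.appLE _ ⊤ ea t := by
    intro y
    let U := D y
    have hU : IsAffineOpen U := hD y
    have hC : IsAffineOpen (p ⁻¹ᵁ U) := hU.preimage p
    let R := Γ(Y, U)
    let C := Γ((pullback f v), p ⁻¹ᵁ U)
    letI : Algebra R C := (p.appLE U (p ⁻¹ᵁ U) le_rfl).hom.toAlgebra
    have hover : ∀ z : (p ⁻¹ᵁ U : (pullback f v).Opens), PrimeSpectrum.comap (algebraMap R C) (hC.primeIdealOf z) =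
        hU.primeIdealOf ⟨p z.1, z.2⟩ := fun z =>
      IsAffineOpen.comap_primeIdealOf_appLE U hU (p ⁻¹ᵁ U) hC le_rfl z.2
    haveI : Module.Flat R C := Flat.flat_appLE p hU hC le_rfl
    haveI : Module.FaithfullyFlat R C := Module.FaithfullyFlat.of_comap_surjective fun P => by
      obtain ⟨z, hz⟩ := p.surjective (hU.fromSpec P)
      have hzU : z ∈ p ⁻¹ᵁ U := show p z ∈ U by rw [hz]; exact BCCoh.fromSpec_mem hU P
      refine ⟨hC.primeIdealOf ⟨z, hzU⟩, (hover ⟨z, hzU⟩).trans (hU.fromSpec.isOpenEmbedding.injective ?_)⟩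
      rw [hU.fromSpec_primeIdealOf]; exact hz
    let S := CommRingCat.of (TensorProduct R C C)
    let a₀ : Spec S ⟶ (pullback f v) := Spec.map (CommRingCat.ofHom (Algebra.TensorProduct.includeLeftRingHom : C →+* TensorProduct R C C)) ≫ hC.fromSpec
    let b₀ : Spec S ⟶ (pullback f v) := Spec.map (CommRingCat.ofHom (Algebra.TensorProduct.includeRight : C →ₐ[R] TensorProduct R C C).toRingHom) ≫ hC.fromSpec
    have hab : a₀ ≫ p = b₀ ≫ p := by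
      simp only [a₀, b₀, Category.assoc]
      rw [← IsAffineOpen.SpecMap_appLE_fromSpec p hU hC le_rfl, ← Spec.map_comp_assoc, ← Spec.map_comp_assoc]
      congr 2
      exact CommRingCat.hom_ext (Algebra.TensorProduct.includeLeftRingHom_comp_algebraMap (A := C) (B := C))
    have ea₀ : (⊤ : (Spec S).Opens) ≤ (a₀ ≫ p) ⁻¹ᵁ U := fun z _ =>
      BCCoh.fromSpec_mem hC (Spec.map _ z)
    let iS := Scheme.ΓSpecIso S
    let θ₀ : TensorProduct R C C := iS.hom (θ a₀ b₀ hab y ⊤ ea₀)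
    have hθ₀u : IsUnit θ₀ := ((hwu y).map _).map iS.hom.hom
    -- the cocycle identity
    let S₃ := CommRingCat.of (TensorProduct R C (TensorProduct R C C))
    let j : (C →+* TensorProduct R C (TensorProduct R C C)) → (Spec S₃ ⟶ (pullback f v)) := fun φ =>
      Spec.map (CommRingCat.ofHom φ) ≫ hC.fromSpec
    have hnat : ∀ (φ : TensorProduct R C C →ₐ[R] TensorProduct R C (TensorProduct R C C)) (A₁ A₂ : Spec S₃ ⟶ (pullback f v))
        (h : A₁ ≫ p = A₂ ≫ p) (eA : (⊤ : (Spec S₃).Opens) ≤ (A₁ ≫ p) ⁻¹ᵁ U),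
        Spec.map (CommRingCat.ofHom φ.toRingHom) ≫ a₀ = A₁ → Spec.map (CommRingCat.ofHom φ.toRingHom) ≫ b₀ = A₂ →
        φ θ₀ = (Scheme.ΓSpecIso S₃).hom (θ A₁ A₂ h y ⊤ eA) := by
      rintro φ A₁ A₂ h eA rfl rfl
      rw [← hθ_comp (Spec.map (CommRingCat.ofHom φ.toRingHom)) a₀ b₀ hab y ⊤ ea₀ ⊤ le_top h eA]
      have := ConcreteCategory.congr_hom (Scheme.ΓSpecIso_naturality (CommRingCat.ofHom φ.toRingHom))
        (θ a₀ b₀ hab y ⊤ ea₀)
      rw [CommRingCat.comp_apply, CommRingCat.comp_apply] at this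
      refine Eq.trans ?_ (this.symm.trans (congrArg _ ?_))
      · rfl
      · rw [show (Spec.map (CommRingCat.ofHom φ.toRingHom)).appTop = (Spec.map (CommRingCat.ofHom φ.toRingHom)).appLE ⊤ ⊤ le_top
          from Scheme.Hom.app_eq_appLE (f := Spec.map (CommRingCat.ofHom φ.toRingHom)) (U := ⊤)]
    let J₁ := Spec.map (CommRingCat.ofHom (H90.f12 (B := R) (C := C)).toRingHom) ≫ a₀
    let J₂ := Spec.map (CommRingCat.ofHom (H90.f12 (B := R) (C := C)).toRingHom) ≫ b₀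
    let J₃ := Spec.map (CommRingCat.ofHom (H90.f23 (B := R) (C := C)).toRingHom) ≫ b₀
    have hJ13a : Spec.map (CommRingCat.ofHom (H90.f13 (B := R) (C := C)).toRingHom) ≫ a₀ = J₁ := by
      simp only [J₁, a₀, ← Category.assoc, ← Spec.map_comp]
      congr 2
    have hJ13b : Spec.map (CommRingCat.ofHom (H90.f13 (B := R) (C := C)).toRingHom) ≫ b₀ = J₃ := by
      simp only [J₃, b₀, ← Category.assoc, ← Spec.map_comp]
      congr 2
    have hJ23a : Spec.map (CommRingCat.ofHom (H90.f23 (B := R) (C := C)).toRingHom) ≫ a₀ = J₂ := by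
      simp only [J₂, a₀, b₀, ← Category.assoc, ← Spec.map_comp]
      congr 2
    have h12 : J₁ ≫ p = J₂ ≫ p := by simp only [J₁, J₂, Category.assoc, hab]
    have h23 : J₂ ≫ p = J₃ ≫ p := by simp only [← hJ23a, J₃, Category.assoc, hab]
    have eJ₁ : (⊤ : (Spec S₃).Opens) ≤ (J₁ ≫ p) ⁻¹ᵁ U := fun z _ => ea₀ (Set.mem_univ (Spec.map (CommRingCat.ofHom (H90.f12 (B := R) (C := C)).toRingHom) z))
    have eJ₂ : (⊤ : (Spec S₃).Opens) ≤ (J₂ ≫ p) ⁻¹ᵁ U := by rw [← h12]; exact eJ₁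
    have hcyc : H90.f13 θ₀ = H90.f12 θ₀ * H90.f23 θ₀ := by
      rw [hnat H90.f13 J₁ J₃ (h12.trans h23) eJ₁ hJ13a hJ13b, hnat H90.f12 J₁ J₂ h12 eJ₁ rfl rfl,
        hnat H90.f23 J₂ J₃ h23 eJ₂ hJ23a rfl, ← map_mul, ← hθ_mul J₁ J₂ J₃ h12 h23 y ⊤ eJ₁ eJ₂]
    obtain ⟨x, hx₁, hx₂⟩ := H90.exists_coboundary hθ₀u hcyc (hU.primeIdealOf ⟨y, hyD y⟩)
    let Bad : Set Y := p '' ((pullback f v).basicOpen x : Set ↥(pullback f v : Scheme.{u}))ᶜ
    let E : Y.Opens := U ⊓ ⟨Badᶜ, (p.isClosedMap _ ((pullback f v).basicOpen x).2.isClosed_compl).isOpen_compl⟩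
    have hle : p ⁻¹ᵁ E ≤ (pullback f v).basicOpen x := fun z hz => by
      by_contra h
      exact hz.2 ⟨z, h, rfl⟩
    refine ⟨E, inf_le_left, res (p.preimage_mono inf_le_left) x, ⟨hyD y, ?_⟩, ?_, ?_⟩
    · rintro ⟨z, hz, hzy⟩
      have hzU : z ∈ p ⁻¹ᵁ U := show p z ∈ U by rw [hzy]; exact hyD y
      refine hz ((BCCrit.notMem_primeIdealOf hC hzU x).1 (hx₂ _ ((hover ⟨z, hzU⟩).trans ?_)))
      exact congrArg hU.primeIdealOf (Subtype.ext hzy)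
    · have h1 := RingedSpace.isUnit_res_basicOpen (pullback f v).toRingedSpace x
      have h2 := h1.map (res hle)
      convert h2 using 1
      exact (res_res _ hle x).symm
    · intro Z a b h ea eb
      rw [appLE_res', appLE_res']
      have ea' : (⊤ : Z.Opens) ≤ a ⁻¹ᵁ (p ⁻¹ᵁ U) := ea.trans (a.preimage_mono (p.preimage_mono inf_le_left))
      have eb' : (⊤ : Z.Opens) ≤ b ⁻¹ᵁ (p ⁻¹ᵁ U) := eb.trans (b.preimage_mono (p.preimage_mono inf_le_left))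
      let α := a.appLE (p ⁻¹ᵁ U) ⊤ ea'
      let β := b.appLE (p ⁻¹ᵁ U) ⊤ eb'
      letI : Algebra R Γ(Z, ⊤) := (α.hom.comp (algebraMap R C)).toAlgebra
      let αa : C →ₐ[R] Γ(Z, ⊤) := { α.hom with commutes' := fun _ => rfl }
      let βa : C →ₐ[R] Γ(Z, ⊤) :=
        { β.hom with
          commutes' := fun u => by
            show β (p.appLE U (p ⁻¹ᵁ U) le_rfl u) = α (p.appLE U (p ⁻¹ᵁ U) le_rfl u)
            rw [appLE_appLE, appLE_appLE]
            exact appLE_congr h.symm _ _ _ }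
      let L₀ : TensorProduct R C C →ₐ[R] Γ(Z, ⊤) := Algebra.TensorProduct.lift αa βa fun _ _ => Commute.all _ _
      let l : Z ⟶ Spec S := Z.toSpecΓ ≫ Spec.map (CommRingCat.ofHom L₀.toRingHom)
      have hla : l ≫ a₀ = a := by
        simp only [l, a₀, Category.assoc, ← Spec.map_comp_assoc]
        refine Eq.trans ?_ (toSpecΓ_appLE a hC ea')
        congr 3
        refine CommRingCat.hom_ext (RingHom.ext fun c => ?_)
        show L₀ (c ⊗ₜ[R] 1) = α c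
        rw [Algebra.TensorProduct.lift_tmul, map_one, mul_one]; rfl
      have hlb : l ≫ b₀ = b := by
        simp only [l, b₀, Category.assoc, ← Spec.map_comp_assoc]
        refine Eq.trans ?_ (toSpecΓ_appLE b hC eb')
        congr 3
        refine CommRingCat.hom_ext (RingHom.ext fun c => ?_)
        show L₀ (1 ⊗ₜ[R] c) = β c
        rw [Algebra.TensorProduct.lift_tmul, map_one, one_mul]; rfl
      have hL₀ : ∀ u, L₀ u = l.appTop (iS.inv u) := fun u => by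
        show _ = (Z.toSpecΓ ≫ Spec.map (CommRingCat.ofHom L₀.toRingHom)).appTop (iS.inv u)
        rw [Scheme.Hom.comp_appTop, ← CommRingCat.comp_apply iS.inv, ← Category.assoc, ← Scheme.ΓSpecIso_inv_naturality,
          Category.assoc, Scheme.toSpecΓ_appTop, Iso.inv_hom_id, Category.comp_id]
        rfl
      have hrel := congrArg L₀ hx₁
      rw [map_mul] at hrel
      simp only [L₀, Algebra.TensorProduct.lift_tmul, map_one, one_mul, mul_one] at hrel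
      refine hrel.trans (congrArg (· * α x) ?_)
      refine (hL₀ θ₀).trans ?_
      rw [show iS.inv θ₀ = θ a₀ b₀ hab y ⊤ ea₀ from Iso.hom_inv_id_apply iS _,
        show l.appTop = l.appLE ⊤ ⊤ le_top from Scheme.Hom.app_eq_appLE (f := l) (U := ⊤)]
      have key : ∀ (a' b' : Z ⟶ (pullback f v)) (h' : a' ≫ p = b' ≫ p) (e' : (⊤ : Z.Opens) ≤ (a' ≫ p) ⁻¹ᵁ U),
          l ≫ a₀ = a' → l ≫ b₀ = b' → l.appLE ⊤ ⊤ le_top (θ a₀ b₀ hab y ⊤ ea₀) = θ a' b' h' y ⊤ e' := by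
        rintro a' b' h' e' rfl rfl
        exact hθ_comp l a₀ b₀ hab y ⊤ ea₀ ⊤ le_top h' e'
      exact key a b h ea' hla hlb
  choose E hE t hyE htu ht using hcob
  choose it hit using fun y => (htu y).exists_right_inv
  -- the descended cocycle
  have hsec := fun U => GrpdQuot.sections_of_local_section p p (𝟙 (pullback f v)) (Category.id_comp p) U
  let G' : ∀ y z : Y, Γ((pullback f v), p ⁻¹ᵁ (E y ⊓ E z)) := fun y z =>
    c.G y z (p.preimage_mono (inf_le_left.trans (hE y))) (p.preimage_mono (inf_le_right.trans (hE z))) *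
      res (p.preimage_mono inf_le_left) (t y) * res (p.preimage_mono inf_le_right) (it z)
  have hinv : ∀ y z, ∃ s, p.app (E y ⊓ E z) s = G' y z := fun y z => by
    refine (hsec _).2 _ fun {Z} a b ea eb h => ?_
    have eay : (⊤ : Z.Opens) ≤ a ⁻¹ᵁ (p ⁻¹ᵁ E y) := ea.trans (a.preimage_mono (p.preimage_mono inf_le_left))
    have eaz : (⊤ : Z.Opens) ≤ a ⁻¹ᵁ (p ⁻¹ᵁ E z) := ea.trans (a.preimage_mono (p.preimage_mono inf_le_right))
    have eby : (⊤ : Z.Opens) ≤ b ⁻¹ᵁ (p ⁻¹ᵁ E y) := eb.trans (b.preimage_mono (p.preimage_mono inf_le_left))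
    have ebz : (⊤ : Z.Opens) ≤ b ⁻¹ᵁ (p ⁻¹ᵁ E z) := eb.trans (b.preimage_mono (p.preimage_mono inf_le_right))
    have ay : (⊤ : Z.Opens) ≤ a ⁻¹ᵁ c.D y := eay.trans (a.preimage_mono (p.preimage_mono (hE y)))
    have az : (⊤ : Z.Opens) ≤ a ⁻¹ᵁ c.D z := eaz.trans (a.preimage_mono (p.preimage_mono (hE z)))
    have bY : (⊤ : Z.Opens) ≤ b ⁻¹ᵁ c.D y := eby.trans (b.preimage_mono (p.preimage_mono (hE y)))
    have bZ : (⊤ : Z.Opens) ≤ b ⁻¹ᵁ c.D z := ebz.trans (b.preimage_mono (p.preimage_mono (hE z)))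
    have hy := ht y a b h eay eby
    have hz := ht z a b h eaz ebz
    have hrel := hθ_rel a b h y z ⊤ ay az bY bZ
    have g1 := (c.comap b).G_mul_G y z (W := ⊤) bY bZ
    have f1 := congrArg (a.appLE _ ⊤ eaz) (hit z)
    have f2 := congrArg (b.appLE _ ⊤ ebz) (hit z)
    simp only [map_mul, map_one] at f1 f2
    simp only [G', map_mul, appLE_res', appLE_G']
    set Ga := (c.comap a).G y z ay az
    set Gb := (c.comap b).G y z bY bZ
    set Gb' := (c.comap b).G z y bZ bY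
    set θy := θ a b h y ⊤ ay
    set θz := θ a b h z ⊤ az
    set tay := a.appLE _ ⊤ eay (t y)
    set tby := b.appLE _ ⊤ eby (t y)
    set taz := a.appLE _ ⊤ eaz (t z)
    set tbz := b.appLE _ ⊤ ebz (t z)
    set iaz := a.appLE _ ⊤ eaz (it z)
    set ibz := b.appLE _ ⊤ ebz (it z)
    linear_combination (-(Ga * tay * iaz)) * f2 + (Ga * tay * iaz * ibz) * hz + (-(Gb * ibz)) * hy +
      (-(Gb * ibz * tay)) * hrel + (-(Ga * tay * θz * ibz)) * g1 + (Ga * tay * θz * ibz) * f1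
  choose g' hg' using hinv
  have hres' : ∀ (y z : Y) (W : Y.Opens) (hy : W ≤ E y) (hz : W ≤ E z),
      p.app W (res (le_inf hy hz) (g' y z)) =
        c.G y z (p.preimage_mono (hy.trans (hE y))) (p.preimage_mono (hz.trans (hE z))) *
          res (p.preimage_mono hy) (t y) * res (p.preimage_mono hz) (it z) := by
    intro y z W hy hz
    have h := congrArg (res (p.preimage_mono (le_inf hy hz : W ≤ E y ⊓ E z))) (hg' y z)
    rw [Scheme.Hom.app_eq_appLE, res_appLE'] at h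
    rw [Scheme.Hom.app_eq_appLE, appLE_res']
    refine h.trans ?_
    simp only [G', map_mul, Cocycle.res_G, res_res]
  let c' : Cocycle Y :=
    { ι := Y
      D := E
      g := g'
      cover := eq_top_iff.mpr fun z _ => Opens.mem_iSup.mpr ⟨z, hyE z⟩
      self := fun i W h => (hsec W).1 (by
        rw [hres' i i W h h, map_one, Cocycle.G_self, one_mul, ← map_mul, hit, map_one])
      change := fun i j k W hi hj hk => (hsec W).1 (by
        rw [map_mul, hres' i k W hi hk, hres' i j W hi hj, hres' j k W hj hk,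
          c.G_trans i j k (p.preimage_mono (hi.trans (hE i))) (p.preimage_mono (hj.trans (hE j)))
            (p.preimage_mono (hk.trans (hE k)))]
        have hj1 := congrArg (res (p.preimage_mono hj)) (hit j)
        rw [map_mul, map_one] at hj1
        linear_combination (-(c.G i j _ _ * c.G j k _ _ * res _ (t i) * res _ (it k))) * hj1) }
  refine ⟨cls c', (pull_cls p c').trans (Quotient.sound (eqv_of_map (c := c'.comap p) (c' := c) (fun i => i)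
    (fun i => p.preimage_mono (hE i)) it (fun i => IsUnit.of_mul_eq_one _ ((mul_comm _ _).trans (hit i)))
    fun (i k : Y) O (hi : O ≤ p ⁻¹ᵁ E i) (hk : O ≤ p ⁻¹ᵁ E k) => ?_))⟩
  have hit' := congrArg (res hi) (hit i)
  rw [map_mul, map_one] at hit'
  rw [← appLE_G' c' p i k (V := E i ⊓ E k) inf_le_left inf_le_right (le_pre_inf hi hk)]
  have hG : c'.G i k (inf_le_left : E i ⊓ E k ≤ E i) (inf_le_right : E i ⊓ E k ≤ E k) = g' i k := res_self _ _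
  have h := congrArg (res (le_pre_inf hi hk : O ≤ p ⁻¹ᵁ (E i ⊓ E k))) (hg' i k)
  rw [Scheme.Hom.app_eq_appLE, res_appLE'] at h
  rw [hG, h]
  simp only [G', map_mul, Cocycle.res_G, res_res]
  linear_combination (-(c.G i k _ _ * res hk (it k))) * hit'

end GrothLib.PicDescent
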