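import Groth.Agent.Lib.Poincare.PointCx
import Groth.Agent.Lib.BCCoh.Corep
import Groth.Agent.Lib.BCCrit.StratumCx
import Groth.Agent.Lib.BCCrit.Good
import Mathlib.RingTheory.LocalRing.Module
import Mathlib.RingTheory.Finiteness.Ideal
import Mathlib.RingTheory.Nakayama
import Mathlib.LinearAlgebra.Dual.Lemmas

/-!
# The degree zero functor at an isolated point of fibre homology
-/

set_option autoImplicit false
set_option linter.all false
set_option backward.isDefEq.respectTransparency false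
set_option maxHeartbeats 1000000
universe u

open CategoryTheory CategoryTheory.Limits TensorProduct Opposite

noncomputable section

namespace GrothLib.PointCx

variable {A : Type u} [CommRing A]

/-- A maximal ideal containing a power is the only prime above. -/
theorem eq_of_pow_le {p q : Ideal A} [p.IsMaximal] (hq : q.IsPrime) {n : ℕ} (h : p ^ n ≤ q) : q = p :=
  ((inferInstance : p.IsMaximal).eq_of_le hq.ne_top (hq.le_of_pow_le h)).symm

theorem isLocalRing_quotient (p : Ideal A) [p.IsMaximal] {J : Ideal A} {n : ℕ} (h1 : p ^ n ≤ J) (h2 : J ≤ p) :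
    IsLocalRing (A ⧸ J) := by
  refine IsLocalRing.of_unique_max_ideal ⟨p.map (Ideal.Quotient.mk J), ?_, fun M hM => ?_⟩
  · refine Ideal.IsMaximal.map_of_surjective_of_ker_le Ideal.Quotient.mk_surjective ?_
    rwa [Ideal.mk_ker]
  · have hc : (M.comap (Ideal.Quotient.mk J)).IsPrime := Ideal.IsPrime.comap _
    have hle : p ^ n ≤ M.comap (Ideal.Quotient.mk J) := h1.trans fun a ha => by
      rw [Ideal.mem_comap, Ideal.Quotient.eq_zero_iff_mem.2 ha]; exact M.zero_mem
    rw [← eq_of_pow_le (p := p) hc hle, Ideal.map_comap_of_surjective _ Ideal.Quotient.mk_surjective]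

variable (L : CochainComplex (ModuleCat.{u} A) ℤ)

/-- Surjectivity on `T` makes the cokernel tensor-injective. -/
theorem injective_coker_of_surjective [∀ i, Module.Flat A (L.X i)] (i : ℤ) (S : ShortComplex (ModuleCat.{u} A))
    (hS : S.ShortExact) (h : Function.Surjective ((CohIII.TFun L i).map S.g).hom) :
    Function.Injective (S.f.hom.lTensor
      (L.X ((ComplexShape.up ℤ).next i) ⧸ LinearMap.range (FlatCx.dBar L i))) := by
  set δ := FlatCx.dBar L i
  set π := (LinearMap.range δ).mkQ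
  have hex : Function.Exact S.f.hom S.g.hom :=
    (ShortComplex.ShortExact.moduleCat_exact_iff_function_exact S).1 hS.exact
  have hg : Function.Surjective S.g.hom := hS.moduleCat_surjective_g
  rw [injective_iff_map_eq_zero]
  intro z hz
  obtain ⟨w, rfl⟩ := LinearMap.rTensor_surjective S.X₁ (g := π) (Submodule.mkQ_surjective _) z
  rw [FlatCx.rTensor_lTensor_comm π S.f.hom] at hz
  obtain ⟨y, hy⟩ := ((rTensor_exact S.X₂ (LinearMap.exact_map_mkQ_range δ) (Submodule.mkQ_surjective _)) _).1 hz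
  have hy' : δ.rTensor S.X₃ (S.g.hom.lTensor _ y) = 0 := by
    rw [← FlatCx.rTensor_lTensor_comm, hy, ← LinearMap.lTensor_comp_apply, hex.linearMap_comp_eq_zero,
      LinearMap.lTensor_zero, LinearMap.zero_apply]
  obtain ⟨t, ht⟩ := h ((FlatCx.TKerEquiv L i S.X₃).symm ⟨S.g.hom.lTensor _ y, hy'⟩)
  set y0 := (FlatCx.TKerEquiv L i S.X₂ t).1 with hy0
  have hy0' : S.g.hom.lTensor _ y0 = S.g.hom.lTensor _ y := by
    rw [hy0, ← FlatCx.TKerEquiv_map, ht, LinearEquiv.apply_symm_apply]
  obtain ⟨y', hy''⟩ := ((lTensor_exact (FlatCx.cokIn L i) hex hg) (y - y0)).1 (by rw [map_sub, hy0', sub_self])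
  have hw : δ.rTensor S.X₁ y' = w := by
    refine Module.Flat.lTensor_preserves_injective_linearMap (M := L.X ((ComplexShape.up ℤ).next i)) S.f.hom
      hS.moduleCat_injective_f ?_
    rw [FlatCx.rTensor_lTensor_comm, hy'', map_sub, hy,
      show δ.rTensor S.X₂ y0 = 0 from LinearMap.mem_ker.1 (FlatCx.TKerEquiv L i S.X₂ t).2, sub_zero]
  rw [← hw, ← LinearMap.rTensor_comp_apply, show π ∘ₗ δ = 0 from LinearMap.range_mkQ_comp _,
    LinearMap.rTensor_zero, LinearMap.zero_apply]

variable [∀ i, Module.Flat A (L.X i)]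

/-- Fibre dimensions are lengths of `T` at residue fields. -/
theorem length_T_quot (i : ℤ) [Module.Finite A (L.X i)] (q : Ideal A) [hq : q.IsMaximal] :
    Module.length A ((CohIII.TFun L i).obj (ModuleCat.of A (A ⧸ q))) = (CohIII.dRank L i ⟨q, hq.isPrime⟩ : ℕ∞) := by
  let κ := q.ResidueField
  let e : (A ⧸ q) ≃ₗ[A] κ :=
    (AlgEquiv.ofBijective (IsScalarTower.toAlgHom A (A ⧸ q) κ) q.bijective_algebraMap_quotient_residueField).toLinearEquiv
  rw [((CohIII.TFun L i).mapIso e.toModuleIso).toLinearEquiv.length_eq]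
  let eT : (CohIII.TFun L i).obj (ModuleCat.of A κ) ≃ₗ[A] LinearMap.ker ((FlatCx.dBar L i).rTensor κ) :=
    FlatCx.TKerEquiv L i (ModuleCat.of A κ)
  refine (LinearEquiv.length_eq (N := LinearMap.ker ((FlatCx.dBar L i).rTensor κ)) eT).trans ?_
  set δ := FlatCx.dBar L i
  let c := TensorProduct.comm A (FlatCx.cokIn L i) κ
  have hc : ∀ z, δ.lTensor κ (c z) = TensorProduct.comm A _ κ (δ.rTensor κ z) := fun z => by
    induction z using TensorProduct.induction_on with
    | zero => simp
    | tmul a b => rfl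
    | add a b ha hb => simp only [map_add, ha, hb]
  let eK : LinearMap.ker (δ.rTensor κ) ≃ₗ[A] (LinearMap.ker (δ.baseChange κ)).restrictScalars A :=
    c.submoduleMap _ ≪≫ₗ LinearEquiv.ofEq _ _ (by
      ext z
      constructor
      · rintro ⟨y, hy, rfl⟩
        show δ.lTensor κ (c y) = 0
        rw [hc, LinearMap.mem_ker.1 hy, map_zero]
      · intro hz
        refine ⟨c.symm z, LinearMap.mem_ker.2 ((TensorProduct.comm A _ κ).injective ?_), c.apply_symm_apply z⟩
        rw [← hc, c.apply_symm_apply, map_zero]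
        exact hz)
  have hsurj : Function.Surjective (algebraMap A κ) := Ideal.algebraMap_residueField_surjective q
  show Module.length A (LinearMap.ker (δ.rTensor κ)) = _
  refine (LinearEquiv.length_eq (N := (LinearMap.ker (δ.baseChange κ)).restrictScalars A) eK).trans ?_
  rw [CohIII.dRank, FlatCx.finrank_homology_bcCx_eq_ker]
  show Module.length A (LinearMap.ker (δ.baseChange κ)) = _
  haveI : Module.Finite A (FlatCx.cokIn L i) := Module.Finite.quotient A _
  rw [Module.length_eq_of_surjective (M := LinearMap.ker (δ.baseChange κ)) hsurj, Module.length_eq_finrank]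

section Cyclic

variable [IsNoetherianRing A] [IsJacobsonRing A] {L} {p : Ideal A} [hp : p.IsMaximal]

/-- Degree zero is corepresented by a cyclic module supported at the point. -/
theorem exists_cyclic (hL : IsPoint L p) (h1 : CohIII.dRank L ((0 : ℕ) : ℤ) ⟨p, hp.isPrime⟩ = 1) :
    ∃ (J : Ideal A) (n : ℕ), p ^ n ≤ J ∧ J ≤ p ∧
      Nonempty (CohIII.TFun L ((0 : ℕ) : ℤ) ≅
        (linearCoyoneda A (ModuleCat.{u} A)).obj (op (ModuleCat.of A (A ⧸ J)))) := by
  haveI := hL.fin
  have hmono : (CohIII.TFun L ((0 : ℕ) : ℤ)).PreservesMonomorphisms := by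
    refine ⟨fun {M N} f hf => ?_⟩
    rw [ModuleCat.mono_iff_injective] at hf ⊢
    let S : ShortComplex (ModuleCat.{u} A) := ShortComplex.mk f
      (ModuleCat.ofHom (LinearMap.range f.hom).mkQ : N ⟶ ModuleCat.of A (N ⧸ LinearMap.range f.hom))
      (ModuleCat.hom_ext (LinearMap.range_mkQ_comp f.hom))
    have hS : S.ShortExact :=
      { exact := (ShortComplex.ShortExact.moduleCat_exact_iff_function_exact _).2
          (LinearMap.exact_map_mkQ_range f.hom)
        mono_f := (ModuleCat.mono_iff_injective _).2 hf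
        epi_g := (ModuleCat.epi_iff_surjective _).2 (Submodule.mkQ_surjective _) }
    have hrel : (ComplexShape.up ℤ).Rel (-1) ((0 : ℕ) : ℤ) := by simp
    haveI := ModuleCat.subsingleton_of_isZero (hL.neg (-1) (by norm_num) S.X₃)
    rw [injective_iff_map_eq_zero]
    intro y hy
    obtain ⟨w, rfl⟩ := ((FlatCx.T_exact₁ L hS _ _ hrel) y).1 hy
    rw [show w = 0 from Subsingleton.elim (α := (CohIII.TFun L (-1)).obj S.X₃) _ _]
    exact map_zero _
  obtain ⟨Q, hQf, ⟨e⟩⟩ := BCCoh.exists_corep L ((0 : ℕ) : ℤ) hmono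
  let hom : ∀ M : ModuleCat.{u} A, (CohIII.TFun L ((0 : ℕ) : ℤ)).obj M ≃ₗ[A] (Q →ₗ[A] M) := fun M =>
    (e.app M).toLinearEquiv ≪≫ₗ ModuleCat.homLinearEquiv (S := A)
  have hlen : ∀ (q : Ideal A) [hq : q.IsMaximal],
      Module.length A (Q →ₗ[A] A ⧸ q) = (CohIII.dRank L ((0 : ℕ) : ℤ) ⟨q, hq.isPrime⟩ : ℕ∞) := fun q _ => by
    rw [← (hom (ModuleCat.of A (A ⧸ q))).length_eq, length_T_quot L ((0 : ℕ) : ℤ) q]
  have hfun : ∀ (q : Ideal A) [q.IsMaximal],
      Module.length A (Q →ₗ[A] A ⧸ q) =
        (Module.finrank (A ⧸ q) (Q ⧸ (q • ⊤ : Submodule A Q)) : ℕ∞) := fun q _ => by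
    letI := Ideal.Quotient.field q
    haveI : Module.Finite (A ⧸ q) (Q ⧸ (q • ⊤ : Submodule A Q)) := inferInstance
    let π := (q • ⊤ : Submodule A Q).mkQ
    let F : (Q ⧸ (q • ⊤ : Submodule A Q) →ₗ[A ⧸ q] A ⧸ q) →ₗ[A] (Q →ₗ[A] A ⧸ q) :=
      { toFun := fun f => f.restrictScalars A ∘ₗ π
        map_add' := fun _ _ => rfl
        map_smul' := fun _ _ => rfl }
    have hF : Function.Bijective F := by
      refine ⟨fun f f' h => LinearMap.ext fun x => ?_, fun g => ?_⟩
      · obtain ⟨x, rfl⟩ := Submodule.Quotient.mk_surjective _ x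
        exact LinearMap.congr_fun h x
      · have hle : (q • ⊤ : Submodule A Q) ≤ LinearMap.ker g := Submodule.smul_le.2 fun a ha x _ => by
          rw [LinearMap.mem_ker, map_smul]
          obtain ⟨r, hr⟩ := Ideal.Quotient.mk_surjective (g x)
          rw [← hr, ← Ideal.Quotient.algebraMap_eq, Algebra.smul_def, ← map_mul, Ideal.Quotient.algebraMap_eq,
            Ideal.Quotient.eq_zero_iff_mem]
          exact q.mul_mem_right r ha
        refine ⟨{ toFun := Submodule.liftQ _ g hle
                  map_add' := map_add _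
                  map_smul' := fun c x => ?_ }, LinearMap.ext fun x => rfl⟩
        obtain ⟨c, rfl⟩ := Ideal.Quotient.mk_surjective c
        exact (map_smul (Submodule.liftQ _ g hle) c x).trans
          (algebraMap_smul (A ⧸ q) c _).symm
    rw [← (LinearEquiv.ofBijective F hF).length_eq,
      Module.length_eq_of_surjective (M := Q ⧸ (q • ⊤ : Submodule A Q) →ₗ[A ⧸ q] A ⧸ q)
        (Ideal.Quotient.mk_surjective : Function.Surjective (algebraMap A (A ⧸ q))),
      Module.length_eq_finrank, show Module.finrank (A ⧸ q) (Q ⧸ (q • ⊤ : Submodule A Q) →ₗ[A ⧸ q] A ⧸ q) = _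
        from Subspace.dual_finrank_eq]
  -- away from the point the module is zero
  have hann : p ≤ (Module.annihilator A Q).radical := by
    rw [Ideal.radical_eq_jacobson]
    refine fun r hr => Ideal.mem_sInf.2 fun {q} hq' => ?_
    obtain ⟨hle, hq⟩ := hq'
    by_contra hrq
    haveI := hq
    letI := Ideal.Quotient.field q
    have h0 := hL.dr q hq 0 fun h => hrq (h ▸ hr)
    have h2 : Module.finrank (A ⧸ q) (Q ⧸ (q • ⊤ : Submodule A Q)) = 0 := by
      have := (hfun q).symm.trans (hlen q)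
      rw [h0] at this
      exact_mod_cast this
    haveI : Module.Finite (A ⧸ q) (Q ⧸ (q • ⊤ : Submodule A Q)) := inferInstance
    haveI := Module.finrank_zero_iff.1 h2
    have htop : (⊤ : Submodule A Q) ≤ q • ⊤ := fun x _ =>
      (Submodule.Quotient.mk_eq_zero _).1 (Subsingleton.elim (α := Q ⧸ (q • ⊤ : Submodule A Q)) _ _)
    obtain ⟨s, hs, hs0⟩ := Submodule.exists_sub_one_mem_and_smul_eq_zero_of_fg_of_le_smul q ⊤
      Module.Finite.fg_top htop
    have hsq : s ∈ q := hle (Module.mem_annihilator.2 fun x => hs0 x trivial)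
    exact hq.ne_top ((Ideal.eq_top_iff_one q).2 (by simpa using q.sub_mem hsq hs))
  obtain ⟨n, hn⟩ := Ideal.exists_pow_le_of_le_radical_of_fg hann (IsNoetherian.noetherian p)
  letI := Ideal.Quotient.field p
  have hfr : Module.finrank (A ⧸ p) (Q ⧸ (p • ⊤ : Submodule A Q)) = 1 := by
    have := (hfun p).symm.trans (hlen p)
    rw [h1] at this
    exact_mod_cast this
  obtain ⟨v, hv0, hv⟩ := finrank_eq_one_iff'.1 hfr
  obtain ⟨x, rfl⟩ := Submodule.Quotient.mk_surjective _ v
  let σ : A →ₗ[A] Q := LinearMap.toSpanSingleton A Q x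
  have hdec : ∀ y : Q, ∃ a : A, y - a • x ∈ (p • ⊤ : Submodule A Q) := fun y => by
    obtain ⟨c, hc⟩ := hv (Submodule.Quotient.mk y)
    obtain ⟨a, rfl⟩ := Ideal.Quotient.mk_surjective c
    exact ⟨a, (Submodule.Quotient.eq _).1 (hc.symm.trans (algebraMap_smul (A ⧸ p) a
      (Submodule.Quotient.mk x : Q ⧸ (p • ⊤ : Submodule A Q))))⟩
  have hσ : Function.Surjective σ := by
    rw [← LinearMap.range_eq_top, eq_top_iff]
    have key : ∀ k, (⊤ : Submodule A Q) ≤ LinearMap.range σ ⊔ p ^ k • ⊤ := by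
      intro k
      induction k with
      | zero => simp
      | succ k ih =>
        refine le_trans ih (sup_le le_sup_left ?_)
        refine Submodule.smul_le.2 fun a ha y _ => ?_
        obtain ⟨c, hc⟩ := hdec y
        rw [show a • y = a • (c • x) + a • (y - c • x) by rw [smul_sub]; abel]
        refine Submodule.add_mem_sup ⟨a * c, by simp [σ, mul_smul]⟩ ?_
        rw [pow_succ, mul_smul]
        exact Submodule.smul_mem_smul ha hc
    refine le_trans (key n) (sup_le le_rfl (Submodule.smul_le.2 fun a ha y _ => ?_))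
    rw [Module.mem_annihilator.1 (hn ha) y]
    exact zero_mem _
  refine ⟨LinearMap.ker σ, n, fun a ha => Module.mem_annihilator.1 (hn ha) x, fun a ha => ?_, ⟨e ≪≫ ?_⟩⟩
  · by_contra hap
    have h2 : Ideal.Quotient.mk p a • (Submodule.Quotient.mk x : Q ⧸ (p • ⊤ : Submodule A Q)) = 0 := by
      rw [← Ideal.Quotient.algebraMap_eq, algebraMap_smul, ← Submodule.Quotient.mk_smul,
        show a • x = 0 from ha, Submodule.Quotient.mk_zero]
    rcases _root_.smul_eq_zero.1 h2 with h3 | h3
    · exact hap (Ideal.Quotient.eq_zero_iff_mem.1 h3)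
    · exact hv0 h3
  · exact (linearCoyoneda A (ModuleCat.{u} A)).mapIso (σ.quotKerEquivOfSurjective hσ).toModuleIso.op

omit [IsJacobsonRing A] in
/-- Over the cyclic base the degree zero functor commutes with base change. -/
theorem good_quotient {C' : Type u} [CommRing C'] (hfin : ∀ i, Module.Finite A (L.X i) ∧ Module.Free A (L.X i)) {J : Ideal A} {n : ℕ}
    (hn : p ^ n ≤ J) (hJ : J ≤ p)
    (e : CohIII.TFun L ((0 : ℕ) : ℤ) ≅ (linearCoyoneda A (ModuleCat.{u} A)).obj (op (ModuleCat.of A (A ⧸ J))))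
    (χ : (A ⧸ J) →+* C') (x : PrimeSpectrum C') :
    BCCrit.Good (CohIII.bcCx (χ.comp (Ideal.Quotient.mk J)) L) ((0 : ℕ) : ℤ) x := by
  haveI := isLocalRing_quotient p hn hJ
  haveI := fun i => (hfin i).1
  let B := A ⧸ J
  let 𝔪 := IsLocalRing.maximalIdeal B
  let g : B →ₗ[A] A ⧸ p := Submodule.factor hJ
  have hker : ∀ b : B, g b = 0 ↔ b ∈ 𝔪 := fun b => by
    obtain ⟨a, rfl⟩ := Ideal.Quotient.mk_surjective b
    have h1 : p.map (Ideal.Quotient.mk J) = 𝔪 := IsLocalRing.eq_maximalIdeal
      (Ideal.IsMaximal.map_of_surjective_of_ker_le Ideal.Quotient.mk_surjective (by rwa [Ideal.mk_ker]))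
    rw [show g (Ideal.Quotient.mk J a) = Ideal.Quotient.mk p a from rfl, Ideal.Quotient.eq_zero_iff_mem, ← h1,
      Ideal.mem_quotient_iff_mem_sup, sup_of_le_left hJ]
  have hzero : g ∘ₗ 𝔪.subtype.restrictScalars A = 0 := LinearMap.ext fun b => (hker b.1).2 b.2
  let S : ShortComplex (ModuleCat.{u} A) := ShortComplex.mk
    (ModuleCat.ofHom (𝔪.subtype.restrictScalars A) : ModuleCat.of A 𝔪 ⟶ ModuleCat.of A B)
    (ModuleCat.ofHom g : ModuleCat.of A B ⟶ ModuleCat.of A (A ⧸ p))
    (ModuleCat.hom_ext hzero)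
  have hS : S.ShortExact :=
    { exact := (ShortComplex.ShortExact.moduleCat_exact_iff_function_exact _).2 (by
        intro b
        refine ⟨fun hb => ⟨⟨b, (hker b).1 hb⟩, rfl⟩, ?_⟩
        rintro ⟨c, rfl⟩
        exact LinearMap.congr_fun hzero c)
      mono_f := (ModuleCat.mono_iff_injective _).2 Subtype.val_injective
      epi_g := (ModuleCat.epi_iff_surjective _).2 (Submodule.factor_surjective hJ) }
  have hT : Function.Surjective ((CohIII.TFun L ((0 : ℕ) : ℤ)).map S.g).hom := by
    intro y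
    let h : (A ⧸ J) →ₗ[A] A ⧸ p := ((e.app S.X₃).hom y).hom
    obtain ⟨a, ha⟩ := Ideal.Quotient.mk_surjective (h (Ideal.Quotient.mk J 1))
    let k : ModuleCat.of A B ⟶ ModuleCat.of A B := ModuleCat.ofHom (a • LinearMap.id)
    refine ⟨(e.app S.X₂).inv k, ?_⟩
    apply (e.app S.X₃).toLinearEquiv.injective
    show e.hom.app S.X₃ (((CohIII.TFun L ((0 : ℕ) : ℤ)).map S.g).hom (e.inv.app S.X₂ k)) = e.hom.app S.X₃ y
    refine (ConcreteCategory.congr_hom (e.hom.naturality S.g) (e.inv.app S.X₂ k)).trans ?_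
    refine (congrArg (((linearCoyoneda A (ModuleCat.{u} A)).obj (op (ModuleCat.of A (A ⧸ J)))).map S.g).hom
      (ConcreteCategory.congr_hom (e.inv_hom_id_app S.X₂) k)).trans ?_
    refine ModuleCat.hom_ext (Submodule.linearMap_qext _ (LinearMap.ext_ring ?_))
    show g (a • Ideal.Quotient.mk J 1) = h (Ideal.Quotient.mk J 1)
    rw [← ha, map_smul, map_one, show g (1 : B) = Ideal.Quotient.mk p 1 from rfl, map_one,
      Algebra.smul_def, mul_one]
    rfl
  have hinj := injective_coker_of_surjective L ((0 : ℕ) : ℤ) S hS hT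
  obtain ⟨eN⟩ := BCCrit.nonempty_coker_next L ((0 : ℕ) : ℤ)
  let C := BCCrit.Cq L ((0 : ℕ) : ℤ)
  let eC := Submodule.quotEquivOfEq _ _ (FlatCx.range_dBar L ((0 : ℕ) : ℤ)) ≪≫ₗ eN
  have hinjC : Function.Injective ((𝔪.subtype.restrictScalars A).rTensor C) := by
    rw [← LinearMap.lTensor_inj_iff_rTensor_inj]
    intro u v huv
    obtain ⟨u, rfl⟩ := (eC.rTensor 𝔪).surjective u
    obtain ⟨v, rfl⟩ := (eC.rTensor 𝔪).surjective v
    congr 1
    refine hinj ?_
    apply (eC.rTensor B).injective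
    exact (FlatCx.rTensor_lTensor_comm eC.toLinearMap (𝔪.subtype.restrictScalars A) u).symm.trans
      (huv.trans (FlatCx.rTensor_lTensor_comm eC.toLinearMap (𝔪.subtype.restrictScalars A) v))
  haveI : Module.Finite A C := inferInstance
  haveI : Module.FinitePresentation B (B ⊗[A] C) := Module.finitePresentation_of_finite B _
  haveI : Module.Free B (B ⊗[A] C) := by
    refine Module.free_of_maximalIdeal_rTensor_injective ?_
    let c1 := AlgebraTensorModule.cancelBaseChange A B B 𝔪 C
    let c2 := AlgebraTensorModule.cancelBaseChange A B B B C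
    have hsq : ∀ z, c2 (𝔪.subtype.rTensor (B ⊗[A] C) z) = (𝔪.subtype.restrictScalars A).rTensor C (c1 z) := by
      intro z
      induction z using TensorProduct.induction_on with
      | zero => simp
      | add u v hu hv => simp only [map_add, hu, hv]
      | tmul m w =>
        induction w using TensorProduct.induction_on with
        | zero => simp
        | add u v hu hv => simp only [tmul_add, map_add, hu, hv]
        | tmul b c =>
          simp only [c1, c2, LinearMap.rTensor_tmul, AlgebraTensorModule.cancelBaseChange_tmul,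
            Submodule.coe_subtype, LinearMap.coe_restrictScalars, SetLike.val_smul]
    intro u v huv
    exact c1.injective (hinjC (by rw [← hsq, ← hsq, huv]))
  let φ := χ.comp (Ideal.Quotient.mk J)
  letI := φ.toAlgebra
  letI := χ.toAlgebra
  haveI : IsScalarTower A B C' := IsScalarTower.of_algebraMap_eq fun _ => rfl
  obtain ⟨eB⟩ := BCCrit.nonempty_Cq_bcCx φ L ((0 : ℕ) : ℤ)
  haveI : Module.Free C' (C' ⊗[A] C) :=
    Module.Free.of_equiv (AlgebraTensorModule.cancelBaseChange A B C' C' C)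
  haveI : Module.FinitePresentation C' (C' ⊗[A] C) :=
    haveI := BCCrit.finitePresentation_Cq L hfin ((0 : ℕ) : ℤ)
    inferInstance
  show x ∈ Module.freeLocus C' (BCCrit.Cq (CohIII.bcCx φ L) ((0 : ℕ) : ℤ))
  rw [Module.freeLocus_congr eB, Module.freeLocus_eq_univ]
  trivial

omit [IsJacobsonRing A] in
/-- The fibre dimension over the cyclic base. -/
theorem dRank_quotient {C' : Type u} [CommRing C'] {J : Ideal A} {n : ℕ} (hn : p ^ n ≤ J) (i : ℤ)
    (χ : (A ⧸ J) →+* C') (x : PrimeSpectrum C') :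
    CohIII.dRank (CohIII.bcCx (χ.comp (Ideal.Quotient.mk J)) L) i x = CohIII.dRank L i ⟨p, hp.isPrime⟩ := by
  rw [FlatCx.dRank_bcCx]
  congr 1
  refine PrimeSpectrum.ext (eq_of_pow_le
    (PrimeSpectrum.comap (χ.comp (Ideal.Quotient.mk J)) x).isPrime (hn.trans ?_))
  intro a ha
  show χ (Ideal.Quotient.mk J a) ∈ x.asIdeal
  rw [Ideal.Quotient.eq_zero_iff_mem.2 ha, map_zero]
  exact zero_mem _

end Cyclic

end GrothLib.PointCx
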