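import Groth.Agent.Lib.Poincare.Bidual
import Groth.Agent.Lib.Poincare.TransposeIsog
import Groth.Agent.Lib.KerDiag14.Basic
import Groth.Agent.Lib.GrpDeligne.Factor

/-!
# The transpose of an isogeny of abelian schemes is an isogeny
-/

set_option autoImplicit false
set_option linter.all false
set_option backward.isDefEq.respectTransparency false
set_option maxHeartbeats 1000000

universe u

open CategoryTheory CategoryTheory.Limits AlgebraicGeometry Opposite TopologicalSpace
open MonoidalCategory CartesianMonoidalCategory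
open scoped MonObj

noncomputable section

namespace GrothLib.DualBC

variable {S S' : Scheme.{u}} {b : S' ⟶ S} {A B : Over S} {T : Over S'}

theorem up_comp_map (u : res b T ⟶ A) (g : A ⟶ B) : up (u ≫ g) = up u ≫ (Over.pullback b).map g := by
  simp [up]

theorem cmp_bcMap (f : A ⟶ B) (T : Over S') :
    cmp A T ≫ AbDual.bcMap ((Over.pullback b).map f) T = AbDual.bcMap f (res b T) ≫ cmp B T := by
  haveI := mono_cmpInv (b := b) (A := B) (T := T)
  rw [← cancel_mono (cmpInv (b := b) B T), Category.assoc, Category.assoc, cmp_cmpInv, Category.comp_id]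
  refine pullback.hom_ext ?_ ?_
  · simp only [AbDual.bcMap, pullback.map, cmpInv, cmp, Category.assoc, pullback.lift_fst,
      pullback.lift_fst_assoc, map_left_fst]
    rfl
  · simp only [AbDual.bcMap, pullback.map, cmpInv, cmp, Category.assoc, pullback.lift_snd,
      pullback.lift_snd_assoc]
    rfl

/-- Transposes commute with base change. -/
theorem isTranspose {At Bt : Over S} {φA : ∀ T : Over S, PicF.Cl (PicF.XT A.hom T) → (T ⟶ At)}
    {φB : ∀ T : Over S, PicF.Cl (PicF.XT B.hom T) → (T ⟶ Bt)} {f : A ⟶ B} {ft : Bt ⟶ At}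
    (hft : AbDual.IsTranspose f φA φB ft) :
    AbDual.IsTranspose ((Over.pullback b).map f) (phi b φA) (phi b φB) ((Over.pullback b).map ft) := by
  intro T c hc
  rw [phi, phi, pullCl_comp, cmp_bcMap, ← pullCl_comp, hft _ _ (isPicZeroCl_cmp.1 hc), up_comp_map]

theorem isPullback_map_left (u : A ⟶ B) :
    IsPullback (pullback.fst A.hom b) ((Over.pullback b).map u).left u.left (pullback.fst B.hom b) := by
  refine IsPullback.of_bot ?_ (map_left_fst u).symm (IsPullback.of_hasPullback B.hom b)
  rw [show ((Over.pullback b).map u).left ≫ pullback.snd B.hom b = pullback.snd A.hom b from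
    Over.w ((Over.pullback b).map u), Over.w u]
  exact IsPullback.of_hasPullback A.hom b

end GrothLib.DualBC

namespace GrothLib.TransposeRel

variable {S : Scheme.{u}} [IsLocallyNoetherian S] {X Y Xt Yt : Over S}
  [GrpObj X] [GrpObj Y] [GrpObj Xt] [GrpObj Yt]
  [IsProper X.hom] [Smooth X.hom] [GeometricallyConnected X.hom]
  [IsProper Y.hom] [Smooth Y.hom] [GeometricallyConnected Y.hom]
  [IsProper Xt.hom] [Smooth Xt.hom] [GeometricallyConnected Xt.hom]
  [IsProper Yt.hom] [Smooth Yt.hom] [GeometricallyConnected Yt.hom]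
  {φX : ∀ T : Over S, PicF.Cl (PicF.XT X.hom T) → (T ⟶ Xt)}
  {φY : ∀ T : Over S, PicF.Cl (PicF.XT Y.hom T) → (T ⟶ Yt)}
  (hX : AbDual.IsDualAV Scheme.fppfPrecoverage X Xt φX) (hY : AbDual.IsDualAV Scheme.fppfPrecoverage Y Yt φY)

omit [IsLocallyNoetherian S] [Smooth X.hom] [GeometricallyConnected X.hom] [Smooth Y.hom] [GeometricallyConnected Y.hom] in
/-- A homomorphism of proper group schemes with finite kernel is finite. -/
theorem isFinite_of_kernel (φ : X ⟶ Y) [IsMonHom φ] {N : Over S} {i : N ⟶ X} (hN : AlgGrp.IsKernel i φ)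
    [IsFinite N.hom] : IsFinite φ.left := by
  obtain ⟨_, _⟩ := GrpDeligne.exists_grpObj_kernel φ i hN
  haveI : IsProper φ.left := by
    haveI : IsProper (φ.left ≫ Y.hom) := by rw [Over.w]; infer_instance
    exact IsProper.of_comp φ.left Y.hom
  haveI : LocallyQuasiFinite φ.left := (KerDiag14.lqf_iff φ i hN).2.1.2 inferInstance
  exact (IsFinite.iff_isProper_and_locallyQuasiFinite _).2 ⟨inferInstance, inferInstance⟩

include hX hY in
/-- The fibres of the transpose of an isogeny. -/
theorem fibre (φ : X ⟶ Y) [IsMonHom φ] [IsFinite φ.left] [Surjective φ.left] {ft : Yt ⟶ Xt}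
    (hft : AbDual.IsTranspose φ φX φY ft) (s : S) :
    IsFinite ((Over.pullback (S.fromSpecResidueField s)).map ft).left ∧
      Flat ((Over.pullback (S.fromSpecResidueField s)).map ft).left ∧
      Surjective ((Over.pullback (S.fromSpecResidueField s)).map ft).left := by
  let b := S.fromSpecResidueField s
  haveI := Dual.geometricallyIntegral_of_abScheme X
  haveI := Dual.geometricallyIntegral_of_abScheme Y
  haveI := Dual.geometricallyIntegral_of_abScheme Xt
  haveI := Dual.geometricallyIntegral_of_abScheme Yt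
  letI : GrpObj (DualBC.bcObj b X) := Functor.grpObjObj
  letI : GrpObj (DualBC.bcObj b Y) := Functor.grpObjObj
  letI : GrpObj (DualBC.bcObj b Xt) := Functor.grpObjObj
  letI : GrpObj (DualBC.bcObj b Yt) := Functor.grpObjObj
  haveI : IsProper (DualBC.bcObj b X).hom := inferInstanceAs (IsProper (pullback.snd X.hom b))
  haveI : IsProper (DualBC.bcObj b Y).hom := inferInstanceAs (IsProper (pullback.snd Y.hom b))
  haveI : IsProper (DualBC.bcObj b Xt).hom := inferInstanceAs (IsProper (pullback.snd Xt.hom b))
  haveI : IsProper (DualBC.bcObj b Yt).hom := inferInstanceAs (IsProper (pullback.snd Yt.hom b))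
  haveI : Smooth (DualBC.bcObj b X).hom := inferInstanceAs (Smooth (pullback.snd X.hom b))
  haveI : Smooth (DualBC.bcObj b Y).hom := inferInstanceAs (Smooth (pullback.snd Y.hom b))
  haveI : Smooth (DualBC.bcObj b Xt).hom := inferInstanceAs (Smooth (pullback.snd Xt.hom b))
  haveI : Smooth (DualBC.bcObj b Yt).hom := inferInstanceAs (Smooth (pullback.snd Yt.hom b))
  haveI : GeometricallyIntegral (DualBC.bcObj b X).hom := inferInstanceAs (GeometricallyIntegral (pullback.snd X.hom b))
  haveI : GeometricallyIntegral (DualBC.bcObj b Y).hom := inferInstanceAs (GeometricallyIntegral (pullback.snd Y.hom b))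
  haveI : GeometricallyIntegral (DualBC.bcObj b Xt).hom := inferInstanceAs (GeometricallyIntegral (pullback.snd Xt.hom b))
  haveI : GeometricallyIntegral (DualBC.bcObj b Yt).hom := inferInstanceAs (GeometricallyIntegral (pullback.snd Yt.hom b))
  let f : DualBC.bcObj b X ⟶ DualBC.bcObj b Y := (Over.pullback b).map φ
  haveI : IsMonHom f := inferInstanceAs (IsMonHom ((Over.pullback b).map φ))
  have H := DualBC.isPullback_map_left (b := b) φ
  haveI : IsFinite f.left := MorphismProperty.of_isPullback H ‹IsFinite φ.left›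
  haveI : Surjective f.left := MorphismProperty.of_isPullback H ‹Surjective φ.left›
  haveI : Flat f.left := Rigidity.flat_of_isFinite _ _ f
  haveI : IsIntegral (DualBC.bcObj b Y).left :=
    GeometricallyIntegral.isIntegral_of_subsingleton (DualBC.bcObj b Y).hom
  haveI : IsLocallyNoetherian (DualBC.bcObj b Y).left :=
    LocallyOfFiniteType.isLocallyNoetherian (DualBC.bcObj b Y).hom
  haveI : LocallyOfFinitePresentation f.left := inferInstance
  obtain ⟨y₀⟩ : Nonempty (DualBC.bcObj b Y).left := inferInstance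
  obtain ⟨h1, h2, h3, -⟩ := TransposeIsog.isogeny (DualBC.isDualAV b X Xt φX hX) (DualBC.isDualAV b Y Yt φY hY) f
    (f.left.finrank y₀) (fun y => (f.left.isLocallyConstant_finrank).apply_eq_of_preconnectedSpace y y₀)
    (DualBC.isTranspose hft)
  exact ⟨h1, h2, h3⟩

include hX hY in
/-- **The transpose of an isogeny of abelian schemes is an isogeny.** -/
theorem isogeny (φ : X ⟶ Y) [IsMonHom φ] [IsFinite φ.left] [Surjective φ.left] {ft : Yt ⟶ Xt} [IsMonHom ft]
    (hft : AbDual.IsTranspose φ φX φY ft) : IsFinite ft.left ∧ Flat ft.left ∧ Surjective ft.left := by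
  haveI : IsProper ft.left := by
    haveI : IsProper (ft.left ≫ Xt.hom) := by rw [Over.w]; infer_instance
    exact IsProper.of_comp ft.left Xt.hom
  let M : Over S := pullback ft η[Xt]
  have hM : AlgGrp.IsKernel (pullback.fst ft η[Xt]) ft := by
    have h := IsPullback.of_hasPullback ft η[Xt]
    rwa [show pullback.snd ft η[Xt] = toUnit _ from toUnit_unique _ _] at h
  obtain ⟨_, _⟩ := GrpDeligne.exists_grpObj_kernel ft _ hM
  haveI : LocallyQuasiFinite ft.left := (KerDiag14.lqf_iff ft (pullback.fst ft η[Xt]) hM).1.2 fun s => by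
    haveI := (fibre hX hY φ hft s).1
    infer_instance
  haveI : LocallyOfFinitePresentation (ft.left ≫ Xt.hom) := by rw [Over.w]; infer_instance
  haveI : Flat (ft.left ≫ Xt.hom) := by rw [Over.w]; infer_instance
  refine ⟨(IsFinite.iff_isProper_and_locallyQuasiFinite _).2 ⟨inferInstance, inferInstance⟩,
    FibreFlat.flat_of_fibrewise' ft.left Xt.hom fun s => ?_, ⟨fun y => ?_⟩⟩
  · have H := DualBC.isPullback_map_left (b := S.fromSpecResidueField s) ft
    show Flat (pullback.snd ft.left (pullback.fst Xt.hom (S.fromSpecResidueField s)))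
    rw [← H.isoPullback_inv_snd]
    haveI := (fibre hX hY φ hft s).2.1
    infer_instance
  · let b := S.fromSpecResidueField (Xt.hom y)
    obtain ⟨w, hw⟩ : y ∈ Set.range (pullback.fst Xt.hom b) := by
      show y ∈ Set.range (Xt.hom.fiberι (Xt.hom y))
      rw [Xt.hom.range_fiberι]; rfl
    obtain ⟨v, rfl⟩ := (fibre hX hY φ hft (Xt.hom y)).2.2.1 w
    refine ⟨pullback.fst Yt.hom b v, Eq.trans ?_ hw⟩
    rw [← Scheme.Hom.comp_apply, ← DualBC.map_left_fst, Scheme.Hom.comp_apply]
    rfl

end GrothLib.TransposeRel
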