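import Groth.Agent.Lib.Poincare.TransposeIsog
import Groth.Agent.Lib.Poincare.TransposeRel
import Groth.Agent.Lib.TateThm.PolClass
import Groth.Agent.Lib.ModDesc.Approx

/-!
# The pullback of a polarisation along an isogeny
-/

set_option autoImplicit false
set_option linter.all false
set_option backward.isDefEq.respectTransparency false
set_option maxHeartbeats 600000

universe u

open CategoryTheory CategoryTheory.Limits AlgebraicGeometry MonoidalCategory CartesianMonoidalCategory
open GrothLib.Ample GrothLib.Cube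
open scoped MonObj CategoryTheory.Obj

noncomputable section

namespace GrothLib.PolPullback

variable {k : Type u} [Field k]

/-- `IsLambda` from the class. -/
theorem isLambda_of_psi {B Bt : Over (Spec (CommRingCat.of k))} [GrpObj B]
    {φ : AgPol.DualMap B Bt} {L : B.left.Modules}
    (hL : PicF.IsInvertible L) {f : B ⟶ Bt} (h : MumfordPoincare.psi φ (clsMod hL) = f) :
    AgPol.IsLambda B Bt φ L f := by
  have hx := hasCls_clsMod hL
  have hn : HasCls (Dual.rep (MumfordPoincare.lam (clsMod hL))) (MumfordPoincare.lam (clsMod hL)) :=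
    Dual.hasCls_rep _
  refine ⟨Dual.rep (MumfordPoincare.lam (clsMod hL)), hn.choose, ?_, ?_⟩
  · refine ((hn.tensor (hx.pullback (fst B B).left)).tensor (hx.pullback (snd B B).left)).iso
      (hx.pullback (μ[B]).left) ?_
    rw [MumfordPoincare.lam, KL.mc, Category.comp_id, addClass, MonObj.mul_eq_mul]
    generalize pull (fst B B * snd B B).left (clsMod hL) = a
    generalize pull (fst B B).left (clsMod hL) = b
    generalize pull (snd B B).left (clsMod hL) = c
    rw [_root_.mul_assoc, inv_mul_cancel_right]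
  · rw [← h]
    exact (Dual.dphi_eq (φ := φ) hn).trans rfl

/-- The rank of the whiskering of a finite flat morphism. -/
theorem whisker_rank (A : Over (Spec (CommRingCat.of k))) {T' T : Over (Spec (CommRingCat.of k))} (f : T' ⟶ T)
    [IsFinite f.left] [Flat f.left] (d : ℕ) (hd : ∀ y : T.left, f.left.finrank y = d) :
    IsFinite (A ◁ f).left ∧ Flat (A ◁ f).left ∧ ∀ y, (A ◁ f).left.finrank y = d := by
  have H1 : IsPullback (A ◁ f).left (snd A T').left (snd A T).left f.left := by
    have := PicSep26.isPullback_XTmap A.hom f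
    rwa [Dual.XTmap_eq] at this
  haveI : IsFinite (A ◁ f).left := MorphismProperty.of_isPullback H1.flip ‹IsFinite f.left›
  haveI : Flat (A ◁ f).left := MorphismProperty.of_isPullback H1.flip ‹Flat f.left›
  exact ⟨inferInstance, inferInstance, fun y => by
    rw [Scheme.Hom.finrank_of_isPullback _ _ _ _ H1.flip]; exact hd _⟩

/-- Degrees multiply, for isogenies onto an abelian variety with a Poincaré bundle. -/
theorem finrank_comp {A X Y Z : Over (Spec (CommRingCat.of k))}
    [GrpObj A] [IsProper A.hom] [GeometricallyIntegral A.hom]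
    [GrpObj X] [IsProper X.hom] [GeometricallyIntegral X.hom]
    [GrpObj Y] [IsProper Y.hom] [GeometricallyIntegral Y.hom]
    [GrpObj Z] [IsProper Z.hom] [GeometricallyIntegral Z.hom]
    (P : (A ⊗ Z).left.Modules) (hP : Coh.IsCoh P)
    (hne : @Curv2.euler k _ (A ⊗ Z).left ⟨(A ⊗ Z).hom⟩ P ≠ 0)
    (f : X ⟶ Y) (g : Y ⟶ Z) [IsFinite f.left] [Flat f.left] [IsFinite g.left] [Flat g.left]
    (a b : ℕ) (ha : ∀ y : Y.left, f.left.finrank y = a) (hb : ∀ z : Z.left, g.left.finrank z = b) :
    ∀ z : Z.left, (f ≫ g).left.finrank z = a * b := by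
  haveI : IsProper (A ⊗ X).hom := inferInstanceAs (IsProper (pullback.fst A.hom X.hom ≫ A.hom))
  haveI : IsProper (A ⊗ Y).hom := inferInstanceAs (IsProper (pullback.fst A.hom Y.hom ≫ A.hom))
  haveI : IsProper (A ⊗ Z).hom := inferInstanceAs (IsProper (pullback.fst A.hom Z.hom ≫ A.hom))
  haveI : GeometricallyIntegral (A ⊗ X).hom := Poincare.geometricallyIntegral_tensor A X
  haveI : GeometricallyIntegral (A ⊗ Y).hom := Poincare.geometricallyIntegral_tensor A Y
  haveI : GeometricallyIntegral (A ⊗ Z).hom := Poincare.geometricallyIntegral_tensor A Z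
  haveI : IsFinite (f ≫ g).left := inferInstanceAs (IsFinite (f.left ≫ g.left))
  haveI : Flat (f ≫ g).left := inferInstanceAs (Flat (f.left ≫ g.left))
  haveI : IsLocallyNoetherian Z.left := LocallyOfFiniteType.isLocallyNoetherian Z.hom
  haveI : LocallyOfFinitePresentation (f ≫ g).left := by
    haveI : LocallyOfFiniteType ((f ≫ g).left ≫ Z.hom) := by rw [Over.w]; infer_instance
    haveI : LocallyOfFiniteType (f ≫ g).left := locallyOfFiniteType_of_comp (f ≫ g).left Z.hom
    infer_instance
  haveI : IsIntegral Z.left := GeometricallyIntegral.isIntegral_of_subsingleton Z.hom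
  obtain ⟨z₀⟩ : Nonempty Z.left := inferInstance
  let c := (f ≫ g).left.finrank z₀
  have hc : ∀ z : Z.left, (f ≫ g).left.finrank z = c := fun z =>
    ((f ≫ g).left.isLocallyConstant_finrank).apply_eq_of_preconnectedSpace z z₀
  suffices c = a * b by intro z; rw [hc z, this]
  obtain ⟨h1, h2, h3⟩ := whisker_rank A f a ha
  obtain ⟨h4, h5, h6⟩ := whisker_rank A g b hb
  obtain ⟨h7, h8, h9⟩ := whisker_rank A (f ≫ g) c hc
  have e1 := EulerPull.euler_pullback (A ◁ (f ≫ g)) c h9 P hP
  have hQ : Coh.IsCoh ((Scheme.Modules.pullback (A ◁ g).left).obj P) := ModDesc.isCoh_pullback _ P hP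
  have e2 := EulerPull.euler_pullback (A ◁ f) a h3 _ hQ
  have e3 := EulerPull.euler_pullback (A ◁ g) b h6 P hP
  letI : (A ⊗ X).left.Over (Spec (CommRingCat.of k)) := ⟨(A ⊗ X).hom⟩
  have e4 : Curv2.euler k (A ⊗ X).left
      ((Scheme.Modules.pullback (A ◁ f).left).obj ((Scheme.Modules.pullback (A ◁ g).left).obj P)) =
      Curv2.euler k (A ⊗ X).left ((Scheme.Modules.pullback (A ◁ (f ≫ g)).left).obj P) :=
    Euler.euler_of_iso k ((Scheme.Modules.pullbackComp (A ◁ f).left (A ◁ g).left).app P ≪≫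
      eqToIso (by rw [MonoidalCategory.whiskerLeft_comp, Over.comp_left]))
  have e5 : (c : ℤ) * _ = (a : ℤ) * ((b : ℤ) * _) := e1.symm.trans (e4.symm.trans (e2.trans (congrArg _ e3)))
  rw [← _root_.mul_assoc] at e5
  exact_mod_cast mul_right_cancel₀ hne e5

/-- **The pullback of a polarisation along an isogeny is a polarisation, of degree `d²e`.** -/
theorem isPolarization_pullback {X Xt Y Yt : Over (Spec (CommRingCat.of k))}
    [GrpObj X] [IsProper X.hom] [GeometricallyIntegral X.hom]
    [GrpObj Xt] [IsProper Xt.hom] [GeometricallyIntegral Xt.hom]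
    [GrpObj Y] [IsProper Y.hom] [GeometricallyIntegral Y.hom]
    [GrpObj Yt] [IsProper Yt.hom] [GeometricallyIntegral Yt.hom]
    (φX : AgPol.DualMap X Xt) (hX : AbDual.IsDualAV Scheme.fppfPrecoverage X Xt φX)
    (φY : AgPol.DualMap Y Yt) (hY : AbDual.IsDualAV Scheme.fppfPrecoverage Y Yt φY)
    (f : X ⟶ Y) [IsMonHom f] [IsFinite f.left] [Flat f.left] [Surjective f.left]
    (d : ℕ) (hd : ∀ y : Y.left, f.left.finrank y = d)
    (ft : Yt ⟶ Xt) (hft : AbDual.IsTranspose f φX φY ft)
    (lam : Y ⟶ Yt) (hlam : AgPol.IsPolarization Y Yt φY lam)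
    [IsFinite lam.left] [Flat lam.left] (e : ℕ) (he : ∀ y : Yt.left, lam.left.finrank y = e) :
    AgPol.IsPolarization X Xt φX (f ≫ lam ≫ ft) ∧ IsFinite (f ≫ lam ≫ ft).left ∧ Flat (f ≫ lam ≫ ft).left ∧
      ∀ x : Xt.left, (f ≫ lam ≫ ft).left.finrank x = d ^ 2 * e := by
  haveI : Smooth X.hom := Cube.smooth_abVar X
  haveI : Smooth Xt.hom := Cube.smooth_abVar Xt
  haveI : Smooth Y.hom := Cube.smooth_abVar Y
  haveI : Smooth Yt.hom := Cube.smooth_abVar Yt
  haveI : IsCommMonObj Xt := isCommMonObj_abVar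
  obtain ⟨h1, h2, h3, h4⟩ := TransposeIsog.isogeny hX hY f d hd hft
  haveI : GeometricallyConnected Yt.hom := Rigidity.geometricallyConnected_of_geometricallyIrreducible Yt.hom
  haveI : GeometricallyReduced Yt.hom := inferInstance
  haveI : IsMonHom ft := Rigidity.isMonHom_of_one_comp' ft (by
    have h := Dual.dphi_transpose hft (Dual.pz_one (A := Y) (T := 𝟙_ _))
    rw [map_one, Dual.dphi_one hX, Dual.dphi_one hY] at h
    have hAt : (η[Xt] : 𝟙_ _ ⟶ Xt) = 1 := by rw [Hom.one_def, toUnit_unit, Category.id_comp]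
    have hBt : (η[Yt] : 𝟙_ _ ⟶ Yt) = 1 := by rw [Hom.one_def, toUnit_unit, Category.id_comp]
    rw [hAt, hBt]
    exact h.symm)
  haveI := hlam.1
  haveI : IsFinite (lam ≫ ft).left := inferInstanceAs (IsFinite (lam.left ≫ ft.left))
  haveI : Flat (lam ≫ ft).left := inferInstanceAs (Flat (lam.left ≫ ft.left))
  refine ⟨⟨inferInstance, fun Ω _ _ t => ?_⟩, inferInstanceAs (IsFinite (f.left ≫ (lam ≫ ft).left)),
    inferInstanceAs (Flat (f.left ≫ (lam ≫ ft).left)), ?_⟩
  · obtain ⟨L, hL, hLam⟩ := hlam.2 Ω t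
    rw [TateThm.bcDual_eq] at hLam
    let XΩ := Red.bc t X
    let XtΩ := Red.bc t Xt
    let YΩ := Red.bc t Y
    let YtΩ := Red.bc t Yt
    haveI : IsProper XΩ.hom := inferInstanceAs (IsProper (pullback.snd X.hom t))
    haveI : GeometricallyIntegral XΩ.hom := inferInstanceAs (GeometricallyIntegral (pullback.snd X.hom t))
    haveI : Smooth XΩ.hom := inferInstanceAs (Smooth (pullback.snd X.hom t))
    haveI : IsProper XtΩ.hom := inferInstanceAs (IsProper (pullback.snd Xt.hom t))
    haveI : GeometricallyIntegral XtΩ.hom := inferInstanceAs (GeometricallyIntegral (pullback.snd Xt.hom t))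
    haveI : Smooth XtΩ.hom := inferInstanceAs (Smooth (pullback.snd Xt.hom t))
    haveI : IsProper YΩ.hom := inferInstanceAs (IsProper (pullback.snd Y.hom t))
    haveI : GeometricallyIntegral YΩ.hom := inferInstanceAs (GeometricallyIntegral (pullback.snd Y.hom t))
    haveI : Smooth YΩ.hom := inferInstanceAs (Smooth (pullback.snd Y.hom t))
    haveI : IsProper YtΩ.hom := inferInstanceAs (IsProper (pullback.snd Yt.hom t))
    haveI : GeometricallyIntegral YtΩ.hom := inferInstanceAs (GeometricallyIntegral (pullback.snd Yt.hom t))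
    haveI : Smooth YtΩ.hom := inferInstanceAs (Smooth (pullback.snd Yt.hom t))
    let fΩ : XΩ ⟶ YΩ := (Over.pullback t).map f
    haveI : IsMonHom fΩ := inferInstanceAs (IsMonHom ((Over.pullback t).map f))
    have hpsi := PosTransfer.psi_of_isLambda hL.1 hLam
    haveI : IsFinite fΩ.left := MorphismProperty.of_isPullback ((DualBC.isPullback_map_left (b := t) f)) ‹IsFinite f.left›
    let L' := (Scheme.Modules.pullback fΩ.left).obj L
    have hL' : CohB1.IsAmple L' := Ample.isAmple_pullback_of_isAffineHom fΩ.left hL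
    refine ⟨L', hL', ?_⟩
    rw [TateThm.bcDual_eq]
    refine isLambda_of_psi hL'.1 ?_
    have hcls : clsMod hL'.1 = pull fΩ.left (clsMod hL.1) :=
      (hasCls_clsMod hL'.1).eq ((hasCls_clsMod hL.1).pullback fΩ.left) ⟨Iso.refl _⟩
    rw [hcls, TransposeIsog.psi_pull (DualBC.isDualAV t X Xt φX hX) (DualBC.isDualAV t Y Yt φY hY) fΩ
      (DualBC.isTranspose (b := t) hft), hpsi, Functor.map_comp, Functor.map_comp]
  · haveI : IsCommMonObj X := isCommMonObj_abVar
    obtain ⟨g, hg⟩ := AbTors.exists_dim X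
    obtain ⟨p, hp⟩ := DualIsog.exists_poincare hX
    have hP : Coh.IsCoh (Dual.rep p) := Euler.isCoh_of_isInvertible (Dual.hasCls_rep p).choose
    have hne : @Curv2.euler k _ (X ⊗ Xt).left ⟨(X ⊗ Xt).hom⟩ (Dual.rep p) ≠ 0 := by
      rw [TransposeIsog.euler_poincare hX hg (Dual.hasCls_rep p) hp]
      exact pow_ne_zero _ (by norm_num)
    intro x
    rw [finrank_comp (Dual.rep p) hP hne f (lam ≫ ft) d (e * d) hd
      (finrank_comp (Dual.rep p) hP hne lam ft e d he h4) x]
    ring

end GrothLib.PolPullback
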