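import Groth.Agent.Lib.Poincare.TraceAdj
import Groth.Agent.Lib.Kodaira.Big
import Groth.Agent.Lib.HomFG.Finite
import Groth.Agent.S11988

/-!
# The cone of effective symmetric endomorphisms
-/

set_option autoImplicit false
set_option linter.all false
set_option backward.isDefEq.respectTransparency false
set_option maxHeartbeats 4000000

universe u

open CategoryTheory CategoryTheory.Limits AlgebraicGeometry Opposite TopologicalSpace
open MonoidalCategory CartesianMonoidalCategory
open GrothLib.Ample GrothLib.Cube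
open scoped MonObj TensorProduct

noncomputable section

namespace GrothLib.PosCone

variable {K : Type u} [Field K] [IsAlgClosed K] {A : Over (Spec (CommRingCat.of K))} [GrpObj A] [IsCommMonObj A]
  [IsProper A.hom] [GeometricallyIntegral A.hom]

open MumfordEuler (E)
open TraceForm (tr)
open Kodaira (PLe)

theorem mc_pow_class (x : Pic A.left) (f : A ⟶ A) (m : ℕ) : KL.mc (x ^ m) f = KL.mc x f ^ m := by
  rw [KL.mc, KL.mc, KL.addClass_pow_class]

theorem mc_pow (x : Pic A.left) (f : A ⟶ A) (m : ℕ) : KL.mc x (f ^ m) = KL.mc x f ^ m :=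
  map_pow (KL.mcHom x) f m

/-- `φ_z` is injective on homomorphisms when `z` is nondegenerate. -/
theorem eq_one_of_mc {z : Pic A.left} (hz : Index.Nondeg z) (f : A ⟶ A) [IsMonHom f] (h : KL.mc z f = 1) :
    f = 1 := by
  haveI : IsIntegral A.left := GeometricallyIntegral.isIntegral_of_subsingleton A.hom
  haveI : JacobsonSpace A.left := LocallyOfFiniteType.jacobsonSpace (Y := Spec _) A.hom
  have hfix : ∀ a : 𝟙_ (Over (Spec (CommRingCat.of K))) ⟶ A, pull (transl (a ≫ f)).left z = z := by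
    intro a
    have h1 := TraceForm.points_of_mc (1 : Pic A.left) z f (by rw [h, KL.mc, KL.addClass_class_one]) a
    rw [map_one, _root_.one_mul, _root_.one_mul] at h1
    exact h1.symm
  let S : Set A.left := (fun a : 𝟙_ (Over (Spec (CommRingCat.of K))) ⟶ A => ptOf a) ''
    {a | pull (transl a).left z = z}
  have hS : S.Finite := Set.Finite.image _ hz
  have hScl : ∀ w ∈ S, IsClosed ({w} : Set A.left) := by
    rintro _ ⟨a, -, rfl⟩
    haveI : IsClosedImmersion a.left := isClosedImmersion_of_comp_eq_id A.hom a.left (Over.w a)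
    show IsClosed ({a.left (IsLocalRing.closedPoint K)} : Set A.left)
    rw [show ({a.left (IsLocalRing.closedPoint K)} : Set A.left) = a.left '' {IsLocalRing.closedPoint K} from
      Set.image_singleton.symm]
    exact a.left.isClosedEmbedding.isClosedMap _ (isClosed_singleton (x := IsLocalRing.closedPoint K))
  have hSc : IsClosed S := by
    rw [← Set.biUnion_of_singleton S]; exact hS.isClosed_biUnion hScl
  have hall : ∀ q : A.left, f.left q ∈ S := by
    have hc : IsClosed (f.left ⁻¹' S) := hSc.preimage f.left.continuous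
    have hsub : closedPoints A.left ⊆ f.left ⁻¹' S := fun q hq => by
      obtain ⟨a, ha, -⟩ := exists_point_factor q hq
      refine ⟨a ≫ f, hfix a, ?_⟩
      show (a ≫ f).left _ = f.left q
      rw [Over.comp_left, Scheme.Hom.comp_apply, ha]
    have h2 := closure_minimal hsub hc
    rw [closure_closedPoints] at h2
    exact fun q => h2 (Set.mem_univ q)
  have hirr := (IrreducibleSpace.isIrreducible_univ A.left).image f.left f.left.continuous.continuousOn
  obtain ⟨w, hwS, hw⟩ : ∃ w ∈ S, ∀ q, f.left q = w := by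
    have hη := hall (genericPoint A.left)
    refine ⟨_, hη, fun q => ?_⟩
    have h1 : f.left (genericPoint A.left) ⤳ f.left q :=
      ((genericPoint_spec A.left).specializes trivial).map f.left.continuous
    have h2 := h1.mem_closed (hScl _ hη) rfl
    exact h2
  refine Rigidity.ext_of_points _ _ fun a => ?_
  rw [MonObj.comp_one]
  refine eq_of_ptOf_eq ?_
  show (a ≫ f).left (IsLocalRing.closedPoint K) = _
  rw [Over.comp_left, Scheme.Hom.comp_apply, hw, ← hw (η[A].left (IsLocalRing.closedPoint K)),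
    ← Scheme.Hom.comp_apply, ← Over.comp_left, IsMonHom.one_hom, MonObj.one_eq_one]

/-- `γ` is, up to `m`, `φ_z⁻¹ φ_y` for an effective `y`. -/
def Eff (z : Pic A.left) (m : ℕ) (u : EndAV.End A) : Prop :=
  ∃ y : Pic A.left, PLe 1 y ∧ KL.mc y (𝟙 A) = KL.mc (z ^ m) u.toHom

theorem eff_of_section {z : Pic A.left} {m : ℕ} {u : EndAV.End A} {M : A.left.Modules} {y : Pic A.left}
    (hM : HasCls M y) (s : Coh.structureModule A.left ⟶ M) (hs : s ≠ 0)
    (h : KL.mc y (𝟙 A) = KL.mc (z ^ m) u.toHom) : Eff z m u := by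
  haveI : IsIntegral A.left := GeometricallyIntegral.isIntegral_of_subsingleton A.hom
  refine ⟨y, ?_, h⟩
  obtain ⟨hO, hO1⟩ := hasCls_structureModule A.left
  obtain ⟨hMi, rfl⟩ := hM
  exact ⟨_, _, hO, hMi, hO1, rfl, s, Euler.mono_of_ne_zero hO hMi hs⟩

theorem exists_section {y : Pic A.left} (h : PLe 1 y) (hne : y ≠ 1) :
    ∃ (M : A.left.Modules) (s : Coh.structureModule A.left ⟶ M), HasCls M y ∧ s ≠ 0 ∧ ¬ IsIso s := by
  haveI : IsIntegral A.left := GeometricallyIntegral.isIntegral_of_subsingleton A.hom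
  obtain ⟨O', M, hO', hM, e1, e2, f, hf⟩ := h
  have hc : HasCls O' 1 := ⟨hO', e1⟩
  obtain ⟨i⟩ := hc.iso (hasCls_structureModule A.left) rfl
  haveI := hf
  refine ⟨M, i.inv ≫ f, ⟨hM, e2⟩, fun h0 => ?_, fun hiso => hne ?_⟩
  · have h1 : f = 0 := by
      have := congrArg (i.hom ≫ ·) h0
      simpa using this
    subst h1
    have hz : IsZero O' := (IsZero.iff_id_eq_zero _).2 ((cancel_mono (0 : O' ⟶ M)).1 (by simp))
    have := Kodaira.mem_support_of_isInvertible hO' (genericPoint A.left)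
    refine this ?_
    exact AddCommGrpCat.subsingleton_of_isZero (Functor.map_isZero (TopCat.Presheaf.stalkFunctor Ab.{u} _)
      ((Scheme.Modules.toPresheaf A.left).map_isZero hz))
  · haveI := hiso
    have hc' : HasCls M y := ⟨hM, e2⟩
    exact hc'.eq (hasCls_structureModule A.left) ⟨(asIso (i.inv ≫ f)).symm⟩

theorem Eff.mul_class {z : Pic A.left} {m : ℕ} {u v : EndAV.End A} (h : Eff z m u) (h' : Eff z m v) :
    Eff z m (u + v) := by
  obtain ⟨y, hy, e⟩ := h
  obtain ⟨y', hy', e'⟩ := h'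
  refine ⟨y * y', ?_, ?_⟩
  · have := hy.mul_right y'
    rw [_root_.one_mul] at this
    exact hy'.trans this
  · rw [KL.mc, KL.addClass_mul_class, ← KL.mc, ← KL.mc, e, e', EndAV.End.toHom_add, KL.mc_mul]

theorem eff_zero (z : Pic A.left) (m : ℕ) : Eff z m (0 : EndAV.End A) :=
  ⟨1, PLe.rfl' 1, by rw [KL.mc, KL.addClass_class_one, ← KL.mc_one (z ^ m)]; rfl⟩

theorem Eff.scale {z : Pic A.left} {m : ℕ} {u : EndAV.End A} (h : Eff z m u) (c : ℕ) : Eff z (m * c) u := by
  obtain ⟨y, hy, e⟩ := h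
  refine ⟨y ^ c, ?_, by rw [mc_pow_class, e, ← mc_pow_class, pow_mul]⟩
  induction c with
  | zero => rw [pow_zero]; exact PLe.rfl' 1
  | succ c ih =>
    have := ih.mul_right y
    rw [_root_.one_mul, ← pow_succ] at this
    exact hy.trans this

theorem Eff.div {z : Pic A.left} {m : ℕ} {u : EndAV.End A} {c : ℕ} (h : Eff z m (c • u)) : Eff z (m * c) u := by
  obtain ⟨y, hy, e⟩ := h
  refine ⟨y, hy, e.trans ?_⟩
  rw [EndAV.End.toHom_nsmul, mc_pow, ← mc_pow_class, pow_mul]

/-- An effective endomorphism has non-negative trace, zero only if it is zero. -/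
theorem Eff.tr_pos {z : Pic A.left} {N : A.left.Modules} (hN : HasCls N z) (hamp : CohB1.IsAmple N) {m : ℕ}
    (hm : 1 ≤ m) {u : EndAV.End A} (h : Eff z m u) (hu : u ≠ 0) : 0 < tr u := by
  obtain ⟨r, hr⟩ := AbTors.exists_dim A
  obtain ⟨y, hy, e⟩ := h
  have hampm := (isAmple_tensorPow_iff hN.choose hm).1 hamp
  have hne : y ≠ 1 := fun h1 => hu (EndAV.End.ext (eq_one_of_mc (Index.nondeg_of_isAmple (hN.tensorPow m) hampm)
    u.toHom (by rw [← e, h1, KL.mc, KL.addClass_class_one])))
  obtain ⟨M, s, hM, hs, hs'⟩ := exists_section hy hne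
  obtain ⟨P, hP, hPt⟩ := TraceForm.exists_spec hr u
  have hpos := TracePos.trace_pos hr (hN.tensorPow m) hampm hM s hs hs' u e hP
  haveI : IsIntegral A.left := GeometricallyIntegral.isIntegral_of_subsingleton A.hom
  letI : A.left.Over (Spec (CommRingCat.of K)) := ⟨A.hom⟩
  haveI : IsProper (A.left ↘ Spec (CommRingCat.of K)) := ‹IsProper A.hom›
  obtain ⟨-, -, e₀, he₀, -⟩ := TracePos.dimLT_cokernel K hr hM.choose s hs hs'
  rw [TraceForm.coeff_eq_tr hr (by omega) hP] at hpos
  exact_mod_cast hpos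

theorem Eff.tr_nonneg {z : Pic A.left} {N : A.left.Modules} (hN : HasCls N z) (hamp : CohB1.IsAmple N) {m : ℕ}
    (hm : 1 ≤ m) {u : EndAV.End A} (h : Eff z m u) : 0 ≤ tr u := by
  by_cases hu : u = 0
  · rw [hu, TraceForm.tr_zero]
  · exact (h.tr_pos hN hamp hm hu).le

/-- `u` is its own adjoint for `φ_z`. -/
def Sym (z : Pic A.left) (u : A ⟶ A) : Prop := KL.mc z u = pull (u ▷ A).left (MumfordPoincare.lam z)

theorem pull_lam (z : Pic A.left) (u : A ⟶ A) :
    pull (u ▷ A).left (MumfordPoincare.lam z) = addClass (snd A A) (fst A A ≫ u) z := by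
  rw [MumfordPoincare.lam, KL.mc, pull_addClass, Category.comp_id, whiskerRight_fst, whiskerRight_snd,
    KL.addClass_comm]

theorem sym_of_points {z : Pic A.left} (u : A ⟶ A) [IsMonHom u]
    (h : ∀ a : 𝟙_ (Over (Spec (CommRingCat.of K))) ⟶ A,
      pull (transl (a ≫ u)).left z * pull u.left z = z * pull u.left (pull (transl a).left z)) : Sym z u := by
  have h1 := TraceForm.adjoint_of_points z u u 1 (by simpa only [pow_one] using h)
  rwa [pow_one] at h1

theorem points_of_adjoint (z w : Pic A.left) (ρ α : A ⟶ A) [IsMonHom α]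
    (h : KL.mc z ρ = pull (α ▷ A).left (MumfordPoincare.lam w))
    (a : 𝟙_ (Over (Spec (CommRingCat.of K))) ⟶ A) :
    pull (transl (a ≫ ρ)).left z * pull α.left w = z * pull α.left (pull (transl a).left w) := by
  have e1 : lift (𝟙 A) (toUnit A ≫ a) ≫ α ▷ A = α ≫ lift (𝟙 A) (toUnit A ≫ a) := by
    apply CartesianMonoidalCategory.hom_ext
    · simp
    · simp only [Category.assoc, whiskerRight_snd, lift_snd]
      rw [← Category.assoc α, toUnit_unique (α ≫ toUnit A) (toUnit A)]
  have h1 := congrArg (pull (lift (𝟙 A) (toUnit A ≫ a)).left) h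
  rw [pull_pull_over, e1, ← pull_pull_over, LamEuler.slice_lam, map_mul, map_inv,
      KL.mc, pull_addClass, lift_fst, lift_snd_assoc, Category.assoc, addClass, pull_over_id, pull_toUnit_comp,
      _root_.mul_one, ← div_eq_mul_inv, ← div_eq_mul_inv, div_eq_div_iff_mul_eq_mul] at h1
  rw [h1, mul_comm]

theorem sym_one (z : Pic A.left) : Sym z (1 : A ⟶ A) := by
  rw [Sym, KL.mc_one, pull_lam, MonObj.comp_one, KL.addClass_one_right]

theorem sym_id (z : Pic A.left) : Sym z (𝟙 A) := by
  rw [Sym, pull_lam, Category.comp_id, KL.addClass_comm, KL.mc, Category.comp_id]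

theorem Sym.mul {z : Pic A.left} {u v : A ⟶ A} (hu : Sym z u) (hv : Sym z v) : Sym z (u * v) := by
  rw [Sym, KL.mc_mul, hu, hv, pull_lam, pull_lam, pull_lam, MonObj.comp_mul, KL.addClass_mul_right]

theorem Sym.inv {z : Pic A.left} {u : A ⟶ A} (hu : Sym z u) : Sym z u⁻¹ := by
  rw [Sym, KL.mc_inv, hu, pull_lam, pull_lam, GrpObj.comp_inv, KL.addClass_inv_right]

/-- Integral polynomials in a symmetric endomorphism are symmetric. -/
theorem sym_aeval {z : Pic A.left} (α : EndAV.End A) (hα : Sym z α.toHom) {v : EndAV.End A}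
    (hv : v ∈ Algebra.adjoin ℤ ({α} : Set (EndAV.End A))) : Sym z v.toHom := by
  have hcomm : ∀ x ∈ Algebra.adjoin ℤ ({α} : Set (EndAV.End A)),
      ∀ y ∈ Algebra.adjoin ℤ ({α} : Set (EndAV.End A)), x * y = y * x := by
    intro x hx y hy
    rw [Algebra.adjoin_singleton_eq_range_aeval] at hx hy
    obtain ⟨P, rfl⟩ := hx
    obtain ⟨Q, rfl⟩ := hy
    show Polynomial.aeval α P * Polynomial.aeval α Q = Polynomial.aeval α Q * Polynomial.aeval α P
    rw [← map_mul, ← map_mul, mul_comm]
  have hint : ∀ n : ℕ, Sym z ((𝟙 A : A ⟶ A) ^ n) := fun n => by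
    induction n with
    | zero => rw [pow_zero]; exact sym_one z
    | succ n ih => rw [pow_succ]; exact ih.mul (sym_id z)
  induction hv using Algebra.adjoin_induction with
  | mem x hx => rwa [Set.mem_singleton_iff.1 hx]
  | algebraMap n =>
    show Sym z (algebraMap ℤ (EndAV.End A) n).toHom
    rw [eq_intCast, EndAV.End.toHom_intCast]
    cases n with
    | ofNat n => rw [Int.ofNat_eq_natCast, zpow_natCast]; exact hint n
    | negSucc n => rw [zpow_negSucc]; exact (hint _).inv
  | add x y _ _ hx hy => rw [EndAV.End.toHom_add]; exact hx.mul hy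
  | mul x y hx' hy' hx hy =>
    have h := TraceAdj.adjoint_pair z z y.toHom x.toHom y.toHom x.toHom hy hx
    have e : x.toHom ≫ y.toHom = y.toHom ≫ x.toHom := by
      rw [← EndAV.End.toHom_mul, ← EndAV.End.toHom_mul, hcomm x hx' y hy']
    rw [e] at h
    rwa [EndAV.End.toHom_mul, Sym]

/-- `v w² v` is effective for symmetric `v`, `w`. -/
theorem eff_sandwich {z : Pic A.left} {N : A.left.Modules} (hN : HasCls N z) (hamp : CohB1.IsAmple N)
    (v w : EndAV.End A) (hv : Sym z v.toHom) (hw : Sym z w.toHom) :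
    ∃ m : ℕ, 1 ≤ m ∧ Eff z m (v * w * (w * v)) ∧ (w * v ≠ 0 → 0 < tr (v * w * (w * v))) := by
  by_cases h0 : w * v = 0
  · exact ⟨1, le_rfl, by rw [h0, mul_zero]; exact eff_zero z 1, fun h => absurd h0 h⟩
  have hadj : KL.mc z (v * w).toHom = pull ((w * v).toHom ▷ A).left (MumfordPoincare.lam z) := by
    rw [EndAV.End.toHom_mul, EndAV.End.toHom_mul]
    exact TraceAdj.adjoint_pair z z _ _ _ _ hw hv
  have hρ := points_of_adjoint z z (v * w).toHom (w * v).toHom hadj
  obtain ⟨m, M, y, s, hm, hM, hs, hs', e⟩ :=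
    TraceAdj.exists_eff hamp (w * v) (v * w) le_rfl hN (fun a => by rw [pow_one]; exact hρ a) h0
  refine ⟨m, hm, eff_of_section hM s hs e, fun _ => ?_⟩
  obtain ⟨r, hr⟩ := AbTors.exists_dim A
  obtain ⟨P, hP, -⟩ := TraceForm.exists_spec hr (v * w * (w * v))
  have hpos := TracePos.trace_pos hr (hN.tensorPow m) ((isAmple_tensorPow_iff hN.choose hm).1 hamp) hM s hs hs'
    (v * w * (w * v)) e hP
  haveI : IsIntegral A.left := GeometricallyIntegral.isIntegral_of_subsingleton A.hom
  letI : A.left.Over (Spec (CommRingCat.of K)) := ⟨A.hom⟩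
  haveI : IsProper (A.left ↘ Spec (CommRingCat.of K)) := ‹IsProper A.hom›
  obtain ⟨-, -, e₀, he₀, -⟩ := TracePos.dimLT_cokernel K hr hM.choose s hs hs'
  rw [TraceForm.coeff_eq_tr hr (by omega) hP] at hpos
  exact_mod_cast hpos

/-- Conjugates of effective endomorphisms by symmetric ones have non-negative trace. -/
theorem tr_conj_nonneg {z : Pic A.left} {N : A.left.Modules} (hN : HasCls N z) (hamp : CohB1.IsAmple N) {m : ℕ}
    (hm : 1 ≤ m) {α : EndAV.End A} {M : A.left.Modules} {y : Pic A.left} (hM : HasCls M y)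
    (s : Coh.structureModule A.left ⟶ M) (hs : s ≠ 0) (e : KL.mc y (𝟙 A) = KL.mc (z ^ m) α.toHom)
    (v : EndAV.End A) (hv : Sym z v.toHom) : 0 ≤ tr (v * α * v) := by
  haveI : IsIntegral A.left := GeometricallyIntegral.isIntegral_of_subsingleton A.hom
  haveI : JacobsonSpace A.left := LocallyOfFiniteType.jacobsonSpace (Y := Spec _) A.hom
  -- move the divisor away from the image
  obtain ⟨b, hb⟩ : ∃ b : 𝟙_ (Over (Spec (CommRingCat.of K))) ⟶ A, ptOf b ∈ CohB1.genLocus M s := by
    refine exists_ptOf_mem ?_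
    haveI : Mono s := Euler.mono_of_ne_zero Euler.isInvertible_structure hM.choose hs
    have hQ : Coh.IsCoh (cokernel s) := by
      letI : A.left.Over (Spec (CommRingCat.of K)) := ⟨A.hom⟩
      haveI : IsProper (A.left ↘ Spec (CommRingCat.of K)) := ‹IsProper A.hom›
      haveI := Euler.isNoetherian_of_proper (X := A.left) K
      exact QCoh.isCoh_cokernel s (Euler.isCoh_of_isInvertible Euler.isInvertible_structure)
        (Euler.isCoh_of_isInvertible hM.choose)
    let O : A.left.Opens := ⟨(CohB1.support (cokernel s))ᶜ, (QCoh.isClosed_support_of_isCoh hQ).isOpen_compl⟩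
    exact ⟨genericPoint A.left, Hilb20.le_genLocus_of_disjoint_support s (U := O) (fun x hx => hx)
      (HodgeIndex.mem_support_structure_ne_zero s hs hM.choose)⟩
  let j := (v.toHom ≫ transl b).left
  let iO := (Ample.nonempty_pullback_structureModule (X := A.left) j).some
  let s' : Coh.structureModule A.left ⟶ (Scheme.Modules.pullback j).obj M :=
    iO.inv ≫ (Scheme.Modules.pullback j).map s
  have hgen : CohB1.genLocus _ s' = j ⁻¹ᵁ CohB1.genLocus M s := genLocus_pullback j M hM.choose s iO.symm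
  have hMc : HasCls ((Scheme.Modules.pullback j).obj M) (pull v.toHom.left (pull (transl b).left y)) := by
    have h := hM.pullback j
    rwa [show pull j y = pull v.toHom.left (pull (transl b).left y) from (pull_pull_over _ _ _).symm] at h
  have hs'0 : s' ≠ 0 := TraceApps.ne_zero_of_mem_genLocus hMc.choose s' (x := η[A].left (IsLocalRing.closedPoint K)) (by
    rw [hgen]
    show j _ ∈ CohB1.genLocus M s
    have : η[A] ≫ v.toHom ≫ transl b = b := by
      rw [← Category.assoc, IsMonHom.one_hom, transl, MonObj.comp_mul, Category.comp_id, ← Category.assoc,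
        toUnit_unique (η[A] ≫ toUnit A) (𝟙 _), Category.id_comp, MonObj.one_eq_one, _root_.one_mul]
    show (η[A] ≫ v.toHom ≫ transl b).left _ ∈ _
    rw [this]
    exact hb)
  have htr : KL.mc (pull (transl b).left y) (𝟙 A) = KL.mc y (𝟙 A) := by
    have h1 := PicZeroSurj.addClass_of_invariant (fun c => PicZeroSurj.invariant_translate_div y b c)
    rw [← div_eq_mul_inv] at h1
    have h2 : KL.mc (pull (transl b).left y / y) (𝟙 A) = 1 := by rw [KL.mc, Category.comp_id]; exact h1
    have h3 : KL.mc (pull (transl b).left y) (𝟙 A) =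
        KL.mc (pull (transl b).left y / y) (𝟙 A) * KL.mc y (𝟙 A) := by
      rw [KL.mc, KL.mc, KL.mc, ← KL.addClass_mul_class, div_mul_cancel]
    rw [h3, h2, _root_.one_mul]
  have h1 := TraceAdj.mc_conj (pull (transl b).left y) z m 1 α.toHom v.toHom v.toHom (htr.trans e)
    (by rw [pow_one]; exact hv)
  rw [pow_one] at h1
  refine (eff_of_section (u := v * α * v) hMc s' hs'0 ?_).tr_nonneg hN hamp hm
  rw [h1, EndAV.End.toHom_mul, EndAV.End.toHom_mul]

/-- The trace on the rational algebra. -/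
def trQ : EndAV.End0 A →ₗ[ℚ] ℚ :=
  LinearMap.liftBaseChange ℚ ((Int.castAddHom ℚ).comp (TraceForm.trHom (A := A))).toIntLinearMap

theorem trQ_toEnd0 (u : EndAV.End A) : trQ (EndAV.toEnd0 u) = (tr u : ℚ) := by
  rw [EndAV.toEnd0_apply, trQ, LinearMap.liftBaseChange_tmul]
  simp [TraceForm.trHom_apply]

theorem trQ_comm (x y : EndAV.End0 A) : trQ (x * y) = trQ (y * x) := by
  induction x using TensorProduct.induction_on with
  | zero => simp
  | add x₁ x₂ h₁ h₂ => rw [add_mul, mul_add, map_add, map_add, h₁, h₂]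
  | tmul a u =>
    induction y using TensorProduct.induction_on with
    | zero => simp
    | add y₁ y₂ h₁ h₂ => rw [add_mul, mul_add, map_add, map_add, h₁, h₂]
    | tmul b v =>
      rw [Algebra.TensorProduct.tmul_mul_tmul, Algebra.TensorProduct.tmul_mul_tmul, trQ,
        LinearMap.liftBaseChange_tmul, LinearMap.liftBaseChange_tmul, mul_comm a b]
      congr 1
      show ((tr (u * v) : ℤ) : ℚ) = ((tr (v * u) : ℤ) : ℚ)
      rw [TraceForm.tr_mul_comm u v]

/-- Elements of `ℚ[α]` are integral polynomials over an integer. -/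
theorem exists_den {α : EndAV.End A} {y : EndAV.End0 A} (hy : y ∈ EndAV.QAdj α) :
    ∃ (d : ℕ) (v : EndAV.End A), 0 < d ∧ v ∈ Algebra.adjoin ℤ ({α} : Set (EndAV.End A)) ∧
      (d : ℚ) • y = EndAV.toEnd0 v := by
  induction hy using Algebra.adjoin_induction with
  | mem x hx => exact ⟨1, α, one_pos, Algebra.subset_adjoin rfl, by rw [Set.mem_singleton_iff.1 hx]; simp⟩
  | algebraMap q =>
    refine ⟨q.den, (q.num : EndAV.End A), q.den_pos, intCast_mem _ _, ?_⟩
    rw [map_intCast, Algebra.algebraMap_eq_smul_one, smul_smul, Rat.den_mul_eq_num,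
      ← Algebra.algebraMap_eq_smul_one, map_intCast]
  | add x x' _ _ hx hx' =>
    obtain ⟨d, v, hd, hv, e⟩ := hx
    obtain ⟨d', v', hd', hv', e'⟩ := hx'
    refine ⟨d * d', (d' • v) + (d • v'), Nat.mul_pos hd hd', add_mem (nsmul_mem hv _) (nsmul_mem hv' _), ?_⟩
    rw [map_add, map_nsmul, map_nsmul, ← e, ← e', Nat.cast_mul, smul_add, ← Nat.cast_smul_eq_nsmul ℚ,
      ← Nat.cast_smul_eq_nsmul ℚ, smul_smul, smul_smul]
    congr 1
    rw [mul_comm]
  | mul x x' _ _ hx hx' =>
    obtain ⟨d, v, hd, hv, e⟩ := hx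
    obtain ⟨d', v', hd', hv', e'⟩ := hx'
    refine ⟨d * d', v * v', Nat.mul_pos hd hd', mul_mem hv hv', ?_⟩
    rw [map_mul, ← e, ← e', Nat.cast_mul, smul_mul_smul_comm]

/-- **Positive symmetric endomorphisms are sums of squares.** -/
theorem exists_sum_sq {z : Pic A.left} {N : A.left.Modules} (hN : HasCls N z) (hamp : CohB1.IsAmple N) {m : ℕ}
    (hm : 1 ≤ m) {α : EndAV.End A} (hα : α ≠ 0) (hsym : Sym z α.toHom) {M : A.left.Modules} {y : Pic A.left}
    (hM : HasCls M y) (s : Coh.structureModule A.left ⟶ M) (hs : s ≠ 0)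
    (e : KL.mc y (𝟙 A) = KL.mc (z ^ m) α.toHom) :
    ∃ (n : ℕ) (x : Fin n → EndAV.End0 A), (∀ i, x i ∈ EndAV.QAdj α) ∧ EndAV.toEnd0 α = ∑ i, x i ^ 2 := by
  haveI : Module.Finite ℤ (EndAV.End A) := HomFG.finite_hom (A := A) (B := A)
  haveI : IsNoetherian ℚ (EndAV.End0 A) := isNoetherian_of_isNoetherianRing_of_finite ℚ (EndAV.End0 A)
  let R := EndAV.QAdj α
  haveI : Module.Finite ℚ R := Module.Finite.of_injective R.val.toLinearMap Subtype.val_injective
  have hc : ∀ a b : R, a * b = b * a := by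
    rintro ⟨a, ha⟩ ⟨b, hb⟩
    refine Subtype.ext ?_
    change a ∈ Algebra.adjoin ℚ {EndAV.toEnd0 α} at ha
    change b ∈ Algebra.adjoin ℚ {EndAV.toEnd0 α} at hb
    rw [Algebra.adjoin_singleton_eq_range_aeval] at ha hb
    obtain ⟨P, rfl⟩ := ha
    obtain ⟨Q, rfl⟩ := hb
    show Polynomial.aeval (EndAV.toEnd0 α) P * Polynomial.aeval (EndAV.toEnd0 α) Q =
      Polynomial.aeval (EndAV.toEnd0 α) Q * Polynomial.aeval (EndAV.toEnd0 α) P
    rw [← map_mul, ← map_mul, mul_comm]
  letI : StarRing R :=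
    { star := id, star_involutive := fun _ => rfl, star_mul := fun a b => hc a b, star_add := fun _ _ => rfl }
  haveI : StarModule ℚ R := ⟨fun q a => by show q • a = star q • a; rw [star_trivial]⟩
  let σ : R →ₗ[ℚ] ℚ := trQ.comp R.val.toLinearMap
  let x : R := ⟨EndAV.toEnd0 α, Algebra.subset_adjoin rfl⟩
  have hpos : ∀ a : R, a ≠ 0 → 0 < σ (a * star a) := by
    rintro ⟨a, ha⟩ hne
    show 0 < trQ (a * a)
    obtain ⟨d, v, hd, hv, hdv⟩ := exists_den ha
    have hdq : (d : ℚ) ≠ 0 := Nat.cast_ne_zero.2 hd.ne'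
    have hv0 : v ≠ 0 := fun h => hne (Subtype.ext (by
      rw [h, map_zero, smul_eq_zero] at hdv; exact hdv.resolve_left hdq))
    have h1 : 0 < tr (v * v) := by
      obtain ⟨m', -, -, h⟩ := eff_sandwich hN hamp 1 v (sym_id z) (sym_aeval α hsym hv)
      rw [_root_.mul_one, _root_.one_mul] at h
      exact h hv0
    have h2 : ((d : ℚ) * d) * trQ (a * a) = (tr (v * v) : ℚ) := by
      rw [← trQ_toEnd0, map_mul EndAV.toEnd0, ← hdv, smul_mul_smul_comm, map_smul, smul_eq_mul]
    have h3 : 0 < ((d : ℚ) * d) * trQ (a * a) := by rw [h2]; exact_mod_cast h1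
    exact (pos_iff_pos_of_mul_pos h3).1 (by positivity)
  have hx0 : x ≠ 0 := fun h => hα (HomFG.toEnd0_injective (A := A) (by
    rw [map_zero]; exact congrArg Subtype.val h))
  have hconj : ∀ a : R, 0 ≤ σ (a * x * a) := by
    rintro ⟨a, ha⟩
    show 0 ≤ trQ (a * EndAV.toEnd0 α * a)
    obtain ⟨d, v, hd, hv, hdv⟩ := exists_den ha
    have h1 : 0 ≤ tr (v * α * v) := tr_conj_nonneg hN hamp hm hM s hs e v (sym_aeval α hsym hv)
    have h2 : ((d : ℚ) * d) * trQ (a * EndAV.toEnd0 α * a) = (tr (v * α * v) : ℚ) := by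
      rw [← trQ_toEnd0, map_mul EndAV.toEnd0, map_mul EndAV.toEnd0, ← hdv, smul_mul_assoc, smul_mul_smul_comm,
        map_smul, smul_eq_mul]
    have h3 : (0 : ℚ) ≤ ((d : ℚ) * d) * trQ (a * EndAV.toEnd0 α * a) := by
      rw [h2]; exact_mod_cast h1
    exact nonneg_of_mul_nonneg_right h3 (by positivity)
  obtain ⟨hfwd, -⟩ := Groth.Agent.S11988.result R σ (fun a b => by rw [hc]) hpos x rfl hx0
  obtain ⟨n, w, -, hw⟩ := hfwd fun a _ => hconj a
  refine ⟨n, fun i => (w i : EndAV.End0 A), fun i => (w i).2, ?_⟩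
  have := congrArg (R.val) hw
  simpa [map_sum, map_pow] using this

/-- Sums of squares in `ℚ[α]` have integral forms. -/
theorem exists_int_sq {α : EndAV.End A} {n : ℕ} {x : Fin n → EndAV.End0 A} (hx : ∀ i, x i ∈ EndAV.QAdj α)
    (hsum : EndAV.toEnd0 α = ∑ i, x i ^ 2) :
    ∃ (c : ℕ) (v : Fin n → EndAV.End A), 0 < c ∧ (∀ i, v i ∈ Algebra.adjoin ℤ ({α} : Set (EndAV.End A))) ∧
      c • α = ∑ i, v i * v i := by
  choose d v hd hv hdv using fun i => exists_den (hx i)
  let D := ∏ i, d i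
  have hD : ∀ i, (∏ j ∈ Finset.univ.erase i, d j) * d i = D := fun i =>
    Finset.prod_erase_mul _ _ (Finset.mem_univ i)
  refine ⟨D * D, fun i => (∏ j ∈ Finset.univ.erase i, d j) • v i, ?_, fun i => nsmul_mem (hv i) _, ?_⟩
  · have : 0 < D := Finset.prod_pos fun i _ => hd i
    positivity
  refine HomFG.toEnd0_injective (A := A) ?_
  rw [map_nsmul, map_sum, hsum, Finset.smul_sum]
  refine Finset.sum_congr rfl fun i _ => ?_
  rw [map_mul, map_nsmul, ← hdv i, ← Nat.cast_smul_eq_nsmul ℚ, ← Nat.cast_smul_eq_nsmul ℚ, smul_smul,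
    smul_mul_smul_comm, sq, ← hD i]
  congr 1
  push_cast
  ring

end GrothLib.PosCone
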