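import Groth.Agent.Lib.Poincare.RHyp

/-!
# Roots of the Frobenius characteristic polynomial, for any algebraic closure
-/

set_option autoImplicit false
set_option linter.all false
set_option backward.isDefEq.respectTransparency false
set_option maxHeartbeats 4000000

universe u

open CategoryTheory CategoryTheory.Limits AlgebraicGeometry Opposite TopologicalSpace
open MonoidalCategory CartesianMonoidalCategory
open GrothLib.Ample GrothLib.Cube
open Polynomial
open scoped MonObj CategoryTheory.Obj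

noncomputable section

namespace GrothLib.RHyp

/-- **Every complex root of the characteristic polynomial of Frobenius has absolute value `√q`.** -/
theorem norm_root_charpoly {K Ω : Type u} [Field K] [Finite K] [Field Ω] [Algebra K Ω] [IsAlgClosure K Ω]
    {A : Over (Spec (CommRingCat.of K))} [GrpObj A] [IsCommMonObj A] [IsProper A.hom] [GeometricallyIntegral A.hom]
    (π : A ⟶ A) [IsMonHom π] (hπb : π.left.base = 𝟙 _) (hle : ∀ U : A.left.Opens, U ≤ π.left ⁻¹ᵁ U)
    (happ : ∀ (U : A.left.Opens) (s : Γ(A.left, U)), (π.left.appLE U U (hle U)).hom s = s ^ Nat.card K)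
    (l : ℕ) [Fact l.Prime] (hlK : (l : K) ≠ 0)
    [Module.Free ℤ_[l] (AbDual.TateMod A l (Over.mk (Spec.map (CommRingCat.ofHom (algebraMap K Ω)))))]
    [Module.Finite ℤ_[l] (AbDual.TateMod A l (Over.mk (Spec.map (CommRingCat.ofHom (algebraMap K Ω)))))]
    (P : ℤ[X])
    (hP : (AbDual.tateMapₗ (l := l) (T := Over.mk (Spec.map (CommRingCat.ofHom (algebraMap K Ω)))) π).charpoly =
      P.map (Int.castRingHom ℤ_[l])) {ω : ℂ} (hω : (P.map (Int.castRingHom ℂ)).IsRoot ω) :
    ‖ω‖ = Real.sqrt (Nat.card K) := by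
  obtain ⟨vK, hvm, hπv, hvπ⟩ := Groth.Agent.S16846.result K A π hπb hle happ
  haveI := hvm
  haveI : IsAlgClosed Ω := IsAlgClosure.isAlgClosed K
  let σ : Spec (CommRingCat.of Ω) ⟶ Spec (CommRingCat.of K) := Spec.map (CommRingCat.ofHom (algebraMap K Ω))
  let A' := DegPoly.bc σ A
  haveI : IsProper A'.hom := inferInstanceAs (IsProper (pullback.snd A.hom σ))
  haveI : GeometricallyIntegral A'.hom := inferInstanceAs (GeometricallyIntegral (pullback.snd A.hom σ))
  haveI : IsCommMonObj A' := isCommMonObj_abVar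
  haveI : IsMonHom (DegPoly.bcMap σ π) := inferInstance
  haveI : IsMonHom (DegPoly.bcMap σ vK) := inferInstance
  set q := Nat.card K with hq
  have hq0 : q ≠ 0 := Nat.card_pos.ne'
  let p' : EndAV.End A' := EndAV.End.of (DegPoly.bcMap σ π)
  let v' : EndAV.End A' := EndAV.End.of (DegPoly.bcMap σ vK)
  have hpowmap : DegPoly.bcMap σ ((𝟙 A : A ⟶ A) ^ q) = (𝟙 A' : A' ⟶ A') ^ q := by
    refine (map_pow (Functor.homMonoidHom (Over.pullback σ)) (𝟙 A) q).trans ?_
    exact congrArg (fun g => g ^ q) ((Over.pullback σ).map_id A)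
  have h1 : p' * v' = (q : EndAV.End A') := EndAV.End.ext (by
    rw [EndAV.End.toHom_mul, EndAV.End.toHom_natCast]
    show DegPoly.bcMap σ vK ≫ DegPoly.bcMap σ π = _
    rw [← Functor.map_comp, hvπ]
    exact hpowmap)
  have h2 : v' * p' = (q : EndAV.End A') := EndAV.End.ext (by
    rw [EndAV.End.toHom_mul, EndAV.End.toHom_natCast]
    show DegPoly.bcMap σ π ≫ DegPoly.bcMap σ vK = _
    rw [← Functor.map_comp, hπv]
    exact hpowmap)
  obtain ⟨L₀, hL₀⟩ := exists_isAmple A
  have hz₀ := hasCls_clsMod hL₀.1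
  haveI : IsAffineHom (pullback.fst A.hom σ) := MorphismProperty.pullback_fst _ _ (inferInstance : IsAffineHom σ)
  have hN := hz₀.pullback (pullback.fst A.hom σ)
  set z : Pic A'.left := pull (pullback.fst A.hom σ) (clsMod hL₀.1) with hz
  have hamp := isAmple_pullback_of_isAffineHom (pullback.fst A.hom σ) hL₀
  have hpull : pull (DegPoly.bcMap σ π).left z = z ^ q := by
    rw [hz]
    refine (pull_comp _ _ _).trans ((congrArg (fun g => pull g (clsMod hL₀.1)) (DegPoly.bcMap_left_fst σ π)).trans ?_)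
    refine (pull_comp _ _ _).symm.trans ?_
    rw [pull_eq_pow_of_appLE π.left q hle happ, map_pow]
    rfl
  -- `v'` is adjoint to `p'`
  have hsurj : ∀ a : 𝟙_ (Over (Spec (CommRingCat.of Ω))) ⟶ A', ∃ b : 𝟙_ _ ⟶ A', b ≫ p'.toHom = a := fun a => by
    obtain ⟨b, hb⟩ := AutFinite.exists_pow_preimage hq0 a
    refine ⟨b ≫ v'.toHom, ?_⟩
    rw [Category.assoc, ← EndAV.End.toHom_mul, h1, EndAV.End.toHom_natCast, MonObj.comp_pow, Category.comp_id, hb]
  have hpts : ∀ a : 𝟙_ (Over (Spec (CommRingCat.of Ω))) ⟶ A',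
      pull (transl (a ≫ v'.toHom)).left z * pull p'.toHom.left z = z * pull p'.toHom.left (pull (transl a).left z) := by
    intro a
    obtain ⟨b, rfl⟩ := hsurj a
    have hc : transl b ≫ p'.toHom = p'.toHom ≫ transl (b ≫ p'.toHom) := by
      show (𝟙 A' * (toUnit A' ≫ b)) ≫ p'.toHom = p'.toHom ≫ (𝟙 A' * (toUnit A' ≫ b ≫ p'.toHom))
      rw [MonObj.mul_comp, MonObj.comp_mul, Category.id_comp, Category.comp_id, Category.assoc,
        ← Category.assoc p'.toHom (toUnit A'), toUnit_unique (p'.toHom ≫ toUnit A') (toUnit A')]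
    rw [Category.assoc, ← EndAV.End.toHom_mul, h2, EndAV.End.toHom_natCast, MonObj.comp_pow, Category.comp_id,
      pull_pull_over, ← hc, ← pull_pull_over, show pull p'.toHom.left z = z ^ q from hpull, map_pow]
    have h := TraceForm.points_of_mc (1 : Pic A'.left) z (1 : A' ⟶ A') (by
      rw [KL.mc_one, KL.mc, KL.addClass_class_one]) b
    have hlin : KL.mc (z ^ q) (𝟙 A') = KL.mc z ((𝟙 A' : A' ⟶ A') ^ q) := by
      rw [PosCone.mc_pow_class, PosCone.mc_pow]
    have h' := TraceForm.points_of_mc _ _ _ hlin b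
    rw [map_pow, MonObj.comp_pow, Category.comp_id] at h'
    rw [mul_comm, ← h', mul_comm]
  have ha : Adj z p' v' := by
    have h := TraceForm.adjoint_of_points z v'.toHom p'.toHom 1 (by simpa only [pow_one] using hpts)
    rw [pow_one, PosCone.pull_lam] at h
    exact h
  have hb : Adj z v' p' := ha.symm
  haveI : Module.Finite ℤ_[l] (AbDual.TateMod A' l (Over.mk (𝟙 (Spec (CommRingCat.of Ω))))) :=
    Module.Finite.equiv (DegPoly.tateEquiv σ l (A := A))
  haveI : Module.Free ℤ_[l] (AbDual.TateMod A' l (Over.mk (𝟙 (Spec (CommRingCat.of Ω))))) :=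
    Module.Free.of_equiv (DegPoly.tateEquiv σ l (A := A))
  let T : Module.End ℤ_[l] (AbDual.TateMod A' l (Over.mk (𝟙 (Spec (CommRingCat.of Ω))))) :=
    EndAV.End.tateRep l (Over.mk (𝟙 (Spec (CommRingCat.of Ω)))) p'
  have hT : T.charpoly = P.map (Int.castRingHom ℤ_[l]) := by
    rw [← hP, ← LinearEquiv.charpoly_conj (DegPoly.tateEquiv σ l (A := A))]
    congr 1
    refine LinearMap.ext fun w => ?_
    rw [LinearEquiv.conj_apply]
    show _ = DegPoly.tateEquiv σ l (AbDual.tateMapₗ (l := l) π ((DegPoly.tateEquiv σ l (A := A)).symm w))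
    rw [DegPoly.tateEquiv_tateMap, LinearEquiv.apply_symm_apply]
    rfl
  haveI : Module.Finite ℤ (EndAV.End A') := HomFG.finite_hom (A := A') (B := A')
  let mp := minpoly ℚ (EndAV.toEnd0 p')
  let G := IsLocalization.integerNormalization (nonZeroDivisors ℤ) mp
  obtain ⟨⟨c, hc⟩, hGc⟩ := IsLocalization.integerNormalization_map_to_map (nonZeroDivisors ℤ) mp
  have hGp : aeval p' G = 0 := HomFG.toEnd0_injective (A := A') (by
    rw [map_zero, ← aeval_algHom_apply, ← aeval_map_algebraMap ℚ, hGc, map_zsmul, minpoly.aeval, smul_zero])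
  have hGT : aeval T (G.map (Int.castRingHom ℤ_[l])) = 0 := by
    rw [← HomFG.map_aeval, hGp, map_zero]
  have hG := aeval_root_eq_zero T hT hGT hω
  refine norm_root hN hamp hq0 h1 h2 ha hb ?_
  rw [← aeval_map_algebraMap ℚ, hGc, map_zsmul, smul_eq_zero] at hG
  exact hG.resolve_left (nonZeroDivisors.ne_zero hc)

end GrothLib.RHyp
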