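import Groth.Agent.Lib.Zeta.Series
import Mathlib.FieldTheory.Galois.Basic
import Mathlib.FieldTheory.IsAlgClosed.Basic
import Mathlib.FieldTheory.SplittingField.Construction
import Mathlib.RingTheory.IntegralClosure.IntegrallyClosed
import Mathlib.Algebra.Polynomial.Lifts
import Mathlib.Algebra.Algebra.Rat
import Mathlib.FieldTheory.Perfect
import Mathlib.FieldTheory.Normal.Basic
import Mathlib.RingTheory.Polynomial.RationalRoot

/-!
# Products of subsets of roots and the associated power series
-/

open Polynomial
open GrothLib.Zeta (IsExpOf)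

namespace GrothLib.Poincare

/-- The polynomial with roots the inverses of the products of `j`-element subsets. -/
noncomputable def subProdPoly {R : Type*} [CommRing R] (s : Multiset R) (j : ℕ) : R[X] :=
  ((s.powersetCard j).map fun I => (1 : R[X]) - C I.prod * X).prod

theorem subProdPoly_map {R S : Type*} [CommRing R] [CommRing S] (f : R →+* S) (s : Multiset R) (j : ℕ) :
    (subProdPoly s j).map f = subProdPoly (s.map f) j := by
  rw [subProdPoly, subProdPoly, Polynomial.map_multiset_prod, Multiset.map_map, Multiset.powersetCard_map,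
    Multiset.map_map]
  refine congrArg _ (Multiset.map_congr rfl fun I _ => ?_)
  simp only [Function.comp_apply, Polynomial.map_sub, Polynomial.map_one, Polynomial.map_mul, map_C, map_X, map_multiset_prod,
    Polynomial.map_multiset_prod, Multiset.map_map, Function.comp_def]

/-- The sub-products of the roots of a monic integer polynomial give integer polynomials. -/
theorem exists_int_subProdPoly (P : ℤ[X]) (hP : P.Monic) {C' : Type*} [Field C'] [CharZero C'] [IsAlgClosed C'] (j : ℕ) :
    ∃ Q : ℤ[X], Q.map (Int.castRingHom C') = subProdPoly (P.map (Int.castRingHom C')).roots j := by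
  let Q₀ := P.map (Int.castRingHom ℚ)
  let E := Q₀.SplittingField
  haveI : Normal ℚ E := by
    haveI hsf := Polynomial.IsSplittingField.splittingField Q₀
    convert! Normal.of_isSplittingField (F := ℚ) (E := Q₀.SplittingField) Q₀ using 1
    convert! hsf using 1 <;> first | exact Subsingleton.elim _ _ | skip
  haveI : IsGalois ℚ E := ⟨⟩
  have hs : (Q₀.map (algebraMap ℚ E)).Splits := SplittingField.splits Q₀
  set R := (Q₀.map (algebraMap ℚ E)).roots
  set p := subProdPoly R j
  have hfix : ∀ (σ : E ≃ₐ[ℚ] E), p.map (σ : E →+* E) = p := fun σ => by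
    rw [subProdPoly_map, ← hs.roots_map, Polynomial.map_map]
    congr 3
    exact Subsingleton.elim _ _
  have hrat : ∀ n, p.coeff n ∈ Set.range (algebraMap ℚ E) := fun n => by
    rw [IsGalois.mem_range_algebraMap_iff_fixed]
    intro σ
    conv_rhs => rw [← hfix σ, Polynomial.coeff_map]
    rfl
  have hint : ∀ n, IsIntegral ℤ (p.coeff n) := fun n => by
    have hR : ∀ r ∈ R, IsIntegral ℤ r := fun r hr => ⟨P, hP, by
      have := isRoot_of_mem_roots hr
      rw [IsRoot, Polynomial.map_map, eval_map] at this
      rwa [Subsingleton.elim (algebraMap ℤ E) ((algebraMap ℚ E).comp (Int.castRingHom ℚ))]⟩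
    have hmem : p ∈ liftsRing (algebraMap (integralClosure ℤ E) E) := by
      refine multiset_prod_mem _ fun q hq => ?_
      obtain ⟨I, hI, rfl⟩ := Multiset.mem_map.1 hq
      refine Subring.sub_mem _ (Subring.one_mem _) (Subring.mul_mem _ ?_ ?_)
      · exact C'_mem_lifts ⟨⟨I.prod, IsIntegral.multiset_prod fun r hr =>
          hR r (Multiset.mem_of_le (Multiset.mem_powersetCard.1 hI).1 hr)⟩, rfl⟩
      · exact X_mem_lifts _
    obtain ⟨c, hc⟩ := (lifts_iff_coeff_lifts p).1 hmem n
    exact hc ▸ c.2
  have hZ : p ∈ lifts (Int.castRingHom E) := (lifts_iff_coeff_lifts p).2 fun n => by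
    obtain ⟨q, hq⟩ := hrat n
    have hi := hint n
    rw [← hq, isIntegral_algebraMap_iff (algebraMap ℚ E).injective] at hi
    obtain ⟨z, hz⟩ := IsIntegrallyClosed.isIntegral_iff.1 hi
    exact ⟨z, by rw [← hq, ← hz]; simp⟩
  obtain ⟨Q, hQ⟩ := hZ
  let i : E →ₐ[ℚ] C' := IsAlgClosed.lift
  refine ⟨Q, ?_⟩
  have h := congrArg (Polynomial.map i.toRingHom) hQ
  rw [coe_mapRingHom, Polynomial.map_map, subProdPoly_map, ← hs.roots_map, Polynomial.map_map, Polynomial.map_map] at h
  rw [Subsingleton.elim (Int.castRingHom C') (i.toRingHom.comp (Int.castRingHom E)), h]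
  congr 3

/-- `∏ (1 - aᵐ)` expanded over subsets. -/
theorem prod_one_sub_pow {R : Type*} [CommRing R] (s : Multiset R) (m : ℕ) :
    (s.map fun a => 1 - a ^ m).prod =
      ∑ j ∈ Finset.range (Multiset.card s + 1), (-1) ^ j * ((s.powersetCard j).map fun I => I.prod ^ m).sum := by
  have h : ∀ t : Multiset R, (t.map fun a => 1 - a ^ m).prod =
      (t.powerset.map fun I => (-1) ^ Multiset.card I * I.prod ^ m).sum := by
    intro t
    induction t using Multiset.induction with
    | empty => simp
    | cons a t ih =>
      rw [Multiset.map_cons, Multiset.prod_cons, ih, Multiset.powerset_cons, Multiset.map_add, Multiset.sum_add,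
        Multiset.map_map, sub_mul, one_mul, sub_eq_add_neg]
      congr 1
      rw [← Multiset.sum_map_mul_left, ← Multiset.sum_map_neg', Multiset.map_map]
      refine congrArg _ (Multiset.map_congr rfl fun I _ => ?_)
      simp [mul_pow, pow_succ]
      ring
  rw [h, ← Multiset.bind_powerset_len, Multiset.map_bind, Multiset.sum_bind]
  rw [Finset.sum_eq_multiset_sum, Finset.range_val]
  refine congrArg _ (Multiset.map_congr rfl fun j _ => ?_)
  rw [← Multiset.sum_map_mul_left]
  refine congrArg _ (Multiset.map_congr rfl fun I hI => ?_)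
  rw [(Multiset.mem_powersetCard.1 hI).2]

/-- The exponents of a sub-product polynomial. -/
theorem isExpOf_subProdPoly {R : Type*} [CommRing R] (s : Multiset R) (j : ℕ) :
    IsExpOf (fun m => if m = 0 then 0 else -((s.powersetCard j).map fun I => I.prod ^ m).sum)
      ((subProdPoly s j : R[X]) : PowerSeries R) := by
  rw [subProdPoly]
  generalize s.powersetCard j = t
  induction t using Multiset.induction with
  | empty =>
    simp only [Multiset.map_zero, Multiset.prod_zero, Multiset.sum_zero, neg_zero, ite_self, Polynomial.coe_one]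
    exact GrothLib.Zeta.isExpOf_one
  | cons I t ih =>
    rw [Multiset.map_cons, Multiset.prod_cons, Polynomial.coe_mul]
    have h1 : ((1 - C I.prod * X : R[X]) : PowerSeries R) = 1 - PowerSeries.C I.prod * PowerSeries.X := by
      simp [Polynomial.coe_sub, Polynomial.coe_mul, Polynomial.coe_C, Polynomial.coe_X]
    rw [h1]
    refine ((GrothLib.Zeta.isExpOf_one_sub_X I.prod).mul ih).congr fun m => ?_
    by_cases hm : m = 0 <;> simp [hm]
    ring

end GrothLib.Poincare
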