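import Groth.Agent.Lib.Poincare.Frob
import Groth.Agent.Lib.DegPoly.MinpolyPow

/-!
# When the Frobenius generates a field
-/

universe u

open CategoryTheory CategoryTheory.Limits AlgebraicGeometry
open MonoidalCategory CartesianMonoidalCategory MonObj
open scoped CategoryTheory.Obj TensorProduct
open Polynomial

set_option backward.isDefEq.respectTransparency false

noncomputable section

namespace GrothLib.Poincare

variable {k : Type u} [Field k] {A : Over (Spec (CommRingCat.of k))} [GrpObj A] [IsCommMonObj A]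
  [IsProper A.hom] [GeometricallyIntegral A.hom]

omit [IsProper A.hom] [GeometricallyIntegral A.hom] in
/-- An element generates a field exactly when its minimal polynomial is irreducible. -/
theorem isField_adjoin_iff {R : Type*} [Ring R] [Algebra ℚ R] {x : R} (hx : IsIntegral ℚ x) :
    IsField (Algebra.adjoin ℚ {x}) ↔ Irreducible (minpoly ℚ x) := by
  constructor
  · intro h
    letI := h.toField
    have hx' : IsIntegral ℚ (⟨x, Algebra.self_mem_adjoin_singleton ℚ x⟩ : Algebra.adjoin ℚ {x}) :=
      (isIntegral_algHom_iff (Algebra.adjoin ℚ {x}).val Subtype.val_injective).1 hx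
    have e := minpoly.algHom_eq (Algebra.adjoin ℚ {x}).val Subtype.val_injective
      (⟨x, Algebra.self_mem_adjoin_singleton ℚ x⟩ : Algebra.adjoin ℚ {x})
    rw [show (Algebra.adjoin ℚ {x}).val ⟨x, Algebra.self_mem_adjoin_singleton ℚ x⟩ = x from rfl] at e
    rw [e]
    exact minpoly.irreducible hx'
  · intro hirr
    have hnt : Nontrivial R := by
      by_contra h
      haveI := not_nontrivial_iff_subsingleton.1 h
      exact hirr.not_isUnit (by rw [minpoly.subsingleton ℚ x]; exact isUnit_one)
    refine ⟨exists_pair_ne _, ?_, ?_⟩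
    · rintro ⟨a, ha⟩ ⟨b, hb⟩
      rw [Algebra.adjoin_singleton_eq_range_aeval] at ha hb
      obtain ⟨p, rfl⟩ := ha
      obtain ⟨q, rfl⟩ := hb
      exact Subtype.ext (show aeval x p * aeval x q = aeval x q * aeval x p by rw [← map_mul, ← map_mul, mul_comm])
    · rintro ⟨a, ha⟩ hne
      have ha' := ha
      rw [Algebra.adjoin_singleton_eq_range_aeval] at ha'
      obtain ⟨p, rfl⟩ := ha'
      have hndvd : ¬ minpoly ℚ x ∣ p := fun h => hne (Subtype.ext ((minpoly.dvd_iff).1 h))
      obtain ⟨u, v, huv⟩ := (hirr.coprime_iff_not_dvd).2 hndvd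
      refine ⟨⟨aeval x v, aeval_mem_adjoin_singleton ℚ x⟩, Subtype.ext ?_⟩
      show aeval x p * aeval x v = 1
      have := congrArg (aeval x) huv
      rw [map_add, map_mul, map_mul, minpoly.aeval, mul_zero, zero_add, map_one] at this
      rw [← map_mul, mul_comm, map_mul, this]

variable {Ω : Type u} [Field Ω] [IsAlgClosed Ω] (σ : Spec (CommRingCat.of Ω) ⟶ Spec (CommRingCat.of k))
  (l : ℕ) [Fact l.Prime]

include σ in
/-- Endomorphisms of a point are trivial. -/
theorem subsingleton_end0_of_dim_zero (hl : (l : k) ≠ 0) (hA : topologicalKrullDim A.left = 0) :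
    Subsingleton (EndAV.End0 A) := by
  haveI := AbTors.module_finite A σ l hl
  haveI : Module.Free ℤ_[l] (AbDual.TateMod A l (Over.mk σ)) := Module.free_of_finite_type_torsion_free'
  haveI : Subsingleton (AbDual.TateMod A l (Over.mk σ)) :=
    Module.finrank_zero_iff.1 ((AbTors.finrank_eq A σ l hl (g := 0) (by rw [hA]; rfl)).trans (Nat.mul_zero 2))
  have h10 : (1 : EndAV.End A) = 0 := HomFG.tateRep_injective σ l hl (Subsingleton.elim _ _)
  refine subsingleton_of_zero_eq_one ?_
  rw [← map_one (EndAV.toEnd0 (A := A)), h10, map_zero]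

include σ in
/-- Endomorphisms of a positive dimensional abelian variety form a nonzero ring. -/
theorem nontrivial_end0_of_dim_ne_zero (hl : (l : k) ≠ 0) {g : ℕ}
    (hA : topologicalKrullDim A.left = (g : WithBot ℕ∞)) (hg : g ≠ 0) : Nontrivial (EndAV.End0 A) := by
  haveI := AbTors.module_finite A σ l hl
  haveI : Module.Free ℤ_[l] (AbDual.TateMod A l (Over.mk σ)) := Module.free_of_finite_type_torsion_free'
  refine ⟨EndAV.toEnd0 1, EndAV.toEnd0 0, fun h => ?_⟩
  have h1 := congrArg (EndAV.End.tateRep (A := A) l (Over.mk σ)) (HomFG.toEnd0_injective h)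
  rw [map_one, map_zero] at h1
  haveI : Nontrivial (AbDual.TateMod A l (Over.mk σ)) :=
    Module.nontrivial_of_finrank_pos (R := ℤ_[l]) (by rw [AbTors.finrank_eq A σ l hl hA]; omega)
  exact one_ne_zero h1

include σ in
/-- A simple abelian variety has no zero divisors among its endomorphisms. -/
theorem noZeroDivisors_end0 (hl : (l : k) ≠ 0)
    (hsimple : ∀ (B : Over (Spec (CommRingCat.of k))) [GrpObj B] [GeometricallyIntegral B.hom] (i : B ⟶ A) [IsMonHom i]
      [IsClosedImmersion i.left], Subsingleton B.left ∨ IsIso i) :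
    NoZeroDivisors (EndAV.End0 A) := by
  have key : ∀ φ ψ : EndAV.End A, φ * ψ = 0 → φ = 0 ∨ ψ = 0 := by
    intro φ ψ h
    by_cases hf : IsFinite φ.toHom.left
    · refine Or.inr (HomFG.tateRep_injective σ l hl ?_)
      rw [map_zero]
      refine LinearMap.ext fun z => AbTors.injective_tateMap_of_isFinite σ l φ.toHom ?_
      have h1 := LinearMap.congr_fun (congrArg (EndAV.End.tateRep (A := A) l (Over.mk σ)) h) z
      rw [map_mul, map_zero] at h1
      exact h1.trans (map_zero (AbDual.tateMapₗ (l := l) (T := Over.mk σ) φ.toHom)).symm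
    · refine Or.inl (EndAV.End.ext ?_)
      obtain ⟨W, _, j, _, _, _, _, hW, hjf⟩ := exists_subvariety_ker φ.toHom hf
      rcases hsimple W j with hs | hiso
      · exact absurd hs hW
      · rw [← cancel_epi j, hjf, EndAV.End.toHom_zero, MonObj.comp_one]
  refine ⟨fun {a b} h => ?_⟩
  obtain ⟨q, φ, rfl⟩ := exists_smul_toEnd0 a
  obtain ⟨r, ψ, rfl⟩ := exists_smul_toEnd0 b
  rw [smul_mul_assoc, mul_smul_comm, ← map_mul, smul_smul] at h
  rcases eq_or_ne (q * r) 0 with h0 | h0
  · rcases mul_eq_zero.1 h0 with rfl | rfl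
    · exact Or.inl (zero_smul _ _)
    · exact Or.inr (zero_smul _ _)
  · have : φ * ψ = 0 := HomFG.toEnd0_injective (by
      rw [map_zero]; exact (smul_eq_zero.1 h).resolve_left h0)
    rcases key φ ψ this with rfl | rfl
    · exact Or.inl (by rw [map_zero, smul_zero])
    · exact Or.inr (by rw [map_zero, smul_zero])

/-- An endomorphism is killed by its integral characteristic polynomial. -/
theorem minpoly_dvd_charpoly (hl : (l : k) ≠ 0) [Module.Free ℤ_[l] (AbDual.TateMod A l (Over.mk σ))]
    [Module.Finite ℤ_[l] (AbDual.TateMod A l (Over.mk σ))] (φ : EndAV.End A) {P : ℤ[X]}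
    (hP : (EndAV.End.tateRep l (Over.mk σ) φ).charpoly = P.map (Int.castRingHom ℤ_[l])) :
    minpoly ℚ (EndAV.toEnd0 φ) ∣ P.map (Int.castRingHom ℚ) := by
  refine minpoly.dvd ℚ _ ?_
  have h0 : aeval φ P = 0 := HomFG.tateRep_injective σ l hl (by
    rw [HomFG.map_aeval, map_zero, ← hP]; exact LinearMap.aeval_self_charpoly _)
  rw [show Int.castRingHom ℚ = algebraMap ℤ ℚ from rfl, aeval_map_algebraMap, aeval_algHom_apply, h0, map_zero]

end GrothLib.Poincare
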