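import Groth.Agent.Lib.Poincare.DualFib
import Groth.Agent.Lib.Poincare.PointGood
import Groth.Agent.Lib.Poincare.RpushSupport
import Groth.Agent.Lib.RegSeqLoc.Basic
import Groth.Agent.Lib.BCCrit.StratumPush
import Groth.Agent.Lib.Seesaw26.Scheme
import Groth.Agent.Lib.GrpSchField.SmoothRegular
import Groth.Agent.Lib.RegLoc.Basic
import Groth.Agent.Lib.FinCov.FrameFree
import Groth.Agent.Lib.QCoh.ClosedImmersion
import Groth.Agent.Lib.CurveLocus.Basic

/-!
# The higher direct images of a Poincaré bundle form a skyscraper at the origin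
-/

set_option autoImplicit false
set_option linter.all false
set_option backward.isDefEq.respectTransparency false
set_option maxHeartbeats 2000000

universe u

open CategoryTheory CategoryTheory.Limits AlgebraicGeometry Opposite TopologicalSpace
open MonoidalCategory CartesianMonoidalCategory
open GrothLib.Ample GrothLib.Cube
open scoped MonObj

noncomputable section

namespace GrothLib.Skyscraper

/-- A closed regular point is cut out by a regular sequence on an affine neighbourhood. -/
theorem exists_chart {X : Scheme.{u}} [IsLocallyNoetherian X] (x : X) (hx : IsClosed ({x} : Set X))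
    [IsRegularLocalRing (X.presheaf.stalk x)] {d : ℕ}
    (hd : (IsLocalRing.maximalIdeal (X.presheaf.stalk x)).spanFinrank = d) :
    ∃ (V : X.Opens) (hV : IsAffineOpen V) (hxV : x ∈ V) (b : Fin d → Γ(X, V)),
      Ideal.span (Set.range b) = (hV.primeIdealOf ⟨x, hxV⟩).asIdeal ∧
        RingTheory.Sequence.IsWeaklyRegular Γ(X, V) (List.ofFn b) := by
  obtain ⟨W, hW, hxW, -⟩ := exists_isAffineOpen_mem_and_subset (x := x) (U := (⊤ : X.Opens)) trivial
  haveI : IsNoetherianRing Γ(X, W) := IsLocallyNoetherian.component_noetherian ⟨W, hW⟩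
  let P := hW.primeIdealOf ⟨x, hxW⟩
  let R := Localization.AtPrime P.asIdeal
  letI := X.presheaf.algebra_section_stalk ⟨x, hxW⟩
  haveI := hW.isLocalization_stalk ⟨x, hxW⟩
  let e : X.presheaf.stalk x ≃ₐ[Γ(X, W)] R := IsLocalization.algEquiv P.asIdeal.primeCompl _ _
  haveI : IsRegularLocalRing R := IsRegularLocalRing.of_ringEquiv e.toRingEquiv
  have hrank : (IsLocalRing.maximalIdeal R).spanFinrank = d := by
    have h1 := IsRegularLocalRing.spanFinrank_maximalIdeal (R := R)
    rw [← ringKrullDim_eq_of_ringEquiv e.toRingEquiv, ← IsRegularLocalRing.spanFinrank_maximalIdeal, hd] at h1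
    exact_mod_cast h1
  obtain ⟨f, hf⟩ := RegLoc.exists_generators_fin (IsLocalRing.maximalIdeal R)
  revert f
  rw [hrank]
  intro f hf
  choose as hs using fun i => IsLocalization.surj P.asIdeal.primeCompl (f i)
  let b : Fin d → Γ(X, W) := fun i => (as i).1
  have hspan : Ideal.span (Set.range fun i => algebraMap Γ(X, W) R (b i)) = IsLocalRing.maximalIdeal R := by
    rw [← hf]
    apply le_antisymm <;> rw [Ideal.span_le] <;> rintro _ ⟨i, rfl⟩
    · show algebraMap _ R (as i).1 ∈ _
      rw [← hs i]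
      exact Ideal.mul_mem_right _ _ (Ideal.subset_span ⟨i, rfl⟩)
    · obtain ⟨w, hw⟩ := IsLocalization.map_units R (as i).2
      have hw' : f i = algebraMap _ R (as i).1 * (↑w⁻¹ : R) := by
        rw [← hs i, ← hw, _root_.mul_assoc, Units.mul_inv, _root_.mul_one]
      rw [SetLike.mem_coe, hw']
      exact Ideal.mul_mem_right _ _ (Ideal.subset_span ⟨i, rfl⟩)
  obtain ⟨s₁, hs₁, h₁⟩ := RegSeqLoc.exists_away_eq P.asIdeal.primeCompl R (Ideal.span (Set.range b)) P.asIdeal (by
    rw [Ideal.map_span, ← Set.range_comp]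
    exact hspan.trans (IsLocalization.AtPrime.map_eq_maximalIdeal P.asIdeal R).symm)
  obtain ⟨s₂, hs₂, h₂⟩ := RegSeqLoc.exists_away_isWeaklyRegular P.asIdeal.primeCompl R (List.ofFn b) (by
    rw [List.map_ofFn]
    have h := RegLoc.isWeaklyRegular_ofFn d R hrank (fun i => algebraMap Γ(X, W) R (b i)) hspan
    exact h)
  let s := s₁ * s₂
  have hs : s ∉ P.asIdeal := P.asIdeal.primeCompl.mul_mem hs₁ hs₂
  let V := X.basicOpen s
  let ρ := X.presheaf.map (homOfLE (X.basicOpen_le s)).op
  letI : Algebra Γ(X, W) Γ(X, V) := ρ.hom.toAlgebra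
  haveI : IsLocalization.Away s Γ(X, V) := hW.isLocalization_basicOpen s
  have hu := IsLocalization.Away.algebraMap_isUnit (S := Γ(X, V)) s
  have hu1 : IsUnit (algebraMap Γ(X, W) Γ(X, V) s₁) := by
    rw [map_mul] at hu; exact isUnit_of_mul_isUnit_left hu
  have hu2 : IsUnit (algebraMap Γ(X, W) Γ(X, V) s₂) := by
    rw [map_mul] at hu; exact isUnit_of_mul_isUnit_right hu
  have hV : IsAffineOpen V := hW.basicOpen s
  have hxV : x ∈ V := (BCCrit.notMem_primeIdealOf hW hxW s).1 hs
  refine ⟨V, hV, hxV, fun i => algebraMap Γ(X, W) Γ(X, V) (b i), ?_, ?_⟩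
  · have hcomap : (hV.primeIdealOf ⟨x, hxV⟩).comap (algebraMap Γ(X, W) Γ(X, V)) = P := by
      apply hW.fromSpec.isOpenEmbedding.injective
      rw [hW.fromSpec_primeIdealOf]
      show hW.fromSpec (Spec.map ρ (hV.primeIdealOf ⟨x, hxV⟩)) = x
      rw [← Scheme.Hom.comp_apply, hW.map_fromSpec hV (homOfLE (X.basicOpen_le s)).op, hV.fromSpec_primeIdealOf]
    have h3 := h₁ Γ(X, V) hu1
    rw [Ideal.map_span, ← Set.range_comp] at h3
    refine h3.trans ?_
    rw [← congrArg PrimeSpectrum.asIdeal hcomap]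
    exact IsLocalization.map_comap (Submonoid.powers s) Γ(X, V) (hV.primeIdealOf ⟨x, hxV⟩).asIdeal
  · have := h₂ (Submonoid.powers s) Γ(X, V) hu2
    rw [List.map_ofFn] at this
    exact this

variable {k : Type u} [Field k] {A At : Over (Spec (CommRingCat.of k))} [GrpObj At]

/-- A family over the identity lies in the slice. -/
theorem factor_slice {Z : Scheme.{u}} (g : Z ⟶ (A ⊗ At).left)
    (h : g ≫ (snd A At).left = (g ≫ (snd A At).left ≫ At.hom) ≫ η[At].left) :
    g = (g ≫ (fst A At).left) ≫ (lift (𝟙 A) (1 : A ⟶ At)).left := by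
  apply pullback.hom_ext
  · show g ≫ (fst A At).left = ((g ≫ (fst A At).left) ≫ _) ≫ (fst A At).left
    rw [Category.assoc, Category.assoc, ← Over.comp_left, lift_fst, Over.id_left]
    exact congrArg _ (Category.comp_id _).symm
  · show g ≫ (snd A At).left = ((g ≫ (fst A At).left) ≫ _) ≫ (snd A At).left
    rw [h, Category.assoc (g ≫ _), ← Over.comp_left, lift_snd, Hom.one_def, Over.comp_left]
    simp only [Category.assoc]
    show _ = g ≫ (fst A At).left ≫ A.hom ≫ η[At].left
    rw [← Category.assoc (fst A At).left, Over.w (fst A At), ← Over.w (snd A At), Category.assoc]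

variable [GrpObj A] [IsProper A.hom] [GeometricallyIntegral A.hom] [Smooth A.hom]
  [IsProper At.hom] [GeometricallyIntegral At.hom] [Smooth At.hom]
  {φ : ∀ T : Over (Spec (CommRingCat.of k)), PicF.Cl (PicF.XT A.hom T) → (T ⟶ At)}
  (hφ : AbDual.IsDualAV Scheme.fppfPrecoverage A At φ)

include hφ

/-- **Mumford's theorem on the cohomology of the Poincaré bundle.** -/
theorem exists_main {g : ℕ} (hg : topologicalKrullDim A.left = g) {P : (A ⊗ At).left.Modules}
    {x : Pic (A ⊗ At).left} (hP : HasCls P x) (hξ : AbDual.IsPoincareCl A At φ (PicF.cl P))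
    [HasInjectiveResolutions (A ⊗ At).left.Modules] :
    (∀ q : ℕ, q ≠ g → IsZero ((Coh.Rpush (snd A At).left q).obj P)) ∧
      Nonempty ((Coh.Rpush (snd A At).left g).obj P ≅
        (Coh.push η[At].left).obj (Coh.structureModule (Spec (CommRingCat.of k)))) ∧
      ∀ n : ℕ, CohIII.fiberRank (snd A At).left P n (η[At].left (IsLocalRing.closedPoint k)) =
        if n ≤ g then g.choose (g - n) else 0 := by
  obtain ⟨hPi, -⟩ := id hP
  let p := (snd A At).left
  let e₀ := η[At].left (IsLocalRing.closedPoint k)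
  haveI : IsProper p := inferInstanceAs (IsProper (pullback.snd A.hom At.hom))
  haveI : Flat p := inferInstanceAs (Flat (pullback.snd A.hom At.hom))
  haveI : GeometricallyIntegral p := inferInstanceAs (GeometricallyIntegral (pullback.snd A.hom At.hom))
  haveI : LocallyOfFinitePresentation p := inferInstanceAs (LocallyOfFinitePresentation (pullback.snd A.hom At.hom))
  haveI : IsLocallyNoetherian At.left := LocallyOfFiniteType.isLocallyNoetherian At.hom
  haveI : JacobsonSpace At.left := LocallyOfFiniteType.jacobsonSpace At.hom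
  haveI : IsClosedImmersion η[At].left := isClosedImmersion_of_comp_eq_id At.hom η[At].left (Over.w η[At])
  have he₀ : IsClosed ({e₀} : Set At.left) := by
    rw [show ({e₀} : Set At.left) = η[At].left '' {IsLocalRing.closedPoint k} from Set.image_singleton.symm]
    exact η[At].left.isClosedEmbedding.isClosedMap _ (isClosed_singleton (x := IsLocalRing.closedPoint k))
  haveI : IsLocallyNoetherian (A ⊗ At).left := LocallyOfFiniteType.isLocallyNoetherian p
  haveI : P.IsQuasicoherent := InvExt.isQuasicoherent_of_isInvertible hPi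
  haveI : Coh.IsQCoh P := ‹P.IsQuasicoherent›
  have hPc : Coh.IsCoh P := Euler.isCoh_of_isInvertible hPi
  have hfl : FlatMod.IsFlatOver p P := Seesaw26.isFlatOver_of_isInvertible _ hPi
  have hfp : CohB1.IsFP P := LocFree8.isFP_of_isFinLocFree _ (Euler.isFinLocFree_of_isInvertible hPi)
  -- the dimension of the fibres
  have hdimf : ∀ y : At.left, topologicalKrullDim ↥(p.fiber y) = g := fun y => by
    have H : IsPullback (p.fiberι y ≫ (fst A At).left) (p.fiberToSpecResidueField y) A.hom
        (At.left.fromSpecResidueField y ≫ At.hom) :=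
      (IsPullback.of_hasPullback p (At.left.fromSpecResidueField y)).paste_horiz
        (IsPullback.of_hasPullback A.hom At.hom)
    exact (CurveLocus.topologicalKrullDim_of_isPullback A.hom H).trans hg
  -- the dimension of the dual
  haveI : IsRegularLocalRing (At.left.presheaf.stalk e₀) :=
    GrpSchField.isRegularLocalRing_stalk_of_smooth At.hom he₀
  obtain ⟨g', hg'⟩ : ∃ g', (IsLocalRing.maximalIdeal (At.left.presheaf.stalk e₀)).spanFinrank = g' := ⟨_, rfl⟩
  have hdim' : (ringKrullDim (At.left.presheaf.stalk e₀)) = (g' : WithBot ℕ∞) := by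
    rw [← IsRegularLocalRing.spanFinrank_maximalIdeal, hg']
  have hgg' : g ≤ g' := by
    have := Dual.dim_le_dual hφ hg
    rw [show ringKrullDim _ = (g' : WithBot ℕ∞) from hdim'] at this
    exact_mod_cast this
  obtain ⟨V, hV, heV, b, hb, hbreg⟩ := exists_chart e₀ he₀ hg'
  let R₀ := Γ(At.left, V)
  haveI : IsNoetherianRing R₀ := IsLocallyNoetherian.component_noetherian ⟨V, hV⟩
  haveI : IsAffine V.toScheme := hV
  haveI : JacobsonSpace (Spec Γ(At.left, V)) := JacobsonSpace.of_isOpenEmbedding hV.fromSpec.isOpenEmbedding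
  haveI : IsJacobsonRing R₀ := PrimeSpectrum.isJacobsonRing_iff_jacobsonSpace.2 ‹_›
  haveI : IsProper (BCCoh.affBase p hV) := inferInstance
  obtain ⟨m⟩ := BCCoh.nonempty_model (BCCoh.affBase p hV) (P.restrict (p ⁻¹ᵁ V).ι) (Cohom.isCoh_restrict P hPc _)
    (BCCoh.isFlatOver_affBase p hV P hfl)
  haveI := m.flatL
  haveI := fun i => (m.finFree i).1
  let Q := hV.primeIdealOf ⟨e₀, heV⟩
  have hQe : hV.fromSpec Q = e₀ := hV.fromSpec_primeIdealOf _
  haveI hQmax : Q.asIdeal.IsMaximal := by
    refine (PrimeSpectrum.isClosed_singleton_iff_isMaximal Q).1 ?_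
    show IsClosed ({Q} : Set (Spec Γ(At.left, V)))
    rw [show ({Q} : Set (Spec Γ(At.left, V))) = hV.fromSpec ⁻¹' {e₀} from ?_]
    · exact he₀.preimage hV.fromSpec.continuous
    refine Set.ext fun w => ⟨fun hw => ?_, fun hw => hV.fromSpec.isOpenEmbedding.injective ?_⟩
    · rw [Set.mem_singleton_iff] at hw; rw [hw]; exact hQe
    · exact (show hV.fromSpec w = e₀ from hw).trans hQe.symm
  have hvan : ∀ y : At.left, y ≠ e₀ → ∀ n, Subsingleton (CohIII.fiberH p P y n) := fun y hy n =>
    Dual.subsingleton_fiberH hφ hP hξ y hy n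
  have hL : PointCx.IsPoint m.L Q.asIdeal :=
    { fin := fun i => (m.finFree i).1
      neg := fun i hi N => m.isZero_T_neg hi N
      dr := fun q hq i hne => by
        rw [m.dRank_eq_fiberRank p hV P i ⟨q, hq.isPrime⟩]
        refine BCCoh.fiberRank_eq_zero_of_subsingleton p P i _ (hvan _ (fun h => hne ?_) i)
        exact congrArg PrimeSpectrum.asIdeal (hV.fromSpec.isOpenEmbedding.injective (h.trans hQe.symm)) }
  have htop : ∀ i : ℕ, g < i → ∀ N : ModuleCat.{u} R₀, IsZero ((CohIII.TFun m.L (i : ℤ)).obj N) :=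
    fun i hi N => BCCoh.isZero_T_of_dRank_zero m.L (i : ℤ) (fun q _ => by
      rw [m.dRank_eq_fiberRank p hV P i q]
      exact BCCrit.fiberRank_eq_zero_of_dim_lt _ g i (hdimf _).le hi) N
  -- the class is trivial on the slice at the origin
  have hbir := Dual.isBirigid_of_isPoincareCl hφ hP hξ
  have hslice : ∀ {Z : Scheme.{u}} (j : Z ⟶ (A ⊗ At).left),
      j ≫ p = (j ≫ p ≫ At.hom) ≫ η[At].left → pull j x = 1 := fun j hj => by
    rw [factor_slice j hj, ← pull_comp, hbir.2, map_one]
  have hq1 : CohIII.dRank m.L ((0 : ℕ) : ℤ) ⟨Q.asIdeal, hQmax.isPrime⟩ = 1 := by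
    rw [m.dRank_eq_fiberRank p hV P 0 ⟨Q.asIdeal, hQmax.isPrime⟩, show hV.fromSpec ⟨Q.asIdeal, _⟩ = e₀ from hQe]
    refine Seesaw26.fiberRank_eq_one p P e₀ (Seesaw26.h0_of_geometricallyIntegral p e₀)
      ((hP.pullback (p.fiberι e₀)).iso (hasCls_structureModule _) ?_)
    refine hslice (p.fiberι e₀) ?_
    rw [← Category.assoc (p.fiberι e₀) p, Scheme.Hom.fiber_fac, Category.assoc, Category.assoc,
      Dual.fromSpecResidueField_unit]
  obtain ⟨J, n, hnJ, hJQ, ⟨e⟩⟩ := PointCx.exists_cyclic hL hq1
  -- the section at the origin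
  let e' : Spec (CommRingCat.of k) ⟶ At.left := η[At].left
  have hpt : ∀ w : Spec (CommRingCat.of k), e' w ∈ V := fun w => by
    obtain rfl : w = IsLocalRing.closedPoint k := Subsingleton.elim (α := PrimeSpectrum k) _ _
    exact heV
  let ev : R₀ →+* Γ(Spec (CommRingCat.of k), ⊤) := (e'.appLE V ⊤ (fun w _ => hpt w)).hom
  have hev : ∀ a ∈ Q.asIdeal, ev a = 0 := fun a ha => by
    haveI : IsField Γ(Spec (CommRingCat.of k), ⊤) :=
      MulEquiv.isField (Field.toIsField k) (Scheme.ΓSpecIso (CommRingCat.of k)).commRingCatIsoToRingEquiv.toMulEquiv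
    by_contra h0
    obtain ⟨u, hu⟩ := ‹IsField Γ(Spec (CommRingCat.of k), ⊤)›.mul_inv_cancel h0
    have h1 : IsLocalRing.closedPoint k ∈ (Spec (CommRingCat.of k)).basicOpen (ev a) := by
      rw [Scheme.basicOpen_of_isUnit _ (IsUnit.of_mul_eq_one u hu)]; trivial
    rw [show ev a = e'.appLE V ⊤ _ a from rfl, Scheme.basicOpen_appLE] at h1
    exact (BCCrit.notMem_primeIdealOf hV heV a).2 h1.2 ha
  -- the deformation is trivial
  have hJ : J = Q.asIdeal := by
    refine le_antisymm hJQ fun a ha => ?_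
    let B := R₀ ⧸ J
    let T := Spec (CommRingCat.of B)
    let u : T ⟶ At.left := Spec.map (CommRingCat.ofHom (Ideal.Quotient.mk J)) ≫ hV.fromSpec
    have eW : (⊤ : T.Opens) ≤ u ⁻¹ᵁ V := fun w _ => BCCoh.fromSpec_mem hV _
    let ψ : R₀ →+* Γ(T, ⊤) := (u.appLE V ⊤ eW).hom
    let χ : B →+* Γ(T, ⊤) := (Scheme.ΓSpecIso (CommRingCat.of B)).inv.hom
    have hψ : ψ = χ.comp (Ideal.Quotient.mk J) := by
      have key : ∀ (v : T ⟶ At.left) (e' : (⊤ : T.Opens) ≤ v ⁻¹ᵁ V),
          v = Spec.map (CommRingCat.ofHom (Ideal.Quotient.mk J)) ≫ hV.fromSpec →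
          v.appLE V ⊤ e' = CommRingCat.ofHom (Ideal.Quotient.mk J) ≫ (Scheme.ΓSpecIso (CommRingCat.of B)).inv := by
        rintro v e' rfl
        rw [← Scheme.Hom.appLE_comp_appLE _ hV.fromSpec V ⊤ ⊤ (fun w _ => BCCoh.fromSpec_mem hV w) le_top]
        have h1 : ∀ h0, hV.fromSpec.appLE V ⊤ h0 = (Scheme.ΓSpecIso Γ(At.left, V)).inv := fun h0 => by
          rw [Scheme.Hom.appLE, IsAffineOpen.fromSpec_app_self, Category.assoc, ← Functor.map_comp]
          exact (congrArg (_ ≫ ·) ((Spec Γ(At.left, V)).presheaf.map_id _)).trans (Category.comp_id _)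
        rw [h1, Scheme.ΓSpecIso_inv_naturality]
        congr 1
      exact congrArg CommRingCat.Hom.hom (key u eW rfl)
    have hu : ∀ t : T, u t = e₀ := fun t => by
      rw [← hQe]
      refine congrArg hV.fromSpec (PrimeSpectrum.ext (PointCx.eq_of_pow_le
        (PrimeSpectrum.comap (Ideal.Quotient.mk J) t).isPrime (hnJ.trans fun c hc => ?_)))
      show Ideal.Quotient.mk J c ∈ t.asIdeal
      rw [Ideal.Quotient.eq_zero_iff_mem.2 hc]; exact zero_mem _
    let f' := pullback.snd p u
    let g₀ := pullback.fst p u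
    let P' := (Scheme.Modules.pullback g₀).obj P
    have hP'i : PicF.IsInvertible P' := Ample.isInvertible_pullback g₀ hPi
    haveI : P'.IsQuasicoherent := InvExt.isQuasicoherent_of_isInvertible hP'i
    haveI : Coh.IsQCoh P' := ‹P'.IsQuasicoherent›
    have hgood : ∀ t : T, BCCrit.GoodAll f' P' ((0 : ℕ) : ℤ) t := fun t =>
      ((BCCrit.pt_affine_iff 1 hfp hfl m u (isAffineOpen_top T) eW (t := t) trivial).2 (by
        rw [show (u.appLE V ⊤ eW).hom = _ from hψ]
        exact ⟨PointCx.good_quotient m.finFree hnJ hJQ e χ _,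
          (PointCx.dRank_quotient hnJ _ χ _).trans hq1⟩)).1
    have hFP : CohB1.IsFP P' := LocFree8.isFP_of_isFinLocFree _ (Euler.isFinLocFree_of_isInvertible hP'i)
    obtain ⟨N, hN, ⟨i⟩⟩ := Seesaw26.exists_base_of_good f' (Seesaw26.h0_of_geometricallyIntegral f') P' hP'i
      (fun t => ((hP.pullback g₀).pullback (f'.fiberι t)).iso (hasCls_structureModule _) (by
        rw [pull_comp]
        refine hslice _ ?_
        let q := T.fromSpecResidueField t ≫ u
        have hq : q = (q ≫ At.hom) ≫ η[At].left := by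
          have := Dual.eq_one_of_apply_eq (At := At) (q ≫ At.hom)
            (Over.homMk q rfl : Over.mk (q ≫ At.hom) ⟶ At) (by
              show u (T.fromSpecResidueField t _) = e₀
              exact hu _)
          have h2 := congrArg CategoryTheory.Over.Hom.left this
          rw [Hom.one_def, Over.comp_left] at h2
          exact h2
        have hw : (f'.fiberι t ≫ g₀) ≫ p = f'.fiberToSpecResidueField t ≫ q := by
          show (f'.fiberι t ≫ pullback.fst p u) ≫ p = _
          rw [Category.assoc, pullback.condition, ← Category.assoc]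
          erw [Scheme.Hom.fiber_fac]
          rw [Category.assoc]
        rw [← Category.assoc _ p, hw]
        conv_lhs => rw [hq]
        simp only [Category.assoc]))
      (fun t => (BCCrit.goodAll_iff_epi0 hFP (Seesaw26.isFlatOver_of_isInvertible f' hP'i) t).1 (hgood t))
    let To : Over (Spec (CommRingCat.of k)) := Over.mk (u ≫ At.hom)
    let s : To ⟶ At := Over.homMk u rfl
    let j : (A ⊗ To).left ⟶ pullback p u := pullback.lift (A ◁ s).left (snd A To).left
      (congrArg CategoryTheory.Over.Hom.left (whiskerLeft_snd A s))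
    have hcl := congrArg (pull j) (((hasCls_clsMod hN).pullback f').eq (hP.pullback g₀) ⟨i⟩)
    rw [pull_comp, pull_comp, show j ≫ g₀ = (A ◁ s).left from pullback.lift_fst _ _ _,
      show j ≫ f' = (snd A To).left from pullback.lift_snd _ _ _] at hcl
    have hz : Dual.PZ A At x := (Dual.pz_iff hP).1 hξ.1
    have hd : Dual.dphi φ At x = 𝟙 At := (Dual.dphi_eq hP).symm.trans hξ.2.1
    have hs1 : s = 1 := by
      have h1 := Dual.dphi_pull hφ hz s
      exact (Category.comp_id s).symm.trans ((congrArg (s ≫ ·) hd.symm).trans (h1.symm.trans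
        ((congrArg (Dual.dphi φ To) hcl.symm).trans (Dual.dphi_base hφ (T := To) (clsMod hN)))))
    have hu1 : u = (u ≫ At.hom) ≫ η[At].left := by
      have h2 := congrArg CategoryTheory.Over.Hom.left hs1
      rw [Hom.one_def, Over.comp_left] at h2
      exact h2
    have h0 : ψ a = 0 := by
      have key : ∀ (v : T ⟶ At.left) (ev' : (⊤ : T.Opens) ≤ v ⁻¹ᵁ V), v = u → v.appLE V ⊤ ev' a = ψ a := by
        rintro v ev' rfl; rfl
      rw [← key ((u ≫ At.hom) ≫ η[At].left) (fun w _ => by
        exact hpt ((u ≫ At.hom) w)) hu1.symm,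
        ← Scheme.Hom.appLE_comp_appLE (u ≫ At.hom) e' V ⊤ ⊤ (fun w _ => hpt w) le_top]
      show ((u ≫ At.hom).appLE ⊤ ⊤ _) (ev a) = 0
      rw [hev a ha, map_zero]
    rw [hψ] at h0
    have hinj : Function.Injective χ := (ConcreteCategory.bijective_of_isIso (Scheme.ΓSpecIso (CommRingCat.of B)).inv).1
    exact Ideal.Quotient.eq_zero_iff_mem.1 (hinj (h0.trans (map_zero χ).symm))
  subst hJ
  have hkill0 : ∀ (N : ModuleCat.{u} R₀) (y : (CohIII.TFun m.L 0).obj N), ∀ r ∈ Q.asIdeal, r • y = 0 := by
    intro N y r hr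
    let E : (CohIII.TFun m.L 0).obj N ≃ₗ[R₀] (R₀ ⧸ Q.asIdeal →ₗ[R₀] N) :=
      (e.app N).toLinearEquiv ≪≫ₗ ModuleCat.homLinearEquiv (S := R₀)
    refine E.injective ?_
    rw [map_smul, map_zero]
    refine Submodule.linearMap_qext _ (LinearMap.ext_ring ?_)
    show r • E y (Submodule.Quotient.mk 1) = 0
    rw [← map_smul, ← Submodule.Quotient.mk_smul, smul_eq_mul, mul_one,
      (Submodule.Quotient.mk_eq_zero _).2 hr, map_zero]
  have hone : Nonempty ((CohIII.TFun m.L 0).obj (ModuleCat.of R₀ (R₀ ⧸ Q.asIdeal)) ≃ₗ[R₀] R₀ ⧸ Q.asIdeal) := by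
    let E : (CohIII.TFun m.L 0).obj (ModuleCat.of R₀ (R₀ ⧸ Q.asIdeal)) ≃ₗ[R₀]
        (R₀ ⧸ Q.asIdeal →ₗ[R₀] R₀ ⧸ Q.asIdeal) :=
      (e.app _).toLinearEquiv ≪≫ₗ ModuleCat.homLinearEquiv (S := R₀)
    let ev1 : (R₀ ⧸ Q.asIdeal →ₗ[R₀] R₀ ⧸ Q.asIdeal) →ₗ[R₀] R₀ ⧸ Q.asIdeal := LinearMap.applyₗ (Submodule.Quotient.mk 1)
    refine ⟨E ≪≫ₗ LinearEquiv.ofBijective ev1 ⟨fun f f' h => Submodule.linearMap_qext _ (LinearMap.ext_ring h),
      fun c => ?_⟩⟩
    obtain ⟨c, rfl⟩ := Submodule.Quotient.mk_surjective _ c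
    refine ⟨c • LinearMap.id, ?_⟩
    show c • (Submodule.Quotient.mk 1 : R₀ ⧸ Q.asIdeal) = _
    rw [← Submodule.Quotient.mk_smul, smul_eq_mul, mul_one]
  obtain rfl : g = g' := le_antisymm hgg' (PointCx.le_amplitude hL b hb hbreg hone htop)
  -- the higher direct images
  have hstalk : ∀ (q : ℕ), Subsingleton Γ((Coh.Rpush p q).obj P, V) →
      Subsingleton (((Coh.Rpush p q).obj P).presheaf.stalk e₀) := fun q hq => by
    let R' := (Coh.Rpush p q).obj P
    haveI : R'.IsQuasicoherent := Cohom.isQuasicoherent_Rpush p P q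
    letI := At.left.presheaf.algebra_section_stalk ⟨e₀, heV⟩
    letI : Module Γ(At.left, V) (R'.presheaf.stalk e₀) := Module.compHom _ (At.left.presheaf.germ V e₀ heV).hom
    obtain ⟨ν, hν, -⟩ := FlatFP.isLocalizedModule_germ R' hV heV
    haveI := hν
    refine subsingleton_of_forall_eq 0 fun s => ?_
    obtain ⟨⟨s', w⟩, hs'⟩ := IsLocalizedModule.surj (WeakAss.primeAt e₀ heV).primeCompl ν s
    have hw : (w : Γ(At.left, V)) • s = 0 := by
      refine (hs'.trans ?_ : _)
      rw [Subsingleton.elim (show Γ((Coh.Rpush p q).obj P, V) from s') 0]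
      exact map_zero ν
    exact ((Module.End.isUnit_iff _).1 (IsLocalizedModule.map_units ν w)).1 (hw.trans (map_zero _).symm)
  let U : At.left.Opens := ⟨{e₀}ᶜ, he₀.isOpen_compl⟩
  have hzero : ∀ q : ℕ, q ≠ g → IsZero ((Coh.Rpush p q).obj P) := fun q hq => by
    refine OX.isZero_of_subsingleton_stalks _ fun w => ?_
    by_cases hw : w = e₀
    · subst hw
      refine hstalk q ?_
      obtain ⟨eT⟩ := m.nonempty_T_equiv_Rpush p hV P q
      haveI : Subsingleton (CohIII.T m.L (q : ℤ) (ModuleCat.of R₀ R₀)) := by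
        rcases lt_or_gt_of_ne hq with h | h
        · exact ModuleCat.subsingleton_of_isZero
            (PointCx.isZero_T_of_lt hL (PointCx.mem_of_mem_ofFn b hb) hbreg (i := (q : ℤ)) (by simpa using h))
        · exact ModuleCat.subsingleton_of_isZero (htop q h (ModuleCat.of R₀ R₀))
      exact eT.symm.toEquiv.subsingleton
    · exact not_not.1 (RpushSupport.notMem_support p P hPc hfl q U (fun y hy _ => hvan y hy q) (show w ∈ U from hw))
  refine ⟨hzero, ?_, fun i => ?_⟩
  · -- the top direct image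
    let R' := (Coh.Rpush p g).obj P
    haveI : R'.IsQuasicoherent := Cohom.isQuasicoherent_Rpush p P g
    obtain ⟨eT⟩ := m.nonempty_T_equiv_Rpush p hV P g
    obtain ⟨eE⟩ := PointCx.nonempty_top hL hone hkill0 hb hbreg
    let E : Γ(R', V) ≃ₗ[R₀] R₀ ⧸ Q.asIdeal := eT.symm ≪≫ₗ eE
    have hkill : ClSub.KilledByIdeal η[At].left.ker R' := by
      intro W c hc z
      rw [Scheme.Hom.ker_apply, RingHom.mem_ker] at hc
      refine TopCat.Presheaf.section_ext (C := Ab.{u}) (X := At.left.carrier) ⟨R'.presheaf, R'.isSheaf⟩ W.1 _ _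
        fun w hw => ?_
      by_cases hwe : w = e₀
      swap
      · haveI : Subsingleton (R'.presheaf.stalk w) :=
          not_not.1 (RpushSupport.notMem_support p P hPc hfl g U (fun y hy _ => hvan y hy g) (show w ∈ U from hwe))
        exact Subsingleton.elim _ _
      subst hwe
      refine Eq.trans ?_ (map_zero (R'.presheaf.germ W.1 e₀ hw).hom).symm
      refine (WeakAss.germ_smul hw c z).trans ?_
      letI := At.left.presheaf.algebra_section_stalk ⟨e₀, heV⟩
      haveI := hV.isLocalization_stalk ⟨e₀, heV⟩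
      letI : Module Γ(At.left, V) (R'.presheaf.stalk e₀) := Module.compHom _ (At.left.presheaf.germ V e₀ heV).hom
      obtain ⟨ν, hν, -⟩ := FlatFP.isLocalizedModule_germ R' hV heV
      haveI := hν
      have hkillQ : ∀ c' ∈ Q.asIdeal, ∀ s : R'.presheaf.stalk e₀, c' • s = 0 := fun c' hc' s => by
        obtain ⟨⟨s', w⟩, hs'⟩ := IsLocalizedModule.surj (WeakAss.primeAt e₀ heV).primeCompl ν s
        refine ((Module.End.isUnit_iff _).1 (IsLocalizedModule.map_units ν w)).1 ?_
        refine (smul_comm (w : Γ(At.left, V)) c' s).trans (Eq.trans ?_ (map_zero _).symm)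
        rw [show (w : Γ(At.left, V)) • s = ν s' from hs', ← map_smul]
        have h0 : c' • s' = (0 : Γ(R', V)) := E.injective (by
          rw [map_smul, map_zero]
          obtain ⟨r, hr⟩ := Submodule.Quotient.mk_surjective _ (E s')
          rw [← hr, ← Submodule.Quotient.mk_smul, Submodule.Quotient.mk_eq_zero]
          exact Q.asIdeal.mul_mem_right r hc')
        exact (congrArg ν h0).trans (map_zero ν)
      obtain ⟨c', t, ht⟩ := IsLocalization.exists_mk'_eq Q.asIdeal.primeCompl (At.left.presheaf.germ W.1 e₀ hw c)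
      have hspec : algebraMap Γ(At.left, V) (At.left.presheaf.stalk e₀) c' =
          algebraMap Γ(At.left, V) (At.left.presheaf.stalk e₀) t * At.left.presheaf.germ W.1 e₀ hw c := by
        rw [← ht, IsLocalization.mk'_spec']
      have hmax : At.left.presheaf.germ W.1 e₀ hw c ∈ IsLocalRing.maximalIdeal (At.left.presheaf.stalk e₀) := by
        rw [IsLocalRing.mem_maximalIdeal, mem_nonunits_iff, ← Scheme.mem_basicOpen _ c e₀ hw]
        intro h
        have h1 : IsLocalRing.closedPoint k ∈ η[At].left ⁻¹ᵁ At.left.basicOpen c := h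
        rw [Scheme.preimage_basicOpen, hc, Scheme.basicOpen_zero] at h1
        exact h1
      have hc' : c' ∈ Q.asIdeal := by
        refine (IsLocalization.AtPrime.to_map_mem_maximal_iff (At.left.presheaf.stalk e₀) Q.asIdeal c').1 ?_
        rw [hspec]
        exact Ideal.mul_mem_left _ _ hmax
      refine ((Module.End.isUnit_iff _).1 (IsLocalizedModule.map_units ν (⟨t.1, fun h =>
        (IsLocalRing.mem_maximalIdeal _).1 h (IsLocalization.map_units (At.left.presheaf.stalk e₀) t)⟩ :
          (WeakAss.primeAt e₀ heV).primeCompl))).1 ?_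
      refine Eq.trans ?_ (map_zero _).symm
      show At.left.presheaf.germ V e₀ heV t.1 • (At.left.presheaf.germ W.1 e₀ hw c • R'.presheaf.germ W.1 e₀ hw z) = 0
      rw [smul_smul]
      exact (congrArg (fun r => r • R'.presheaf.germ W.1 e₀ hw z) hspec.symm).trans (hkillQ c' hc' _)
    haveI : IsIso ((Scheme.Modules.pullbackPushforwardAdjunction e').unit.app R') :=
      QCoh.isIso_unit_of_killed η[At].left R' hkill
    let η' := (Scheme.Modules.pullbackPushforwardAdjunction e').unit.app R'
    let N := (Scheme.Modules.pullback e').obj R'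
    have htopV : e' ⁻¹ᵁ V = ⊤ := top_le_iff.1 fun w _ => hpt w
    have hbij : Function.Bijective (η'.app V) := ConcreteCategory.bijective_of_isIso (η'.app V)
    let s₀ : Γ(R', V) := E.symm (Submodule.Quotient.mk 1)
    let s : Γ(N, ⊤) := N.presheaf.map (homOfLE htopV.ge).op (η'.app V s₀)
    have hiso : IsIso (FinCov.homOfSection s) := by
      rw [Scheme.Modules.Hom.isIso_iff_isIso_app]
      intro W
      rw [ConcreteCategory.isIso_iff_bijective]
      haveI : Subsingleton ↥(Spec (CommRingCat.of k)) := inferInstanceAs (Subsingleton (PrimeSpectrum k))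
      by_cases hW : IsLocalRing.closedPoint k ∈ W
      swap
      · have hWb : W = ⊥ := le_bot_iff.1 fun w hw =>
          (hW (Subsingleton.elim (α := PrimeSpectrum k) w (IsLocalRing.closedPoint k) ▸ hw)).elim
        subst hWb
        haveI : Subsingleton Γ(Coh.structureModule (Spec (CommRingCat.of k)), (⊥ : (Spec (CommRingCat.of k)).Opens)) :=
          Cohom.subsingleton_sections_bot (Coh.toAb _)
        haveI : Subsingleton Γ(N, (⊥ : (Spec (CommRingCat.of k)).Opens)) := Cohom.subsingleton_sections_bot (Coh.toAb _)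
        exact ⟨fun a b _ => Subsingleton.elim _ _, fun b => ⟨0, Subsingleton.elim _ _⟩⟩
      have hWt : W = ⊤ := top_le_iff.1 fun w _ =>
        Subsingleton.elim (α := PrimeSpectrum k) (IsLocalRing.closedPoint k) w ▸ hW
      subst hWt
      have happ : ∀ c : Γ(Spec (CommRingCat.of k), ⊤),
          (FinCov.homOfSection s).app ⊤ (c : Γ(Coh.structureModule (Spec (CommRingCat.of k)), ⊤)) = c • s := fun c =>
        (congrArg ((FinCov.homOfSection s).app ⊤) (FinCov.smul_one ⊤ c).symm).trans
          ((Scheme.Modules.Hom.app_smul _ c _).trans (congrArg (c • ·) ((FinCov.homOfSection_one s ⊤).trans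
            ((congrArg (fun q => N.presheaf.map q s) (Subsingleton.elim _ (𝟙 _))).trans (by
              rw [CategoryTheory.Functor.map_id]; rfl)))))
      have hres : Function.Bijective (N.presheaf.map (homOfLE htopV.ge).op) := by
        haveI : IsIso (homOfLE htopV.ge) := by
          rw [show homOfLE htopV.ge = eqToHom htopV.symm from Subsingleton.elim _ _]; infer_instance
        exact ConcreteCategory.bijective_of_isIso _
      have hs0 : s ≠ 0 := fun h => by
        have h1 : s₀ = 0 := hbij.1 ((hres.1 (h.trans (map_zero _).symm)).trans (map_zero _).symm)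
        have h2 : (Submodule.Quotient.mk 1 : R₀ ⧸ Q.asIdeal) = 0 := by
          rw [← E.apply_symm_apply (Submodule.Quotient.mk 1)]
          exact (congrArg E h1).trans (map_zero E)
        exact hQmax.ne_top ((Ideal.eq_top_iff_one _).2 ((Submodule.Quotient.mk_eq_zero _).1 h2))
      refine ⟨fun c d hcd => ?_, fun t => ?_⟩
      · have h1 : (show Γ(Spec (CommRingCat.of k), ⊤) from c) • s = (show Γ(Spec (CommRingCat.of k), ⊤) from d) • s :=
          (happ c).symm.trans (hcd.trans (happ d))
        by_contra hne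
        have hF : IsField Γ(Spec (CommRingCat.of k), ⊤) := MulEquiv.isField (Field.toIsField k)
          (Scheme.ΓSpecIso (CommRingCat.of k)).commRingCatIsoToRingEquiv.toMulEquiv
        obtain ⟨v, hv⟩ := hF.mul_inv_cancel (a := (show Γ(Spec (CommRingCat.of k), ⊤) from c) -
          (show Γ(Spec (CommRingCat.of k), ⊤) from d)) (sub_ne_zero.2 hne)
        refine hs0 ?_
        rw [← one_smul Γ(Spec (CommRingCat.of k), ⊤) s, ← hv, _root_.mul_comm, mul_smul, sub_smul, h1, sub_self, smul_zero]
      · obtain ⟨w, hw⟩ := hres.2 t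
        obtain ⟨r, rfl⟩ := hbij.2 w
        obtain ⟨a, ha⟩ := Submodule.Quotient.mk_surjective _ (E r)
        have hr : r = a • s₀ := E.injective (by
          rw [map_smul, E.apply_symm_apply, ← Submodule.Quotient.mk_smul, smul_eq_mul, _root_.mul_one, ha])
        refine ⟨(show Γ(Coh.structureModule (Spec (CommRingCat.of k)), ⊤) from ev a), (happ _).trans ?_⟩
        rw [← hw, hr, Scheme.Modules.Hom.app_smul]
        exact (Scheme.Modules.map_smul N (homOfLE htopV.ge) (e'.app V a) (η'.app V s₀)).symm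
    exact ⟨asIso η' ≪≫ (Scheme.Modules.pushforward e').mapIso (@asIso _ _ _ _ _ hiso).symm⟩
  · -- the fibre ranks
    rw [show η[At].left (IsLocalRing.closedPoint k) = hV.fromSpec Q from hQe.symm,
      ← m.dRank_eq_fiberRank p hV P i Q]
    have h1 := PointCx.length_T_quot m.L (i : ℤ) Q.asIdeal
    rw [PointCx.length_residue hL htop hone hkill0 hb hbreg i] at h1
    exact_mod_cast h1.symm

end GrothLib.Skyscraper
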