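import Groth.Agent.Lib.Poincare.TraceForm

/-!
# Adjoint pairs and positivity of `α'α`
-/

set_option autoImplicit false
set_option linter.all false
set_option backward.isDefEq.respectTransparency false
set_option maxHeartbeats 1000000

universe u

open CategoryTheory CategoryTheory.Limits AlgebraicGeometry Opposite TopologicalSpace
open MonoidalCategory CartesianMonoidalCategory
open GrothLib.Ample GrothLib.Cube
open scoped MonObj

noncomputable section

namespace GrothLib.TraceAdj

open GrothLib.TraceApps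

variable {K : Type u} [Field K] [IsAlgClosed K] {A : Over (Spec (CommRingCat.of K))} [GrpObj A] [IsCommMonObj A]
  [IsProper A.hom] [GeometricallyIntegral A.hom]

/-- `α'α` is the class of an effective divisor. -/
theorem exists_eff {L : A.left.Modules} (hL : CohB1.IsAmple L)
    (α ρ : EndAV.End A) {n : ℕ} (hn : 1 ≤ n) {z : Pic A.left} (hz : HasCls L z)
    (hρ : ∀ a : 𝟙_ (Over (Spec (CommRingCat.of K))) ⟶ A,
      pull (transl (a ≫ ρ.toHom)).left z * pull α.toHom.left (z ^ n) =
        z * pull α.toHom.left (pull (transl a).left (z ^ n)))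
    (hα : α ≠ 0) :
    ∃ (m : ℕ) (M : A.left.Modules) (y : Pic A.left) (s : Coh.structureModule A.left ⟶ M),
      1 ≤ m ∧ HasCls M y ∧ s ≠ 0 ∧ ¬ IsIso s ∧ KL.mc y (𝟙 A) = KL.mc (z ^ m) (ρ * α).toHom := by
  haveI : IsIntegral A.left := GeometricallyIntegral.isIntegral_of_subsingleton A.hom
  haveI : GeometricallyReduced A.hom := inferInstance
  obtain ⟨a, ha⟩ : ∃ a : 𝟙_ (Over (Spec (CommRingCat.of K))) ⟶ A, a ≫ α.toHom ≠ 1 := by
    by_contra h
    simp only [not_exists, not_not] at h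
    refine hα (EndAV.End.ext ?_)
    exact Rigidity.ext_of_points _ _ fun p => (h p).trans (MonObj.comp_one p).symm
  haveI : IsClosedImmersion η[A].left := isClosedImmersion_of_comp_eq_id A.hom η[A].left (Over.w η[A])
  let e₀ := η[A].left (IsLocalRing.closedPoint K)
  have hce : IsClosed ({e₀} : Set A.left) := Rigidity.isClosed_point η[A]
  let b := (a ≫ α.toHom).left (IsLocalRing.closedPoint K)
  have hbe : b ≠ e₀ := fun h => ha (eq_of_ptOf_eq (h.trans (by rw [← MonObj.one_eq_one])))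
  have hLn : CohB1.IsAmple (CohB1.tensorPow L n) := (isAmple_tensorPow_iff hL.1 hn).1 hL
  obtain ⟨N, s₀, hsb, hsO, -⟩ := exists_affine_genLocus_le hLn
    (O := ⟨{e₀}ᶜ, hce.isOpen_compl⟩) (p := b) hbe
  let j := α.toHom.left
  let e := (Ample.nonempty_pullback_structureModule (X := A.left) j).some
  let M := (Scheme.Modules.pullback j).obj (CohB1.tensorPow (CohB1.tensorPow L n) (N + 1))
  let s : Coh.structureModule A.left ⟶ M := e.inv ≫ (Scheme.Modules.pullback j).map s₀
  have hgen : CohB1.genLocus M s = j ⁻¹ᵁ CohB1.genLocus _ s₀ :=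
    genLocus_pullback j _ (isInvertible_tensorPow hLn.1 _) s₀ e.symm
  have hMc : HasCls M (pull j (z ^ n) ^ (N + 1)) := by
    have h := ((hz.tensorPow n).tensorPow (N + 1)).pullback j
    rwa [map_pow] at h
  have hs : s ≠ 0 := ne_zero_of_mem_genLocus hMc.choose s (x := a.left (IsLocalRing.closedPoint K)) (by
    rw [hgen]; exact hsb)
  have hs' : ¬ IsIso s := not_isIso_of_notMem_genLocus s (x := e₀) (by
    rw [hgen]
    intro h
    refine hsO h ?_
    show j e₀ ∈ ({e₀} : Set A.left)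
    rw [Set.mem_singleton_iff]
    show (η[A].left ≫ α.toHom.left) _ = _
    rw [← Over.comp_left, IsMonHom.one_hom])
  refine ⟨N + 1, M, _, s, N.succ_pos, hMc, hs, hs', ?_⟩
  have hpts : ∀ p : 𝟙_ (Over (Spec (CommRingCat.of K))) ⟶ A,
      pull (transl p).left (pull j (z ^ n)) * z = pull j (z ^ n) * pull (transl (p ≫ (ρ * α).toHom)).left z := by
    intro p
    have h := hρ (p ≫ α.toHom)
    have hc : transl p ≫ α.toHom = α.toHom ≫ transl (p ≫ α.toHom) := by
      show (𝟙 A * (toUnit A ≫ p)) ≫ α.toHom = α.toHom ≫ (𝟙 A * (toUnit A ≫ p ≫ α.toHom))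
      rw [MonObj.mul_comp, MonObj.comp_mul, Category.id_comp, Category.comp_id, Category.assoc,
        ← Category.assoc α.toHom (toUnit A), toUnit_unique (α.toHom ≫ toUnit A) (toUnit A)]
    rw [EndAV.End.toHom_mul, ← Category.assoc p, pull_pull_over, hc, ← pull_pull_over, mul_comm, ← h, mul_comm]
  have hmc := mc_eq_of_points (pull j (z ^ n)) z (ρ * α).toHom hpts
  rw [KL.mc, KL.mc, KL.addClass_pow_class, KL.addClass_pow_class, ← KL.mc, ← KL.mc, hmc]

/-- Two adjoint pairs give an adjoint pair. -/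
theorem adjoint_pair (z w : Pic A.left) (α β ρ σ : A ⟶ A) (hρ : KL.mc z ρ = pull (α ▷ A).left (MumfordPoincare.lam w))
    (hσ : KL.mc z σ = pull (β ▷ A).left (MumfordPoincare.lam w)) :
    KL.mc z (α ≫ σ) = pull ((β ≫ ρ) ▷ A).left (MumfordPoincare.lam z) := by
  rw [← KL.pull_mc, hσ, pull_pull_over, ← TraceForm.swap_mc, ← KL.pull_mc, hρ, pull_pull_over, pull_pull_over]
  conv_lhs => rw [← TraceForm.swap_lam w, pull_pull_over]
  congr 3
  apply CartesianMonoidalCategory.hom_ext <;> simp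

end GrothLib.TraceAdj

namespace GrothLib.TraceAdj

variable {K : Type u} [Field K] [IsAlgClosed K] {A : Over (Spec (CommRingCat.of K))} [GrpObj A] [IsCommMonObj A]
  [IsProper A.hom] [GeometricallyIntegral A.hom]

/-- `λ'αλ` corresponds to the pullback. -/
theorem mc_conj (y z : Pic A.left) (c n : ℕ) (al lm ro : A ⟶ A) [IsMonHom lm]
    (hy : KL.mc y (𝟙 A) = KL.mc (z ^ c) al) (hρ : KL.mc z ro = pull (lm ▷ A).left (MumfordPoincare.lam (z ^ n))) :
    KL.mc (pull lm.left (y ^ n)) (𝟙 A) = KL.mc (z ^ c) (lm ≫ al ≫ ro) := by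
  have hpc : ∀ (x : Pic A.left) (f : A ⟶ A) (m : ℕ), KL.mc (x ^ m) f = KL.mc x f ^ m := fun x f m => by
    rw [KL.mc, KL.mc, KL.addClass_pow_class]
  have h1 : KL.mc (pull lm.left (y ^ n)) (𝟙 A) = pull (lm ▷ A).left (pull (A ◁ lm).left (KL.mc (y ^ n) (𝟙 A))) := by
    rw [KL.mc, KL.mc, pull_addClass, pull_addClass, Category.comp_id, whiskerLeft_fst, whiskerRight_fst,
      whiskerLeft_snd, whiskerRight_snd_assoc, addClass, addClass, pull_pull_over, pull_pull_over, pull_pull_over,
      MonObj.mul_comp]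
  have h2 : KL.mc z (lm ≫ al ≫ ro) = pull (A ◁ (lm ≫ al)).left (KL.mc z ro) := by
    rw [KL.pull_mc, Category.assoc]
  rw [h1, hpc, hy, map_pow, map_pow, hpc z (lm ≫ al ≫ ro), h2, hρ, MumfordPoincare.lam, hpc z (𝟙 A), map_pow,
    map_pow, KL.pull_mc, hpc z (lm ≫ al), map_pow, ← pow_mul, ← pow_mul, mul_comm c n]
  congr 1
  rw [pull_pull_over (A ◁ (lm ≫ al)), whisker_exchange, ← pull_pull_over, KL.pull_mc, Category.comp_id]

end GrothLib.TraceAdj
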