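import Groth.Agent.Lib.Poincare.TracePos
import Groth.Agent.Lib.Ample.GenLocusPull
import Groth.Agent.Lib.Ample.Product

/-!
# Applications of the positivity of the trace
-/

set_option autoImplicit false
set_option linter.all false
set_option backward.isDefEq.respectTransparency false
set_option maxHeartbeats 1000000

universe u

open CategoryTheory CategoryTheory.Limits AlgebraicGeometry Opposite TopologicalSpace
open MonoidalCategory CartesianMonoidalCategory
open GrothLib.Ample GrothLib.Cube
open scoped MonObj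

noncomputable section

namespace GrothLib.TraceApps

variable {K : Type u} [Field K] [IsAlgClosed K] {A : Over (Spec (CommRingCat.of K))} [GrpObj A]
  [IsProper A.hom] [GeometricallyIntegral A.hom]

/-- `φ_y = φ_z ∘ g` on points gives the equality of Mumford classes. -/
theorem mc_eq_of_points (y z : Pic A.left) (g : A ⟶ A)
    (h : ∀ a : 𝟙_ (Over (Spec (CommRingCat.of K))) ⟶ A,
      pull (transl a).left y * z = y * pull (transl (a ≫ g)).left z) :
    KL.mc y (𝟙 A) = KL.mc z g := by
  haveI : IsIntegral A.left := GeometricallyIntegral.isIntegral_of_subsingleton A.hom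
  rw [← mul_inv_eq_one]
  refine eq_one_of_dense_slices (normal_abVar A) η[A] _ (dense_closedPoints A) subset_rfl (fun a _ => ?_) ?_
  · rw [map_mul, map_inv, mul_inv_eq_one, KL.mc, KL.mc, pull_addClass, pull_addClass, lift_fst, lift_snd_assoc,
      lift_snd_assoc, Category.comp_id, Category.assoc, addClass, addClass, pull_over_id, pull_over_id,
      pull_toUnit_comp, pull_toUnit_comp, _root_.mul_one, _root_.mul_one, ← div_eq_mul_inv, ← div_eq_mul_inv,
      div_eq_div_iff_mul_eq_mul, h a, mul_comm]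
  · have e : lift (toUnit A ≫ η[A]) (𝟙 A) = lift (1 : A ⟶ A) (𝟙 A) := by rw [Hom.one_def]
    rw [e, map_mul, map_inv, KL.pull_sec_mc, KL.pull_sec_mc, mul_inv_cancel]

/-- A section whose non-vanishing locus contains the image of a point is nonzero. -/
theorem ne_zero_of_mem_genLocus {X : Scheme.{u}} {M : X.Modules} (hM : PicF.IsInvertible M)
    (s : Coh.structureModule X ⟶ M) {x : X} (hx : x ∈ CohB1.genLocus M s) : s ≠ 0 := by
  rintro rfl
  refine Hilb20.support_cokernel_subset (0 : Coh.structureModule X ⟶ M) ?_ hx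
  rw [QCoh.support_eq_of_iso (cokernelZeroIsoTarget : cokernel (0 : Coh.structureModule X ⟶ M) ≅ M)]
  exact Kodaira.mem_support_of_isInvertible hM x

theorem not_isIso_of_notMem_genLocus {X : Scheme.{u}} {M : X.Modules}
    (s : Coh.structureModule X ⟶ M) {x : X} (hx : x ∉ CohB1.genLocus M s) : ¬ IsIso s := fun h =>
  hx (Opens.mem_sSup.2 ⟨⊤, show IsIso ((Scheme.Modules.restrictFunctor (⊤ : X.Opens).ι).map s) from
    Functor.map_isIso _ _, trivial⟩)

variable [IsCommMonObj A]

/-- **The trace of `α'α` is positive.** -/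
theorem trace_rosati_pos {r : ℕ} (hr : topologicalKrullDim A.left = r) {L : A.left.Modules} (hL : CohB1.IsAmple L)
    (α ρ : EndAV.End A) {n : ℕ} (hn : 1 ≤ n) {z : Pic A.left} (hz : HasCls L z)
    (hρ : ∀ a : 𝟙_ (Over (Spec (CommRingCat.of K))) ⟶ A,
      pull (transl (a ≫ ρ.toHom)).left z * pull α.toHom.left (z ^ n) =
        z * pull α.toHom.left (pull (transl a).left (z ^ n)))
    {P : Polynomial ℚ}
    (hP : P.Monic ∧ P.natDegree = 2 * r ∧
      ∀ m : ℤ, (IsFinite (EndAV.End.toHom (ρ * α + (m : EndAV.End A))).left →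
          ∀ a : A.left, (Scheme.Hom.finrank (EndAV.End.toHom (ρ * α + (m : EndAV.End A))).left a : ℚ) = P.eval (m : ℚ)) ∧
        (¬ IsFinite (EndAV.End.toHom (ρ * α + (m : EndAV.End A))).left → P.eval (m : ℚ) = 0))
    (hα : α ≠ 0) : 0 < P.coeff (2 * r - 1) := by
  haveI : IsIntegral A.left := GeometricallyIntegral.isIntegral_of_subsingleton A.hom
  haveI : GeometricallyReduced A.hom := inferInstance
  obtain ⟨a, ha⟩ : ∃ a : 𝟙_ (Over (Spec (CommRingCat.of K))) ⟶ A, a ≫ α.toHom ≠ 1 := by
    by_contra h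
    simp only [not_exists, not_not] at h
    refine hα (EndAV.End.ext ?_)
    exact Rigidity.ext_of_points _ _ fun p => (h p).trans (MonObj.comp_one p).symm
  haveI : IsClosedImmersion η[A].left := isClosedImmersion_of_comp_eq_id A.hom η[A].left (Over.w η[A])
  let e₀ := η[A].left (IsLocalRing.closedPoint K)
  have hce : IsClosed ({e₀} : Set A.left) := Rigidity.isClosed_point η[A]
  let b := (a ≫ α.toHom).left (IsLocalRing.closedPoint K)
  have hbe : b ≠ e₀ := fun h => ha (eq_of_ptOf_eq (h.trans (by rw [← MonObj.one_eq_one])))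
  have hLn : CohB1.IsAmple (CohB1.tensorPow L n) := (isAmple_tensorPow_iff hL.1 hn).1 hL
  obtain ⟨N, s₀, hsb, hsO, -⟩ := exists_affine_genLocus_le hLn
    (O := ⟨{e₀}ᶜ, hce.isOpen_compl⟩) (p := b) hbe
  let j := α.toHom.left
  let e := (Ample.nonempty_pullback_structureModule (X := A.left) j).some
  let M := (Scheme.Modules.pullback j).obj (CohB1.tensorPow (CohB1.tensorPow L n) (N + 1))
  let s : Coh.structureModule A.left ⟶ M := e.inv ≫ (Scheme.Modules.pullback j).map s₀
  have hgen : CohB1.genLocus M s = j ⁻¹ᵁ CohB1.genLocus _ s₀ :=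
    genLocus_pullback j _ (isInvertible_tensorPow hLn.1 _) s₀ e.symm
  have hMc : HasCls M (pull j (z ^ n) ^ (N + 1)) := by
    have h := ((hz.tensorPow n).tensorPow (N + 1)).pullback j
    rwa [map_pow] at h
  have hs : s ≠ 0 := ne_zero_of_mem_genLocus hMc.choose s (x := a.left (IsLocalRing.closedPoint K)) (by
    rw [hgen]; exact hsb)
  have hs' : ¬ IsIso s := not_isIso_of_notMem_genLocus s (x := e₀) (by
    rw [hgen]
    intro h
    refine hsO h ?_
    show j e₀ ∈ ({e₀} : Set A.left)
    rw [Set.mem_singleton_iff]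
    show (η[A].left ≫ α.toHom.left) _ = _
    rw [← Over.comp_left, IsMonHom.one_hom])
  refine TracePos.trace_pos hr (hz.tensorPow (N + 1)) ((isAmple_tensorPow_iff hL.1 N.succ_pos).1 hL) hMc s hs hs'
    (ρ * α) ?_ hP
  have hpts : ∀ p : 𝟙_ (Over (Spec (CommRingCat.of K))) ⟶ A,
      pull (transl p).left (pull j (z ^ n)) * z = pull j (z ^ n) * pull (transl (p ≫ (ρ * α).toHom)).left z := by
    intro p
    have h := hρ (p ≫ α.toHom)
    have hc : transl p ≫ α.toHom = α.toHom ≫ transl (p ≫ α.toHom) := by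
      show (𝟙 A * (toUnit A ≫ p)) ≫ α.toHom = α.toHom ≫ (𝟙 A * (toUnit A ≫ p ≫ α.toHom))
      rw [MonObj.mul_comp, MonObj.comp_mul, Category.id_comp, Category.comp_id, Category.assoc,
        ← Category.assoc α.toHom (toUnit A), toUnit_unique (α.toHom ≫ toUnit A) (toUnit A)]
    rw [EndAV.End.toHom_mul, ← Category.assoc p, pull_pull_over, hc, ← pull_pull_over, mul_comm, ← h, mul_comm]
  have hmc := mc_eq_of_points (pull j (z ^ n)) z (ρ * α).toHom hpts
  rw [KL.mc, KL.mc, KL.addClass_pow_class, KL.addClass_pow_class, ← KL.mc, ← KL.mc, hmc]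

end GrothLib.TraceApps
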