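import Groth.Agent.Lib.Poincare.LamEuler
import Groth.Agent.Lib.Poincare.EulerWhisker
import Groth.Agent.Lib.Poincare.KLTorsion
import Groth.Agent.Lib.Hilb20.Positive
import Groth.Agent.Lib.Goodman.Local

/-!
# Positivity of the trace of `φ_L⁻¹ φ_M` for `L` ample and `M` effective
-/

set_option autoImplicit false
set_option linter.all false
set_option backward.isDefEq.respectTransparency false
set_option maxHeartbeats 1000000

universe u

open CategoryTheory CategoryTheory.Limits AlgebraicGeometry Opposite TopologicalSpace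
open MonoidalCategory CartesianMonoidalCategory Polynomial
open GrothLib.Ample GrothLib.Cube
open GrothLib.Snapper (DimLT IsTop)
open scoped MonObj

noncomputable section

namespace GrothLib.TracePos

section Codim

variable (k : Type u) [Field k] {X : Scheme.{u}} [IsIntegral X] [X.Over (Spec (CommRingCat.of k))]
  [IsProper (X ↘ Spec (CommRingCat.of k))]

include k in
/-- Points of codimension one have closures of dimension one less. -/
theorem isTop_of_dim_one {g : ℕ} (hdim : topologicalKrullDim X = ((g + 1 : ℕ) : WithBot ℕ∞)) {z : X}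
    (hz : ringKrullDim (X.presheaf.stalk z) = 1) : IsTop g z := by
  obtain ⟨_, ⟨V, hV, rfl⟩, hzV, -⟩ :=
    X.isBasis_affineOpens.exists_subset_of_mem_open (Set.mem_univ z) isOpen_univ
  have hV : IsAffineOpen V := hV
  rw [BlowUp.ringKrullDim_stalk_eq_height hV hzV] at hz
  obtain ⟨P, rfl⟩ := hV.range_fromSpec.ge hzV
  rw [WeakAss.primeAt_fromSpec hV P hzV] at hz
  obtain ⟨ψ, hψ, -⟩ := GrothLib.Dim.exists_finiteType_specMap (X ↘ Spec (CommRingCat.of k)) hV
  algebraize [ψ.hom]
  have : Algebra.FiniteType k Γ(X, V) := hψ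
  haveI : Nonempty (V : Scheme.{u}) := ⟨⟨_, hzV⟩⟩
  haveI : IsDomain Γ(X, V) := inferInstance
  have h1 := AffDom.ringKrullDim_quotient_add_one_of_height_eq_one k Γ(X, V) P.asIdeal (by exact_mod_cast hz)
  rw [← AffDom.ptDim_fromSpec (X ↘ Spec (CommRingCat.of k)) hV P] at h1
  let o : PrimeSpectrum Γ(X, V) := ⟨⊥, Ideal.isPrime_bot⟩
  have hη : genericPoint X ∈ V := ((genericPoint_spec X).specializes trivial).mem_open V.2 hzV
  have ho : hV.fromSpec o = genericPoint X := by
    obtain ⟨Q, hQ⟩ := hV.range_fromSpec.ge hη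
    have hoQ : hV.fromSpec o ⤳ hV.fromSpec Q :=
      (((PrimeSpectrum.le_iff_specializes o Q).1 bot_le)).map hV.fromSpec.continuous
    rw [hQ] at hoQ
    exact (Specializes.antisymm hoQ (genericPoint_specializes _)).eq
  have h2 : ringKrullDim (Γ(X, V) ⧸ (⊥ : Ideal Γ(X, V))) = ((g + 1 : ℕ) : WithBot ℕ∞) := by
    rw [← AffDom.ptDim_fromSpec (X ↘ Spec (CommRingCat.of k)) hV o, ho]
    exact Kleiman.isTop_genericPoint hdim
  rw [ringKrullDim_eq_of_ringEquiv (RingEquiv.quotientBot Γ(X, V))] at h2
  rw [h2] at h1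
  obtain ⟨e, he⟩ := AffDom.exists_nat_ptDim (K := k) (X ↘ Spec (CommRingCat.of k)) (hV.fromSpec P)
  show topologicalKrullDim _ = _
  rw [show topologicalKrullDim (closure ({hV.fromSpec P} : Set X)) = AffDom.ptDim (hV.fromSpec P) from rfl, he]
  rw [he] at h1
  have h3 : e + 1 = g + 1 := by exact_mod_cast h1
  rw [show e = g by omega]

include k in
/-- The zeros of a section that is neither zero nor invertible form a set of codimension one. -/
theorem dimLT_cokernel {g : ℕ} (hdim : topologicalKrullDim X = (g : WithBot ℕ∞)) {L : X.Modules}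
    (hL : PicF.IsInvertible L) (s : Coh.structureModule X ⟶ L) (hs : s ≠ 0) (hs' : ¬ IsIso s) :
    Mono s ∧ DimLT (CohB1.support (cokernel s)) g ∧ ∃ e, e + 1 = g ∧ ¬ DimLT (CohB1.support (cokernel s)) e := by
  haveI := Euler.isNoetherian_of_proper (X := X) k
  have hO : Coh.IsCoh (Coh.structureModule X) := Euler.isCoh_of_isInvertible Euler.isInvertible_structure
  have hQ : Coh.IsCoh (cokernel s) := QCoh.isCoh_cokernel s hO (Euler.isCoh_of_isInvertible hL)
  have hζS : genericPoint X ∉ CohB1.support (cokernel s) :=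
    HodgeIndex.mem_support_structure_ne_zero s hs hL
  let O : X.Opens := ⟨(CohB1.support (cokernel s))ᶜ, (QCoh.isClosed_support_of_isCoh hQ).isOpen_compl⟩
  haveI hmono : Mono s := Euler.mono_of_ne_zero Euler.isInvertible_structure hL hs
  have hOU : O ≤ CohB1.genLocus L s := Hilb20.le_genLocus_of_disjoint_support s fun x hx => hx
  have hUO : ∀ x, x ∈ CohB1.genLocus L s → x ∉ CohB1.support (cokernel s) := fun x hx h =>
    Hilb20.support_cokernel_subset s h hx
  obtain ⟨x, hx⟩ : (CohB1.support (cokernel s)).Nonempty := by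
    by_contra he
    rw [Set.not_nonempty_iff_eq_empty] at he
    refine hs' ?_
    haveI : Epi s := Preadditive.epi_of_isZero_cokernel s (OX.isZero_of_subsingleton_stalks _ fun x =>
      QCoh.stalk_subsingleton_of_notMem (by rw [he]; exact id))
    exact isIso_of_mono_of_epi s
  -- a maximal point of the zero set
  let Z : Closeds X := ⟨CohB1.support (cokernel s), QCoh.isClosed_support_of_isCoh hQ⟩
  let I := Scheme.IdealSheafData.vanishingIdeal Z
  have hr : Set.range I.subschemeι = CohB1.support (cokernel s) := RedSub.range_subschemeι_vanishingIdeal Z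
  obtain ⟨w, hw⟩ := hr.ge hx
  let ζ := genericPoints.ofComponent ⟨_, irreducibleComponent_mem_irreducibleComponents w⟩
  let ξ : X := I.subschemeι ζ.1
  have hξS : ξ ∈ CohB1.support (cokernel s) := hr.le ⟨_, rfl⟩
  have hmax : ∀ y : X, y ∉ CohB1.genLocus L s → y ⤳ ξ → y = ξ := by
    intro y hy hyξ
    obtain ⟨v, rfl⟩ : y ∈ Set.range I.subschemeι := by
      rw [hr]; by_contra h; exact hy (hOU h)
    have hv : v ⤳ ζ.1 := I.subschemeι.isEmbedding.specializes_iff.1 hyξ
    have hcl : closure ({ζ.1} : Set I.subscheme) ⊆ closure {v} :=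
      closure_minimal (Set.singleton_subset_iff.2 hv.mem_closure) isClosed_closure
    have hle := (ζ.2 : closure ({ζ.1} : Set I.subscheme) ∈ irreducibleComponents _).2
      isIrreducible_singleton.closure hcl
    have : ζ.1 ⤳ v := specializes_iff_mem_closure.2 (hle (subset_closure rfl))
    rw [(hv.antisymm this).eq]
  have hcl : ξ ∈ closure (CohB1.genLocus L s : Set X) :=
    closure_mono (Set.singleton_subset_iff.2 (hOU hζS))
      (by rw [(genericPoint_spec X).def]; trivial)
  haveI := Ample.isAffineHom_genLocus_ι hL s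
  have h1 := AffCompl.ringKrullDim_stalk_eq_one (CohB1.genLocus L s) (fun h => hUO ξ h hξS) hmax hcl
  have hd : DimLT (Set.univ : Set X) (g + 1) := Snapper.dimLT_of_dim_le
    ((IsHomeomorph.topologicalKrullDim_eq _ (Homeomorph.Set.univ X).isHomeomorph).trans hdim).le
  have hlt : DimLT (CohB1.support (cokernel s)) g :=
    Snapper.dimLT_of_notMem («η» := genericPoint X) (by rwa [(genericPoint_spec X).def])
      (by rw [(genericPoint_spec X).def]; exact Set.subset_univ _) hζS
  refine ⟨hmono, hlt, ?_⟩
  rcases g with - | e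
  · exact absurd hlt (Snapper.not_dimLT_zero ⟨x, hx⟩)
  refine ⟨e, rfl, fun h => ?_⟩
  have htop := isTop_of_dim_one k hdim h1
  obtain ⟨l, hl, hlen⟩ := Snapper.IsTop.exists_series htop
  have := h l fun i => (QCoh.isClosed_support_of_isCoh hQ).closure_subset_iff.2
    (Set.singleton_subset_iff.2 hξS) (hl i)
  omega

end Codim

variable {K : Type u} [Field K] [IsAlgClosed K] {A : Over (Spec (CommRingCat.of K))} [GrpObj A] [IsCommMonObj A]
  [IsProper A.hom] [GeometricallyIntegral A.hom]

open MumfordEuler (E E_eq)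

theorem E_pow {r : ℕ} (hr : topologicalKrullDim A.left = r) (z : Pic A.left) (n : ℕ) :
    E A (z ^ n) = (n : ℤ) ^ r * E A z := by
  have h : ∀ w : Pic A.left, Index.chiA w = E A w := fun w => E_eq ⟨HodgeIndex.isInv_rep w, HodgeIndex.cls_rep w⟩
  rw [← h, Index.chi_pow hr, h]

/-- An ample class has positive Euler characteristic. -/
theorem E_pos {r : ℕ} (hr : topologicalKrullDim A.left = r) {N : A.left.Modules} {z : Pic A.left}
    (hN : HasCls N z) (hamp : CohB1.IsAmple N) : 0 < E A z := by
  letI : A.left.Over (Spec (CommRingCat.of K)) := ⟨A.hom⟩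
  haveI : IsProper (A.left ↘ Spec (CommRingCat.of K)) := ‹IsProper A.hom›
  haveI : IsIntegral A.left := GeometricallyIntegral.isIntegral_of_subsingleton A.hom
  have hd : DimLT (Set.univ : Set A.left) (r + 1) := Snapper.dimLT_of_dim_le
    ((IsHomeomorph.topologicalKrullDim_eq _ (Homeomorph.Set.univ A.left).isHomeomorph).trans hr).le
  have hP : ShStab.IsHilbPoly K A.left N (Coh.structureModule A.left) (C (E A z : ℚ) * X ^ r) := fun m => by
    have h : Curv2.euler K A.left (ShStab.twist A.left N (Coh.structureModule A.left) m) = E A (z ^ m) := by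
      have := E_eq (X := A) ((hasCls_structureModule A.left).tensor (hN.tensorPow m))
      rwa [_root_.one_mul] at this
    rw [h, E_pow hr]
    simp [mul_comm]
  obtain ⟨-, hpos⟩ := Hilb20.coeffPos r A.left N (Coh.structureModule A.left) hamp
    (Euler.isCoh_of_isInvertible Euler.isInvertible_structure) (hd.mono (Set.subset_univ _)) _ hP
  have := hpos fun h => by
    obtain ⟨l, hl, hlen⟩ := Snapper.IsTop.exists_series (Kleiman.isTop_genericPoint hr)
    have hall : CohB1.support (Coh.structureModule A.left) = Set.univ :=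
      Set.eq_univ_of_forall fun x => Kleiman.mem_support_structure x
    have := h l fun i => hall.ge trivial
    omega
  simpa using this

/-- **The trace of `φ_L⁻¹ φ_M` is positive for `L` ample and `M` effective.** -/
theorem trace_pos {r : ℕ} (hr : topologicalKrullDim A.left = r) {N : A.left.Modules} {z : Pic A.left}
    (hN : HasCls N z) (hamp : CohB1.IsAmple N) {M : A.left.Modules} {y : Pic A.left} (hM : HasCls M y)
    (s : Coh.structureModule A.left ⟶ M) (hs : s ≠ 0) (hs' : ¬ IsIso s)
    (gam : EndAV.End A) (hy : KL.mc y (𝟙 A) = KL.mc z gam.toHom) {P : ℚ[X]}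
    (hP : P.Monic ∧ P.natDegree = 2 * r ∧
      ∀ j : ℤ, (IsFinite (EndAV.End.toHom (gam + (j : EndAV.End A))).left →
          ∀ a : A.left, (Scheme.Hom.finrank (EndAV.End.toHom (gam + (j : EndAV.End A))).left a : ℚ) = P.eval (j : ℚ)) ∧
        (¬ IsFinite (EndAV.End.toHom (gam + (j : EndAV.End A))).left → P.eval (j : ℚ) = 0)) :
    0 < P.coeff (2 * r - 1) := by
  letI : A.left.Over (Spec (CommRingCat.of K)) := ⟨A.hom⟩
  haveI : IsProper (A.left ↘ Spec (CommRingCat.of K)) := ‹IsProper A.hom›
  haveI : IsIntegral A.left := GeometricallyIntegral.isIntegral_of_subsingleton A.hom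
  haveI : IsLocallyNoetherian A.left := LocallyOfFiniteType.isLocallyNoetherian A.hom
  haveI : Smooth A.hom := smooth_abVar A
  haveI : IsProper (A ⊗ A).hom := inferInstanceAs (IsProper (pullback.fst A.hom A.hom ≫ A.hom))
  haveI : GeometricallyIntegral (A ⊗ A).hom :=
    CubeRel26.geometricallyIntegral_comp (pullback.fst A.hom A.hom) A.hom
  letI : (A ⊗ A).left.Over (Spec (CommRingCat.of K)) := ⟨(A ⊗ A).hom⟩
  obtain ⟨hmono, hlt, e, rfl, hnlt⟩ := dimLT_cokernel K hr hM.choose s hs hs'
  have hc : 0 < E A z := E_pos hr hN hamp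
  -- the relation with the degree
  have key : ∀ n : ℕ, P.eval (n : ℚ) * (E A z : ℚ) ^ 2 = (E A (y * z ^ n) : ℚ) ^ 2 := by
    intro n
    have hlam : MumfordPoincare.lam (y * z ^ n) =
        pull (A ◁ (gam + ((n : ℤ) : EndAV.End A)).toHom).left (MumfordPoincare.lam z) := by
      rw [MumfordPoincare.lam, MumfordPoincare.lam, KL.pull_mc, Category.comp_id, EndAV.End.toHom_add,
        EndAV.End.toHom_intCast, zpow_natCast, KL.mc_mul, ← hy]
      have hpow : KL.mc z ((𝟙 A : A ⟶ A) ^ n) = KL.mc z (𝟙 A) ^ n := map_pow (KL.mcHom z) (𝟙 A : A ⟶ A) n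
      rw [hpow, KL.mc, KL.mc, KL.mc, KL.addClass_mul_class, KL.addClass_pow_class]
    set w := (gam + ((n : ℤ) : EndAV.End A)).toHom with hw
    have h1 := LamEuler.E_lam hr (y * z ^ n)
    have h2 := LamEuler.E_lam hr z
    have hcls := (Dual.hasCls_rep (MumfordPoincare.lam z)).pullback (A ◁ w).left
    rw [← hlam] at hcls
    obtain ⟨hfin, hnfin⟩ := hP.2.2 (n : ℤ)
    have hsign : ((-1 : ℚ) ^ (e + 1)) ≠ 0 := pow_ne_zero _ (by norm_num)
    by_cases hf : IsFinite w.left
    · haveI := hf
      haveI : Surjective w.left := Bidual.surjective_of_finite_of_dim_eq w hr hr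
      haveI : Flat w.left := Rigidity.flat_of_isFinite A A w
      obtain ⟨a⟩ : Nonempty A.left := inferInstance
      have H1 : IsPullback (A ◁ w).left (snd A A).left (snd A A).left w.left := by
        have := PicSep26.isPullback_XTmap A.hom w
        rwa [Dual.XTmap_eq] at this
      haveI : IsFinite (A ◁ w).left := MorphismProperty.of_isPullback H1.flip hf
      haveI : Flat (A ◁ w).left := MorphismProperty.of_isPullback H1.flip ‹Flat w.left›
      have hd : ∀ b, w.left.finrank b = w.left.finrank a := fun b => by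
        exact_mod_cast ((hfin hf b).trans (hfin hf a).symm)
      have h3 := EulerPull.euler_pullback (A ◁ w) _ (fun b => by
        rw [Scheme.Hom.finrank_of_isPullback _ _ _ _ H1.flip]; exact hd _) (Dual.rep (MumfordPoincare.lam z))
        (Euler.isCoh_of_isInvertible (Dual.hasCls_rep _).choose)
      rw [E_eq hcls, E_eq (Dual.hasCls_rep _), h1, h2] at h3
      have h4 : ((-1 : ℚ) ^ (e + 1)) * (E A (y * z ^ n) : ℚ) ^ 2 =
          (w.left.finrank a : ℚ) * (((-1 : ℚ) ^ (e + 1)) * (E A z : ℚ) ^ 2) := by exact_mod_cast h3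
      have h5 := hfin hf a
      refine mul_left_cancel₀ hsign ?_
      rw [h4, h5]; push_cast; ring
    · have h3 := EulerWhisker.euler_eq_zero (B := A) w hf (Dual.hasCls_rep (MumfordPoincare.lam z)).choose
      rw [E_eq hcls, h1] at h3
      have h4 : (E A (y * z ^ n) : ℚ) ^ 2 = 0 := by
        have : ((-1 : ℚ) ^ (e + 1)) * (E A (y * z ^ n) : ℚ) ^ 2 = 0 := by exact_mod_cast h3
        exact (mul_eq_zero.1 this).resolve_left hsign
      have h5 := hnfin hf
      push_cast at h5
      rw [h5, h4, zero_mul]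
  -- the Hilbert polynomial of the divisor
  have hO : Coh.IsCoh (Coh.structureModule A.left) := Euler.isCoh_of_isInvertible Euler.isInvertible_structure
  have hQ : Coh.IsCoh (cokernel s) := QCoh.isCoh_cokernel s hO (Euler.isCoh_of_isInvertible hM.choose)
  obtain ⟨R, hR, hRdeg⟩ := Hilb20.exists_isHilbPoly_of_dimLT (k := K) hN.choose hQ hlt
  have hRpos : 0 < R.coeff e :=
    (Hilb20.coeffPos e A.left N (cokernel s) hamp hQ hlt R hR).2 hnlt
  have hchi : ∀ m : ℕ, E A (y * z ^ m) = (m : ℤ) ^ (e + 1) * E A z +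
      Curv2.euler K A.left (ShStab.twist A.left N (cokernel s) m) := by
    intro m
    let S := ShortComplex.mk s (cokernel.π s) (cokernel.condition s)
    have hS : S.ShortExact :=
      haveI : Mono S.f := hmono
      haveI : Epi S.g := inferInstanceAs (Epi (cokernel.π s))
      { exact := ShortComplex.exact_of_g_is_cokernel _ (cokernelIsCokernel _) }
    have hadd := congrFun (Snapper.phi_additive K (L := fun _ : Fin 1 => N) (fun _ => hN.choose) hS hO
      (Euler.isCoh_of_isInvertible hM.choose) hQ) (fun _ => m)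
    rw [Pi.add_apply, ← Hilb20.euler_twist, ← Hilb20.euler_twist, ← Hilb20.euler_twist] at hadd
    have hadd' : Curv2.euler K A.left (ShStab.twist A.left N M m) =
        Curv2.euler K A.left (ShStab.twist A.left N (Coh.structureModule A.left) m) +
          Curv2.euler K A.left (ShStab.twist A.left N (cokernel s) m) := by exact_mod_cast hadd
    have e1 := E_eq (X := A) (hM.tensor (hN.tensorPow m))
    have e2 := E_eq (X := A) ((hasCls_structureModule A.left).tensor (hN.tensorPow m))
    rw [_root_.one_mul, E_pow hr] at e2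
    rw [← e1, ← e2]
    exact hadd'
  set c : ℚ := (E A z : ℚ) with hcdef
  have hc' : 0 < c := Int.cast_pos.2 hc
  have hpoly : P * C (c ^ 2) = (C c * X ^ (e + 1) + R) ^ 2 := by
    refine Hilb20.eq_of_forall_nat_eval fun n => ?_
    rw [eval_mul, eval_C, key, hchi, eval_pow, eval_add, eval_mul, eval_C, eval_pow, eval_X]
    push_cast
    rw [hR n]
    ring
  have hcoef := congrArg (fun p : ℚ[X] => p.coeff (2 * (e + 1) - 1)) hpoly
  rw [show (C c * X ^ (e + 1) + R) ^ 2 = C (c ^ 2) * X ^ (2 * (e + 1)) + C (2 * c) * R * X ^ (e + 1) + R * R by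
    rw [C_pow, C_mul, show (C (2 : ℚ) : ℚ[X]) = 2 from rfl]; ring] at hcoef
  simp only [coeff_mul_C, coeff_add, coeff_C_mul, coeff_X_pow] at hcoef
  rw [if_neg (by omega), mul_zero, zero_add] at hcoef
  have hRR : (R * R).coeff (2 * (e + 1) - 1) = 0 := by
    rcases eq_or_ne R 0 with h0 | h0
    · simp [h0]
    refine coeff_eq_zero_of_natDegree_lt ?_
    have hd : R.natDegree < e + 1 := by
      rw [degree_eq_natDegree h0] at hRdeg
      exact_mod_cast hRdeg
    rw [natDegree_mul h0 h0]
    omega
  rw [hRR, add_zero, show 2 * (e + 1) - 1 = e + (e + 1) by omega, coeff_mul_X_pow, coeff_C_mul] at hcoef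
  rw [show 2 * (e + 1) - 1 = e + (e + 1) by omega]
  have : 0 < P.coeff (e + (e + 1)) * c ^ 2 := by
    rw [hcoef]; positivity
  exact (pos_iff_pos_of_mul_pos this).2 (by positivity)

end GrothLib.TracePos
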