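import Groth.Agent.Lib.Poincare.EulerWhisker

/-!
# A family with Euler characteristic of absolute value one is classified by an isomorphism
-/

set_option autoImplicit false
set_option linter.all false
set_option backward.isDefEq.respectTransparency false
set_option maxHeartbeats 1000000

universe u

open CategoryTheory CategoryTheory.Limits AlgebraicGeometry Opposite TopologicalSpace
open MonoidalCategory CartesianMonoidalCategory
open GrothLib.Ample GrothLib.Cube
open scoped MonObj

noncomputable section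

namespace GrothLib.UnitEuler

variable {k : Type u} [Field k] {A B Bt : Over (Spec (CommRingCat.of k))}
  [GrpObj A] [IsProper A.hom] [GeometricallyIntegral A.hom] [Smooth A.hom]
  [GrpObj B] [IsProper B.hom] [GeometricallyIntegral B.hom] [Smooth B.hom]
  [GrpObj Bt] [IsProper Bt.hom] [GeometricallyIntegral Bt.hom] [Smooth Bt.hom]
  {φ : ∀ T : Over (Spec (CommRingCat.of k)), PicF.Cl (PicF.XT B.hom T) → (T ⟶ Bt)}
  (hφ : AbDual.IsDualAV Scheme.fppfPrecoverage B Bt φ)

include hφ in
theorem natAbs_euler_iff {g : ℕ} (hA : topologicalKrullDim A.left = g) (hB : topologicalKrullDim B.left = g)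
    {P : (B ⊗ Bt).left.Modules} {p : Pic (B ⊗ Bt).left} (hP : HasCls P p)
    (hξ : AbDual.IsPoincareCl B Bt φ (PicF.cl P))
    {Q : (B ⊗ A).left.Modules} {q : Pic (B ⊗ A).left} (hQ : HasCls Q q) (hq : Dual.PZ B A q)
    (hqB : pull (lift (1 : A ⟶ B) (𝟙 A)).left q = 1) (hqA : pull (B ◁ η[A]).left q = 1) :
    (@Curv2.euler k _ (B ⊗ A).left ⟨(B ⊗ A).hom⟩ Q).natAbs = 1 ↔ IsIso (Dual.dphi φ A q) := by
  set w := Dual.dphi φ A q with hw
  haveI : GeometricallyConnected A.hom := Rigidity.geometricallyConnected_of_geometricallyIrreducible A.hom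
  haveI : GeometricallyReduced A.hom := Rigidity.geometricallyReduced_of_smooth' A.hom
  haveI hmon : IsMonHom w := Rigidity.isMonHom_of_one_comp' w (by
    have h := Dual.dphi_pull hφ hq η[A]
    rw [hqA, Dual.dphi_one hφ] at h
    rw [← h, Hom.one_def, toUnit_unit, Category.id_comp])
  have hp : Dual.PZ B Bt p := (Dual.pz_iff hP).1 hξ.1
  have hd : Dual.dphi φ Bt p = 𝟙 Bt := (Dual.dphi_eq hP).symm.trans hξ.2.1
  have hr := (Dual.isBirigid_of_isPoincareCl hφ hP hξ).1
  have hqe : q = pull (B ◁ w).left p := by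
    refine Dual.eq_of_dphi hφ hq (hp.pullT w) ?_ ?_
    · rw [hqB, pull_pull_over, show lift (1 : A ⟶ B) (𝟙 A) ≫ B ◁ w = w ≫ lift (1 : Bt ⟶ B) (𝟙 Bt) by
        apply CartesianMonoidalCategory.hom_ext <;> simp [MonObj.comp_one], ← pull_pull_over, hr, map_one]
    · rw [Dual.dphi_pull hφ hp w, hd, Category.comp_id]
  letI : (B ⊗ A).left.Over (Spec (CommRingCat.of k)) := ⟨(B ⊗ A).hom⟩
  have hQe : Curv2.euler k (B ⊗ A).left Q =
      Curv2.euler k (B ⊗ A).left ((Scheme.Modules.pullback (B ◁ w).left).obj P) :=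
    EulerPull.euler_eq_of_hasCls (k := k) hQ (hqe.symm ▸ hP.pullback (B ◁ w).left)
  rw [hQe]
  letI : (B ⊗ Bt).left.Over (Spec (CommRingCat.of k)) := ⟨(B ⊗ Bt).hom⟩
  have hχ : Curv2.euler k (B ⊗ Bt).left P = (-1) ^ g := TransposeIsog.euler_poincare hφ hB hP hξ
  haveI : IsIntegral A.left := GeometricallyIntegral.isIntegral_of_subsingleton A.hom
  haveI : IsIntegral Bt.left := GeometricallyIntegral.isIntegral_of_subsingleton Bt.hom
  haveI : IsProper (B ⊗ A).hom := inferInstanceAs (IsProper (pullback.fst B.hom A.hom ≫ B.hom))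
  haveI : IsProper (B ⊗ Bt).hom := inferInstanceAs (IsProper (pullback.fst B.hom Bt.hom ≫ B.hom))
  haveI : GeometricallyIntegral (B ⊗ A).hom :=
    CubeRel26.geometricallyIntegral_comp (pullback.fst B.hom A.hom) B.hom
  haveI : GeometricallyIntegral (B ⊗ Bt).hom :=
    CubeRel26.geometricallyIntegral_comp (pullback.fst B.hom Bt.hom) B.hom
  by_cases hfin : IsFinite w.left
  swap
  · rw [EulerWhisker.euler_eq_zero w hfin hP.choose]
    refine iff_of_false (by simp) fun hiso => hfin ?_
    haveI : IsIso w.left := Functor.map_isIso (Over.forget _) w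
    infer_instance
  haveI := hfin
  have hBt : topologicalKrullDim Bt.left = g := DualIsog.dim_dual hφ hB
  haveI : Surjective w.left := Bidual.surjective_of_finite_of_dim_eq w hA hBt
  haveI : Flat w.left := Rigidity.flat_of_isFinite A Bt w
  haveI : IsLocallyNoetherian Bt.left := LocallyOfFiniteType.isLocallyNoetherian Bt.hom
  haveI : LocallyOfFinitePresentation w.left := inferInstance
  obtain ⟨x₀⟩ : Nonempty Bt.left := inferInstance
  have he : ∀ x : Bt.left, w.left.finrank x = w.left.finrank x₀ := fun x =>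
    (w.left.isLocallyConstant_finrank).apply_eq_of_preconnectedSpace x x₀
  have H1 : IsPullback (B ◁ w).left (snd B A).left (snd B Bt).left w.left := by
    have := PicSep26.isPullback_XTmap B.hom w
    rwa [Dual.XTmap_eq] at this
  haveI : IsFinite (B ◁ w).left := MorphismProperty.of_isPullback H1.flip ‹IsFinite w.left›
  haveI : Flat (B ◁ w).left := MorphismProperty.of_isPullback H1.flip ‹Flat w.left›
  have d1 : ∀ y, (B ◁ w).left.finrank y = w.left.finrank x₀ := fun y => by
    rw [Scheme.Hom.finrank_of_isPullback _ _ _ _ H1.flip]; exact he _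
  rw [EulerPull.euler_pullback (B ◁ w) _ d1 P (Euler.isCoh_of_isInvertible hP.choose), hχ, Int.natAbs_mul,
    Int.natAbs_natCast, Int.natAbs_pow, show (-1 : ℤ).natAbs = 1 from rfl, one_pow, Nat.mul_one]
  constructor
  · intro h1
    haveI : IsIso w.left := (Scheme.Hom.isIso_iff_finrank_eq w.left).2 (funext fun y => (he y).trans h1)
    haveI : IsIso ((Over.forget _).map w) := inferInstanceAs (IsIso w.left)
    exact isIso_of_reflects_iso w (Over.forget _)
  · intro hiso
    haveI : IsIso w.left := Functor.map_isIso (Over.forget _) w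
    exact congrFun ((Scheme.Hom.isIso_iff_finrank_eq w.left).1 inferInstance) x₀

end GrothLib.UnitEuler
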