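import Groth.Agent.Lib.Poincare.Concentrated
import Groth.Agent.Lib.Poincare.FstPush
import Groth.Agent.Lib.Snapper.LerayCorner

/-!
# Mumford's vanishing theorem for nondegenerate line bundles
-/

set_option autoImplicit false
set_option linter.all false
set_option backward.isDefEq.respectTransparency false
set_option maxHeartbeats 1000000

universe u

open CategoryTheory CategoryTheory.Limits AlgebraicGeometry Opposite TopologicalSpace
open MonoidalCategory CartesianMonoidalCategory
open GrothLib.Ample GrothLib.Cube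
open scoped MonObj

noncomputable section

namespace GrothLib.Vanishing

variable {K : Type u} [Field K] [IsAlgClosed K] {A : Over (Spec (CommRingCat.of K))} [GrpObj A]
  [IsProper A.hom] [GeometricallyIntegral A.hom]

/-- A sheaf supported at finitely many closed points without global sections is zero. -/
theorem notMem_support_of_global {X : Scheme.{u}} (R : X.Modules) (hfin : (CohB1.support R).Finite)
    (hc : ∀ w ∈ CohB1.support R, IsClosed ({w} : Set X)) (h : Subsingleton (Coh.HH X R 0)) (q : X) :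
    q ∉ CohB1.support R := by
  haveI : Subsingleton Γ(R, (⊤ : X.Opens)) :=
    @Equiv.subsingleton _ _ (Sheaf.H.equiv₀ (Coh.toAb R) isTerminalTop).symm.toEquiv h
  have hfl := Euler.isFlasque_of_finite_support R hfin hc
  rw [QCoh.notMem_support_iff]
  intro V hV t
  obtain ⟨t', rfl⟩ := (AddCommGrpCat.epi_iff_surjective _).1
    (hfl.epi (homOfLE (le_top : V ≤ ⊤)).op) t
  show R.presheaf.germ V q hV (R.presheaf.map (homOfLE (le_top : V ≤ ⊤)).op t') = 0
  rw [Subsingleton.elim (show Γ(R, (⊤ : X.Opens)) from t') 0, map_zero, map_zero]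

/-- If the slice at the origin is trivial, some higher direct image is nonzero. -/
theorem exists_mem_support {F : (A ⊗ A).left.Modules} {z : Pic (A ⊗ A).left} (hF : HasCls F z)
    [HasInjectiveResolutions (A ⊗ A).left.Modules]
    (h1 : pull (lift (𝟙 A) (toUnit A ≫ (1 : 𝟙_ (Over (Spec (CommRingCat.of K))) ⟶ A))).left z = 1) :
    ∃ q x, x ∈ CohB1.support ((Coh.Rpush (snd A A).left q).obj F) := by
  by_contra hno
  push Not at hno
  obtain ⟨hFi, -⟩ := id hF
  haveI : IsLocallyNoetherian A.left := LocallyOfFiniteType.isLocallyNoetherian A.hom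
  let one' : 𝟙_ (Over (Spec (CommRingCat.of K))) ⟶ A := 1
  let y : A.left := one'.left (IsLocalRing.closedPoint K)
  let p := (snd A A).left
  haveI : IsProper p := isProper_snd_left A A
  haveI : Flat p := flat_snd_left A A
  haveI : CompactSpace A.left := QuasiCompact.compactSpace_of_compactSpace A.hom
  obtain ⟨d, hd⟩ := FibreDim5.exists_dim_fiber_le p
  haveI : F.IsQuasicoherent := InvExt.isQuasicoherent_of_isInvertible hFi
  have hfp := LocFree8.isFP_of_isFinLocFree _ (Euler.isFinLocFree_of_isInvertible hFi)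
  have hsub : Subsingleton (CohIII.fiberH p F y 0) := by
    refine (BCCrit.subsingleton_fiberH_iff hfp (Seesaw26.isFlatOver_of_isInvertible _ hFi) 0 y).2 ?_
    exact RpushSupport.fiberRank_eq_zero p F (Euler.isCoh_of_isInvertible hFi) hfp
      (Seesaw26.isFlatOver_of_isInvertible _ hFi) hno y d (hd y) 0
  haveI : IsClosedImmersion one'.left := isClosedImmersion_of_comp_eq_id A.hom one'.left (Over.w one')
  obtain ⟨a, ha, hfac⟩ := exists_point_factor y (by
    rw [show ({y} : Set A.left) = one'.left '' {IsLocalRing.closedPoint K} from Set.image_singleton.symm]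
    exact one'.left.isClosedEmbedding.isClosedMap _ (isClosed_singleton (x := IsLocalRing.closedPoint K)))
  obtain rfl : a = one' := PicZeroSurj.eq_of_point_eq ha
  have hpz : pull (p.fiberι y) z = 1 := by
    rw [Concentrated.fiberι_eq y one' hfac, ← pull_comp, h1, map_one]
  haveI : Nonempty ↥(p.fiber y) := by
    obtain ⟨q, hq⟩ : ∃ q, p q = y := ⟨(lift (𝟙 A) (toUnit A ≫ one')).left y, by
      rw [← Scheme.Hom.comp_apply, ← Over.comp_left, lift_snd, Over.comp_left]
      show one'.left (A.hom y) = y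
      exact congrArg one'.left (Subsingleton.elim (α := PrimeSpectrum K) _ _)⟩
    exact ⟨(p.fiberHomeo y).symm ⟨q, hq⟩⟩
  obtain ⟨e⟩ := (hF.pullback (p.fiberι y)).iso (hasCls_structureModule (p.fiber y)) hpz
  have h0 : Subsingleton (Coh.HH (p.fiber y) (Coh.structureModule (p.fiber y)) 0) :=
    PicZeroSurj.subsingleton_HH_of_iso e 0 hsub
  have h1' : Subsingleton Γ(p.fiber y, ⊤) :=
    @Equiv.subsingleton _ _ (Sheaf.H.equiv₀ (Coh.toAb (Coh.structureModule (p.fiber y))) isTerminalTop).symm.toEquiv h0
  haveI : Nonempty ↥(⊤ : (p.fiber y).Opens) := ⟨⟨Classical.arbitrary _, trivial⟩⟩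
  exact not_subsingleton Γ(p.fiber y, ⊤) h1'

/-- The Mumford bundle `m^* x ⊗ p_1^* x⁻¹` has cohomology exactly in degree `g`. -/
theorem mumford_concentrated (g : ℕ) (hg : topologicalKrullDim A.left = g) {x : Pic A.left}
    (hfin : Set.Finite {a : 𝟙_ (Over (Spec (CommRingCat.of K))) ⟶ A | pull (transl a).left x = x})
    {F : (A ⊗ A).left.Modules} (hF : HasCls F (pull (fst A A * snd A A).left x * (pull (fst A A).left x)⁻¹)) :
    (∀ n, n ≠ g → Subsingleton (Coh.HH (A ⊗ A).left F n)) ∧ ¬ Subsingleton (Coh.HH (A ⊗ A).left F g) := by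
  haveI : IsIntegral A.left := GeometricallyIntegral.isIntegral_of_subsingleton A.hom
  haveI : IsLocallyNoetherian A.left := LocallyOfFiniteType.isLocallyNoetherian A.hom
  letI : (A ⊗ A).left.Over (Spec (CommRingCat.of K)) := ⟨(A ⊗ A).hom⟩
  letI : A.left.Over (Spec (CommRingCat.of K)) := ⟨A.hom⟩
  haveI : IsProper (A.left ↘ Spec (CommRingCat.of K)) := inferInstanceAs (IsProper A.hom)
  haveI : IsProper ((A ⊗ A).left ↘ Spec (CommRingCat.of K)) := isProper_prod
  haveI : HasInjectiveResolutions (A ⊗ A).left.Modules :=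
    haveI : IsGrothendieckAbelian.{u} (A ⊗ A).left.Modules :=
      SheafCoh.isGrothendieckAbelian_sheafOfModules (R := (A ⊗ A).left.ringCatSheaf)
    inferInstance
  haveI : IsProper (snd A A).left := isProper_snd_left A A
  obtain ⟨hFi, -⟩ := id hF
  have hslice : ∀ a : 𝟙_ _ ⟶ A, pull (lift (𝟙 A) (toUnit A ≫ a)).left
      (pull (fst A A * snd A A).left x * (pull (fst A A).left x)⁻¹) = pull (transl a).left x * x⁻¹ := by
    intro a
    simp only [map_mul, map_inv, pull_pull_over, MonObj.comp_mul, lift_fst, lift_snd, pull_over_id]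
  let D : Set A.left := (fun a : 𝟙_ (Over (Spec (CommRingCat.of K))) ⟶ A => a.left (IsLocalRing.closedPoint K)) ''
    {a | pull (transl a).left x = x}
  have hDfin : D.Finite := hfin.image _
  have hDc : ∀ y ∈ D, IsClosed ({y} : Set A.left) := by
    rintro _ ⟨a, -, rfl⟩
    haveI : IsClosedImmersion a.left := isClosedImmersion_of_comp_eq_id A.hom a.left (Over.w a)
    rw [← Set.image_singleton]
    exact a.left.isClosedEmbedding.isClosedMap _ (isClosed_singleton (x := IsLocalRing.closedPoint K))
  have hfib : ∀ y ∉ D, IsClosed ({y} : Set A.left) → ∀ n, Subsingleton (CohIII.fiberH (snd A A).left F y n) :=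
    fun y hy hyc n => PicZeroSurj.subsingleton_fiberH hF y hyc (fun a ha => by
      rw [hslice]
      exact ⟨fun h => hy ⟨a, mul_inv_eq_one.1 h, ha⟩, fun b => PicZeroSurj.invariant_translate_div x a b⟩) n
  have hfr := fun n => PicZeroSurj.finrank_HH_eq F hFi hDfin hDc hfib n
  have hconc := fun {q : ℕ} (hq : q ≠ g) (w : A.left) =>
    Concentrated.notMem_support g hg F hFi hDfin hDc hfib hq w
  refine ⟨fun n hn => ?_, fun hsub => ?_⟩
  · haveI : Subsingleton Γ((Coh.Rpush (snd A A).left n).obj F, (⊤ : A.left.Opens)) := by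
      refine subsingleton_of_forall_eq 0 fun s => ?_
      refine TopCat.Presheaf.section_ext (C := Ab.{u}) (X := A.left.carrier)
        ⟨((Coh.Rpush (snd A A).left n).obj F).presheaf, ((Coh.Rpush (snd A A).left n).obj F).isSheaf⟩ ⊤ _ _
        fun q hq => ?_
      exact ((QCoh.notMem_support_iff _ q).1 (hconc hn q) ⊤ hq s).trans (map_zero _).symm
    haveI hz0 : Subsingleton (Coh.HH A.left ((Coh.Rpush (snd A A).left n).obj F) 0) :=
      @Equiv.subsingleton _ _
        (Sheaf.H.equiv₀ (Coh.toAb ((Coh.Rpush (snd A A).left n).obj F)) isTerminalTop).toEquiv this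
    haveI : FiniteDimensional K (Coh.HH (A ⊗ A).left F n) :=
      Euler.finiteDimensional_HH K (Euler.isCoh_of_isInvertible hFi) n
    exact Module.finrank_zero_iff.1 ((hfr n).1.trans Module.finrank_zero_of_subsingleton)
  · obtain ⟨q, w, hw⟩ := exists_mem_support hF (by rw [hslice, transl_one, pull_over_id, mul_inv_cancel])
    rcases eq_or_ne q g with rfl | hq
    · let R := (Coh.Rpush (snd A A).left q).obj F
      have hsupp : CohB1.support R ⊆ D := fun w hw => by
        by_contra hD; exact (hfr q).2 w hD hw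
      haveI : FiniteDimensional K (Coh.HH A.left R 0) :=
        Euler.finiteDimensional_HH K (Cohom.isCoh_Rpush (snd A A).left F (Euler.isCoh_of_isInvertible hFi) q) 0
      haveI := hsub
      have h0 : Subsingleton (Coh.HH A.left R 0) :=
        Module.finrank_zero_iff.1 ((hfr q).1.symm.trans Module.finrank_zero_of_subsingleton)
      exact notMem_support_of_global R (hDfin.subset hsupp) (fun w hw => hDc w (hsupp hw)) h0 w hw
    · exact hconc hq w hw

/-- **Mumford's vanishing theorem**, together with the index of the inverse. -/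
theorem exists_index (g : ℕ) (hg : topologicalKrullDim A.left = g) {L M : A.left.Modules} {x : Pic A.left}
    (hLx : HasCls L x) (hMx : HasCls M x⁻¹)
    (hfin : Set.Finite {a : 𝟙_ (Over (Spec (CommRingCat.of K))) ⟶ A | pull (transl a).left x = x}) :
    ∃ i, i ≤ g ∧ (∀ j, j ≠ i → Subsingleton (Coh.HH A.left L j)) ∧ ¬ Subsingleton (Coh.HH A.left L i) ∧
      (∀ j, j ≠ g - i → Subsingleton (Coh.HH A.left M j)) ∧ ¬ Subsingleton (Coh.HH A.left M (g - i)) := by
  classical
  haveI : IsLocallyNoetherian A.left := LocallyOfFiniteType.isLocallyNoetherian A.hom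
  letI : (A ⊗ A).left.Over (Spec (CommRingCat.of K)) := ⟨(A ⊗ A).hom⟩
  letI : A.left.Over (Spec (CommRingCat.of K)) := ⟨A.hom⟩
  haveI : IsProper (A.left ↘ Spec (CommRingCat.of K)) := inferInstanceAs (IsProper A.hom)
  haveI : IsProper ((A ⊗ A).left ↘ Spec (CommRingCat.of K)) := isProper_prod
  haveI : HasInjectiveResolutions (A ⊗ A).left.Modules :=
    haveI : IsGrothendieckAbelian.{u} (A ⊗ A).left.Modules :=
      SheafCoh.isGrothendieckAbelian_sheafOfModules (R := (A ⊗ A).left.ringCatSheaf)
    inferInstance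
  haveI : HasInjectiveResolutions A.left.Modules :=
    haveI : IsGrothendieckAbelian.{u} A.left.Modules :=
      SheafCoh.isGrothendieckAbelian_sheafOfModules (R := A.left.ringCatSheaf)
    inferInstance
  obtain ⟨hL, -⟩ := id hLx
  obtain ⟨hM, -⟩ := id hMx
  let W := CohB1.tensorMod ((Scheme.Modules.pullback (fst A A).left).obj M)
    ((Scheme.Modules.pullback (snd A A).left).obj L)
  have hW : HasCls W (pull (fst A A).left x⁻¹ * pull (snd A A).left x) :=
    (hMx.pullback _).tensor (hLx.pullback _)
  obtain ⟨hWi, -⟩ := id hW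
  let φ := lift (fst A A) (fst A A * snd A A)
  let ψ := lift (fst A A) ((fst A A)⁻¹ * snd A A)
  have hφψ : φ ≫ ψ = 𝟙 _ := by
    apply CartesianMonoidalCategory.hom_ext <;>
      simp [φ, ψ, MonObj.comp_mul, GrpObj.comp_inv]
  have hψφ : ψ ≫ φ = 𝟙 _ := by
    apply CartesianMonoidalCategory.hom_ext <;>
      simp [φ, ψ, MonObj.comp_mul, GrpObj.comp_inv]
  haveI : IsIso φ.left :=
    ⟨ψ.left, by rw [← Over.comp_left, hφψ, Over.id_left], by rw [← Over.comp_left, hψφ, Over.id_left]⟩
  haveI : IsIso ψ.left :=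
    ⟨φ.left, by rw [← Over.comp_left, hψφ, Over.id_left], by rw [← Over.comp_left, hφψ, Over.id_left]⟩
  let F := (Scheme.Modules.pullback φ.left).obj W
  have hF : HasCls F (pull (fst A A * snd A A).left x * (pull (fst A A).left x)⁻¹) := by
    have h := hW.pullback φ.left
    simp only [map_mul, map_inv, pull_pull_over, φ, lift_fst, lift_snd] at h
    rw [mul_comm] at h
    exact h
  haveI : W.IsQuasicoherent := InvExt.isQuasicoherent_of_isInvertible hWi
  haveI : F.IsQuasicoherent := InvExt.isQuasicoherent_of_isInvertible hF.choose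
  obtain ⟨hc1, hc2⟩ := mumford_concentrated g hg hfin hF
  have hWF : ∀ n, Subsingleton (Coh.HH (A ⊗ A).left W n) ↔ Subsingleton (Coh.HH (A ⊗ A).left F n) := by
    intro n
    refine ⟨fun h => ?_, fun h => ?_⟩
    · exact PicZeroSurj.subsingleton_HH_pullback φ.left W n
    · haveI := PicZeroSurj.subsingleton_HH_pullback ψ.left F n
      obtain ⟨e⟩ := ((hW.pullback φ.left).pullback ψ.left).iso hW (by
        rw [pull_pull_over, hψφ, pull_over_id])
      exact PicZeroSurj.subsingleton_HH_of_iso e n ‹_›
  have hR : ∀ a b, Subsingleton (Coh.HH A.left ((Coh.Rpush (fst A A).left a).obj W) b) ↔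
      (Subsingleton (Coh.HH A.left L a) ∨ Subsingleton (Coh.HH A.left M b)) := by
    intro a b
    obtain ⟨n, hn, ⟨e⟩⟩ := FstPush.exists_iso hL hM a
    rw [← hn, ← FstPush.subsingleton_HH_sigma_iff (k := K) M n b]
    exact (Euler.hhEquiv (A := K) e b).toEquiv.subsingleton_congr
  have hcorner : ∀ a b,
      (∀ a' b', a' < a → a' + b' = a + b + 1 →
        (Subsingleton (Coh.HH A.left L a') ∨ Subsingleton (Coh.HH A.left M b'))) →
      (∀ a' b', a' ≠ a → a' + b' = a + b →
        (Subsingleton (Coh.HH A.left L a') ∨ Subsingleton (Coh.HH A.left M b'))) →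
      (∀ a' b', a < a' → a' + b' + 1 = a + b →
        (Subsingleton (Coh.HH A.left L a') ∨ Subsingleton (Coh.HH A.left M b'))) →
      (Subsingleton (Coh.HH (A ⊗ A).left W (a + b)) ↔
        (Subsingleton (Coh.HH A.left L a) ∨ Subsingleton (Coh.HH A.left M b))) := by
    intro a b h1 h2 h3
    have h := Snapper.finrank_HH_eq_of_corner K (f := (fst A A).left) (Over.w (fst A A)) W
      (Euler.isCoh_of_isInvertible hWi) a b (fun a' b' p q => (hR _ _).2 (h1 a' b' p q))
      (fun a' b' p q => (hR _ _).2 (h2 a' b' p q)) (fun a' b' p q => (hR _ _).2 (h3 a' b' p q))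
    haveI : IsProper (fst A A).left := by
      haveI : IsProper ((fst A A).left ≫ A.hom) := by rw [Over.w]; exact isProper_prod
      exact IsProper.of_comp (fst A A).left A.hom
    haveI : FiniteDimensional K (Coh.HH (A ⊗ A).left W (a + b)) :=
      Euler.finiteDimensional_HH K (Euler.isCoh_of_isInvertible hWi) _
    haveI : FiniteDimensional K (Coh.HH A.left ((Coh.Rpush (fst A A).left a).obj W) b) :=
      Euler.finiteDimensional_HH K (Cohom.isCoh_Rpush (fst A A).left W (Euler.isCoh_of_isInvertible hWi) a) b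
    rw [← hR a b]
    exact (Module.finrank_zero_iff (R := K)).symm.trans ((by rw [h] : _ ↔ _).trans Module.finrank_zero_iff)
  obtain ⟨N, hN⟩ := Euler.exists_bound (X := A.left) K
  haveI : L.IsQuasicoherent := InvExt.isQuasicoherent_of_isInvertible hL
  haveI : M.IsQuasicoherent := InvExt.isQuasicoherent_of_isInvertible hM
  have hne : (∃ a, ¬ Subsingleton (Coh.HH A.left L a)) ∧ ∃ b, ¬ Subsingleton (Coh.HH A.left M b) := by
    rw [← not_forall, ← not_forall, ← not_or]
    intro hall
    have hz : ∀ a b, Subsingleton (Coh.HH A.left L a) ∨ Subsingleton (Coh.HH A.left M b) := fun a b =>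
      hall.imp (fun h => h a) (fun h => h b)
    refine hc2 ((hWF g).1 ?_)
    exact (hcorner g 0 (fun _ _ _ _ => hz _ _) (fun _ _ _ _ => hz _ _) (fun _ _ _ _ => hz _ _)).2 (hz g 0)
  have hext : ∀ (Q : A.left.Modules) [Q.IsQuasicoherent], (∃ a, ¬ Subsingleton (Coh.HH A.left Q a)) →
      ∃ lo hi, ¬ Subsingleton (Coh.HH A.left Q lo) ∧ ¬ Subsingleton (Coh.HH A.left Q hi) ∧
        ∀ a, (a < lo ∨ hi < a) → Subsingleton (Coh.HH A.left Q a) := by
    intro Q _ hQ
    obtain ⟨a, ha⟩ := hQ
    have haN : a ≤ N := by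
      by_contra h; exact ha (hN Q a (by omega))
    refine ⟨Nat.find ⟨a, ha⟩, Nat.findGreatest (fun j => ¬ Subsingleton (Coh.HH A.left Q j)) N,
      Nat.find_spec (⟨a, ha⟩ : ∃ a, ¬ Subsingleton (Coh.HH A.left Q a)),
      Nat.findGreatest_spec (P := fun j => ¬ Subsingleton (Coh.HH A.left Q j)) haN ha,
      fun j hj => ?_⟩
    rcases hj with hj | hj
    · exact not_not.1 (Nat.find_min _ hj)
    · by_cases hjN : j ≤ N
      · exact not_not.1 (Nat.findGreatest_is_greatest hj hjN)
      · exact hN Q j (by omega)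
  obtain ⟨lo, hi, hlo, hhi, hLout⟩ := hext L hne.1
  obtain ⟨lo', hi', hlo', hhi', hMout⟩ := hext M hne.2
  have hout : ∀ a b, (a < lo ∨ hi < a ∨ b < lo' ∨ hi' < b) →
      Subsingleton (Coh.HH A.left L a) ∨ Subsingleton (Coh.HH A.left M b) := by
    rintro a b (h | h | h | h)
    exacts [Or.inl (hLout a (Or.inl h)), Or.inl (hLout a (Or.inr h)), Or.inr (hMout b (Or.inl h)),
      Or.inr (hMout b (Or.inr h))]
  have h1 : lo + lo' = g := by
    by_contra h
    rcases (hcorner lo lo' (fun a b _ _ => hout a b (by omega)) (fun a b _ _ => hout a b (by omega))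
      (fun a b _ _ => hout a b (by omega))).1 ((hWF _).2 (hc1 _ h)) with h' | h'
    · exact hlo h'
    · exact hlo' h'
  have h2 : hi + hi' = g := by
    by_contra h
    rcases (hcorner hi hi' (fun a b _ _ => hout a b (by omega)) (fun a b _ _ => hout a b (by omega))
      (fun a b _ _ => hout a b (by omega))).1 ((hWF _).2 (hc1 _ h)) with h' | h'
    · exact hhi h'
    · exact hhi' h'
  have h3 : lo ≤ hi := by
    by_contra h; exact hlo (hLout lo (Or.inr (by omega)))
  have h4 : lo' ≤ hi' := by
    by_contra h; exact hlo' (hMout lo' (Or.inr (by omega)))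
  refine ⟨lo, by omega, fun j hj => hLout j (by omega), hlo, fun j hj => hMout j (by omega), ?_⟩
  rw [show g - lo = lo' by omega]
  exact hlo'

end GrothLib.Vanishing
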